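import Mathlib

/-!
# `s(M) = dim M` for finite modules over Noetherian semilocal rings
-/

namespace Groth.Agent.Lib.Helper90.DimParam

open Module

section FL

variable {A : Type*} [CommRing A] [IsNoetherianRing A] {M : Type*} [AddCommGroup M] [Module A M]
  [Module.Finite A M]

lemma isFiniteLength_of_supportDim_le_zero (h : supportDim A M ≤ 0) : IsFiniteLength A M := by
  rw [supportDim_eq_ringKrullDim_quotient_annihilator] at h
  have hK : Ring.KrullDimLE 0 (A ⧸ annihilator A M) := Ring.krullDimLE_iff.mpr h
  haveI : IsArtinianRing (A ⧸ annihilator A M) := isArtinianRing_iff_krullDimLE_zero.mpr hK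
  letI : Module (A ⧸ annihilator A M) M := Module.quotientAnnihilator
  haveI : IsScalarTower A (A ⧸ annihilator A M) M :=
    ⟨fun a b m => by
      obtain ⟨b, rfl⟩ := Ideal.Quotient.mk_surjective b
      show (a • Ideal.Quotient.mk _ b) • m = a • (Ideal.Quotient.mk _ b • m)
      rw [Algebra.smul_def, Ideal.Quotient.algebraMap_eq, ← map_mul]
      show (a * b) • m = a • (b • m)
      rw [mul_smul]⟩
  haveI : Module.Finite (A ⧸ annihilator A M) M := Module.Finite.of_restrictScalars_finite A _ M
  have h1 : Module.length (A ⧸ annihilator A M) M ≠ ⊤ := Module.length_ne_top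
  rw [← Module.length_eq_of_surjective (S := A) Ideal.Quotient.mk_surjective] at h1
  exact Module.length_ne_top_iff.mp h1

lemma supportDim_le_zero_of_isFiniteLength (h : IsFiniteLength A M) : supportDim A M ≤ 0 := by
  rw [supportDim_eq_ringKrullDim_quotient_annihilator]
  obtain ⟨n, s, hs⟩ := Module.Finite.exists_fin (R := A) (M := M)
  let f : A →ₗ[A] (Fin n → M) := LinearMap.pi fun i => LinearMap.toSpanSingleton A M (s i)
  have hker : LinearMap.ker f = annihilator A M := by
    ext a
    rw [LinearMap.mem_ker, Module.mem_annihilator]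
    constructor
    · intro ha m
      have hm : m ∈ Submodule.span A (Set.range s) := hs ▸ Submodule.mem_top
      induction hm using Submodule.span_induction with
      | mem x hx =>
        obtain ⟨i, rfl⟩ := hx
        exact congrFun ha i
      | zero => simp
      | add x y _ _ hx hy => rw [smul_add, hx, hy, add_zero]
      | smul c x _ hx => rw [smul_comm, hx, smul_zero]
    · intro ha
      ext i
      exact ha (s i)
  have hFL : IsFiniteLength A (Fin n → M) := by
    rw [isFiniteLength_iff_isNoetherian_isArtinian] at h ⊢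
    obtain ⟨h1, h2⟩ := h
    exact ⟨inferInstance, inferInstance⟩
  have hinj : Function.Injective ((LinearMap.ker f).liftQ f le_rfl) := by
    rw [← LinearMap.ker_eq_bot, Submodule.ker_liftQ_eq_bot']
    rfl
  have hB : IsFiniteLength A (A ⧸ LinearMap.ker f) := hFL.of_injective hinj
  rw [hker] at hB
  have hArt : IsArtinian A (A ⧸ annihilator A M) :=
    (isFiniteLength_iff_isNoetherian_isArtinian.mp hB).2
  haveI : IsArtinianRing (A ⧸ annihilator A M) := isArtinian_of_tower A hArt
  have hK : Ring.KrullDimLE 0 (A ⧸ annihilator A M) := isArtinianRing_iff_krullDimLE_zero.mp ‹_›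
  exact Ring.krullDimLE_iff.mp hK

end FL


section Quot

variable {A : Type*} [CommRing A] {M : Type*} [AddCommGroup M] [Module A M]

/-- `M ⧸ I M` is killed by `I`. -/
lemma smul_quot_eq_zero (I : Ideal A) {a : A} (ha : a ∈ I)
    (y : M ⧸ (I • (⊤ : Submodule A M))) : a • y = 0 := by
  obtain ⟨m, rfl⟩ := Submodule.Quotient.mk_surjective _ y
  rw [← Submodule.Quotient.mk_smul, Submodule.Quotient.mk_eq_zero]
  exact Submodule.smul_mem_smul ha Submodule.mem_top

/-- if `N` is killed by `I`, any linear map `M → N` factors through `M ⧸ I M`. -/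
noncomputable def liftQuot (I : Ideal A) {N : Type*} [AddCommGroup N] [Module A N]
    (g : M →ₗ[A] N) (h : ∀ a ∈ I, ∀ y : N, a • y = 0) :
    (M ⧸ (I • (⊤ : Submodule A M))) →ₗ[A] N :=
  Submodule.liftQ _ g (by
    rw [Submodule.smul_le]
    intro a ha m _
    rw [LinearMap.mem_ker, map_smul]
    exact h a ha _)

lemma liftQuot_surjective (I : Ideal A) {N : Type*} [AddCommGroup N] [Module A N]
    (g : M →ₗ[A] N) (h : ∀ a ∈ I, ∀ y : N, a • y = 0) (hg : Function.Surjective g) :
    Function.Surjective (liftQuot I g h) := by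
  intro y
  obtain ⟨m, rfl⟩ := hg y
  exact ⟨Submodule.Quotient.mk m, rfl⟩

/-- `(M/x₀M)/(x')(M/x₀M)` is killed by `span (range (cons x₀ x'))`. -/
lemma smul_quot_quot_eq_zero {n : ℕ} (x : Fin (n + 1) → A) {a : A}
    (ha : a ∈ Ideal.span (Set.range x))
    (y : (QuotSMulTop (x 0) M) ⧸ (Ideal.span (Set.range (Fin.tail x)) •
      (⊤ : Submodule A (QuotSMulTop (x 0) M)))) : a • y = 0 := by
  induction ha using Submodule.span_induction with
  | mem r hr =>
    obtain ⟨i, rfl⟩ := hr
    refine Fin.cases ?_ (fun j => ?_) i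
    · obtain ⟨z, rfl⟩ := Submodule.Quotient.mk_surjective _ y
      obtain ⟨m, rfl⟩ := Submodule.Quotient.mk_surjective _ z
      rw [← Submodule.Quotient.mk_smul, ← Submodule.Quotient.mk_smul]
      have : (Submodule.Quotient.mk (x 0 • m) : QuotSMulTop (x 0) M) = 0 := by
        rw [Submodule.Quotient.mk_eq_zero]
        exact Submodule.smul_mem_pointwise_smul m (x 0) ⊤ Submodule.mem_top
      rw [this, Submodule.Quotient.mk_zero]
    · exact smul_quot_eq_zero (Ideal.span (Set.range (Fin.tail x)))
        (Ideal.subset_span (Set.mem_range_self j)) y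
  | zero => rw [zero_smul]
  | add r r' _ _ h1 h2 => rw [add_smul, h1, h2, add_zero]
  | smul c r _ h1 => rw [smul_eq_mul, mul_smul, h1, smul_zero]

end Quot

section Lower

variable {A : Type*} [CommRing A] [IsNoetherianRing A]

/-- lower bound: if `M/(x_1..x_n)M` has finite length with `x_i` in the Jacobson radical, then
`dim M ≤ n`. -/
theorem supportDim_le_of_isFiniteLength_quot (n : ℕ) :
    ∀ {M : Type*} [AddCommGroup M] [Module A M] [Module.Finite A M] (x : Fin n → A),
      (∀ i, x i ∈ Ring.jacobson A) →
      IsFiniteLength A (M ⧸ (Ideal.span (Set.range x) • (⊤ : Submodule A M))) →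
      supportDim A M ≤ n := by
  induction n with
  | zero =>
    intro M _ _ _ x _ hfl
    have h0 : Ideal.span (Set.range x) • (⊤ : Submodule A M) = ⊥ := by
      have : Set.range x = ∅ := Set.range_eq_empty x
      rw [this, Ideal.span_empty, Submodule.bot_smul]
    have hM : IsFiniteLength A M := (Submodule.quotEquivOfEqBot _ h0).isFiniteLength hfl
    simpa using supportDim_le_zero_of_isFiniteLength hM
  | succ n ih =>
    intro M _ _ _ x hx hfl
    have h1 : supportDim A M ≤ supportDim A (QuotSMulTop (x 0) M) + 1 :=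
      supportDim_le_supportDim_quotSMulTop_succ_of_mem_jacobson
        (Ideal.ringJacobson_le_jacobson (hx 0))
    -- finite length of the iterated quotient
    let g : M →ₗ[A] (QuotSMulTop (x 0) M) ⧸ (Ideal.span (Set.range (Fin.tail x)) •
        (⊤ : Submodule A (QuotSMulTop (x 0) M))) :=
      (Submodule.mkQ _).comp (Submodule.mkQ _)
    have hg : Function.Surjective g :=
      (Submodule.mkQ_surjective _).comp (Submodule.mkQ_surjective _)
    have hfl' := hfl.of_surjective
      (liftQuot_surjective (Ideal.span (Set.range x)) g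
        (fun a ha y => smul_quot_quot_eq_zero x ha y) hg)
    have h2 := ih (M := QuotSMulTop (x 0) M) (Fin.tail x) (fun i => hx _) hfl'
    calc supportDim A M ≤ supportDim A (QuotSMulTop (x 0) M) + 1 := h1
      _ ≤ (n : WithBot ℕ∞) + 1 := by gcongr
      _ = ((n + 1 : ℕ) : WithBot ℕ∞) := by push_cast; rfl

end Lower


section Upper

open PrimeSpectrum Ideal

variable {A : Type*} [CommRing A] [IsNoetherianRing A]

set_option backward.isDefEq.respectTransparency.types false in
/-- variant of `supportDim_quotSMulTop_succ_le_of_notMem_minimalPrimes`: it suffices to avoid the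
non-maximal minimal primes when `dim M ≥ 1`. -/
theorem supportDim_quot_succ_le {M : Type*} [AddCommGroup M] [Module A M] [Module.Finite A M]
    {x : A} (hn : ∀ p ∈ (annihilator A M).minimalPrimes, ¬ p.IsMaximal → x ∉ p)
    (h1 : 1 ≤ supportDim A M) :
    supportDim A (QuotSMulTop x M) + 1 ≤ supportDim A M := by
  nontriviality M
  nontriviality (QuotSMulTop x M)
  have : Nonempty (Module.support A M) := nonempty_support_of_nontrivial.to_subtype
  have : Nonempty (Module.support A (QuotSMulTop x M)) := nonempty_support_of_nontrivial.to_subtype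
  have h1' : (1 : ℕ∞) ≤ ⨆ q : LTSeries (support A M), (q.length : ℕ∞) := by
    rw [supportDim, Order.krullDim_eq_iSup_length] at h1
    exact_mod_cast h1
  simp only [supportDim, Order.krullDim_eq_iSup_length]
  apply WithBot.coe_le_coe.mpr
  simp only [ENat.iSup_add, iSup_le_iff]
  intro p
  have hp := p.head.2
  simp only [support_quotSMulTop, Set.mem_inter_iff, mem_zeroLocus, Set.singleton_subset_iff] at hp
  have le : support A (QuotSMulTop x M) ⊆ support A M := by simp
  let q : LTSeries (support A M) :=
    p.map (Set.MapsTo.restrict id (support A (QuotSMulTop x M)) (support A M) le) (fun _ _ h ↦ h)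
  obtain ⟨r, hrm, hr⟩ := exists_minimalPrimes_le (mem_support_iff_of_finite.mp q.head.2)
  by_cases hmax : r.IsMaximal
  · -- the chain has length zero
    have hlen : p.length = 0 := by
      by_contra hne
      have hpos : 0 < p.length := Nat.pos_of_ne_zero hne
      have hstep := p.step ⟨0, hpos⟩
      have hlt : p.head.1.asIdeal < (p (Fin.succ ⟨0, hpos⟩)).1.asIdeal := hstep
      have heq : r = p.head.1.asIdeal := hmax.eq_of_le p.head.1.2.ne_top hr
      rw [← heq] at hlt
      exact (p (Fin.succ ⟨0, hpos⟩)).1.2.ne_top (hmax.1.2 _ hlt)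
    rw [hlen]
    simpa using h1'
  · let r' : support A M := ⟨⟨r, hrm.isPrime⟩, mem_support_iff_of_finite.mpr hrm.1.2⟩
    have hr : r' < q.head := lt_of_le_of_ne hr (fun h ↦ hn r hrm hmax (by
      have : r = q.head.1.asIdeal := congrArg (fun z : support A M => z.1.asIdeal) h
      rw [this]; exact hp.2))
    exact le_of_eq_of_le (by simp [q]) (le_iSup _ (q.cons r' hr))

lemma finite_setOf_isMaximal [Finite (MaximalSpectrum A)] : {m : Ideal A | m.IsMaximal}.Finite := by
  rw [← Set.finite_coe_iff]
  exact Finite.of_injective (fun m : {m : Ideal A | m.IsMaximal} => (⟨m.1, m.2⟩ : MaximalSpectrum A))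
    (fun m m' h => Subtype.ext (congrArg MaximalSpectrum.asIdeal h))

/-- prime avoidance in the Jacobson radical of a semilocal ring. -/
lemma exists_mem_jacobson_notMem [Finite (MaximalSpectrum A)] (I : Ideal A) :
    ∃ x ∈ Ring.jacobson A, ∀ p ∈ I.minimalPrimes, ¬ p.IsMaximal → x ∉ p := by
  classical
  by_contra hcon
  push_neg at hcon
  have hfin : {p : Ideal A | p ∈ I.minimalPrimes ∧ ¬ p.IsMaximal}.Finite :=
    (Ideal.finite_minimalPrimes_of_isNoetherianRing A I).subset (fun p hp => hp.1)
  have hsub : ((Ring.jacobson A : Ideal A) : Set A) ⊆ ⋃ p ∈ (hfin.toFinset : Set (Ideal A)), (id p : Ideal A) := by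
    intro x hx
    obtain ⟨p, hp, hpm, hxp⟩ := hcon x hx
    simp only [Set.Finite.coe_toFinset, Set.mem_setOf_eq, id_eq, Set.mem_iUnion, SetLike.mem_coe,
      exists_prop]
    exact ⟨p, ⟨hp, hpm⟩, hxp⟩
  rw [Ideal.subset_union_prime (⊥ : Ideal A) ⊥
    (fun p hp _ _ => by
      rw [Set.Finite.mem_toFinset] at hp
      exact hp.1.1.1)] at hsub
  obtain ⟨p, hp, hJp⟩ := hsub
  rw [Set.Finite.mem_toFinset] at hp
  have hpprime : p.IsPrime := hp.1.1.1
  have hJ : Ring.jacobson A = (finite_setOf_isMaximal (A := A)).toFinset.inf id := by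
    rw [Ring.jacobson_eq_sInf_isMaximal, Finset.inf_id_eq_sInf, Set.Finite.coe_toFinset]
  rw [hJ] at hJp
  obtain ⟨m, hm, hmp⟩ := (Ideal.IsPrime.inf_le' hpprime).mp hJp
  rw [Set.Finite.mem_toFinset] at hm
  have hm' : m.IsMaximal := hm
  have : m = p := hm'.eq_of_le hpprime.ne_top hmp
  exact hp.2 (this ▸ hm')

end Upper


section Main

open Pointwise

universe u v

variable {A : Type u} [CommRing A] [IsNoetherianRing A] [Finite (MaximalSpectrum A)]

lemma withBot_enat_cases (s : WithBot ℕ∞) : s = ⊥ ∨ s = ⊤ ∨ ∃ d : ℕ, s = (d : WithBot ℕ∞) := by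
  induction s using WithBot.recBotCoe with
  | bot => exact Or.inl rfl
  | coe e =>
    induction e using ENat.recTopCoe with
    | top => exact Or.inr (Or.inl rfl)
    | coe d => exact Or.inr (Or.inr ⟨d, rfl⟩)

/-- existence of a system of parameters in the Jacobson radical. -/
theorem exists_params (d : ℕ) :
    ∀ {M : Type v} [AddCommGroup M] [Module A M] [Module.Finite A M],
      supportDim A M ≤ d → ∃ n ≤ d, ∃ x : Fin n → A, (∀ i, x i ∈ Ring.jacobson A) ∧
        IsFiniteLength A (M ⧸ (Ideal.span (Set.range x) • (⊤ : Submodule A M))) := by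
  induction d with
  | zero =>
    intro M _ _ _ h
    refine ⟨0, le_rfl, fun i => i.elim0, fun i => i.elim0, ?_⟩
    have hM : IsFiniteLength A M := isFiniteLength_of_supportDim_le_zero (by simpa using h)
    exact hM.of_surjective (Submodule.mkQ_surjective _)
  | succ d ih =>
    intro M _ _ _ h
    by_cases hd : supportDim A M ≤ d
    · obtain ⟨n, hn, x, hx, hfl⟩ := ih hd
      exact ⟨n, hn.trans (Nat.le_succ d), x, hx, hfl⟩
    · -- supportDim = d + 1 ≥ 1
      have h1 : 1 ≤ supportDim A M := by
        rcases withBot_enat_cases (supportDim A M) with hb | ht | ⟨e, he⟩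
        · rw [hb] at hd; exact absurd bot_le hd
        · rw [ht]; exact le_top
        · rw [he] at hd ⊢
          have : ¬ e ≤ d := fun hle => hd (by exact_mod_cast hle)
          have : 1 ≤ e := by omega
          exact_mod_cast this
      obtain ⟨x₀, hx₀, hx₀p⟩ := exists_mem_jacobson_notMem (A := A) (annihilator A M)
      have hdrop := supportDim_quot_succ_le (M := M) hx₀p h1
      have hQ : supportDim A (QuotSMulTop x₀ M) ≤ d := by
        have h2 : supportDim A (QuotSMulTop x₀ M) + 1 ≤ ((d + 1 : ℕ) : WithBot ℕ∞) := hdrop.trans h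
        rcases withBot_enat_cases (supportDim A (QuotSMulTop x₀ M)) with hb | ht | ⟨e, he⟩
        · rw [hb]; exact bot_le
        · rw [ht] at h2
          exfalso
          have : (⊤ : WithBot ℕ∞) + 1 = ⊤ := rfl
          rw [this] at h2
          rw [top_le_iff] at h2
          have h' : (((d + 1 : ℕ) : ℕ∞) : WithBot ℕ∞) = ((⊤ : ℕ∞) : WithBot ℕ∞) := h2
          exact absurd (WithBot.coe_injective h') (ENat.coe_ne_top _)
        · rw [he] at h2 ⊢
          have : e + 1 ≤ d + 1 := by exact_mod_cast h2
          exact_mod_cast (by omega : e ≤ d)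
      obtain ⟨n, hn, x', hx', hfl⟩ := ih (M := QuotSMulTop x₀ M) hQ
      refine ⟨n + 1, Nat.succ_le_succ hn, Fin.cons x₀ x', ?_, ?_⟩
      · intro i
        refine Fin.cases ?_ (fun j => ?_) i
        · simpa using hx₀
        · simpa using hx' j
      · -- surjection from the iterated quotient
        have hle : x₀ • (⊤ : Submodule A M) ≤
            LinearMap.ker (Submodule.mkQ (Ideal.span (Set.range (Fin.cons x₀ x' : Fin (n + 1) → A)) •
              (⊤ : Submodule A M))) := by
          rw [Submodule.ker_mkQ]
          intro m hm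
          obtain ⟨m', -, rfl⟩ := (Submodule.mem_smul_pointwise_iff_exists _ _ _).mp hm
          exact Submodule.smul_mem_smul (Ideal.subset_span ⟨0, by simp⟩) Submodule.mem_top
        let g : QuotSMulTop x₀ M →ₗ[A]
            M ⧸ (Ideal.span (Set.range (Fin.cons x₀ x' : Fin (n + 1) → A)) • (⊤ : Submodule A M)) :=
          Submodule.liftQ _ (Submodule.mkQ _) hle
        have hg : Function.Surjective g := by
          intro y
          obtain ⟨m, rfl⟩ := Submodule.mkQ_surjective _ y
          exact ⟨Submodule.Quotient.mk m, rfl⟩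
        have hkill : ∀ a ∈ Ideal.span (Set.range x'), ∀ y : M ⧸ (Ideal.span
            (Set.range (Fin.cons x₀ x' : Fin (n + 1) → A)) • (⊤ : Submodule A M)), a • y = 0 := by
          intro a ha y
          apply smul_quot_eq_zero _ _ y
          refine Ideal.span_mono ?_ ha
          rintro _ ⟨j, rfl⟩
          exact ⟨j.succ, by simp⟩
        exact hfl.of_surjective (liftQuot_surjective _ g hkill hg)

/-- **s(M) = dim M** for a nonzero finite module over a Noetherian semilocal ring. -/
theorem supportDim_eq_sInf {M : Type v} [AddCommGroup M] [Module A M] [Module.Finite A M]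
    [Nontrivial M] :
    supportDim A M =
      sInf {k : WithBot ℕ∞ | ∃ (n : ℕ) (x : Fin n → A), k = n ∧ (∀ i, x i ∈ Ring.jacobson A) ∧
        IsFiniteLength A (M ⧸ (Ideal.span (Set.range x) • (⊤ : Submodule A M)))} := by
  apply le_antisymm
  · apply le_sInf
    rintro k ⟨n, x, rfl, hx, hfl⟩
    exact supportDim_le_of_isFiniteLength_quot n x hx hfl
  · rcases withBot_enat_cases (supportDim A M) with hb | ht | ⟨d, hd⟩
    · exact absurd hb (supportDim_ne_bot_of_nontrivial A M)
    · rw [ht]; exact le_top
    · obtain ⟨n, hn, x, hx, hfl⟩ := exists_params (A := A) d (M := M) hd.le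
      rw [hd]
      have hmem : ((n : ℕ) : WithBot ℕ∞) ∈ {k : WithBot ℕ∞ | ∃ (n : ℕ) (x : Fin n → A), k = n ∧
          (∀ i, x i ∈ Ring.jacobson A) ∧
          IsFiniteLength A (M ⧸ (Ideal.span (Set.range x) • (⊤ : Submodule A M)))} :=
        ⟨n, x, rfl, hx, hfl⟩
      refine (sInf_le hmem).trans ?_
      exact_mod_cast hn

end Main

end Groth.Agent.Lib.Helper90.DimParam
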