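import Mathlib
import Groth.Agent.Lib.Helper80.TorBalance

/-!
# Symmetry of `Tor` for modules over a commutative ring
-/

namespace Groth.Agent.Lib.Helper90.TorSymm

open CategoryTheory MonoidalCategory

universe u v w

section General

variable {C : Type u} [Category.{v} C] {D : Type*} [Category D] [Abelian C]
  [HasProjectiveResolutions C] [Abelian D]

/-- naturally isomorphic additive functors have isomorphic left derived functors. -/
noncomputable def leftDerivedIso {F G : C ⥤ D} [F.Additive] [G.Additive] (e : F ≅ G) (n : ℕ) :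
    F.leftDerived n ≅ G.leftDerived n where
  hom := NatTrans.leftDerived e.hom n
  inv := NatTrans.leftDerived e.inv n
  hom_inv_id := by rw [← NatTrans.leftDerived_comp, e.hom_inv_id, NatTrans.leftDerived_id]
  inv_hom_id := by rw [← NatTrans.leftDerived_comp, e.inv_hom_id, NatTrans.leftDerived_id]

end General

variable {R : Type u} [CommRing R]

theorem nonempty_tor_symm (M N : ModuleCat.{u} R) (n : ℕ) :
    Nonempty (((Tor (ModuleCat.{u} R) n).obj M).obj N ≅ ((Tor (ModuleCat.{u} R) n).obj N).obj M) := by
  obtain ⟨e⟩ := Groth.Agent.Lib.Helper80.TorBalance.nonempty_tor_iso_leftDerived_tensorRight M N n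
  exact ⟨e ≪≫ (leftDerivedIso (BraidedCategory.tensorLeftIsoTensorRight N).symm n).app M⟩

theorem length_tor_symm (M N : ModuleCat.{u} R) (n : ℕ) :
    Module.length R (((Tor (ModuleCat.{u} R) n).obj M).obj N) =
      Module.length R (((Tor (ModuleCat.{u} R) n).obj N).obj M) := by
  obtain ⟨e⟩ := nonempty_tor_symm M N n
  exact e.toLinearEquiv.length_eq

end Groth.Agent.Lib.Helper90.TorSymm
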