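import Mathlib
import Groth.Prelude.Def_W4c3severiratdpLat

/-!
# Verified enumeration of conic classes in the lattice `DP δ` (δ ≤ 8)

`sols r n s q` lists all integer lists of length `n` with entries in `[-r, r]`, sum `s` and sum of
squares `q` (pruned by Cauchy–Schwarz).  `allSols δ` lists all conic classes of `DP δ` as lists.
-/

namespace Groth.Agent.Lib.Helper90.Conic

open W4c3severiratdp

def cand (r : ℕ) : List ℤ := (List.range (2 * r + 1)).map (fun n : ℕ => (n : ℤ) - r)

lemma mem_cand {r : ℕ} {b : ℤ} : b ∈ cand r ↔ -(r : ℤ) ≤ b ∧ b ≤ r := by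
  unfold cand
  simp only [List.mem_map, List.mem_range]
  constructor
  · rintro ⟨n, hn, rfl⟩
    constructor <;> omega
  · rintro ⟨h1, h2⟩
    refine ⟨(b + r).toNat, ?_, ?_⟩ <;> omega

lemma nodup_cand (r : ℕ) : (cand r).Nodup := by
  unfold cand
  apply List.Nodup.map _ List.nodup_range
  intro a b h
  simpa using h

/-- sum of squares of a list -/
def sq (l : List ℤ) : ℤ := (l.map fun x => x * x).sum

@[simp] lemma sq_nil : sq [] = 0 := rfl
@[simp] lemma sq_cons (b : ℤ) (l : List ℤ) : sq (b :: l) = b * b + sq l := by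
  simp [sq]

lemma sq_nonneg (l : List ℤ) : 0 ≤ sq l := by
  induction l with
  | nil => simp
  | cons b l ih => rw [sq_cons]; nlinarith [mul_self_nonneg b]

lemma cs (l : List ℤ) : l.sum * l.sum ≤ l.length * sq l := by
  induction l with
  | nil => simp
  | cons b l ih =>
    rw [List.sum_cons, sq_cons, List.length_cons]
    push_cast
    rcases Nat.eq_zero_or_pos l.length with h0 | hpos
    · have : l = [] := List.length_eq_zero_iff.mp h0
      subst this
      simp
    · have hm : (0 : ℤ) < l.length := by exact_mod_cast hpos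
      have h1 := mul_self_nonneg ((l.length : ℤ) * b - l.sum)
      have h2 := sq_nonneg l
      -- m * (2 b S) ≤ m * (m b^2 + Q)
      have h3 : (l.length : ℤ) * (2 * b * l.sum) ≤ (l.length : ℤ) * (l.length * (b * b) + sq l) := by
        nlinarith
      have h4 : 2 * b * l.sum ≤ l.length * (b * b) + sq l := le_of_mul_le_mul_left h3 hm
      nlinarith

def sols (r : ℕ) : ℕ → ℤ → ℤ → List (List ℤ)
  | 0, s, q => if s = 0 ∧ q = 0 then [[]] else []
  | n + 1, s, q => (cand r).flatMap fun b =>
      if 0 ≤ q - b * b ∧ (s - b) * (s - b) ≤ n * (q - b * b) then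
        (sols r n (s - b) (q - b * b)).map (fun l => b :: l) else []

lemma mem_sols {r n : ℕ} {s q : ℤ} {l : List ℤ} :
    l ∈ sols r n s q ↔
      l.length = n ∧ (∀ x ∈ l, -(r : ℤ) ≤ x ∧ x ≤ r) ∧ l.sum = s ∧ sq l = q := by
  induction n generalizing s q l with
  | zero =>
    unfold sols
    split_ifs with h
    · obtain ⟨rfl, rfl⟩ := h
      constructor
      · intro hl
        have : l = [] := by simpa using hl
        subst this
        simp
      · rintro ⟨h1, -, -, -⟩
        have : l = [] := List.length_eq_zero_iff.mp h1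
        subst this
        simp
    · constructor
      · intro hl
        simp at hl
      · rintro ⟨h1, -, h3, h4⟩
        have : l = [] := List.length_eq_zero_iff.mp h1
        subst this
        exact absurd ⟨by simpa using h3.symm, by simpa using h4.symm⟩ h
  | succ n ih =>
    unfold sols
    rw [List.mem_flatMap]
    constructor
    · rintro ⟨b, hb, hl⟩
      split_ifs at hl with hc
      · rw [List.mem_map] at hl
        obtain ⟨l', hl', rfl⟩ := hl
        obtain ⟨h1, h2, h3, h4⟩ := ih.mp hl'
        refine ⟨by simp [h1], ?_, by rw [List.sum_cons, h3]; ring, by rw [sq_cons, h4]; ring⟩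
        intro x hx
        rcases List.mem_cons.mp hx with rfl | hx
        · exact mem_cand.mp hb
        · exact h2 x hx
      · simp at hl
    · rintro ⟨h1, h2, h3, h4⟩
      match l, h1 with
      | b :: l', h1 =>
        have hb : b ∈ cand r := mem_cand.mpr (h2 b (List.mem_cons_self ..))
        refine ⟨b, hb, ?_⟩
        rw [List.sum_cons] at h3
        rw [sq_cons] at h4
        have hl'len : l'.length = n := by simpa using h1
        have hs : l'.sum = s - b := by linarith
        have hq : sq l' = q - b * b := by linarith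
        have hc : 0 ≤ q - b * b ∧ (s - b) * (s - b) ≤ n * (q - b * b) := by
          rw [← hs, ← hq, ← hl'len]
          exact ⟨sq_nonneg l', cs l'⟩
        rw [if_pos hc, List.mem_map]
        refine ⟨l', ih.mpr ⟨hl'len, fun x hx => h2 x (List.mem_cons_of_mem _ hx), hs, hq⟩, rfl⟩

lemma nodup_sols (r n : ℕ) (s q : ℤ) : (sols r n s q).Nodup := by
  induction n generalizing s q with
  | zero =>
    unfold sols
    split_ifs <;> simp
  | succ n ih =>
    unfold sols
    rw [List.nodup_flatMap]
    constructor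
    · intro b _
      split_ifs
      · exact (ih _ _).map (fun l l' h => by simpa using h)
      · exact List.nodup_nil
    · apply (nodup_cand r).imp
      intro b b' hbb'
      show List.Disjoint _ _
      intro l hl hl'
      beta_reduce at hl hl'
      split_ifs at hl with h1
      · split_ifs at hl' with h2
        · rw [List.mem_map] at hl hl'
          obtain ⟨l1, -, rfl⟩ := hl
          obtain ⟨l2, -, h⟩ := hl'
          simp only [List.cons.injEq] at h
          exact hbb' h.1.symm
        · simp at hl'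
      · simp at hl

/-- all conic classes of `DP δ`, as lists `a :: b`. -/
def allSols (δ : ℕ) : List (List ℤ) :=
  (List.range 12).flatMap fun a =>
    (sols a δ (3 * (a : ℤ) - 2) ((a : ℤ) * a)).map (fun l => (a : ℤ) :: l)

lemma nodup_allSols (δ : ℕ) : (allSols δ).Nodup := by
  unfold allSols
  rw [List.nodup_flatMap]
  constructor
  · intro a _
    exact (nodup_sols _ _ _ _).map (fun l l' h => by simpa using h)
  · apply List.nodup_range.imp
    intro a a' haa'
    show List.Disjoint _ _
    intro l hl hl'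
    rw [List.mem_map] at hl hl'
    obtain ⟨l1, -, rfl⟩ := hl
    obtain ⟨l2, -, h⟩ := hl'
    simp only [List.cons.injEq] at h
    exact haa' (by exact_mod_cast h.1.symm)

lemma length_of_mem_allSols {δ : ℕ} {l : List ℤ} (h : l ∈ allSols δ) : l.length = δ + 1 := by
  unfold allSols at h
  rw [List.mem_flatMap] at h
  obtain ⟨a, -, hl⟩ := h
  rw [List.mem_map] at hl
  obtain ⟨l', hl', rfl⟩ := hl
  simp [(mem_sols.mp hl').1]


lemma sum_ofFn' {n : ℕ} (f : Fin n → ℤ) : (List.ofFn f).sum = ∑ i, f i := by
  rw [List.sum_ofFn]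

lemma sq_ofFn {n : ℕ} (f : Fin n → ℤ) : sq (List.ofFn f) = ∑ i, f i * f i := by
  unfold sq
  rw [List.map_ofFn, List.sum_ofFn]
  rfl

lemma isConic_iff {δ : ℕ} (v : DP δ) :
    IsConic v ↔ (v 0 * v 0 = ∑ i : Fin δ, v i.succ * v i.succ) ∧
      (∑ i : Fin δ, v i.succ = 3 * v 0 - 2) := by
  unfold IsConic form canon
  simp only [Fin.cases_zero, Fin.cases_succ, neg_mul, one_mul, Finset.sum_neg_distrib]
  constructor
  · rintro ⟨h1, h2⟩
    constructor <;> linarith
  · rintro ⟨h1, h2⟩
    constructor <;> linarith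

lemma isConic_iff_mem {δ : ℕ} (hδ : δ ≤ 8) (v : DP δ) :
    IsConic v ↔ List.ofFn v ∈ allSols δ := by
  rw [isConic_iff]
  have hofn : List.ofFn v = v 0 :: List.ofFn (fun i : Fin δ => v i.succ) := List.ofFn_succ
  constructor
  · rintro ⟨h1, h2⟩
    -- bound on a
    have hcs := cs (List.ofFn (fun i : Fin δ => v i.succ))
    rw [sum_ofFn', sq_ofFn, List.length_ofFn, h2, ← h1] at hcs
    have hδ' : (δ : ℤ) ≤ 8 := by exact_mod_cast hδ
    have hsq : 0 ≤ v 0 * v 0 := mul_self_nonneg _
    have ha1 : 1 ≤ v 0 := by nlinarith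
    have ha2 : v 0 ≤ 11 := by nlinarith
    obtain ⟨a, ha⟩ : ∃ a : ℕ, v 0 = a := ⟨(v 0).toNat, by omega⟩
    unfold allSols
    rw [List.mem_flatMap]
    refine ⟨a, List.mem_range.mpr (by omega), ?_⟩
    rw [List.mem_map]
    refine ⟨List.ofFn (fun i : Fin δ => v i.succ), ?_, by rw [hofn, ha]⟩
    rw [mem_sols]
    refine ⟨List.length_ofFn, ?_, by rw [sum_ofFn', h2, ha], by rw [sq_ofFn, ← h1, ha]⟩
    intro x hx
    rw [List.mem_ofFn] at hx
    obtain ⟨i, rfl⟩ := hx
    have hle : v i.succ * v i.succ ≤ v 0 * v 0 := by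
      rw [h1]
      exact Finset.single_le_sum (f := fun j : Fin δ => v j.succ * v j.succ)
        (fun j _ => mul_self_nonneg _) (Finset.mem_univ i)
    rw [← ha]
    constructor <;> nlinarith
  · intro h
    unfold allSols at h
    rw [List.mem_flatMap] at h
    obtain ⟨a, -, hl⟩ := h
    rw [List.mem_map] at hl
    obtain ⟨l', hl', hl⟩ := hl
    rw [hofn] at hl
    simp only [List.cons.injEq] at hl
    obtain ⟨ha, hl⟩ := hl
    obtain ⟨-, -, h3, h4⟩ := mem_sols.mp hl'
    rw [hl, sum_ofFn'] at h3
    rw [hl, sq_ofFn] at h4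
    rw [h3, h4, ← ha]
    exact ⟨rfl, rfl⟩

lemma exists_ofFn_eq {m : ℕ} (l : List ℤ) (h : l.length = m) :
    ∃ v : Fin m → ℤ, List.ofFn v = l := by
  subst h
  exact ⟨fun i => l[i], List.ofFn_getElem⟩

lemma ncard_isConic {δ : ℕ} (hδ : δ ≤ 8) :
    {v : DP δ | IsConic v}.ncard = (allSols δ).length := by
  have himg : (List.ofFn : DP δ → List ℤ) '' {v : DP δ | IsConic v} =
      ((allSols δ).toFinset : Set (List ℤ)) := by
    ext l
    simp only [Set.mem_image, Set.mem_setOf_eq, Finset.mem_coe, List.mem_toFinset]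
    constructor
    · rintro ⟨v, hv, rfl⟩
      exact (isConic_iff_mem hδ v).mp hv
    · intro hl
      obtain ⟨v, rfl⟩ := exists_ofFn_eq l (length_of_mem_allSols hl)
      exact ⟨v, (isConic_iff_mem hδ v).mpr hl, rfl⟩
  rw [← Set.ncard_image_of_injective _ List.ofFn_injective, himg, Set.ncard_coe_finset,
    List.toFinset_card_of_nodup (nodup_allSols δ)]

end Groth.Agent.Lib.Helper90.Conic
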