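import Mathlib
import Groth.Prelude.Def_Cyc

/-!
# Glue: the multiplicity identity from its geometric and algebraic halves (helper90)
-/

set_option autoImplicit false
universe u

open AlgebraicGeometry CategoryTheory CategoryTheory.Limits IsLocalRing

namespace Groth.Agent.Lib.Helper90.CycBC

/-- the statement of the geometric half -/
def GeoStatement {X X' Y : Scheme.{u}} (f : Y ⟶ X) (p : X' ⟶ X) (y : Y) (x' : X') : Prop :=
  ∃ (A T : Type u) (_ : CommRing A) (_ : IsLocalRing A) (_ : CommRing T) (_ : Algebra A T)
    (_ : Module.Finite A T) (_ : Module.Free A T),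
    Module.finrank A T = f.residueDegree y ∧
    Module.length A A = Module.length (X'.presheaf.stalk x') (X'.presheaf.stalk x' ⧸
      Ideal.map (p.stalkMap x').hom (maximalIdeal (X.presheaf.stalk (p x')))) ∧
    ∃ e : {y' : ↥(pullback f p) // pullback.fst f p y' = y ∧ pullback.snd f p y' = x'} ≃
        MaximalSpectrum T,
      ∀ y' : {y' : ↥(pullback f p) // pullback.fst f p y' = y ∧ pullback.snd f p y' = x'},
        Module.length ((pullback f p).presheaf.stalk y'.1)
          ((pullback f p).presheaf.stalk y'.1 ⧸
            Ideal.map ((pullback.fst f p).stalkMap y'.1).hom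
              (maximalIdeal (Y.presheaf.stalk (pullback.fst f p y'.1)))) =
          Module.length (Localization.AtPrime (e y').asIdeal)
            (Localization.AtPrime (e y').asIdeal) ∧
        (pullback.snd f p).residueDegree y'.1 =
          (Module.length A (T ⧸ (e y').asIdeal)).toNat

/-- the statement of the algebraic half -/
def AlgStatement : Prop :=
  ∀ {A T : Type u} [CommRing A] [IsLocalRing A] [CommRing T] [Algebra A T] [Module.Finite A T]
    [Module.Free A T],
    ∑ᶠ n : MaximalSpectrum T,
      ((Module.length (Localization.AtPrime n.asIdeal) (Localization.AtPrime n.asIdeal)).toNat : ℤ) *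
        ((Module.length A (T ⧸ n.asIdeal)).toNat : ℤ) =
      (Module.finrank A T : ℤ) * ((Module.length A A).toNat : ℤ)

theorem mult_identity_of {X X' Y : Scheme.{u}} (f : Y ⟶ X) (p : X' ⟶ X) (y : Y) (x' : X')
    (hgeo : GeoStatement f p y x') (halg : AlgStatement.{u}) :
    ∑ᶠ y' ∈ {y' : ↥(pullback f p) | pullback.fst f p y' = y ∧ pullback.snd f p y' = x'},
      (((Module.length ((pullback f p).presheaf.stalk y')
          ((pullback f p).presheaf.stalk y' ⧸
            Ideal.map ((pullback.fst f p).stalkMap y').hom
              (maximalIdeal (Y.presheaf.stalk (pullback.fst f p y'))))).toNat : ℤ) *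
        ((pullback.snd f p).residueDegree y' : ℤ)) =
    (f.residueDegree y : ℤ) *
      ((Module.length (X'.presheaf.stalk x')
        (X'.presheaf.stalk x' ⧸
          Ideal.map (p.stalkMap x').hom (maximalIdeal (X.presheaf.stalk (p x'))))).toNat : ℤ) := by
  obtain ⟨A, T, _, _, _, _, _, _, hrank, hlen, e, he⟩ := hgeo
  rw [← hrank, ← hlen, ← halg (A := A) (T := T)]
  rw [← finsum_set_coe_eq_finsum_mem
    {y' : ↥(pullback f p) | pullback.fst f p y' = y ∧ pullback.snd f p y' = x'}]
  rw [← finsum_comp_equiv e]
  apply finsum_congr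
  intro y'
  obtain ⟨h1, h2⟩ := he y'
  rw [← h1, ← h2]

end Groth.Agent.Lib.Helper90.CycBC
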