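import Mathlib

namespace Groth.Agent.Lib.Helper90.Assoc

open Module IsLocalRing

universe u v

section Dim

variable {A : Type u} [CommRing A]

lemma ringKrullDim_quotient_le_of_le {p q : Ideal A} (h : q ≤ p) :
    ringKrullDim (A ⧸ p) ≤ ringKrullDim (A ⧸ q) :=
  ringKrullDim_le_of_surjective (Ideal.Quotient.factor h) (Ideal.Quotient.factor_surjective h)

lemma ringKrullDim_quotient_succ_le_of_lt {p q : Ideal A} [q.IsPrime] (h : q < p) :
    ringKrullDim (A ⧸ p) + 1 ≤ ringKrullDim (A ⧸ q) := by
  obtain ⟨r, hrp, hrq⟩ := SetLike.exists_of_lt h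
  apply ringKrullDim_succ_le_of_surjective (Ideal.Quotient.factor h.le)
    (Ideal.Quotient.factor_surjective h.le) (r := Ideal.Quotient.mk q r)
  · apply mem_nonZeroDivisors_of_ne_zero
    rw [Ne, Ideal.Quotient.eq_zero_iff_mem]
    exact hrq
  · rw [Ideal.Quotient.factor_mk, Ideal.Quotient.eq_zero_iff_mem]
    exact hrp

lemma ringKrullDim_quotient_le_supportDim (N : Type v) [AddCommGroup N] [Module A N]
    [Module.Finite A N] {q : Ideal A} (h : Module.annihilator A N ≤ q) :
    ringKrullDim (A ⧸ q) ≤ supportDim A N := by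
  rw [supportDim_eq_ringKrullDim_quotient_annihilator]
  exact ringKrullDim_quotient_le_of_le h

end Dim

section LocLen

variable {A : Type u} [CommRing A]

/-- the length of the localization of `N` at `p`. -/
noncomputable def locLen (N : Type v) [AddCommGroup N] [Module A N] (p : PrimeSpectrum A) : ℕ∞ :=
  Module.length (Localization.AtPrime p.asIdeal) (LocalizedModule p.asIdeal.primeCompl N)

variable {N₁ N₂ N₃ : Type v} [AddCommGroup N₁] [Module A N₁] [AddCommGroup N₂] [Module A N₂]
  [AddCommGroup N₃] [Module A N₃]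

/-- the localized map, as a linear map over the localization. -/
noncomputable def locMap (p : PrimeSpectrum A) (f : N₁ →ₗ[A] N₂) :
    LocalizedModule p.asIdeal.primeCompl N₁ →ₗ[Localization.AtPrime p.asIdeal]
      LocalizedModule p.asIdeal.primeCompl N₂ :=
  LinearMap.extendScalarsOfIsLocalization p.asIdeal.primeCompl (Localization.AtPrime p.asIdeal)
    (IsLocalizedModule.map p.asIdeal.primeCompl
      (LocalizedModule.mkLinearMap p.asIdeal.primeCompl N₁)
      (LocalizedModule.mkLinearMap p.asIdeal.primeCompl N₂) f)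

lemma locMap_apply (p : PrimeSpectrum A) (f : N₁ →ₗ[A] N₂)
    (x : LocalizedModule p.asIdeal.primeCompl N₁) :
    locMap p f x = IsLocalizedModule.map p.asIdeal.primeCompl
      (LocalizedModule.mkLinearMap p.asIdeal.primeCompl N₁)
      (LocalizedModule.mkLinearMap p.asIdeal.primeCompl N₂) f x := rfl

lemma locLen_exact (p : PrimeSpectrum A) (f : N₁ →ₗ[A] N₂) (g : N₂ →ₗ[A] N₃)
    (hf : Function.Injective f) (hg : Function.Surjective g) (hfg : Function.Exact f g) :
    locLen N₂ p = locLen N₁ p + locLen N₃ p := by
  apply Module.length_eq_add_of_exact (locMap p f) (locMap p g)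
  · exact IsLocalizedModule.map_injective _ _ _ f hf
  · exact IsLocalizedModule.map_surjective _ _ _ g hg
  · exact IsLocalizedModule.map_exact _ _ _ _ f g hfg

lemma locLen_congr (p : PrimeSpectrum A) (e : N₁ ≃ₗ[A] N₂) : locLen N₁ p = locLen N₂ p := by
  have hb : Function.Bijective (locMap p e.toLinearMap) :=
    ⟨IsLocalizedModule.map_injective _ _ _ _ e.injective,
      IsLocalizedModule.map_surjective _ _ _ _ e.surjective⟩
  exact (LinearEquiv.ofBijective _ hb).length_eq

lemma locLen_eq_zero_of_notMem_support (N : Type v) [AddCommGroup N] [Module A N]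
    {p : PrimeSpectrum A} (hp : p ∉ Module.support A N) : locLen N p = 0 := by
  rw [Module.notMem_support_iff] at hp
  exact Module.length_eq_zero_iff.mpr hp

lemma locLen_ne_zero_iff (N : Type v) [AddCommGroup N] [Module A N]
    {p : PrimeSpectrum A} : locLen N p ≠ 0 ↔ p ∈ Module.support A N := by
  rw [Module.mem_support_iff, locLen, Ne, Module.length_eq_zero_iff, not_subsingleton_iff_nontrivial]

lemma locLen_quotient_of_not_le {q : Ideal A} {p : PrimeSpectrum A} (h : ¬ q ≤ p.asIdeal) :
    locLen (A ⧸ q) p = 0 := by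
  apply locLen_eq_zero_of_notMem_support
  rw [Module.mem_support_iff_of_finite, Ideal.annihilator_quotient]
  exact h

lemma locLen_quotient_self (p : PrimeSpectrum A) : locLen (A ⧸ p.asIdeal) p = 1 := by
  set P := p.asIdeal with hP
  let f₀ : A →ₗ[A] Localization.AtPrime P := Algebra.linearMap A (Localization.AtPrime P)
  let q := Submodule.toLocalizedQuotient' (Localization.AtPrime P) P.primeCompl f₀ P
  have hq : IsLocalizedModule P.primeCompl q := inferInstance
  let e₁ := IsLocalizedModule.linearEquiv P.primeCompl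
    (LocalizedModule.mkLinearMap P.primeCompl (A ⧸ P)) q
  let e₂ := LinearEquiv.extendScalarsOfIsLocalization P.primeCompl (Localization.AtPrime P) e₁
  have h : Submodule.localized' (Localization.AtPrime P) P.primeCompl f₀ P =
      maximalIdeal (Localization.AtPrime P) := by
    rw [Ideal.localized'_eq_map, Localization.AtPrime.map_eq_maximalIdeal]
  have e₃ := e₂.trans (Submodule.quotEquivOfEq _ _ h)
  rw [locLen, e₃.length_eq, Module.length_eq_one_iff, isSimpleModule_iff_isCoatom]
  exact Ideal.isMaximal_def.mp (maximalIdeal.isMaximal _)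

end LocLen

end Groth.Agent.Lib.Helper90.Assoc
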