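import Mathlib

namespace Groth.Agent.Lib.Helper90.PolyLim

open Polynomial Filter Topology

lemma eval_map_natCast (D : ℚ[X]) (n : ℕ) :
    (D.map (algebraMap ℚ ℝ)).eval (n : ℝ) = ((D.eval (n : ℚ) : ℚ) : ℝ) := by
  have := Polynomial.eval_natCast_map (algebraMap ℚ ℝ) D n
  simpa using this

/-- a rational polynomial of degree `< d` divided by `n^d` tends to `0`. -/
lemma tendsto_eval_div_pow_zero (D : ℚ[X]) (d : ℕ) (hD : D.degree < d) :
    Tendsto (fun n : ℕ => ((D.eval (n : ℚ) : ℚ) : ℝ) / (n : ℝ) ^ d) atTop (𝓝 0) := by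
  have h1 := (Polynomial.div_tendsto_atTop_zero_of_degree_lt (D.map (algebraMap ℚ ℝ))
    ((X : ℝ[X]) ^ d) (by rw [degree_map, degree_X_pow]; exact hD)).comp
      (tendsto_natCast_atTop_atTop (R := ℝ))
  refine h1.congr fun n => ?_
  simp only [Function.comp_apply, eval_pow, eval_X, eval_map_natCast]

/-- a rational polynomial of degree `d` divided by `n^d` tends to its leading coefficient. -/
lemma tendsto_eval_div_pow_leadingCoeff (P : ℚ[X]) (d : ℕ) (hP : P.degree = d) :
    Tendsto (fun n : ℕ => ((P.eval (n : ℚ) : ℚ) : ℝ) / (n : ℝ) ^ d) atTop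
      (𝓝 ((P.leadingCoeff : ℚ) : ℝ)) := by
  have h1 := (Polynomial.div_tendsto_atTop_leadingCoeff_div_of_degree_eq (P.map (algebraMap ℚ ℝ))
    ((X : ℝ[X]) ^ d) (by rw [degree_map, degree_X_pow]; exact hP)).comp
      (tendsto_natCast_atTop_atTop (R := ℝ))
  have h2 : (P.map (algebraMap ℚ ℝ)).leadingCoeff / ((X : ℝ[X]) ^ d).leadingCoeff =
      ((P.leadingCoeff : ℚ) : ℝ) := by
    rw [leadingCoeff_map, leadingCoeff_X_pow, div_one]
    rfl
  rw [h2] at h1
  refine h1.congr fun n => ?_
  simp only [Function.comp_apply, eval_pow, eval_X, eval_map_natCast]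

/-- the forward difference `P(X + k) - P(X)` has degree `< d` if `natDegree P ≤ d`. -/
lemma degree_comp_add_sub_lt (P : ℚ[X]) (k : ℚ) (d : ℕ) (hP : P.natDegree ≤ d) :
    (P.comp (X + C k) - P).degree < (d : WithBot ℕ) := by
  rcases Nat.eq_zero_or_pos P.natDegree with h0 | hpos
  · rw [eq_C_of_natDegree_eq_zero h0]
    simp only [C_comp, sub_self, degree_zero]
    exact WithBot.bot_lt_coe d
  · have hP0 : P ≠ 0 := by
      rintro rfl
      simp at hpos
    have hq : (X + C k : ℚ[X]).natDegree = 1 := natDegree_X_add_C k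
    have hlc : (P.comp (X + C k)).leadingCoeff = P.leadingCoeff := by
      rw [leadingCoeff_comp (by rw [hq]; exact one_ne_zero), leadingCoeff_X_add_C, one_pow, mul_one]
    have hc0 : P.comp (X + C k) ≠ 0 := by
      intro h
      rw [h, leadingCoeff_zero] at hlc
      exact hP0 (leadingCoeff_eq_zero.mp hlc.symm)
    have hd : (P.comp (X + C k)).degree = P.degree := by
      rw [degree_eq_natDegree hP0, degree_eq_natDegree hc0, natDegree_comp, hq, mul_one]
    calc (P.comp (X + C k) - P).degree < (P.comp (X + C k)).degree := degree_sub_lt_left hd hc0 hlc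
      _ = P.degree := hd
      _ ≤ (P.natDegree : WithBot ℕ) := degree_le_natDegree
      _ ≤ (d : WithBot ℕ) := by exact_mod_cast hP

end Groth.Agent.Lib.Helper90.PolyLim
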