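import Mathlib

/-!
# Functions `ℕ → ℤ` that are eventually integer combinations of the binomial polynomials
`B k i = C(i + k, k)`, `k < j`.
-/

namespace Groth.Agent.Lib.Helper90.HilbPoly

/-- binomial basis function `i ↦ C(i + k, k)`. -/
def B (k : ℕ) : ℕ → ℤ := fun i => ((i + k).choose k : ℤ)

lemma B_apply (k i : ℕ) : B k i = ((i + k).choose k : ℤ) := rfl

@[simp] lemma B_zero (i : ℕ) : B 0 i = 1 := by simp [B]

lemma B_succ (k i : ℕ) : B (k + 1) (i + 1) = B (k + 1) i + B k (i + 1) := by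
  simp only [B]
  have : i + 1 + (k + 1) = (i + 1 + k) + 1 := by ring
  rw [this, Nat.choose_succ_succ]
  have h2 : i + 1 + k = i + (k + 1) := by ring
  rw [h2]
  push_cast
  ring

/-- the span of `B 0, …, B (j-1)`. -/
def Bspan (j : ℕ) : Submodule ℤ (ℕ → ℤ) :=
  Submodule.span ℤ (Set.range fun k : Fin j => B k)

lemma B_mem_Bspan {k j : ℕ} (h : k < j) : B k ∈ Bspan j :=
  Submodule.subset_span ⟨⟨k, h⟩, rfl⟩

lemma Bspan_mono {j j' : ℕ} (h : j ≤ j') : Bspan j ≤ Bspan j' := by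
  apply Submodule.span_le.mpr
  rintro _ ⟨k, rfl⟩
  exact B_mem_Bspan (lt_of_lt_of_le k.2 h)

/-- `f` agrees for large arguments with an element of `Bspan j`. -/
def PL (j : ℕ) (f : ℕ → ℤ) : Prop :=
  ∃ p ∈ Bspan j, ∃ N : ℕ, ∀ i, N ≤ i → f i = p i

lemma PL.mono {j j' : ℕ} (h : j ≤ j') {f : ℕ → ℤ} (hf : PL j f) : PL j' f := by
  obtain ⟨p, hp, N, hN⟩ := hf
  exact ⟨p, Bspan_mono h hp, N, hN⟩

lemma PL_zero_of_eventually_zero {f : ℕ → ℤ} (N : ℕ) (h : ∀ i, N ≤ i → f i = 0) : PL 0 f :=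
  ⟨0, Submodule.zero_mem _, N, fun i hi => by simp [h i hi]⟩

lemma PL.exists_coeff {j : ℕ} {f : ℕ → ℤ} (hf : PL j f) :
    ∃ (c : Fin j → ℤ) (N : ℕ), ∀ i, N ≤ i → f i = ∑ k : Fin j, c k * B k i := by
  obtain ⟨p, hp, N, hN⟩ := hf
  obtain ⟨c, rfl⟩ := (Submodule.mem_span_range_iff_exists_fun ℤ).mp hp
  refine ⟨c, N, fun i hi => ?_⟩
  rw [hN i hi, Finset.sum_apply]
  simp [Pi.smul_apply]

/-- discrete integration: if `f (i+1) - f i = g (i+1) - h i` with `g, h` in `PL j`, then `f` is in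
`PL (j+1)`. -/
lemma PL_of_diff {j : ℕ} {f g h : ℕ → ℤ} (hg : PL j g) (hh : PL j h)
    (hd : ∀ i, f (i + 1) - f i = g (i + 1) - h i) : PL (j + 1) f := by
  obtain ⟨c, N, hN⟩ := hg.exists_coeff
  obtain ⟨c', N', hN'⟩ := hh.exists_coeff
  -- the primitive
  let F : ℕ → ℤ := fun i => ∑ k : Fin j, c k * B (k + 1) i -
    ∑ k : Fin j, c' k * (B (k + 1) i - B k i)
  have hF : ∀ i, max N N' ≤ i → F (i + 1) - F i = g (i + 1) - h i := by
    intro i hi
    rw [hN (i + 1) (by omega), hN' i (by omega : N' ≤ i)]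
    simp only [F]
    have e1 : ∑ k : Fin j, c k * B (k + 1) (i + 1) - ∑ k : Fin j, c k * B (k + 1) i =
        ∑ k : Fin j, c k * B k (i + 1) := by
      rw [← Finset.sum_sub_distrib]
      apply Finset.sum_congr rfl
      intro k _
      rw [B_succ]; ring
    have e2 : ∑ k : Fin j, c' k * (B (k + 1) (i + 1) - B k (i + 1)) -
        ∑ k : Fin j, c' k * (B (k + 1) i - B k i) = ∑ k : Fin j, c' k * B k i := by
      rw [← Finset.sum_sub_distrib]
      apply Finset.sum_congr rfl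
      intro k _
      rw [B_succ]; ring
    linarith
  set N₀ := max N N' with hN₀
  have hconst : ∀ i, N₀ ≤ i → f i = F i + (f N₀ - F N₀) := by
    intro i hi
    induction i, hi using Nat.le_induction with
    | base => ring
    | succ i hi ih =>
      have h1 := hd i
      have h2 := hF i hi
      linarith
  refine ⟨fun i => F i + (f N₀ - F N₀) * B 0 i, ?_, N₀, fun i hi => by
    show f i = F i + (f N₀ - F N₀) * B 0 i
    rw [hconst i hi, B_zero, mul_one]⟩
  -- membership in the span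
  have hmem : (fun i => F i + (f N₀ - F N₀) * B 0 i) =
      (∑ k : Fin j, c k • B (k + 1) - ∑ k : Fin j, c' k • (B (k + 1) - B k)) +
        (f N₀ - F N₀) • B 0 := by
    funext i
    simp only [F, Pi.add_apply, Pi.sub_apply, Finset.sum_apply, Pi.smul_apply, smul_eq_mul]
  rw [hmem]
  refine Submodule.add_mem _ (Submodule.sub_mem _ ?_ ?_) ?_
  · exact Submodule.sum_mem _ fun k _ =>
      Submodule.smul_mem _ _ (B_mem_Bspan (Nat.succ_lt_succ k.2))
  · exact Submodule.sum_mem _ fun k _ =>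
      Submodule.smul_mem _ _ (Submodule.sub_mem _ (B_mem_Bspan (Nat.succ_lt_succ k.2))
        (B_mem_Bspan (Nat.lt_succ_of_lt k.2)))
  · exact Submodule.smul_mem _ _ (B_mem_Bspan (Nat.succ_pos j))

end Groth.Agent.Lib.Helper90.HilbPoly
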