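import Mathlib
import Groth.Agent.Lib.Helper90.HilbPoly

/-!
# Hilbert–Serre: Hilbert functions of finitely generated graded modules over `A₀[X_1..X_d]`
-/

namespace Groth.Agent.Lib.Helper90.HilbSerre

open MvPolynomial Module HilbPoly

universe u v

section Defs

variable {A₀ : Type u} [CommRing A₀] {d : ℕ}
variable {M : Type v} [AddCommGroup M] [Module (MvPolynomial (Fin d) A₀) M] [Module A₀ M]
  [IsScalarTower A₀ (MvPolynomial (Fin d) A₀) M]

/-- a system of projections for the family `ℳ`. -/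
structure IsProj (ℳ : ℕ → Submodule A₀ M) (π : ℕ → (M →ₗ[A₀] M)) : Prop where
  mem : ∀ i m, π i m ∈ ℳ i
  same : ∀ i m, m ∈ ℳ i → π i m = m
  ne : ∀ i l m, m ∈ ℳ l → l ≠ i → π i m = 0
  sum : ∀ m, ∃ N, m = ∑ i ∈ Finset.range N, π i m

/-- `ℳ` is a grading of the `A₀[X]`-module `M` by `A₀`-submodules, with the variables of degree 1. -/
structure IsGr (ℳ : ℕ → Submodule A₀ M) : Prop where
  X_mem : ∀ (k : Fin d) (i : ℕ) (m : M), m ∈ ℳ i →
    (X k : MvPolynomial (Fin d) A₀) • m ∈ ℳ (i + 1)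
  exists_proj : ∃ π : ℕ → (M →ₗ[A₀] M), IsProj ℳ π

variable {ℳ : ℕ → Submodule A₀ M} {π : ℕ → (M →ₗ[A₀] M)}

lemma IsProj.proj_proj (hπ : IsProj ℳ π) (i l : ℕ) (m : M) :
    π i (π l m) = if l = i then π l m else 0 := by
  split_ifs with h
  · subst h; exact hπ.same _ _ (hπ.mem _ _)
  · exact hπ.ne _ _ _ (hπ.mem _ _) h

lemma IsProj.proj_sum (hπ : IsProj ℳ π) (i N : ℕ) (y : ℕ → M) (hy : ∀ l, y l ∈ ℳ l) :
    π i (∑ l ∈ Finset.range N, y l) = if i < N then y i else 0 := by
  rw [map_sum]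
  have : ∀ l ∈ Finset.range N, π i (y l) = if l = i then y l else 0 := by
    intro l _
    split_ifs with h
    · subst h; exact hπ.same _ _ (hy _)
    · exact hπ.ne _ _ _ (hy _) h
  rw [Finset.sum_congr rfl this, Finset.sum_ite_eq' (Finset.range N) i y]
  simp only [Finset.mem_range]

lemma smul_X_sum (k : Fin d) (N : ℕ) (y : ℕ → M) :
    (X k : MvPolynomial (Fin d) A₀) • ∑ l ∈ Finset.range N, y l =
      ∑ l ∈ Finset.range (N + 1), (if l = 0 then 0 else (X k : MvPolynomial (Fin d) A₀) • y (l - 1)) := by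
  rw [Finset.smul_sum, Finset.sum_range_succ', if_pos rfl, add_zero]
  apply Finset.sum_congr rfl
  intro l _
  rw [if_neg (Nat.succ_ne_zero l), Nat.add_sub_cancel]

/-- multiplication by `X k` shifts the projections. -/
lemma IsProj.X_proj (hπ : IsProj ℳ π)
    (hX : ∀ (k : Fin d) (i : ℕ) (m : M), m ∈ ℳ i →
      (X k : MvPolynomial (Fin d) A₀) • m ∈ ℳ (i + 1)) (k : Fin d) (i : ℕ) (m : M) :
    (X k : MvPolynomial (Fin d) A₀) • π i m = π (i + 1) ((X k : MvPolynomial (Fin d) A₀) • m) := by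
  obtain ⟨N, hN⟩ := hπ.sum m
  have hy : ∀ l, (if l = 0 then (0 : M) else (X k : MvPolynomial (Fin d) A₀) • π (l - 1) m) ∈ ℳ l := by
    intro l
    split_ifs with h
    · exact Submodule.zero_mem _
    · have := hX k (l - 1) _ (hπ.mem (l - 1) m)
      rwa [Nat.sub_add_cancel (Nat.pos_of_ne_zero h)] at this
  have h1 : π (i + 1) ((X k : MvPolynomial (Fin d) A₀) • m) =
      if i + 1 < N + 1 then (X k : MvPolynomial (Fin d) A₀) • π i m else 0 := by
    conv_lhs => rw [hN, smul_X_sum k N (fun l => π l m)]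
    rw [hπ.proj_sum (i + 1) (N + 1) _ hy, if_neg (Nat.succ_ne_zero i), Nat.add_sub_cancel]
  rw [h1]
  split_ifs with h
  · rfl
  · have h2 : π i m = 0 := by
      conv_lhs => rw [hN]
      rw [hπ.proj_sum i N (fun l => π l m) (fun l => hπ.mem l m), if_neg (by omega)]
    rw [h2, smul_zero]

lemma IsProj.proj_zero_X (hπ : IsProj ℳ π)
    (hX : ∀ (k : Fin d) (i : ℕ) (m : M), m ∈ ℳ i →
      (X k : MvPolynomial (Fin d) A₀) • m ∈ ℳ (i + 1)) (k : Fin d) (m : M) :
    π 0 ((X k : MvPolynomial (Fin d) A₀) • m) = 0 := by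
  obtain ⟨N, hN⟩ := hπ.sum m
  have hy : ∀ l, (if l = 0 then (0 : M) else (X k : MvPolynomial (Fin d) A₀) • π (l - 1) m) ∈ ℳ l := by
    intro l
    split_ifs with h
    · exact Submodule.zero_mem _
    · have := hX k (l - 1) _ (hπ.mem (l - 1) m)
      rwa [Nat.sub_add_cancel (Nat.pos_of_ne_zero h)] at this
  conv_lhs => rw [hN, smul_X_sum k N (fun l => π l m)]
  rw [hπ.proj_sum 0 (N + 1) _ hy, if_pos (Nat.succ_pos N), if_pos rfl]

end Defs


section Length

variable {R : Type*} [Ring R] {M M' : Type*} [AddCommGroup M] [Module R M] [AddCommGroup M']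
  [Module R M']

/-- `ℓ(N) = ℓ(N ∩ ker φ) + ℓ(φ N)`. -/
lemma length_eq_inf_ker_add_map (φ : M →ₗ[R] M') (N : Submodule R M) :
    Module.length R N = Module.length R ↥(N ⊓ LinearMap.ker φ) + Module.length R ↥(N.map φ) := by
  refine Module.length_eq_add_of_exact (Submodule.inclusion inf_le_left) (φ.submoduleMap N)
    (Submodule.inclusion_injective _) (φ.submoduleMap_surjective N) ?_
  intro y
  constructor
  · intro hy
    have hy' : φ (y : M) = 0 := congrArg Subtype.val hy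
    exact ⟨⟨y.1, ⟨y.2, hy'⟩⟩, rfl⟩
  · rintro ⟨z, rfl⟩
    apply Subtype.ext
    exact z.2.2

lemma length_map_of_injective (φ : M →ₗ[R] M') (hφ : Function.Injective φ) (N : Submodule R M) :
    Module.length R ↥(N.map φ) = Module.length R N :=
  (Submodule.equivMapOfInjective φ hφ N).length_eq.symm

end Length


section Base

variable {A₀ : Type u} [CommRing A₀] {d : ℕ}
variable {M : Type v} [AddCommGroup M] [Module (MvPolynomial (Fin d) A₀) M] [Module A₀ M]
  [IsScalarTower A₀ (MvPolynomial (Fin d) A₀) M]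

lemma C_smul' (a : A₀) (m : M) : (C a : MvPolynomial (Fin d) A₀) • m = a • m := by
  rw [← MvPolynomial.algebraMap_eq, algebraMap_smul]

lemma smul_eq_constantCoeff_smul
    (hkill : ∀ (k : Fin d) (m : M), (X k : MvPolynomial (Fin d) A₀) • m = 0)
    (p : MvPolynomial (Fin d) A₀) (m : M) : p • m = (constantCoeff p) • m := by
  induction p using MvPolynomial.induction_on with
  | C a => rw [C_smul', constantCoeff_C]
  | add p q hp hq => rw [add_smul, hp, hq, map_add, add_smul]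
  | mul_X p k _ =>
    rw [mul_smul, hkill, smul_zero, map_mul, constantCoeff_X, mul_zero, zero_smul]

lemma finite_of_kill [Module.Finite (MvPolynomial (Fin d) A₀) M]
    (hkill : ∀ (k : Fin d) (m : M), (X k : MvPolynomial (Fin d) A₀) • m = 0) :
    Module.Finite A₀ M := by
  obtain ⟨s, hs⟩ := (Module.Finite.fg_top : (⊤ : Submodule (MvPolynomial (Fin d) A₀) M).FG)
  refine ⟨⟨s, ?_⟩⟩
  rw [eq_top_iff]
  rintro m -
  have hm : m ∈ Submodule.span (MvPolynomial (Fin d) A₀) (s : Set M) := hs ▸ Submodule.mem_top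
  induction hm using Submodule.span_induction with
  | mem x hx => exact Submodule.subset_span hx
  | zero => exact Submodule.zero_mem _
  | add x y _ _ hx hy => exact Submodule.add_mem _ hx hy
  | smul p x _ hx =>
    rw [smul_eq_constantCoeff_smul hkill]
    exact Submodule.smul_mem _ _ hx

lemma eventually_bot_of_kill [Module.Finite (MvPolynomial (Fin d) A₀) M]
    {ℳ : ℕ → Submodule A₀ M} (hG : IsGr (d := d) ℳ)
    (hkill : ∀ (k : Fin d) (m : M), (X k : MvPolynomial (Fin d) A₀) • m = 0) :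
    ∃ N, ∀ i, N ≤ i → ℳ i = ⊥ := by
  classical
  obtain ⟨π, hπ⟩ := hG.exists_proj
  haveI := finite_of_kill (A₀ := A₀) (d := d) (M := M) hkill
  obtain ⟨t, ht⟩ := (Module.Finite.fg_top : (⊤ : Submodule A₀ M).FG)
  choose Nf hNf using hπ.sum
  refine ⟨t.sup Nf, fun i hi => ?_⟩
  rw [eq_bot_iff]
  intro y hy
  have hz : ∀ z : M, π i z = 0 := by
    intro z
    have hzm : z ∈ Submodule.span A₀ (t : Set M) := ht ▸ Submodule.mem_top
    induction hzm using Submodule.span_induction with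
    | mem x hx =>
      have hle : Nf x ≤ i := le_trans (Finset.le_sup (f := Nf) hx) hi
      conv_lhs => rw [hNf x]
      rw [hπ.proj_sum i (Nf x) (fun l => π l x) (fun l => hπ.mem l x), if_neg (by omega)]
    | zero => exact map_zero _
    | add x y _ _ hx hy => rw [map_add, hx, hy, add_zero]
    | smul a x _ hx => rw [map_smul, hx, smul_zero]
  rw [Submodule.mem_bot, ← hπ.same i y hy, hz]

end Base


section Step

variable {A₀ : Type u} [CommRing A₀] {d : ℕ}
variable {M : Type v} [AddCommGroup M] [Module (MvPolynomial (Fin d) A₀) M] [Module A₀ M]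
  [IsScalarTower A₀ (MvPolynomial (Fin d) A₀) M]

variable (A₀ M) in
/-- multiplication by `X k` as an `A₀[X]`-linear endomorphism. -/
noncomputable def mulX (k : Fin d) : M →ₗ[MvPolynomial (Fin d) A₀] M :=
  LinearMap.lsmul (MvPolynomial (Fin d) A₀) M (X k)

@[simp] lemma mulX_apply (k : Fin d) (m : M) :
    mulX A₀ M k m = (X k : MvPolynomial (Fin d) A₀) • m := rfl

variable (A₀ M) in
/-- multiplication by `X k` as an `A₀`-linear endomorphism. -/
noncomputable def mulX₀ (k : Fin d) : M →ₗ[A₀] M := (mulX A₀ M k).restrictScalars A₀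

@[simp] lemma mulX₀_apply (k : Fin d) (m : M) :
    mulX₀ A₀ M k m = (X k : MvPolynomial (Fin d) A₀) • m := rfl

/-! ### the kernel of `X k` -/

/-- graded pieces of the kernel of `X k`. -/
def kerGr (k : Fin d) (ℳ : ℕ → Submodule A₀ M) (i : ℕ) :
    Submodule A₀ ↥(LinearMap.ker (mulX A₀ M k)) where
  carrier := {y | (y : M) ∈ ℳ i}
  add_mem' := fun ha hb => (ℳ i).add_mem ha hb
  zero_mem' := (ℳ i).zero_mem
  smul_mem' := fun a y hy => by
    show ((a • y : ↥(LinearMap.ker (mulX A₀ M k))) : M) ∈ ℳ i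
    rw [Submodule.coe_smul_of_tower]
    exact (ℳ i).smul_mem a hy

lemma mem_kerGr {k : Fin d} {ℳ : ℕ → Submodule A₀ M} {i : ℕ}
    {y : ↥(LinearMap.ker (mulX A₀ M k))} : y ∈ kerGr k ℳ i ↔ (y : M) ∈ ℳ i := Iff.rfl

lemma isGr_kerGr (k : Fin d) {ℳ : ℕ → Submodule A₀ M} (hG : IsGr (d := d) ℳ) :
    IsGr (d := d) (kerGr k ℳ) := by
  obtain ⟨π, hπ⟩ := hG.exists_proj
  refine ⟨fun k' i y hy => ?_, ?_⟩
  · rw [mem_kerGr, Submodule.coe_smul]
    exact hG.X_mem k' i _ hy
  · have hmem : ∀ (i : ℕ) (y : ↥(LinearMap.ker (mulX A₀ M k))),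
        π i (y : M) ∈ LinearMap.ker (mulX A₀ M k) := by
      intro i y
      rw [LinearMap.mem_ker, mulX_apply, hπ.X_proj hG.X_mem]
      have hy : (X k : MvPolynomial (Fin d) A₀) • (y : M) = 0 := y.2
      rw [hy, map_zero]
    let πK : ℕ → (↥(LinearMap.ker (mulX A₀ M k)) →ₗ[A₀] ↥(LinearMap.ker (mulX A₀ M k))) :=
      fun i =>
        { toFun := fun y => ⟨π i (y : M), hmem i y⟩
          map_add' := fun y z => Subtype.ext (by simp)
          map_smul' := fun a y => Subtype.ext (by simp) }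
    refine ⟨πK, ⟨fun i y => ?_, fun i y hy => ?_, fun i l y hy hne => ?_, fun y => ?_⟩⟩
    · exact hπ.mem i _
    · exact Subtype.ext (hπ.same i _ hy)
    · exact Subtype.ext (hπ.ne i l _ hy hne)
    · obtain ⟨N, hN⟩ := hπ.sum (y : M)
      refine ⟨N, Subtype.ext ?_⟩
      rw [Submodule.coe_sum]
      exact hN

/-! ### the cokernel of `X k` -/

/-- graded pieces of the cokernel of `X k`. -/
noncomputable def quotGr (k : Fin d) (ℳ : ℕ → Submodule A₀ M) (i : ℕ) :
    Submodule A₀ (M ⧸ LinearMap.range (mulX A₀ M k)) :=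
  (ℳ i).map ((LinearMap.range (mulX A₀ M k)).mkQ.restrictScalars A₀)

lemma mem_quotGr {k : Fin d} {ℳ : ℕ → Submodule A₀ M} {i : ℕ}
    {y : M ⧸ LinearMap.range (mulX A₀ M k)} :
    y ∈ quotGr k ℳ i ↔ ∃ m ∈ ℳ i, Submodule.Quotient.mk m = y := Iff.rfl

lemma isGr_quotGr (k : Fin d) {ℳ : ℕ → Submodule A₀ M} (hG : IsGr (d := d) ℳ) :
    IsGr (d := d) (quotGr k ℳ) := by
  obtain ⟨π, hπ⟩ := hG.exists_proj
  refine ⟨fun k' i y hy => ?_, ?_⟩
  · obtain ⟨m, hm, rfl⟩ := mem_quotGr.mp hy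
    exact mem_quotGr.mpr ⟨_, hG.X_mem k' i m hm, rfl⟩
  · set P := LinearMap.range (mulX A₀ M k) with hP
    have hstab : ∀ i, P.restrictScalars A₀ ≤ (P.restrictScalars A₀).comap (π i) := by
      intro i z hz
      obtain ⟨m, rfl⟩ := hz
      show π i ((X k : MvPolynomial (Fin d) A₀) • m) ∈ P
      rcases Nat.eq_zero_or_pos i with h0 | hpos
      · subst h0
        rw [hπ.proj_zero_X hG.X_mem]
        exact Submodule.zero_mem _
      · obtain ⟨i', rfl⟩ : ∃ i', i = i' + 1 := ⟨i - 1, by omega⟩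
        rw [← hπ.X_proj hG.X_mem]
        exact ⟨π i' m, rfl⟩
    let e := Submodule.Quotient.restrictScalarsEquiv A₀ P
    let πQ : ℕ → ((M ⧸ P) →ₗ[A₀] (M ⧸ P)) := fun i =>
      e.toLinearMap.comp (((P.restrictScalars A₀).mapQ (P.restrictScalars A₀) (π i) (hstab i)).comp
        e.symm.toLinearMap)
    have hπQ : ∀ i m, πQ i (Submodule.Quotient.mk m) = Submodule.Quotient.mk (π i m) := by
      intro i m
      simp only [πQ, e, LinearMap.comp_apply, LinearEquiv.coe_coe,
        Submodule.Quotient.restrictScalarsEquiv_symm_mk, Submodule.mapQ_apply,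
        Submodule.Quotient.restrictScalarsEquiv_mk]
    refine ⟨πQ, ⟨fun i y => ?_, fun i y hy => ?_, fun i l y hy hne => ?_, fun y => ?_⟩⟩
    · obtain ⟨m, rfl⟩ := Submodule.Quotient.mk_surjective _ y
      rw [hπQ]
      exact mem_quotGr.mpr ⟨_, hπ.mem i m, rfl⟩
    · obtain ⟨m, hm, rfl⟩ := mem_quotGr.mp hy
      rw [hπQ, hπ.same i m hm]
    · obtain ⟨m, hm, rfl⟩ := mem_quotGr.mp hy
      rw [hπQ, hπ.ne i l m hm hne, Submodule.Quotient.mk_zero]
    · obtain ⟨m, rfl⟩ := Submodule.Quotient.mk_surjective _ y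
      obtain ⟨N, hN⟩ := hπ.sum m
      refine ⟨N, ?_⟩
      simp only [hπQ]
      conv_lhs => rw [hN]
      rw [← Submodule.mkQ_apply, map_sum]
      rfl

end Step


section StepLength

variable {A₀ : Type u} [CommRing A₀] {d : ℕ}
variable {M : Type v} [AddCommGroup M] [Module (MvPolynomial (Fin d) A₀) M] [Module A₀ M]
  [IsScalarTower A₀ (MvPolynomial (Fin d) A₀) M]

variable (A₀ M) in
/-- the quotient map to the cokernel of `X k`, as an `A₀`-linear map. -/
noncomputable def qmap (k : Fin d) : M →ₗ[A₀] (M ⧸ LinearMap.range (mulX A₀ M k)) :=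
  (LinearMap.range (mulX A₀ M k)).mkQ.restrictScalars A₀

lemma mem_ker_qmap {k : Fin d} {z : M} :
    z ∈ LinearMap.ker (qmap A₀ M k) ↔ ∃ m : M, (X k : MvPolynomial (Fin d) A₀) • m = z := by
  rw [LinearMap.mem_ker]
  show Submodule.Quotient.mk z = 0 ↔ _
  rw [Submodule.Quotient.mk_eq_zero]
  rfl

lemma inf_ker_qmap_succ (k : Fin d) {ℳ : ℕ → Submodule A₀ M} (hG : IsGr (d := d) ℳ) (i : ℕ) :
    ℳ (i + 1) ⊓ LinearMap.ker (qmap A₀ M k) = (ℳ i).map (mulX₀ A₀ M k) := by
  obtain ⟨π, hπ⟩ := hG.exists_proj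
  ext z
  rw [Submodule.mem_inf, mem_ker_qmap, Submodule.mem_map]
  constructor
  · rintro ⟨hz, m, rfl⟩
    refine ⟨π i m, hπ.mem i m, ?_⟩
    rw [mulX₀_apply, hπ.X_proj hG.X_mem, hπ.same _ _ hz]
  · rintro ⟨m, hm, rfl⟩
    exact ⟨hG.X_mem k i m hm, m, rfl⟩

lemma inf_ker_qmap_zero (k : Fin d) {ℳ : ℕ → Submodule A₀ M} (hG : IsGr (d := d) ℳ) :
    ℳ 0 ⊓ LinearMap.ker (qmap A₀ M k) = ⊥ := by
  obtain ⟨π, hπ⟩ := hG.exists_proj
  rw [eq_bot_iff]
  rintro z ⟨hz, hz'⟩
  obtain ⟨m, rfl⟩ := mem_ker_qmap.mp hz'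
  rw [Submodule.mem_bot, ← hπ.same 0 _ hz, hπ.proj_zero_X hG.X_mem]

lemma map_qmap (k : Fin d) (ℳ : ℕ → Submodule A₀ M) (i : ℕ) :
    (ℳ i).map (qmap A₀ M k) = quotGr k ℳ i := rfl

variable (A₀ M) in
/-- inclusion of the kernel of `X k`, as an `A₀`-linear map. -/
noncomputable def kincl (k : Fin d) : ↥(LinearMap.ker (mulX A₀ M k)) →ₗ[A₀] M :=
  (LinearMap.ker (mulX A₀ M k)).subtype.restrictScalars A₀

lemma kincl_injective (k : Fin d) : Function.Injective (kincl A₀ M k) :=
  Subtype.val_injective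

lemma map_kincl (k : Fin d) (ℳ : ℕ → Submodule A₀ M) (i : ℕ) :
    (kerGr k ℳ i).map (kincl A₀ M k) = ℳ i ⊓ LinearMap.ker (mulX₀ A₀ M k) := by
  ext z
  rw [Submodule.mem_map, Submodule.mem_inf]
  constructor
  · rintro ⟨y, hy, rfl⟩
    exact ⟨hy, y.2⟩
  · rintro ⟨hz, hz'⟩
    exact ⟨⟨z, hz'⟩, hz, rfl⟩

/-- (L1) -/
lemma length_eq_ker_add (k : Fin d) (ℳ : ℕ → Submodule A₀ M) (i : ℕ) :
    Module.length A₀ (ℳ i) = Module.length A₀ (kerGr k ℳ i) +
      Module.length A₀ ↥((ℳ i).map (mulX₀ A₀ M k)) := by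
  rw [length_eq_inf_ker_add_map (mulX₀ A₀ M k) (ℳ i), ← map_kincl,
    length_map_of_injective _ (kincl_injective k)]

/-- (L2) -/
lemma length_succ_eq (k : Fin d) {ℳ : ℕ → Submodule A₀ M} (hG : IsGr (d := d) ℳ) (i : ℕ) :
    Module.length A₀ (ℳ (i + 1)) = Module.length A₀ ↥((ℳ i).map (mulX₀ A₀ M k)) +
      Module.length A₀ (quotGr k ℳ (i + 1)) := by
  rw [length_eq_inf_ker_add_map (qmap A₀ M k) (ℳ (i + 1)), inf_ker_qmap_succ k hG, map_qmap]

/-- (L0) -/
lemma length_zero_eq (k : Fin d) {ℳ : ℕ → Submodule A₀ M} (hG : IsGr (d := d) ℳ) :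
    Module.length A₀ (ℳ 0) = Module.length A₀ (quotGr k ℳ 0) := by
  rw [length_eq_inf_ker_add_map (qmap A₀ M k) (ℳ 0), inf_ker_qmap_zero k hG, map_qmap,
    Module.length_bot, zero_add]

lemma fg_of_fg_quotGr (k : Fin d) {ℳ : ℕ → Submodule A₀ M} (hG : IsGr (d := d) ℳ)
    (hQ : ∀ i, (quotGr k ℳ i).FG) : ∀ i, (ℳ i).FG := by
  intro i
  induction i with
  | zero =>
    apply Submodule.fg_of_fg_map_of_fg_inf_ker (qmap A₀ M k)
    · rw [map_qmap]; exact hQ 0
    · rw [inf_ker_qmap_zero k hG]; exact Submodule.fg_bot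
  | succ i ih =>
    apply Submodule.fg_of_fg_map_of_fg_inf_ker (qmap A₀ M k)
    · rw [map_qmap]; exact hQ (i + 1)
    · rw [inf_ker_qmap_succ k hG]; exact ih.map _

end StepLength


section Main

variable {A₀ : Type u} [CommRing A₀] [IsNoetherianRing A₀] {d : ℕ}

/-- the length function of a graded module, as an integer-valued function. -/
noncomputable def lenFn {M : Type v} [AddCommGroup M] [Module A₀ M] (ℳ : ℕ → Submodule A₀ M) :
    ℕ → ℤ := fun i => ((Module.length A₀ (ℳ i)).toNat : ℤ)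

theorem hilbertSerre_aux (j : ℕ) :
    ∀ {M : Type v} [AddCommGroup M] [Module (MvPolynomial (Fin d) A₀) M] [Module A₀ M]
      [IsScalarTower A₀ (MvPolynomial (Fin d) A₀) M] [Module.Finite (MvPolynomial (Fin d) A₀) M]
      (ℳ : ℕ → Submodule A₀ M), IsGr (d := d) ℳ →
      (∀ k : Fin d, j ≤ k.val → ∀ m : M, (X k : MvPolynomial (Fin d) A₀) • m = 0) →
      (∀ i, (ℳ i).FG) ∧ ((∀ i, Module.length A₀ (ℳ i) ≠ ⊤) → PL j (lenFn ℳ)) := by
  induction j with
  | zero =>
    intro M _ _ _ _ _ ℳ hG hkill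
    have hkill' : ∀ (k : Fin d) (m : M), (X k : MvPolynomial (Fin d) A₀) • m = 0 :=
      fun k m => hkill k (Nat.zero_le _) m
    haveI := finite_of_kill (A₀ := A₀) (d := d) (M := M) hkill'
    haveI : IsNoetherian A₀ M := inferInstance
    refine ⟨fun i => IsNoetherian.noetherian _, fun _ => ?_⟩
    obtain ⟨N, hN⟩ := eventually_bot_of_kill hG hkill'
    apply PL_zero_of_eventually_zero N
    intro i hi
    simp only [lenFn]
    rw [hN i hi, Module.length_bot]
    rfl
  | succ j ih =>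
    intro M _ _ _ _ _ ℳ hG hkill
    by_cases hj : j < d
    · let k₀ : Fin d := ⟨j, hj⟩
      haveI : IsNoetherian (MvPolynomial (Fin d) A₀) M := inferInstance
      -- the kernel
      have hK := ih (M := ↥(LinearMap.ker (mulX A₀ M k₀))) (kerGr k₀ ℳ) (isGr_kerGr k₀ hG) (by
        intro k hk y
        apply Subtype.ext
        rw [Submodule.coe_smul, Submodule.coe_zero]
        rcases Nat.lt_or_ge j k.val with h | h
        · exact hkill k h _
        · have : k = k₀ := Fin.ext (le_antisymm h hk)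
          rw [this]
          exact y.2)
      -- the cokernel
      have hQ := ih (M := M ⧸ LinearMap.range (mulX A₀ M k₀)) (quotGr k₀ ℳ) (isGr_quotGr k₀ hG) (by
        intro k hk y
        obtain ⟨m, rfl⟩ := Submodule.Quotient.mk_surjective _ y
        rw [← Submodule.Quotient.mk_smul]
        rcases Nat.lt_or_ge j k.val with h | h
        · rw [hkill k h, Submodule.Quotient.mk_zero]
        · have : k = k₀ := Fin.ext (le_antisymm h hk)
          rw [this, Submodule.Quotient.mk_eq_zero]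
          exact ⟨m, rfl⟩)
      refine ⟨fg_of_fg_quotGr k₀ hG hQ.1, fun hfin => ?_⟩
      -- finiteness of all lengths
      have hmapfin : ∀ i, Module.length A₀ ↥((ℳ i).map (mulX₀ A₀ M k₀)) ≠ ⊤ := by
        intro i h
        have := length_eq_ker_add k₀ ℳ i
        rw [h, add_top] at this
        exact hfin i this
      have hKfin : ∀ i, Module.length A₀ (kerGr k₀ ℳ i) ≠ ⊤ := by
        intro i h
        have := length_eq_ker_add k₀ ℳ i
        rw [h, top_add] at this
        exact hfin i this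
      have hQfin : ∀ i, Module.length A₀ (quotGr k₀ ℳ i) ≠ ⊤ := by
        intro i h
        rcases Nat.eq_zero_or_pos i with h0 | hpos
        · subst h0
          have := length_zero_eq k₀ hG
          rw [h] at this
          exact hfin 0 this
        · obtain ⟨i', rfl⟩ : ∃ i', i = i' + 1 := ⟨i - 1, by omega⟩
          have := length_succ_eq k₀ hG i'
          rw [h, add_top] at this
          exact hfin (i' + 1) this
      apply PL_of_diff (hQ.2 hQfin) (hK.2 hKfin)
      intro i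
      simp only [lenFn]
      have e1 := length_eq_ker_add k₀ ℳ i
      have e2 := length_succ_eq k₀ hG i
      have e1' : (Module.length A₀ (ℳ i)).toNat = (Module.length A₀ (kerGr k₀ ℳ i)).toNat +
          (Module.length A₀ ↥((ℳ i).map (mulX₀ A₀ M k₀))).toNat := by
        rw [e1, ENat.toNat_add (hKfin i) (hmapfin i)]
      have e2' : (Module.length A₀ (ℳ (i + 1))).toNat =
          (Module.length A₀ ↥((ℳ i).map (mulX₀ A₀ M k₀))).toNat +
          (Module.length A₀ (quotGr k₀ ℳ (i + 1))).toNat := by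
        rw [e2, ENat.toNat_add (hmapfin i) (hQfin (i + 1))]
      rw [e1', e2']
      push_cast
      ring
    · have h := ih ℳ hG (fun k hk => absurd (lt_of_le_of_lt hk k.2) hj)
      exact ⟨h.1, fun hfin => (h.2 hfin).mono (Nat.le_succ j)⟩

/-- **Hilbert–Serre**: for a finitely generated graded module over `A₀[X_1..X_d]` (`A₀` Noetherian)
whose graded pieces have finite length, the Hilbert function is eventually an integer combination of
`C(i + k, k)`, `k < d`. The graded pieces are always finitely generated over `A₀`. -/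
theorem hilbertSerre {M : Type v} [AddCommGroup M] [Module (MvPolynomial (Fin d) A₀) M] [Module A₀ M]
    [IsScalarTower A₀ (MvPolynomial (Fin d) A₀) M] [Module.Finite (MvPolynomial (Fin d) A₀) M]
    (ℳ : ℕ → Submodule A₀ M) (hG : IsGr (d := d) ℳ) :
    (∀ i, (ℳ i).FG) ∧ ((∀ i, Module.length A₀ (ℳ i) ≠ ⊤) → PL d (lenFn ℳ)) :=
  hilbertSerre_aux d ℳ hG (fun k hk => absurd hk (not_le.mpr k.2))

end Main

end Groth.Agent.Lib.Helper90.HilbSerre
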