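import Mathlib
import Groth.Agent.Lib.Helper90.HilbSerre
import Groth.Agent.Lib.Helper90.DimParam

/-!
# The associated graded module `gr_I(M)` as a graded module over `A[X_1..X_s]`,
and polynomiality of `n ↦ ℓ(M / I^n M)`.
-/

namespace Groth.Agent.Lib.Helper90.GrMod

open Module HilbPoly HilbSerre

universe u v

section General

variable {A₀ : Type u} [CommRing A₀] {d : ℕ}
variable {M : Type v} [AddCommGroup M] [Module (MvPolynomial (Fin d) A₀) M] [Module A₀ M]
  [IsScalarTower A₀ (MvPolynomial (Fin d) A₀) M]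

variable (P : Submodule (MvPolynomial (Fin d) A₀) M) {ℳ : ℕ → Submodule A₀ M}
  {π : ℕ → (M →ₗ[A₀] M)}

/-- grading induced on an `A₀[X]`-submodule. -/
def subGr (ℳ : ℕ → Submodule A₀ M) (i : ℕ) : Submodule A₀ ↥P where
  carrier := {y | (y : M) ∈ ℳ i}
  add_mem' := fun ha hb => (ℳ i).add_mem ha hb
  zero_mem' := (ℳ i).zero_mem
  smul_mem' := fun a y hy => by
    show ((a • y : ↥P) : M) ∈ ℳ i
    rw [Submodule.coe_smul_of_tower]
    exact (ℳ i).smul_mem a hy

lemma mem_subGr {i : ℕ} {y : ↥P} : y ∈ subGr P ℳ i ↔ (y : M) ∈ ℳ i := Iff.rfl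

/-- projections induced on a stable submodule. -/
def subProj (hP : ∀ i m, m ∈ P → π i m ∈ P) (i : ℕ) : ↥P →ₗ[A₀] ↥P where
  toFun := fun y => ⟨π i (y : M), hP i _ y.2⟩
  map_add' := fun y z => Subtype.ext (by simp)
  map_smul' := fun a y => Subtype.ext (by simp)

@[simp] lemma coe_subProj (hP : ∀ i m, m ∈ P → π i m ∈ P) (i : ℕ) (y : ↥P) :
    ((subProj P hP i y : ↥P) : M) = π i (y : M) := rfl

lemma isProj_subProj (hπ : IsProj ℳ π) (hP : ∀ i m, m ∈ P → π i m ∈ P) :
    IsProj (subGr P ℳ) (subProj P hP) := by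
  refine ⟨fun i y => ?_, fun i y hy => ?_, fun i l y hy hne => ?_, fun y => ?_⟩
  · exact hπ.mem i _
  · exact Subtype.ext (hπ.same i _ hy)
  · exact Subtype.ext (hπ.ne i l _ hy hne)
  · obtain ⟨N, hN⟩ := hπ.sum (y : M)
    refine ⟨N, Subtype.ext ?_⟩
    rw [Submodule.coe_sum]
    exact hN

lemma subGr_X_mem (hX : ∀ (k : Fin d) (i : ℕ) (m : M), m ∈ ℳ i →
      (MvPolynomial.X k : MvPolynomial (Fin d) A₀) • m ∈ ℳ (i + 1))
    (k : Fin d) (i : ℕ) (y : ↥P) (hy : y ∈ subGr P ℳ i) :
    (MvPolynomial.X k : MvPolynomial (Fin d) A₀) • y ∈ subGr P ℳ (i + 1) := by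
  rw [mem_subGr, Submodule.coe_smul]
  exact hX k i _ hy

/-- grading induced on a quotient. -/
noncomputable def quotGr' (ℳ : ℕ → Submodule A₀ M) (i : ℕ) : Submodule A₀ (M ⧸ P) :=
  (ℳ i).map (P.mkQ.restrictScalars A₀)

lemma mem_quotGr' {i : ℕ} {y : M ⧸ P} :
    y ∈ quotGr' P ℳ i ↔ ∃ m ∈ ℳ i, Submodule.Quotient.mk m = y := Iff.rfl

/-- projections induced on the quotient by a stable submodule. -/
noncomputable def quotProj (hP : ∀ i m, m ∈ P → π i m ∈ P) (i : ℕ) : (M ⧸ P) →ₗ[A₀] (M ⧸ P) :=
  (Submodule.Quotient.restrictScalarsEquiv A₀ P).toLinearMap.comp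
    (((P.restrictScalars A₀).mapQ (P.restrictScalars A₀) (π i) (fun m hm => hP i m hm)).comp
      (Submodule.Quotient.restrictScalarsEquiv A₀ P).symm.toLinearMap)

lemma quotProj_mk (hP : ∀ i m, m ∈ P → π i m ∈ P) (i : ℕ) (m : M) :
    quotProj P hP i (Submodule.Quotient.mk m) = Submodule.Quotient.mk (π i m) := by
  simp only [quotProj, LinearMap.comp_apply, LinearEquiv.coe_coe,
    Submodule.Quotient.restrictScalarsEquiv_symm_mk, Submodule.mapQ_apply,
    Submodule.Quotient.restrictScalarsEquiv_mk]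

lemma isProj_quotProj (hπ : IsProj ℳ π) (hP : ∀ i m, m ∈ P → π i m ∈ P) :
    IsProj (quotGr' P ℳ) (quotProj P hP) := by
  refine ⟨fun i y => ?_, fun i y hy => ?_, fun i l y hy hne => ?_, fun y => ?_⟩
  · obtain ⟨m, rfl⟩ := Submodule.Quotient.mk_surjective _ y
    rw [quotProj_mk]
    exact (mem_quotGr' P).mpr ⟨_, hπ.mem i m, rfl⟩
  · obtain ⟨m, hm, rfl⟩ := (mem_quotGr' P).mp hy
    rw [quotProj_mk, hπ.same i m hm]
  · obtain ⟨m, hm, rfl⟩ := (mem_quotGr' P).mp hy
    rw [quotProj_mk, hπ.ne i l m hm hne, Submodule.Quotient.mk_zero]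
  · obtain ⟨m, rfl⟩ := Submodule.Quotient.mk_surjective _ y
    obtain ⟨N, hN⟩ := hπ.sum m
    refine ⟨N, ?_⟩
    simp only [quotProj_mk]
    conv_lhs => rw [hN]
    rw [← Submodule.mkQ_apply, map_sum]
    rfl

lemma quotGr'_X_mem (hX : ∀ (k : Fin d) (i : ℕ) (m : M), m ∈ ℳ i →
      (MvPolynomial.X k : MvPolynomial (Fin d) A₀) • m ∈ ℳ (i + 1))
    (k : Fin d) (i : ℕ) (y : M ⧸ P) (hy : y ∈ quotGr' P ℳ i) :
    (MvPolynomial.X k : MvPolynomial (Fin d) A₀) • y ∈ quotGr' P ℳ (i + 1) := by
  obtain ⟨m, hm, rfl⟩ := (mem_quotGr' P).mp hy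
  exact (mem_quotGr' P).mpr ⟨_, hX k i m hm, rfl⟩

end General

section Construction

variable {A : Type u} [CommRing A] {s : ℕ} (x : Fin s → A) (M : Type v) [AddCommGroup M]
  [Module A M]

/-- type synonym for the polynomial module `M[T]`, remembering the elements `x`. -/
@[nolint unusedArguments]
def RM (_x : Fin s → A) (M : Type v) [AddCommGroup M] [Module A M] : Type v :=
  PolynomialModule A M

noncomputable instance : AddCommGroup (RM x M) :=
  inferInstanceAs (AddCommGroup (PolynomialModule A M))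

noncomputable instance : Module A (RM x M) :=
  inferInstanceAs (Module A (PolynomialModule A M))

/-- the algebra map `X_k ↦ x_k T`. -/
noncomputable def φ : MvPolynomial (Fin s) A →ₐ[A] Polynomial A :=
  MvPolynomial.aeval fun k => Polynomial.C (x k) * Polynomial.X

noncomputable instance : Module (MvPolynomial (Fin s) A) (RM x M) :=
  Module.compHom (PolynomialModule A M) (φ x).toRingHom

instance : IsScalarTower A (MvPolynomial (Fin s) A) (RM x M) := ⟨fun a p f => by
  show (φ x (a • p)) • (show PolynomialModule A M from f) =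
    a • ((φ x p) • (show PolynomialModule A M from f))
  rw [map_smul, smul_assoc]⟩

variable {M}

/-- coefficient maps. -/
noncomputable def co (n : ℕ) : RM x M →ₗ[A] M :=
  ((Finsupp.lapply (R := A) (M := M) n).comp
    (PolynomialModule.coeffLinearEquiv (M := M) A A).toLinearMap : PolynomialModule A M →ₗ[A] M)

/-- single maps. -/
noncomputable def sg (n : ℕ) : M →ₗ[A] RM x M := PolynomialModule.lsingle A n

lemma co_sg (n l : ℕ) (m : M) : co x n (sg x l m) = if l = n then m else 0 :=
  PolynomialModule.lsingle_apply (R := A) l m n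

lemma RM_ext {f g : RM x M} (h : ∀ n, co x n f = co x n g) : f = g := by
  apply PolynomialModule.coeff_injective
  ext n
  exact h n

lemma X_smul_sg (k : Fin s) (n : ℕ) (m : M) :
    (MvPolynomial.X k : MvPolynomial (Fin s) A) • sg x n m = sg x (n + 1) (x k • m) := by
  show (φ x (MvPolynomial.X k)) • PolynomialModule.single A n m = PolynomialModule.single A (n + 1) (x k • m)
  rw [φ, MvPolynomial.aeval_X, Polynomial.C_mul_X_eq_monomial, PolynomialModule.monomial_smul_single,
    add_comm]

lemma co_X_smul_zero (k : Fin s) (f : RM x M) :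
    co x 0 ((MvPolynomial.X k : MvPolynomial (Fin s) A) • f) = 0 := by
  show ((φ x (MvPolynomial.X k)) • (show PolynomialModule A M from f)).coeff 0 = 0
  rw [φ, MvPolynomial.aeval_X, Polynomial.C_mul_X_eq_monomial, PolynomialModule.monomial_smul_apply]
  simp

lemma co_X_smul_succ (k : Fin s) (f : RM x M) (n : ℕ) :
    co x (n + 1) ((MvPolynomial.X k : MvPolynomial (Fin s) A) • f) = x k • co x n f := by
  show ((φ x (MvPolynomial.X k)) • (show PolynomialModule A M from f)).coeff (n + 1) = _
  rw [φ, MvPolynomial.aeval_X, Polynomial.C_mul_X_eq_monomial, PolynomialModule.monomial_smul_apply]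
  simp
  rfl

lemma sum_sg (f : RM x M) : ∃ N, f = ∑ n ∈ Finset.range N, sg x n (co x n f) := by
  classical
  let c : ℕ →₀ M := (show PolynomialModule A M from f).coeff
  refine ⟨c.support.sup id + 1, RM_ext x fun l => ?_⟩
  rw [map_sum]
  simp only [co_sg]
  rw [Finset.sum_ite_eq']
  split_ifs with h
  · rfl
  · have : l ∉ c.support := fun hl =>
      h (Finset.mem_range.mpr (Nat.lt_succ_of_le (Finset.le_sup (f := id) hl)))
    exact Finsupp.notMem_support_iff.mp this

/-! ### the base grading -/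

/-- the base grading of `M[T]`. -/
noncomputable def gr₀ (n : ℕ) : Submodule A (RM x M) := LinearMap.range (sg x n)

/-- the base projections. -/
noncomputable def π₀ (n : ℕ) : RM x M →ₗ[A] RM x M := (sg x n).comp (co x n)

lemma co_π₀ (n l : ℕ) (f : RM x M) : co x l (π₀ x n f) = if n = l then co x n f else 0 :=
  co_sg x l n _

lemma isProj_π₀ : IsProj (gr₀ x (M := M)) (π₀ x) := by
  refine ⟨fun i f => ⟨_, rfl⟩, fun i f hf => ?_, fun i l f hf hne => ?_, fun f => ?_⟩
  · obtain ⟨m, rfl⟩ := hf
    show sg x i (co x i (sg x i m)) = _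
    rw [co_sg, if_pos rfl]
  · obtain ⟨m, rfl⟩ := hf
    show sg x i (co x i (sg x l m)) = _
    rw [co_sg, if_neg hne, map_zero]
  · exact sum_sg x f

lemma gr₀_X_mem (k : Fin s) (i : ℕ) (f : RM x M) (hf : f ∈ gr₀ x i) :
    (MvPolynomial.X k : MvPolynomial (Fin s) A) • f ∈ gr₀ x (i + 1) := by
  obtain ⟨m, rfl⟩ := hf
  exact ⟨x k • m, (X_smul_sg x k i m).symm⟩

/-! ### the Rees submodules -/

/-- an `A`-submodule closed under the variables is an `A[X]`-submodule. -/
def toS (N : Submodule A (RM x M))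
    (h : ∀ (k : Fin s) (f : RM x M), f ∈ N → (MvPolynomial.X k : MvPolynomial (Fin s) A) • f ∈ N) :
    Submodule (MvPolynomial (Fin s) A) (RM x M) where
  carrier := N
  add_mem' := N.add_mem
  zero_mem' := N.zero_mem
  smul_mem' := fun p f hf => by
    induction p using MvPolynomial.induction_on generalizing f with
    | C a =>
      show (MvPolynomial.C a : MvPolynomial (Fin s) A) • f ∈ N
      rw [C_smul']
      exact N.smul_mem a hf
    | add p q hp hq =>
      show (p + q) • f ∈ N
      rw [add_smul]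
      exact N.add_mem (hp f hf) (hq f hf)
    | mul_X p k hp =>
      show (p * MvPolynomial.X k) • f ∈ N
      rw [mul_smul]
      exact hp _ (h k f hf)

/-- the ideal generated by `x`. -/
def I : Ideal A := Ideal.span (Set.range x)

lemma x_mem_I (k : Fin s) : x k ∈ I x := Ideal.subset_span ⟨k, rfl⟩

/-- `{f | ∀ n, f_n ∈ I^(n+j) M}` as an `A`-submodule. -/
def reesA (j : ℕ) : Submodule A (RM x M) where
  carrier := {f | ∀ n, co x n f ∈ I x ^ (n + j) • (⊤ : Submodule A M)}
  add_mem' := fun {f g} hf hg n => by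
    rw [map_add]; exact Submodule.add_mem _ (hf n) (hg n)
  zero_mem' := fun n => by rw [map_zero]; exact Submodule.zero_mem _
  smul_mem' := fun a f hf n => by
    rw [map_smul]; exact Submodule.smul_mem _ a (hf n)

lemma reesA_X_mem (j : ℕ) (k : Fin s) (f : RM x M) (hf : f ∈ reesA x j) :
    (MvPolynomial.X k : MvPolynomial (Fin s) A) • f ∈ reesA x j := by
  intro n
  rcases Nat.eq_zero_or_pos n with h0 | hpos
  · subst h0
    rw [co_X_smul_zero]
    exact Submodule.zero_mem _
  · obtain ⟨n', rfl⟩ : ∃ n', n = n' + 1 := ⟨n - 1, by omega⟩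
    rw [co_X_smul_succ]
    have h1 : n' + 1 + j = (n' + j) + 1 := by ring
    rw [h1, pow_succ', mul_smul]
    exact Submodule.smul_mem_smul (x_mem_I x k) (hf n')

/-- the Rees submodules as `A[X]`-submodules. -/
def rees (j : ℕ) : Submodule (MvPolynomial (Fin s) A) (RM x M) :=
  toS x (reesA x j) (reesA_X_mem x j)

lemma mem_rees {j : ℕ} {f : RM x M} :
    f ∈ rees x j ↔ ∀ n, co x n f ∈ I x ^ (n + j) • (⊤ : Submodule A M) := Iff.rfl

lemma π₀_mem_rees {j : ℕ} (i : ℕ) (f : RM x M) (hf : f ∈ rees x j) : π₀ x i f ∈ rees x j := by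
  intro n
  rw [co_π₀]
  split_ifs with h
  · subst h; exact hf i
  · exact Submodule.zero_mem _

lemma sg_mem_rees {j n : ℕ} {m : M} :
    sg x n m ∈ rees x j ↔ m ∈ I x ^ (n + j) • (⊤ : Submodule A M) := by
  rw [mem_rees]
  constructor
  · intro h
    have := h n
    rwa [co_sg, if_pos rfl] at this
  · intro h l
    rw [co_sg]
    split_ifs with hl
    · subst hl; exact h
    · exact Submodule.zero_mem _

/-! ### the associated graded module -/

/-- the shifted Rees submodule inside the Rees module. -/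
noncomputable def rees' : Submodule (MvPolynomial (Fin s) A) ↥(rees x 0 (M := M)) :=
  (rees x 1).comap (rees x 0).subtype

lemma mem_rees' {y : ↥(rees x 0 (M := M))} : y ∈ rees' x ↔ (y : RM x M) ∈ rees x 1 := Iff.rfl

variable (M) in
/-- the associated graded module `gr_I(M)`. -/
abbrev G : Type v := ↥(rees x 0 (M := M)) ⧸ rees' x

variable (M) in
/-- the grading of `gr_I(M)`. -/
noncomputable def grG (n : ℕ) : Submodule A (G x M) :=
  quotGr' (rees' x) (subGr (rees x 0) (gr₀ x)) n

lemma π₀_stable₀ (i : ℕ) (m : RM x M) (hm : m ∈ rees x 0) : π₀ x i m ∈ rees x 0 :=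
  π₀_mem_rees x i m hm

lemma π₀_stable₁ (i : ℕ) (y : ↥(rees x 0 (M := M))) (hy : y ∈ rees' x) :
    subProj (rees x 0) (π₀_stable₀ x) i y ∈ rees' x := by
  rw [mem_rees'] at hy ⊢
  rw [coe_subProj]
  exact π₀_mem_rees x i _ hy

lemma isGr_grG : IsGr (d := s) (grG x M) := by
  have hπ1 := isProj_subProj (rees x 0) (isProj_π₀ x (M := M)) (π₀_stable₀ x)
  have hπ2 := isProj_quotProj (rees' x) hπ1 (π₀_stable₁ x)
  refine ⟨?_, ⟨quotProj (rees' x) (π₀_stable₁ x), hπ2⟩⟩
  exact quotGr'_X_mem (rees' x) (subGr_X_mem (rees x 0) (gr₀_X_mem x))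

lemma rees_fg [Module.Finite A M] : (rees x 0 (M := M)).FG := by
  classical
  obtain ⟨t, ht⟩ := Module.Finite.fg_top (R := A) (M := M)
  set W : Submodule (MvPolynomial (Fin s) A) (RM x M) :=
    Submodule.span (MvPolynomial (Fin s) A) (sg x 0 '' (t : Set M)) with hW
  have key : ∀ n, I x ^ n • (⊤ : Submodule A M) ≤ (W.restrictScalars A).comap (sg x n) := by
    intro n
    induction n with
    | zero =>
      rw [pow_zero, Ideal.one_eq_top, Submodule.top_smul, ← ht, Submodule.span_le]
      intro m hm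
      exact Submodule.subset_span ⟨m, hm, rfl⟩
    | succ n ih =>
      rw [pow_succ', mul_smul]
      refine Submodule.smul_le.mpr fun a ha y hy => ?_
      have hy' : sg x n y ∈ W := ih hy
      have hI : ∀ b ∈ Submodule.span A (Set.range x), sg x (n + 1) (b • y) ∈ W := by
        intro b hb
        induction hb using Submodule.span_induction with
        | mem b hb =>
          obtain ⟨k, rfl⟩ := hb
          rw [← X_smul_sg]
          exact W.smul_mem _ hy'
        | zero => rw [zero_smul, map_zero]; exact Submodule.zero_mem _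
        | add b c _ _ hb hc => rw [add_smul, map_add]; exact Submodule.add_mem _ hb hc
        | smul c b _ hb =>
          rw [smul_assoc, map_smul, ← C_smul' (d := s)]
          exact W.smul_mem _ hb
      exact hI a ha
  have heq : rees x 0 (M := M) = W := by
    apply le_antisymm
    · intro f hf
      obtain ⟨N, hN⟩ := sum_sg x f
      rw [hN]
      refine Submodule.sum_mem _ fun n _ => ?_
      have := hf n
      rw [add_zero] at this
      exact key n this
    · rw [hW, Submodule.span_le]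
      rintro _ ⟨m, -, rfl⟩
      show sg x 0 m ∈ rees x 0
      rw [sg_mem_rees, add_zero, pow_zero, Ideal.one_eq_top, Submodule.top_smul]
      exact Submodule.mem_top
  rw [heq]
  exact ⟨t.image (sg x 0), by rw [Finset.coe_image]⟩

instance [Module.Finite A M] : Module.Finite (MvPolynomial (Fin s) A) (G x M) := by
  have : Module.Finite (MvPolynomial (Fin s) A) ↥(rees x 0 (M := M)) :=
    Module.Finite.iff_fg.mpr (rees_fg x)
  infer_instance

end Construction

section LengthLemmas

variable {R : Type*} [Ring R] {N P Q : Type*} [AddCommGroup N] [Module R N] [AddCommGroup P]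
  [Module R P] [AddCommGroup Q] [Module R Q]

lemma length_range_eq_of_ker_eq (f : N →ₗ[R] P) (g : N →ₗ[R] Q)
    (h : LinearMap.ker f = LinearMap.ker g) :
    Module.length R ↥(LinearMap.range f) = Module.length R ↥(LinearMap.range g) :=
  (f.quotKerEquivRange.symm.trans
    ((Submodule.quotEquivOfEq _ _ h).trans g.quotKerEquivRange)).length_eq

lemma length_quot_eq_add (S T : Submodule R N) (h : S ≤ T) :
    Module.length R (N ⧸ S) = Module.length R ↥(T.map S.mkQ) + Module.length R (N ⧸ T) := by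
  rw [Module.length_eq_add_of_exact (T.map S.mkQ).subtype (T.map S.mkQ).mkQ
    (Submodule.subtype_injective _) (Submodule.mkQ_surjective _) (LinearMap.exact_subtype_mkQ _),
    (Submodule.quotientQuotientEquivQuotient S T h).length_eq]

end LengthLemmas

section Lengths

variable {A : Type u} [CommRing A] {s : ℕ} (x : Fin s → A) {M : Type v} [AddCommGroup M]
  [Module A M]

/-- the map `I^n M → gr_I(M)`. -/
noncomputable def γ (n : ℕ) : ↥(I x ^ n • (⊤ : Submodule A M)) →ₗ[A] G x M where
  toFun := fun y => Submodule.Quotient.mk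
    ⟨sg x n (y : M), (sg_mem_rees x).mpr (by rw [add_zero]; exact y.2)⟩
  map_add' := fun y z => by
    rw [← Submodule.Quotient.mk_add]
    congr 1
    apply Subtype.ext
    simp
  map_smul' := fun a y => by
    rw [RingHom.id_apply, ← Submodule.Quotient.mk_smul]
    congr 1
    apply Subtype.ext
    simp

lemma γ_apply (n : ℕ) (y : ↥(I x ^ n • (⊤ : Submodule A M))) :
    γ x n y = Submodule.Quotient.mk
      ⟨sg x n (y : M), (sg_mem_rees x).mpr (by rw [add_zero]; exact y.2)⟩ := rfl

lemma range_γ (n : ℕ) : LinearMap.range (γ x n (M := M)) = grG x M n := by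
  ext z
  constructor
  · rintro ⟨y, rfl⟩
    exact (mem_quotGr' _).mpr ⟨_, (mem_subGr _).mpr ⟨(y : M), rfl⟩, rfl⟩
  · intro hz
    obtain ⟨w, hw, rfl⟩ := (mem_quotGr' _).mp hz
    obtain ⟨m, hm⟩ := (mem_subGr _).mp hw
    have hmem : m ∈ I x ^ n • (⊤ : Submodule A M) := by
      have := w.2
      rw [← hm, sg_mem_rees, add_zero] at this
      exact this
    refine ⟨⟨m, hmem⟩, ?_⟩
    rw [γ_apply]
    congr 1
    exact Subtype.ext hm

lemma ker_γ (n : ℕ) : LinearMap.ker (γ x n (M := M)) =
    (I x ^ (n + 1) • (⊤ : Submodule A M)).comap (I x ^ n • (⊤ : Submodule A M)).subtype := by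
  ext y
  rw [LinearMap.mem_ker, γ_apply, Submodule.Quotient.mk_eq_zero, mem_rees', Submodule.mem_comap]
  exact sg_mem_rees x

/-- the map `I^n M → M / I^(n+1) M`. -/
noncomputable def α (n : ℕ) : ↥(I x ^ n • (⊤ : Submodule A M)) →ₗ[A]
    M ⧸ (I x ^ (n + 1) • (⊤ : Submodule A M)) :=
  (I x ^ (n + 1) • (⊤ : Submodule A M)).mkQ.comp (I x ^ n • (⊤ : Submodule A M)).subtype

lemma ker_α (n : ℕ) : LinearMap.ker (α x n (M := M)) =
    (I x ^ (n + 1) • (⊤ : Submodule A M)).comap (I x ^ n • (⊤ : Submodule A M)).subtype := by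
  rw [α, LinearMap.ker_comp, Submodule.ker_mkQ]

lemma range_α (n : ℕ) : LinearMap.range (α x n (M := M)) =
    (I x ^ n • (⊤ : Submodule A M)).map (I x ^ (n + 1) • (⊤ : Submodule A M)).mkQ := by
  rw [α, LinearMap.range_comp, Submodule.range_subtype]

lemma length_grG (n : ℕ) : Module.length A (grG x M n) = Module.length A
    ↥((I x ^ n • (⊤ : Submodule A M)).map (I x ^ (n + 1) • (⊤ : Submodule A M)).mkQ) := by
  rw [← range_γ, ← range_α]
  exact length_range_eq_of_ker_eq _ _ ((ker_γ x n).trans (ker_α x n).symm)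

lemma pow_succ_smul_le (n : ℕ) :
    I x ^ (n + 1) • (⊤ : Submodule A M) ≤ I x ^ n • (⊤ : Submodule A M) :=
  Submodule.smul_mono_left (Ideal.pow_le_pow_right (Nat.le_succ n))

lemma length_succ (n : ℕ) : Module.length A (M ⧸ (I x ^ (n + 1) • (⊤ : Submodule A M))) =
    Module.length A (grG x M n) + Module.length A (M ⧸ (I x ^ n • (⊤ : Submodule A M))) := by
  rw [length_grG]
  exact length_quot_eq_add _ _ (pow_succ_smul_le x n)

end Lengths

section Main

lemma PL_neg {j : ℕ} {f : ℕ → ℤ} (hf : PL j f) : PL j (fun i => - f i) := by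
  obtain ⟨p, hp, N, hN⟩ := hf
  exact ⟨-p, Submodule.neg_mem _ hp, N, fun i hi => by simp [hN i hi]⟩

variable {A : Type u} [CommRing A] [IsNoetherianRing A] {M : Type v} [AddCommGroup M]
  [Module A M] [Module.Finite A M]

lemma isFiniteLength_quot_pow (J : Ideal A)
    (hfl : IsFiniteLength A (M ⧸ J • (⊤ : Submodule A M))) (n : ℕ) :
    IsFiniteLength A (M ⧸ J ^ n • (⊤ : Submodule A M)) := by
  rcases Nat.eq_zero_or_pos n with h0 | hpos
  · subst h0
    rw [pow_zero, Ideal.one_eq_top, Submodule.top_smul]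
    have : Subsingleton (M ⧸ (⊤ : Submodule A M)) :=
      Submodule.Quotient.subsingleton_iff.mpr rfl
    exact IsFiniteLength.of_subsingleton
  · apply DimParam.isFiniteLength_of_supportDim_le_zero
    have h1 := DimParam.supportDim_le_zero_of_isFiniteLength hfl
    have hs : Module.support A (M ⧸ J ^ n • (⊤ : Submodule A M)) =
        Module.support A (M ⧸ J • (⊤ : Submodule A M)) := by
      rw [Module.support_quotient, Module.support_quotient,
        PrimeSpectrum.zeroLocus_pow _ hpos.ne']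
    unfold Module.supportDim at h1 ⊢
    rw [hs]
    exact h1

/-- the Samuel function `n ↦ ℓ(M / J^n M)`. -/
noncomputable def samuelFn (J : Ideal A) (M : Type v) [AddCommGroup M] [Module A M] : ℕ → ℤ :=
  fun n => ((Module.length A (M ⧸ J ^ n • (⊤ : Submodule A M))).toNat : ℤ)

/-- **Samuel**: if `I = (x_1..x_s)` and `M/IM` has finite length then `n ↦ ℓ(M/I^n M)` is eventually
an integer combination of the binomial polynomials `C(n+k,k)`, `k ≤ s`. -/
theorem samuel_PL {s : ℕ} (x : Fin s → A)
    (hfl : IsFiniteLength A (M ⧸ I x • (⊤ : Submodule A M))) :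
    PL (s + 1) (samuelFn (I x) M) := by
  have hfin : ∀ n, Module.length A (M ⧸ I x ^ n • (⊤ : Submodule A M)) ≠ ⊤ :=
    fun n => Module.length_ne_top_iff.mpr (isFiniteLength_quot_pow (I x) hfl n)
  have hG := hilbertSerre (grG x M) (isGr_grG x)
  have hGfin : ∀ n, Module.length A (grG x M n) ≠ ⊤ := by
    intro n h
    have := length_succ x (M := M) n
    rw [h, top_add] at this
    exact hfin (n + 1) this
  have hPL := hG.2 hGfin
  apply PL_of_diff (g := fun _ => 0) (h := fun i => - lenFn (grG x M) i)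
    ((PL_zero_of_eventually_zero 0 (fun _ _ => rfl)).mono (Nat.zero_le s)) (PL_neg hPL)
  intro i
  simp only [samuelFn, lenFn]
  rw [length_succ x i, ENat.toNat_add (hGfin i) (hfin i)]
  push_cast
  ring

end Main

end Groth.Agent.Lib.Helper90.GrMod
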