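import Mathlib
import Groth.Agent.Lib.Helper90.HilbPoly

namespace Groth.Agent.Lib.Helper90.HSPoly

open Polynomial HilbPoly Filter

/-- a function in `PL j` is eventually given by a rational polynomial of degree `≤ j - 1`. -/
lemma exists_poly_of_PL {j : ℕ} {f : ℕ → ℤ} (hf : PL j f) :
    ∃ P : ℚ[X], P.natDegree ≤ j - 1 ∧ ∃ N : ℕ, ∀ n, N ≤ n → ((f n : ℤ) : ℚ) = P.eval (n : ℚ) := by
  obtain ⟨c, N, hN⟩ := hf.exists_coeff
  refine ⟨∑ k : Fin j, ((c k : ℤ) : ℚ) • preHilbertPoly ℚ k 0, ?_, N, fun n hn => ?_⟩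
  · apply natDegree_sum_le_of_forall_le
    intro k _
    refine (natDegree_smul_le _ _).trans ?_
    rw [natDegree_preHilbertPoly]
    have := k.2
    omega
  · rw [hN n hn, eval_finsetSum]
    push_cast
    apply Finset.sum_congr rfl
    intro k _
    rw [eval_smul, preHilbertPoly_eq_choose_sub_add ℚ k (Nat.zero_le n), smul_eq_mul, B_apply]
    simp

/-- comparison of degrees from eventual inequality of values. -/
lemma natDegree_le_of_eventually_le {P Q : ℚ[X]} (N : ℕ)
    (h0 : ∀ n : ℕ, N ≤ n → 0 ≤ P.eval (n : ℚ))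
    (h : ∀ n : ℕ, N ≤ n → P.eval (n : ℚ) ≤ Q.eval (n : ℚ)) : P.natDegree ≤ Q.natDegree := by
  by_contra hlt
  rw [not_le] at hlt
  have hP0 : P ≠ 0 := by
    rintro rfl
    simp at hlt
  have hdeg : Q.degree < P.degree := by
    rcases eq_or_ne Q 0 with rfl | hQ0
    · rw [degree_zero]; exact bot_lt_iff_ne_bot.mpr (degree_ne_bot.mpr hP0)
    · rw [degree_eq_natDegree hQ0, degree_eq_natDegree hP0]
      exact_mod_cast hlt
  have h1 := (div_tendsto_atTop_zero_of_degree_lt Q P hdeg).comp
    (tendsto_natCast_atTop_atTop (R := ℚ))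
  have h2 := (tendsto_natCast_atTop_atTop (R := ℚ)).eventually (eventually_atTop_not_isRoot P hP0)
  have h3 := h1.eventually_lt_const (zero_lt_one' ℚ)
  obtain ⟨n, ⟨hn1, hn2⟩, hn3⟩ := ((h3.and h2).and (eventually_ge_atTop N)).exists
  have hPn : 0 < P.eval (n : ℚ) := lt_of_le_of_ne (h0 n hn3) (fun h' => hn2 h'.symm)
  simp only [Function.comp_apply] at hn1
  rw [div_lt_one hPn] at hn1
  exact absurd (h n hn3) (not_le.mpr hn1)

/-- shifting the variable does not change the degree. -/
lemma natDegree_comp_X_sub_C (P : ℚ[X]) (c : ℚ) : (P.comp (X - C c)).natDegree = P.natDegree := by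
  rw [natDegree_comp, natDegree_X_sub_C, mul_one]

lemma eval_comp_X_sub_C (P : ℚ[X]) (c y : ℚ) : (P.comp (X - C c)).eval y = P.eval (y - c) := by
  rw [eval_comp, eval_sub, eval_X, eval_C]

/-- the difference `P(X) - P(X - c)` has smaller degree. -/
lemma natDegree_sub_comp_le (P : ℚ[X]) (c : ℚ) :
    (P - P.comp (X - C c)).natDegree ≤ P.natDegree - 1 := by
  rcases Nat.eq_zero_or_pos P.natDegree with h0 | hpos
  · rw [eq_C_of_natDegree_eq_zero h0]
    simp
  · have hP0 : P ≠ 0 := by
      rintro rfl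
      simp at hpos
    have hlc : (P.comp (X - C c)).leadingCoeff = P.leadingCoeff := by
      rw [leadingCoeff_comp (by rw [natDegree_X_sub_C]; exact one_ne_zero), leadingCoeff_X_sub_C,
        one_pow, mul_one]
    have hc0 : P.comp (X - C c) ≠ 0 := by
      intro h
      rw [h, leadingCoeff_zero] at hlc
      exact hP0 (leadingCoeff_eq_zero.mp hlc.symm)
    have hd : P.degree = (P.comp (X - C c)).degree := by
      rw [degree_eq_natDegree hP0, degree_eq_natDegree hc0, natDegree_comp_X_sub_C]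
    rcases eq_or_ne (P - P.comp (X - C c)) 0 with h | h
    · rw [h]; simp
    · have := natDegree_lt_natDegree h (degree_sub_lt_left hd hP0 hlc.symm)
      omega

end Groth.Agent.Lib.Helper90.HSPoly
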