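import Mathlib
import Groth.Agent.Lib.Helper90.GrMod
import Groth.Agent.Lib.Helper90.HSPoly

namespace Groth.Agent.Lib.Helper90.Samuel

open Module HilbPoly GrMod HSPoly Polynomial

universe u v

section Gen

variable {R : Type*} [Ring R] {N P Q : Type*} [AddCommGroup N] [Module R N] [AddCommGroup P]
  [Module R P] [AddCommGroup Q] [Module R Q]

lemma length_eq_of_surjective_of_ker_eq (f : N →ₗ[R] P) (g : N →ₗ[R] Q)
    (hf : Function.Surjective f) (hg : Function.Surjective g)
    (h : LinearMap.ker f = LinearMap.ker g) : Module.length R P = Module.length R Q :=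
  ((f.quotKerEquivOfSurjective hf).symm.trans
    ((Submodule.quotEquivOfEq _ _ h).trans (g.quotKerEquivOfSurjective hg))).length_eq

end Gen

section AR

variable {A : Type u} [CommRing A] [IsNoetherianRing A] {M : Type v} [AddCommGroup M]
  [Module A M] [Module.Finite A M]

/-- Artin–Rees inequality for Samuel functions:
`ℓ((M/N)/J^n(M/N)) + ℓ(N/J^(n-c)N) ≤ ℓ(M/J^n M)` for `n ≥ c`. -/
theorem artinRees_length_le (J : Ideal A) (N : Submodule A M) :
    ∃ c : ℕ, ∀ n, c ≤ n →
      Module.length A ((M ⧸ N) ⧸ (J ^ n • (⊤ : Submodule A (M ⧸ N)))) +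
        Module.length A (↥N ⧸ (J ^ (n - c) • (⊤ : Submodule A ↥N))) ≤
      Module.length A (M ⧸ (J ^ n • (⊤ : Submodule A M))) := by
  obtain ⟨c, hc⟩ := Ideal.exists_pow_inf_eq_pow_smul J N
  refine ⟨c, fun n hn => ?_⟩
  set K : Submodule A M := J ^ n • ⊤ with hK
  have h1 : Module.length A (M ⧸ K) = Module.length A ↥(N.map K.mkQ) +
      Module.length A ((M ⧸ K) ⧸ N.map K.mkQ) :=
    Module.length_eq_add_of_exact (N.map K.mkQ).subtype (N.map K.mkQ).mkQ
      (Submodule.subtype_injective _) (Submodule.mkQ_surjective _) (LinearMap.exact_subtype_mkQ _)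
  have hKmap : (J ^ n • (⊤ : Submodule A (M ⧸ N))) = K.map N.mkQ := by
    rw [hK, Submodule.map_smul'', Submodule.map_top, Submodule.range_mkQ]
  have h2 : Module.length A ((M ⧸ K) ⧸ N.map K.mkQ) =
      Module.length A ((M ⧸ N) ⧸ (J ^ n • (⊤ : Submodule A (M ⧸ N)))) := by
    apply length_eq_of_surjective_of_ker_eq ((N.map K.mkQ).mkQ.comp K.mkQ)
      ((J ^ n • ⊤ : Submodule A (M ⧸ N)).mkQ.comp N.mkQ)
      ((Submodule.mkQ_surjective _).comp (Submodule.mkQ_surjective _))
      ((Submodule.mkQ_surjective _).comp (Submodule.mkQ_surjective _))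
    rw [LinearMap.ker_comp, LinearMap.ker_comp, Submodule.ker_mkQ, Submodule.ker_mkQ, hKmap,
      Submodule.comap_map_mkQ, Submodule.comap_map_mkQ, sup_comm]
  have h3 : Module.length A (↥N ⧸ (J ^ (n - c) • (⊤ : Submodule A ↥N))) ≤
      Module.length A ↥(N.map K.mkQ) := by
    have hr : N.map K.mkQ = LinearMap.range (K.mkQ.comp N.subtype) := by
      rw [LinearMap.range_comp, Submodule.range_subtype]
    rw [hr, ← (K.mkQ.comp N.subtype).quotKerEquivRange.length_eq]
    have hker : LinearMap.ker (K.mkQ.comp N.subtype) ≤ J ^ (n - c) • (⊤ : Submodule A ↥N) := by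
      rw [LinearMap.ker_comp, Submodule.ker_mkQ]
      intro y hy
      have hy' : (y : M) ∈ K ⊓ N := ⟨hy, y.2⟩
      rw [hK, hc n hn] at hy'
      have hy'' : (y : M) ∈ J ^ (n - c) • N := Submodule.smul_mono le_rfl inf_le_right hy'
      have hmap : (J ^ (n - c) • (⊤ : Submodule A ↥N)).map N.subtype = J ^ (n - c) • N := by
        rw [Submodule.map_smul'', Submodule.map_top, Submodule.range_subtype]
      rw [← hmap] at hy''
      obtain ⟨z, hz, hzy⟩ := hy''
      have : z = y := Subtype.ext hzy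
      rwa [← this]
    exact Module.length_le_of_surjective (Submodule.factor hker) (Submodule.factor_surjective hker)
  rw [h1, h2, add_comm]
  exact add_le_add_left h3 _

omit [IsNoetherianRing A] in
lemma length_quot_pow_congr (J : Ideal A) {L L' : Type*} [AddCommGroup L] [Module A L]
    [AddCommGroup L'] [Module A L'] (e : L ≃ₗ[A] L') (n : ℕ) :
    Module.length A (L ⧸ J ^ n • (⊤ : Submodule A L)) =
      Module.length A (L' ⧸ J ^ n • (⊤ : Submodule A L')) :=
  (Submodule.Quotient.equiv _ _ e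
    (by rw [Submodule.map_smul'', Submodule.map_top, LinearEquiv.range])).length_eq

end AR

section Semilocal

variable {A : Type u} [CommRing A] [IsNoetherianRing A] [Finite (MaximalSpectrum A)]

lemma isMaximal_of_jacobson_le {p : Ideal A} (hp : p.IsPrime) (h : Ring.jacobson A ≤ p) :
    p.IsMaximal := by
  have hJ : Ring.jacobson A = (DimParam.finite_setOf_isMaximal (A := A)).toFinset.inf id := by
    rw [Ring.jacobson_eq_sInf_isMaximal, Finset.inf_id_eq_sInf, Set.Finite.coe_toFinset]
  rw [hJ] at h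
  obtain ⟨m, hm, hmp⟩ := (Ideal.IsPrime.inf_le' hp).mp h
  rw [Set.Finite.mem_toFinset] at hm
  have hm' : m.IsMaximal := hm
  have : m = p := hm'.eq_of_le hp.ne_top hmp
  exact this ▸ hm'

variable (A) in
lemma supportDim_quot_jacobson_le_zero (M : Type v) [AddCommGroup M] [Module A M]
    [Module.Finite A M] :
    supportDim A (M ⧸ Ring.jacobson A • (⊤ : Submodule A M)) ≤ 0 := by
  unfold Module.supportDim
  rw [Order.krullDim_nonpos_iff_forall_isMax]
  intro p q hpq
  have hp : p.1 ∈ support A M ∩ PrimeSpectrum.zeroLocus (Ring.jacobson A : Set A) := by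
    rw [← Module.support_quotient]
    exact p.2
  have hJ : Ring.jacobson A ≤ p.1.asIdeal := hp.2
  have hmax := isMaximal_of_jacobson_le p.1.2 hJ
  have : p.1.asIdeal = q.1.asIdeal := hmax.eq_of_le q.1.2.ne_top hpq
  exact le_of_eq (Subtype.ext (PrimeSpectrum.ext this.symm))

variable (A) in
lemma isFiniteLength_quot_jacobson_pow (M : Type v) [AddCommGroup M] [Module A M]
    [Module.Finite A M] (n : ℕ) :
    IsFiniteLength A (M ⧸ Ring.jacobson A ^ n • (⊤ : Submodule A M)) :=
  isFiniteLength_quot_pow _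
    (DimParam.isFiniteLength_of_supportDim_le_zero (supportDim_quot_jacobson_le_zero A M)) n

variable (A) in
lemma length_quot_jacobson_pow_ne_top (M : Type v) [AddCommGroup M] [Module A M]
    [Module.Finite A M] (n : ℕ) :
    Module.length A (M ⧸ Ring.jacobson A ^ n • (⊤ : Submodule A M)) ≠ ⊤ :=
  Module.length_ne_top_iff.mpr (isFiniteLength_quot_jacobson_pow A M n)

variable (A) in
/-- `P` is the Hilbert–Samuel polynomial of `M` with respect to the Jacobson radical. -/
def IsHS (M : Type v) [AddCommGroup M] [Module A M] (P : ℚ[X]) : Prop :=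
  ∃ N : ℕ, ∀ n, N ≤ n → ((samuelFn (Ring.jacobson A) M n : ℤ) : ℚ) = P.eval (n : ℚ)

variable (A) in
theorem exists_isHS (M : Type v) [AddCommGroup M] [Module A M] [Module.Finite A M] :
    ∃ P : ℚ[X], IsHS A M P := by
  obtain ⟨s, x, hx⟩ := Submodule.fg_iff_exists_fin_generating_family.mp
    (IsNoetherian.noetherian (Ring.jacobson A))
  have hI : I x = Ring.jacobson A := hx
  have hfl : IsFiniteLength A (M ⧸ I x • (⊤ : Submodule A M)) := by
    rw [hI]
    have := isFiniteLength_quot_jacobson_pow A M 1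
    rwa [pow_one] at this
  have hPL := samuel_PL x hfl
  rw [hI] at hPL
  obtain ⟨P, -, N, hN⟩ := exists_poly_of_PL hPL
  exact ⟨P, N, hN⟩

end Semilocal

section Compare

open Pointwise

variable {A : Type u} [CommRing A] [IsNoetherianRing A] [Finite (MaximalSpectrum A)]
variable {M : Type v} [AddCommGroup M] [Module A M] [Module.Finite A M]

omit [IsNoetherianRing A] [Finite (MaximalSpectrum A)] [Module.Finite A M] in
lemma samuelFn_nonneg (J : Ideal A) (n : ℕ) : 0 ≤ samuelFn J M n := Int.natCast_nonneg _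

/-- `d(N) ≤ d(M)` for a submodule `N ≤ M`. -/
theorem natDegree_le_of_submodule {P P' : ℚ[X]} (N : Submodule A M) (hP : IsHS A M P)
    (hP' : IsHS A ↥N P') : P'.natDegree ≤ P.natDegree := by
  obtain ⟨c, hc⟩ := artinRees_length_le (Ring.jacobson A) N
  obtain ⟨N₁, h₁⟩ := hP
  obtain ⟨N₂, h₂⟩ := hP'
  rw [← natDegree_comp_X_sub_C P' (c : ℚ)]
  apply natDegree_le_of_eventually_le (max N₁ (N₂ + c))
  · intro n hn
    have hcn : c ≤ n := by omega
    rw [eval_comp_X_sub_C, ← Nat.cast_sub hcn, ← h₂ _ (by omega)]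
    exact_mod_cast samuelFn_nonneg _ _
  · intro n hn
    have hcn : c ≤ n := by omega
    rw [eval_comp_X_sub_C, ← Nat.cast_sub hcn, ← h₂ _ (by omega), ← h₁ n (by omega)]
    have h3 : Module.length A (↥N ⧸ Ring.jacobson A ^ (n - c) • (⊤ : Submodule A ↥N)) ≤
        Module.length A (M ⧸ Ring.jacobson A ^ n • (⊤ : Submodule A M)) :=
      le_trans le_add_self (hc n hcn)
    simp only [samuelFn]
    exact_mod_cast ENat.toNat_le_toNat h3 (length_quot_jacobson_pow_ne_top A M n)

/-- `d(M/xM) ≤ d(M) - 1` for an `M`-regular element `x`. -/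
theorem natDegree_quot_regular_le {x : A} (hx : Function.Injective (fun m : M => x • m))
    {P P' : ℚ[X]} (hP : IsHS A M P) (hP' : IsHS A (QuotSMulTop x M) P') :
    P'.natDegree ≤ P.natDegree - 1 := by
  obtain ⟨c, hc⟩ := artinRees_length_le (Ring.jacobson A) (x • (⊤ : Submodule A M))
  obtain ⟨N₁, h₁⟩ := hP
  obtain ⟨N₂, h₂⟩ := hP'
  -- the isomorphism `M ≃ xM`
  have hrange : LinearMap.range (LinearMap.lsmul A M x) = x • (⊤ : Submodule A M) := by
    ext m
    rw [Submodule.mem_smul_pointwise_iff_exists]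
    constructor
    · rintro ⟨b, rfl⟩
      exact ⟨b, Submodule.mem_top, rfl⟩
    · rintro ⟨b, -, rfl⟩
      exact ⟨b, rfl⟩
  let e : M ≃ₗ[A] ↥(x • (⊤ : Submodule A M)) :=
    (LinearEquiv.ofInjective (LinearMap.lsmul A M x) hx).trans (LinearEquiv.ofEq _ _ hrange)
  have key : ∀ n, c ≤ n → samuelFn (Ring.jacobson A) (QuotSMulTop x M) n +
      samuelFn (Ring.jacobson A) M (n - c) ≤ samuelFn (Ring.jacobson A) M n := by
    intro n hn
    have h := hc n hn
    rw [← length_quot_pow_congr (Ring.jacobson A) e (n - c)] at h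
    simp only [samuelFn]
    have h' := ENat.toNat_le_toNat h (length_quot_jacobson_pow_ne_top A M n)
    rw [ENat.toNat_add (length_quot_jacobson_pow_ne_top A _ n)
      (length_quot_jacobson_pow_ne_top A M (n - c))] at h'
    exact_mod_cast h'
  refine le_trans (natDegree_le_of_eventually_le (Q := P - P.comp (X - C (c : ℚ)))
    (max N₂ (N₁ + c)) ?_ ?_) (natDegree_sub_comp_le P c)
  · intro n hn
    rw [← h₂ n (by omega)]
    exact_mod_cast samuelFn_nonneg _ _
  · intro n hn
    have hcn : c ≤ n := by omega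
    rw [eval_sub, eval_comp_X_sub_C, ← Nat.cast_sub hcn, ← h₂ n (by omega), ← h₁ n (by omega),
      ← h₁ (n - c) (by omega)]
    have := key n hcn
    have h4 : ((samuelFn (Ring.jacobson A) (QuotSMulTop x M) n : ℤ) : ℚ) +
        ((samuelFn (Ring.jacobson A) M (n - c) : ℤ) : ℚ) ≤
        ((samuelFn (Ring.jacobson A) M n : ℤ) : ℚ) := by exact_mod_cast this
    linarith

omit [Finite (MaximalSpectrum A)] in
/-- `d(M) ≤ s` if `M/(x_1..x_s)M` has finite length, `x_i` in the radical. -/
theorem natDegree_le_of_params {s : ℕ} (x : Fin s → A) (hx : ∀ i, x i ∈ Ring.jacobson A)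
    (hfl : IsFiniteLength A (M ⧸ I x • (⊤ : Submodule A M))) {P : ℚ[X]} (hP : IsHS A M P) :
    P.natDegree ≤ s := by
  obtain ⟨Q, hQ, N₂, h₂⟩ := exists_poly_of_PL (samuel_PL x hfl)
  obtain ⟨N₁, h₁⟩ := hP
  have hle : I x ≤ Ring.jacobson A := by
    rw [I, Ideal.span_le]
    rintro _ ⟨i, rfl⟩
    exact hx i
  refine le_trans (natDegree_le_of_eventually_le (Q := Q) (max N₁ N₂) ?_ ?_) (by simpa using hQ)
  · intro n hn
    rw [← h₁ n (by omega)]
    exact_mod_cast samuelFn_nonneg _ _
  · intro n hn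
    rw [← h₁ n (by omega), ← h₂ n (by omega)]
    have hsub : I x ^ n • (⊤ : Submodule A M) ≤ Ring.jacobson A ^ n • (⊤ : Submodule A M) :=
      Submodule.smul_mono_left (Ideal.pow_right_mono hle n)
    have h3 := Module.length_le_of_surjective (Submodule.factor hsub)
      (Submodule.factor_surjective hsub)
    simp only [samuelFn]
    exact_mod_cast ENat.toNat_le_toNat h3
      (Module.length_ne_top_iff.mpr (isFiniteLength_quot_pow (I x) hfl n))

end Compare

end Groth.Agent.Lib.Helper90.Samuel
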