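import Mathlib
import Groth.Agent.Lib.Helper90.Samuel

namespace Groth.Agent.Lib.Helper90.SamuelDim

open Module HilbPoly GrMod HSPoly Samuel Polynomial Pointwise

universe u

lemma enat_eq_zero_of_eq_add {a b : ℕ∞} (ha : a ≠ ⊤) (h : a = b + a) : b = 0 := by
  lift a to ℕ using ha
  induction b using ENat.recTopCoe with
  | top => simp at h
  | coe b =>
    have h' : a = b + a := by exact_mod_cast h
    have : b = 0 := by omega
    simp [this]

variable {A : Type u} [CommRing A] [IsNoetherianRing A] [Finite (MaximalSpectrum A)]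

/-- base case: a constant Hilbert–Samuel polynomial forces finite length. -/
lemma supportDim_le_zero_of_natDegree_eq_zero {M : Type u} [AddCommGroup M] [Module A M]
    [Module.Finite A M] {P : ℚ[X]} (hP : IsHS A M P) (hd : P.natDegree = 0) :
    supportDim A M ≤ 0 := by
  obtain ⟨N₀, h₀⟩ := hP
  have hC : P = C (P.coeff 0) := eq_C_of_natDegree_eq_zero hd
  have heq : samuelFn (Ring.jacobson A) M N₀ = samuelFn (Ring.jacobson A) M (N₀ + 1) := by
    have h1 := h₀ N₀ le_rfl
    have h2 := h₀ (N₀ + 1) (Nat.le_succ _)
    rw [hC, eval_C] at h1 h2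
    exact_mod_cast h1.trans h2.symm
  have hfin0 := length_quot_jacobson_pow_ne_top A M N₀
  have hfin1 := length_quot_jacobson_pow_ne_top A M (N₀ + 1)
  have hle : Ring.jacobson A ^ (N₀ + 1) • (⊤ : Submodule A M) ≤
      Ring.jacobson A ^ N₀ • (⊤ : Submodule A M) :=
    Submodule.smul_mono_left (Ideal.pow_le_pow_right (Nat.le_succ _))
  have hlen := length_quot_eq_add _ _ hle
  have hz : Module.length A ↥((Ring.jacobson A ^ N₀ • (⊤ : Submodule A M)).map
      (Ring.jacobson A ^ (N₀ + 1) • (⊤ : Submodule A M)).mkQ) = 0 := by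
    simp only [samuelFn] at heq
    have heq' : (Module.length A (M ⧸ Ring.jacobson A ^ N₀ • (⊤ : Submodule A M))).toNat =
        (Module.length A (M ⧸ Ring.jacobson A ^ (N₀ + 1) • (⊤ : Submodule A M))).toNat := by
      exact_mod_cast heq
    have h3 : Module.length A (M ⧸ Ring.jacobson A ^ N₀ • (⊤ : Submodule A M)) =
        Module.length A (M ⧸ Ring.jacobson A ^ (N₀ + 1) • (⊤ : Submodule A M)) := by
      rw [← ENat.natCast_toNat hfin0, ← ENat.natCast_toNat hfin1, heq']
    rw [← h3] at hlen
    exact enat_eq_zero_of_eq_add hfin0 hlen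
  rw [Module.length_eq_zero_iff, Submodule.subsingleton_iff_eq_bot,
    ← LinearMap.le_ker_iff_map, Submodule.ker_mkQ] at hz
  have hbot : Ring.jacobson A ^ N₀ • (⊤ : Submodule A M) = ⊥ := by
    apply Submodule.eq_bot_of_le_smul_of_le_jacobson_bot (Ring.jacobson A) _
      (IsNoetherian.noetherian _) _ Ideal.ringJacobson_le_jacobson
    rwa [pow_succ', Submodule.mul_smul] at hz
  have hfl : IsFiniteLength A M :=
    (Submodule.quotEquivOfEqBot _ hbot).isFiniteLength (isFiniteLength_quot_jacobson_pow A M N₀)
  exact DimParam.supportDim_le_zero_of_isFiniteLength hfl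

/-- `dim M ≤ d(M)`. -/
theorem supportDim_le_of_natDegree_le (e : ℕ) :
    ∀ (M : Type u) [AddCommGroup M] [Module A M] [Module.Finite A M] (P : ℚ[X]),
      IsHS A M P → P.natDegree ≤ e → supportDim A M ≤ e := by
  induction e with
  | zero =>
    intro M _ _ _ P hP hd
    simpa using supportDim_le_zero_of_natDegree_eq_zero hP (Nat.le_zero.mp hd)
  | succ e ih =>
    intro M _ _ _ P hP hd
    unfold Module.supportDim Order.krullDim
    apply iSup_le
    intro q
    -- a minimal prime below the head of the chain
    have hq0 : Module.annihilator A M ≤ q.head.1.asIdeal :=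
      Module.mem_support_iff_of_finite.mp q.head.2
    obtain ⟨p₀, hp₀min, hp₀le⟩ := Ideal.exists_minimalPrimes_le hq0
    have hass : p₀ ∈ associatedPrimes A M :=
      Module.associatedPrimes.minimalPrimes_annihilator_subset_associatedPrimes A M hp₀min
    obtain ⟨hprime, m, hm⟩ := isAssociatedPrime_iff.mp hass
    have hmem : ∀ a, a ∈ p₀ ↔ a • m = 0 := by
      intro a
      rw [hm, Submodule.mem_colon_singleton, Submodule.mem_bot]
    set N : Submodule A M := Submodule.span A {m} with hN
    have hsupp : ∀ i, (q i).1 ∈ Module.support A ↥N := by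
      intro i
      rw [Module.mem_support_iff_of_finite]
      intro a ha
      have h1 : a • (⟨m, Submodule.mem_span_singleton_self m⟩ : ↥N) = 0 :=
        Module.mem_annihilator.mp ha _
      have h2 : a • m = 0 := congrArg Subtype.val h1
      have h3 : q.head ≤ q i := LTSeries.head_le q i
      exact h3 (hp₀le ((hmem a).mpr h2))
    let q' : LTSeries (Module.support A ↥N) :=
      { length := q.length
        toFun := fun i => ⟨(q i).1, hsupp i⟩
        step := fun i => q.step i }
    have hle : (q.length : WithBot ℕ∞) ≤ supportDim A ↥N := Order.LTSeries.length_le_krullDim q'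
    refine hle.trans ?_
    obtain ⟨PN, hPN⟩ := exists_isHS A ↥N
    have hdN : PN.natDegree ≤ e + 1 := (natDegree_le_of_submodule N hP hPN).trans hd
    by_cases hr : Ring.jacobson A ≤ p₀
    · have hbot : Ring.jacobson A • (⊤ : Submodule A ↥N) = ⊥ := by
        rw [eq_bot_iff, Submodule.smul_le]
        intro a ha y _
        obtain ⟨b, hb⟩ := Submodule.mem_span_singleton.mp y.2
        rw [Submodule.mem_bot]
        apply Subtype.ext
        rw [Submodule.coe_smul, ← hb, smul_comm, (hmem a).mp (hr ha), smul_zero]
        rfl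
      have hfl1 : IsFiniteLength A (↥N ⧸ Ring.jacobson A • (⊤ : Submodule A ↥N)) := by
        have := isFiniteLength_quot_jacobson_pow A ↥N 1
        rwa [pow_one] at this
      have hfl : IsFiniteLength A ↥N := (Submodule.quotEquivOfEqBot _ hbot).isFiniteLength hfl1
      refine (DimParam.supportDim_le_zero_of_isFiniteLength hfl).trans ?_
      exact_mod_cast Nat.zero_le (e + 1)
    · obtain ⟨x, hxr, hxp⟩ := SetLike.not_le_iff_exists.mp hr
      have hreg : Function.Injective (fun y : ↥N => x • y) := by
        intro y z hyz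
        have hw : x • (y - z) = 0 := by
          rw [smul_sub]
          exact sub_eq_zero.mpr hyz
        obtain ⟨b, hb⟩ := Submodule.mem_span_singleton.mp (y - z).2
        have h1 : (x * b) • m = 0 := by
          rw [mul_smul, hb]
          have := congrArg Subtype.val hw
          simpa using this
        have h2 : b ∈ p₀ := (hprime.mem_or_mem ((hmem _).mpr h1)).resolve_left hxp
        have h3 : ((y - z : ↥N) : M) = 0 := by rw [← hb]; exact (hmem b).mp h2
        exact sub_eq_zero.mp (Subtype.ext h3)
      obtain ⟨PQ, hPQ⟩ := exists_isHS A (QuotSMulTop x ↥N)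
      have hdQ : PQ.natDegree ≤ e := (natDegree_quot_regular_le hreg hPN hPQ).trans (by omega)
      have h1 := ih (QuotSMulTop x ↥N) PQ hPQ hdQ
      have h2 : supportDim A ↥N ≤ supportDim A (QuotSMulTop x ↥N) + 1 :=
        supportDim_le_supportDim_quotSMulTop_succ_of_mem_jacobson
          (Ideal.ringJacobson_le_jacobson hxr)
      calc supportDim A ↥N ≤ supportDim A (QuotSMulTop x ↥N) + 1 := h2
        _ ≤ (e : WithBot ℕ∞) + 1 := by gcongr
        _ = ((e + 1 : ℕ) : WithBot ℕ∞) := by push_cast; rfl

/-- **Hilbert–Samuel**: the degree of the Hilbert–Samuel polynomial is the dimension. -/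
theorem exists_hilbertSamuel (M : Type u) [AddCommGroup M] [Module A M] [Module.Finite A M]
    [Nontrivial M] :
    ∃ P : ℚ[X], IsHS A M P ∧ (P.natDegree : WithBot ℕ∞) = supportDim A M := by
  obtain ⟨P, hP⟩ := exists_isHS A M
  refine ⟨P, hP, ?_⟩
  have hlow := supportDim_le_of_natDegree_le P.natDegree M P hP le_rfl
  rcases DimParam.withBot_enat_cases (supportDim A M) with hb | ht | ⟨d, hd⟩
  · exact absurd hb (supportDim_ne_bot_of_nontrivial A M)
  · exfalso
    rw [ht, top_le_iff] at hlow
    have h' : (((P.natDegree : ℕ) : ℕ∞) : WithBot ℕ∞) = ((⊤ : ℕ∞) : WithBot ℕ∞) := hlow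
    exact absurd (WithBot.coe_injective h') (ENat.natCast_ne_top _)
  · rw [hd] at hlow ⊢
    have h1 : d ≤ P.natDegree := by exact_mod_cast hlow
    obtain ⟨n, hn, x, hx, hfl⟩ := DimParam.exists_params (A := A) d (M := M) hd.le
    have h2 := natDegree_le_of_params x hx hfl hP
    have : P.natDegree = d := by omega
    rw [this]

end Groth.Agent.Lib.Helper90.SamuelDim
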