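import Mathlib
import Groth.Agent.Lib.Helper90.Assoc
import Groth.Agent.Lib.Helper90.SamuelDim
import Groth.Agent.Lib.Helper90.PolyLim
import Groth.Agent.S12211

namespace Groth.Agent.Lib.Helper90.Assoc

open Module IsLocalRing Filter Topology Polynomial
open Groth.Agent.Lib.Helper90 GrMod HSPoly Samuel

universe u

variable {A : Type u} [CommRing A] [IsNoetherianRing A] [IsLocalRing A]

/-- the normalized Samuel function. -/
noncomputable def sam (I : Ideal A) (N : Type u) [AddCommGroup N] [Module A N] (d : ℕ) : ℕ → ℝ :=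
  fun t => (d.factorial : ℝ) *
    ((Module.length A (N ⧸ (I ^ t • (⊤ : Submodule A N)))).toNat : ℝ) / (t : ℝ) ^ d

/-- `e_I(N, d'+1) = 0` when `dim N ≤ d'`. -/
theorem tendsto_sam_zero (I : Ideal A) {n₀ : ℕ} (hn₀ : maximalIdeal A ^ n₀ ≤ I)
    (N : Type u) [AddCommGroup N] [Module A N] [Module.Finite A N] (d' : ℕ)
    (hdim : supportDim A N ≤ d') :
    Tendsto (sam I N (d' + 1)) atTop (𝓝 0) := by
  obtain ⟨P, hP⟩ := exists_isHS A N
  obtain ⟨n, hn, x, hx, hfl⟩ := DimParam.exists_params (A := A) d' (M := N) hdim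
  have hdeg : P.natDegree ≤ d' := (natDegree_le_of_params x hx hfl hP).trans hn
  obtain ⟨N₁, hN₁⟩ := hP
  set c : ℕ := n₀ + 1 with hc
  set P' : ℚ[X] := P.comp (C (c : ℚ) * X) with hP'
  have hcq : (c : ℚ) ≠ 0 := by positivity
  have hdeg' : P'.degree < ((d' + 1 : ℕ) : WithBot ℕ) := by
    refine lt_of_le_of_lt degree_le_natDegree ?_
    rw [hP', natDegree_comp, natDegree_C_mul_X _ hcq, mul_one]
    exact_mod_cast Nat.lt_succ_of_le hdeg
  have hlim := (PolyLim.tendsto_eval_div_pow_zero P' (d' + 1) hdeg').const_mul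
    (((d' + 1).factorial : ℕ) : ℝ)
  rw [mul_zero] at hlim
  have hJ : Ring.jacobson A = maximalIdeal A := IsLocalRing.ringJacobson_eq_maximalIdeal A
  have hle : ∀ t : ℕ, Ring.jacobson A ^ (c * t) ≤ I ^ t := by
    intro t
    rw [hJ, pow_mul]
    exact Ideal.pow_right_mono ((Ideal.pow_le_pow_right (Nat.le_succ n₀)).trans hn₀) t
  refine tendsto_of_tendsto_of_tendsto_of_le_of_le' tendsto_const_nhds hlim
    (Filter.Eventually.of_forall fun t => ?_) ((Filter.eventually_ge_atTop N₁).mono fun t ht => ?_)
  · simp only [sam]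
    positivity
  · simp only [sam]
    rw [mul_div_assoc]
    apply mul_le_mul_of_nonneg_left _ (by positivity)
    apply div_le_div_of_nonneg_right _ (by positivity)
    have hsub : Ring.jacobson A ^ (c * t) • (⊤ : Submodule A N) ≤ I ^ t • (⊤ : Submodule A N) :=
      Submodule.smul_mono_left (hle t)
    have h3 := Module.length_le_of_surjective (Submodule.factor hsub)
      (Submodule.factor_surjective hsub)
    have h4 := ENat.toNat_le_toNat h3 (length_quot_jacobson_pow_ne_top A N (c * t))
    have hct : N₁ ≤ c * t := le_trans ht (Nat.le_mul_of_pos_left t (Nat.succ_pos n₀))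
    have h5 := hN₁ (c * t) hct
    simp only [samuelFn] at h5
    have h6 : ((P'.eval (t : ℚ) : ℚ) : ℝ) =
        ((Module.length A (N ⧸ Ring.jacobson A ^ (c * t) • (⊤ : Submodule A N))).toNat : ℝ) := by
      rw [hP', eval_comp, eval_mul, eval_C, eval_X, ← Nat.cast_mul, ← h5]
      push_cast
      rfl
    rw [h6]
    exact_mod_cast h4

/-- the weighted sum of the multiplicities over the primes of dimension `d`. -/
noncomputable def tot (d : ℕ) (e : PrimeSpectrum A → ℝ) (N : Type u) [AddCommGroup N]
    [Module A N] : ℝ :=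
  ∑ᶠ (p : PrimeSpectrum A) (_ : ringKrullDim (A ⧸ p.asIdeal) = d),
    ((locLen N p).toNat : ℝ) * e p

omit [IsNoetherianRing A] [IsLocalRing A] in
lemma term_eq (d : ℕ) (e : PrimeSpectrum A → ℝ) (N : Type u) [AddCommGroup N] [Module A N]
    (p : PrimeSpectrum A) [Decidable (ringKrullDim (A ⧸ p.asIdeal) = d)] :
    (∑ᶠ (_ : ringKrullDim (A ⧸ p.asIdeal) = d), ((locLen N p).toNat : ℝ) * e p) =
      if ringKrullDim (A ⧸ p.asIdeal) = d then ((locLen N p).toNat : ℝ) * e p else 0 :=
  finsum_eq_if

omit [IsLocalRing A] in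
lemma finite_support_term (d : ℕ) (e : PrimeSpectrum A → ℝ) (N : Type u) [AddCommGroup N]
    [Module A N] [Module.Finite A N] (hdim : supportDim A N ≤ d) :
    (Function.support fun p : PrimeSpectrum A =>
      ∑ᶠ (_ : ringKrullDim (A ⧸ p.asIdeal) = d), ((locLen N p).toNat : ℝ) * e p).Finite := by
  classical
  have hfin : {p : PrimeSpectrum A | p.asIdeal ∈ (Module.annihilator A N).minimalPrimes}.Finite :=
    (Ideal.finite_minimalPrimes_of_isNoetherianRing A _).preimage
      (fun p _ q _ h => PrimeSpectrum.ext h)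
  refine hfin.subset fun p hp => ?_
  rw [Function.mem_support, term_eq] at hp
  split_ifs at hp with hpd
  · have hμ : (locLen N p).toNat ≠ 0 := fun h => hp (by rw [h]; simp)
    have hloc : locLen N p ≠ 0 := fun h => hμ (by rw [h]; rfl)
    have hsupp := (locLen_ne_zero_iff N).mp hloc
    have hann : Module.annihilator A N ≤ p.asIdeal := Module.mem_support_iff_of_finite.mp hsupp
    obtain ⟨q₀, hq₀, hq₀p⟩ := Ideal.exists_minimalPrimes_le hann
    rcases eq_or_lt_of_le hq₀p with h | h
    · show p.asIdeal ∈ (Module.annihilator A N).minimalPrimes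
      rw [← h]
      exact hq₀
    · exfalso
      have := hq₀.1.1
      have h1 := ringKrullDim_quotient_succ_le_of_lt h
      have h2 := ringKrullDim_quotient_le_supportDim N hq₀.1.2
      rw [hpd] at h1
      have h3 : ((d + 1 : ℕ) : WithBot ℕ∞) ≤ (d : WithBot ℕ∞) := by
        push_cast
        exact h1.trans (h2.trans hdim)
      have : d + 1 ≤ d := by exact_mod_cast h3
      omega
  · exact absurd rfl hp

omit [IsNoetherianRing A] [IsLocalRing A] in
lemma sam_congr (I : Ideal A) {N N' : Type u} [AddCommGroup N] [Module A N] [AddCommGroup N']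
    [Module A N'] (f : N ≃ₗ[A] N') (d : ℕ) : sam I N d = sam I N' d := by
  funext t
  simp only [sam]
  rw [length_quot_pow_congr I f t]

omit [IsNoetherianRing A] [IsLocalRing A] in
lemma tot_congr (d : ℕ) (e : PrimeSpectrum A → ℝ) {N N' : Type u} [AddCommGroup N] [Module A N]
    [AddCommGroup N'] [Module A N'] (f : N ≃ₗ[A] N') : tot d e N = tot d e N' := by
  simp only [tot]
  congr 1
  funext p
  rw [locLen_congr p f]

/-- the case of a prime quotient. -/
theorem assoc_quotient (I : Ideal A) (hI : ∃ n : ℕ, maximalIdeal A ^ n ≤ I) (d : ℕ)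
    (e : PrimeSpectrum A → ℝ)
    (he : ∀ p : PrimeSpectrum A, ringKrullDim (A ⧸ p.asIdeal) = d →
      Tendsto (sam I (A ⧸ p.asIdeal) d) atTop (𝓝 (e p)))
    (q : PrimeSpectrum A) (hdim : ringKrullDim (A ⧸ q.asIdeal) ≤ d) :
    (∀ p : PrimeSpectrum A, ringKrullDim (A ⧸ p.asIdeal) = d → locLen (A ⧸ q.asIdeal) p ≠ ⊤) ∧
      Tendsto (sam I (A ⧸ q.asIdeal) d) atTop (𝓝 (tot d e (A ⧸ q.asIdeal))) := by
  classical
  -- the only prime of dimension `d` in the support is `q` itself
  have hkey : ∀ p : PrimeSpectrum A, ringKrullDim (A ⧸ p.asIdeal) = d → p ≠ q →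
      locLen (A ⧸ q.asIdeal) p = 0 := by
    intro p hp hpq
    apply locLen_quotient_of_not_le
    intro hle
    rcases eq_or_lt_of_le hle with h | h
    · exact hpq (PrimeSpectrum.ext h.symm)
    · have h1 := ringKrullDim_quotient_succ_le_of_lt h
      rw [hp] at h1
      have h3 : ((d + 1 : ℕ) : WithBot ℕ∞) ≤ (d : WithBot ℕ∞) := by
        push_cast
        exact h1.trans hdim
      have : d + 1 ≤ d := by exact_mod_cast h3
      omega
  refine ⟨fun p hp => ?_, ?_⟩
  · by_cases hpq : p = q
    · rw [hpq, locLen_quotient_self]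
      exact ENat.one_ne_top
    · rw [hkey p hp hpq]
      exact ENat.zero_ne_top
  · have htot : tot d e (A ⧸ q.asIdeal) =
        if ringKrullDim (A ⧸ q.asIdeal) = d then e q else 0 := by
      simp only [tot]
      rw [finsum_eq_single _ q]
      · rw [term_eq, locLen_quotient_self]
        simp
      · intro p hpq
        rw [term_eq]
        split_ifs with hp
        · rw [hkey p hp hpq]
          simp
        · rfl
    rw [htot]
    split_ifs with hq
    · exact he q hq
    · -- dimension drops: the limit is zero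
      have hlt : ringKrullDim (A ⧸ q.asIdeal) < d := lt_of_le_of_ne hdim hq
      have hnn : (0 : WithBot ℕ∞) ≤ ringKrullDim (A ⧸ q.asIdeal) := ringKrullDim_nonneg_of_nontrivial
      obtain ⟨d', rfl⟩ : ∃ d', d = d' + 1 := by
        rcases Nat.eq_zero_or_pos d with h0 | hpos
        · exfalso
          rw [h0] at hlt
          exact absurd hnn (not_le.mpr (by exact_mod_cast hlt))
        · exact ⟨d - 1, by omega⟩
      have hle' : ringKrullDim (A ⧸ q.asIdeal) ≤ d' := by
        rcases DimParam.withBot_enat_cases (ringKrullDim (A ⧸ q.asIdeal)) with hb | ht | ⟨k, hk⟩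
        · rw [hb]; exact bot_le
        · rw [ht] at hlt
          exact absurd hlt (not_lt.mpr le_top)
        · rw [hk] at hlt ⊢
          have : k < d' + 1 := by exact_mod_cast hlt
          exact_mod_cast Nat.lt_succ_iff.mp this
      obtain ⟨n₀, hn₀⟩ := hI
      apply tendsto_sam_zero I hn₀ (A ⧸ q.asIdeal) d'
      rw [Module.supportDim_quotient_eq_ringKrullDim]
      exact hle'

/-- **Associativity formula** for Samuel multiplicities. -/
theorem assoc (I : Ideal A) (hI : I ≤ maximalIdeal A ∧ ∃ n : ℕ, maximalIdeal A ^ n ≤ I) (d : ℕ)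
    (e : PrimeSpectrum A → ℝ)
    (he : ∀ p : PrimeSpectrum A, ringKrullDim (A ⧸ p.asIdeal) = d →
      Tendsto (sam I (A ⧸ p.asIdeal) d) atTop (𝓝 (e p)))
    (M : Type u) [AddCommGroup M] [Module A M] [hM : Module.Finite A M] :
    supportDim A M ≤ d →
      (∀ p : PrimeSpectrum A, ringKrullDim (A ⧸ p.asIdeal) = d → locLen M p ≠ ⊤) ∧
        Tendsto (sam I M d) atTop (𝓝 (tot d e M)) := by
  classical
  induction hM using IsNoetherianRing.induction_on_isQuotientEquivQuotientPrime A with
  | subsingleton N =>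
    intro _
    have hloc : ∀ p : PrimeSpectrum A, locLen N p = 0 := fun p =>
      locLen_eq_zero_of_notMem_support N (by rw [Module.support_eq_empty]; exact Set.notMem_empty p)
    refine ⟨fun p _ => by rw [hloc p]; exact ENat.zero_ne_top, ?_⟩
    have htot : tot d e N = 0 := by
      simp only [tot]
      apply finsum_eq_zero_of_forall_eq_zero
      intro p
      rw [term_eq, hloc p]
      simp
    have hsam : sam I N d = fun _ => 0 := by
      funext t
      simp only [sam]
      have : Module.length A (N ⧸ (I ^ t • (⊤ : Submodule A N))) = 0 :=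
        Module.length_eq_zero_iff.mpr inferInstance
      rw [this]
      simp
    rw [htot, hsam]
    exact tendsto_const_nhds
  | quotient N q f =>
    intro hdim
    rw [Module.supportDim_eq_of_equiv f, Module.supportDim_quotient_eq_ringKrullDim] at hdim
    obtain ⟨h1, h2⟩ := assoc_quotient I hI.2 d e he q hdim
    refine ⟨fun p hp => by rw [locLen_congr p f]; exact h1 p hp, ?_⟩
    rw [sam_congr I f d, tot_congr d e f]
    exact h2
  | exact N₁ N₂ N₃ f g hf hg hfg h₁ h₃ =>
    intro hdim
    have hd₁ : supportDim A N₁ ≤ d := (Module.supportDim_le_of_injective f hf).trans hdim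
    have hd₃ : supportDim A N₃ ≤ d := (Module.supportDim_le_of_surjective g hg).trans hdim
    obtain ⟨hf₁, ht₁⟩ := h₁ hd₁
    obtain ⟨hf₃, ht₃⟩ := h₃ hd₃
    have hadd : ∀ p : PrimeSpectrum A, locLen N₂ p = locLen N₁ p + locLen N₃ p :=
      fun p => locLen_exact p f g hf hg hfg
    refine ⟨fun p hp => ?_, ?_⟩
    · rw [hadd p]
      exact WithTop.add_ne_top.mpr ⟨hf₁ p hp, hf₃ p hp⟩
    · have htot : tot d e N₂ = tot d e N₁ + tot d e N₃ := by
        simp only [tot]
        rw [← finsum_add_distrib (finite_support_term d e N₁ hd₁) (finite_support_term d e N₃ hd₃)]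
        congr 1
        funext p
        rw [term_eq, term_eq, term_eq]
        split_ifs with hp
        · rw [hadd p, ENat.toNat_add (hf₁ p hp) (hf₃ p hp)]
          push_cast
          ring
        · rw [add_zero]
      rw [htot]
      have hfg' : LinearMap.range f = LinearMap.ker g := (LinearMap.exact_iff.mp hfg).symm
      exact Groth.Agent.S12211.result A I hI f g hf hg hfg' d hdim _ _ ht₁ ht₃

end Groth.Agent.Lib.Helper90.Assoc
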