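import Mathlib
import Groth.Agent.Lib.Helper90.SamuelDim

namespace Groth.Agent.Lib.Helper90.SamuelLocal

open Module HilbPoly GrMod HSPoly Samuel SamuelDim Polynomial IsLocalRing

universe u

variable (A : Type u) [CommRing A] [IsLocalRing A]

lemma jacobson_pow_smul_top (n : ℕ) :
    (Ring.jacobson A ^ n • (⊤ : Submodule A A)) = maximalIdeal A ^ n := by
  rw [IsLocalRing.ringJacobson_eq_maximalIdeal, smul_eq_mul, Ideal.mul_top]

lemma samuelFn_eq (n : ℕ) :
    samuelFn (Ring.jacobson A) A n = ((Module.length A (A ⧸ maximalIdeal A ^ n)).toNat : ℤ) := by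
  simp only [samuelFn]
  rw [jacobson_pow_smul_top]

variable [IsNoetherianRing A]

/-- any polynomial computing `ℓ(A/m^n)` for large `n` has degree `dim A`. -/
theorem natDegree_eq_ringKrullDim {Q : ℚ[X]} (N : ℕ)
    (hQ : ∀ n, N ≤ n → ((Module.length A (A ⧸ maximalIdeal A ^ n)).toNat : ℚ) = Q.eval (n : ℚ)) :
    (Q.natDegree : WithBot ℕ∞) = ringKrullDim A := by
  obtain ⟨P, ⟨N', hN'⟩, hdeg⟩ := exists_hilbertSamuel (A := A) A
  rw [← Module.supportDim_self_eq_ringKrullDim, ← hdeg]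
  have hPQ : ∀ n, max N N' ≤ n → P.eval (n : ℚ) = Q.eval (n : ℚ) := by
    intro n hn
    rw [← hN' n (by omega), ← hQ n (by omega), samuelFn_eq]
    push_cast
    rfl
  have hnn : ∀ n, max N N' ≤ n → 0 ≤ P.eval (n : ℚ) := by
    intro n hn
    rw [← hN' n (by omega)]
    exact_mod_cast samuelFn_nonneg _ _
  have h1 : P.natDegree ≤ Q.natDegree :=
    natDegree_le_of_eventually_le (max N N') hnn (fun n hn => (hPQ n hn).le)
  have h2 : Q.natDegree ≤ P.natDegree :=
    natDegree_le_of_eventually_le (max N N') (fun n hn => (hPQ n hn) ▸ hnn n hn)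
      (fun n hn => (hPQ n hn).ge)
  rw [le_antisymm h2 h1]

end Groth.Agent.Lib.Helper90.SamuelLocal
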