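import Mathlib
import Groth.Agent.Lib.Helper90.Assoc2
import Groth.Agent.Lib.Helper90.SamuelLocal

/-!
# General lemmas: lengths of localized quotients, limits of normalized Samuel functions
-/

namespace Groth.Agent.Lib.Helper90.GradedLocal

open Module IsLocalRing Filter Topology

universe u

section LocLen

open Assoc

variable {A : Type u} [CommRing A]

/-- `(A/K)_p` has the length of `A_p/KA_p`. -/
lemma locLen_quotient (K : Ideal A) (p : PrimeSpectrum A) :
    locLen (A ⧸ K) p = Module.length (Localization.AtPrime p.asIdeal)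
      (Localization.AtPrime p.asIdeal ⧸ K.map (algebraMap A (Localization.AtPrime p.asIdeal))) := by
  set P := p.asIdeal with hP
  let f₀ : A →ₗ[A] Localization.AtPrime P := Algebra.linearMap A (Localization.AtPrime P)
  let q := Submodule.toLocalizedQuotient' (Localization.AtPrime P) P.primeCompl f₀ K
  have hq : IsLocalizedModule P.primeCompl q := inferInstance
  let e₁ := IsLocalizedModule.linearEquiv P.primeCompl
    (LocalizedModule.mkLinearMap P.primeCompl (A ⧸ K)) q
  let e₂ := LinearEquiv.extendScalarsOfIsLocalization P.primeCompl (Localization.AtPrime P) e₁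
  have h : Submodule.localized' (Localization.AtPrime P) P.primeCompl f₀ K =
      K.map (algebraMap A (Localization.AtPrime P)) := by
    rw [Ideal.localized'_eq_map]
  have e₃ := e₂.trans (Submodule.quotEquivOfEq _ _ h)
  rw [locLen, e₃.length_eq]

/-- lengths of cyclic modules are invariant under ring isomorphisms. -/
lemma length_quot_ringEquiv {B B' : Type*} [CommRing B] [CommRing B'] (e : B ≃+* B')
    (K : Ideal B) (K' : Ideal B') (h : K' = K.map (e : B →+* B')) :
    Module.length B (B ⧸ K) = Module.length B' (B' ⧸ K') := by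
  subst h
  let ē := Ideal.quotientEquiv K (K.map (e : B →+* B')) e rfl
  haveI : RingHomSurjective (e : B →+* B') := ⟨e.surjective⟩
  let f : (B ⧸ K) →ₛₗ[(e : B →+* B')] (B' ⧸ K.map (e : B →+* B')) :=
    { toFun := ē
      map_add' := map_add ē
      map_smul' := fun b x => by
        obtain ⟨x, rfl⟩ := Ideal.Quotient.mk_surjective x
        change ē (b • Ideal.Quotient.mk K x) = (e b) • ē (Ideal.Quotient.mk K x)
        have h1 : b • Ideal.Quotient.mk K x = Ideal.Quotient.mk K (b * x) := rfl
        rw [h1, Ideal.quotientEquiv_mk, Ideal.quotientEquiv_mk, map_mul]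
        rfl }
  apply WithBot.coe_injective
  rw [Module.coe_length, Module.coe_length]
  exact Order.krullDim_eq_of_orderIso (Submodule.orderIsoMapComapOfBijective f ē.bijective)

lemma length_congr_prime {R : Type u} [CommRing R] (N : Type u) [AddCommGroup N] [Module R N]
    (q p : Ideal R) [q.IsPrime] [p.IsPrime] (h : q = p) :
    Module.length (Localization.AtPrime q) (LocalizedModule q.primeCompl N) =
      Module.length (Localization.AtPrime p) (LocalizedModule p.primeCompl N) := by
  subst h
  rfl

/-- localizing a quotient of a localization at a prime. -/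
theorem locLen_map_quotient {R : Type u} [CommRing R] (M₀ : Submonoid R) (K : Ideal R)
    (𝔭 : PrimeSpectrum (Localization M₀)) :
    locLen (Localization M₀ ⧸ K.map (algebraMap R (Localization M₀))) 𝔭 =
      Module.length (Localization.AtPrime (𝔭.asIdeal.comap (algebraMap R (Localization M₀))))
        (LocalizedModule (𝔭.asIdeal.comap (algebraMap R (Localization M₀))).primeCompl (R ⧸ K)) := by
  rw [locLen_quotient]
  have h2 := locLen_quotient K
    (⟨𝔭.asIdeal.comap (algebraMap R (Localization M₀)), inferInstance⟩ : PrimeSpectrum R)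
  rw [locLen] at h2
  rw [h2]
  symm
  apply length_quot_ringEquiv
    (IsLocalization.localizationLocalizationAtPrimeIsoLocalization M₀ 𝔭.asIdeal).toRingEquiv
  rw [Ideal.map_map, Ideal.map_map]
  congr 1
  ext x
  simp only [RingHom.coe_comp, Function.comp_apply]
  rw [← IsScalarTower.algebraMap_apply]
  exact ((IsLocalization.localizationLocalizationAtPrimeIsoLocalization M₀
    𝔭.asIdeal).commutes x).symm

end LocLen

section Limits

open Assoc Samuel GrMod

variable {A : Type u} [CommRing A] [IsNoetherianRing A] [IsLocalRing A]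

/-- the normalized Samuel function converges to `d!` times the leading coefficient of the
Hilbert–Samuel polynomial when the latter has degree `d`. -/
lemma tendsto_sam_of_isHS (N : Type u) [AddCommGroup N] [Module A N] (Q : Polynomial ℚ)
    (hQ : IsHS A N Q) (d : ℕ) (hd : Q.natDegree = d) :
    Tendsto (sam (maximalIdeal A) N d) atTop
      (𝓝 ((d.factorial : ℝ) * ((Q.leadingCoeff : ℚ) : ℝ))) := by
  obtain ⟨N₀, hN₀⟩ := hQ
  have hev : ∀ t : ℕ, N₀ ≤ t →
      sam (maximalIdeal A) N d t = (d.factorial : ℝ) * (((Q.eval (t : ℚ) : ℚ) : ℝ) / (t : ℝ) ^ d) := by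
    intro t ht
    have h1 := hN₀ t ht
    simp only [samuelFn] at h1
    rw [IsLocalRing.ringJacobson_eq_maximalIdeal] at h1
    simp only [sam]
    rw [← h1, mul_div_assoc]
    push_cast
    rfl
  have hlim : Tendsto (fun t : ℕ => (d.factorial : ℝ) *
      (((Q.eval (t : ℚ) : ℚ) : ℝ) / (t : ℝ) ^ d)) atTop
      (𝓝 ((d.factorial : ℝ) * ((Q.leadingCoeff : ℚ) : ℝ))) := by
    apply Tendsto.const_mul
    by_cases hQ0 : Q = 0
    · subst hQ0
      simp only [Polynomial.eval_zero, Rat.cast_zero, zero_div, Polynomial.leadingCoeff_zero]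
      exact tendsto_const_nhds
    · apply PolyLim.tendsto_eval_div_pow_leadingCoeff Q d
      rw [Polynomial.degree_eq_natDegree hQ0, hd]
  refine hlim.congr' ?_
  filter_upwards [Filter.eventually_ge_atTop N₀] with t ht
  exact (hev t ht).symm

/-- the limit of the normalized Samuel function of a prime quotient of dimension `d` exists. -/
lemma exists_tendsto_sam_quotient (p : PrimeSpectrum A) (d : ℕ)
    (hd : ringKrullDim (A ⧸ p.asIdeal) = d) :
    ∃ l : ℝ, Tendsto (sam (maximalIdeal A) (A ⧸ p.asIdeal) d) atTop (𝓝 l) := by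
  haveI : Nontrivial (A ⧸ p.asIdeal) := Ideal.Quotient.nontrivial_iff.mpr p.isPrime.ne_top
  obtain ⟨Q, hQ, hdeg⟩ := SamuelDim.exists_hilbertSamuel (A := A) (A ⧸ p.asIdeal)
  rw [Module.supportDim_quotient_eq_ringKrullDim, hd] at hdeg
  have hd' : Q.natDegree = d := by exact_mod_cast hdeg
  exact ⟨_, tendsto_sam_of_isHS (A ⧸ p.asIdeal) Q hQ d hd'⟩

/-- the multiplicity function on primes. -/
noncomputable def mult (A : Type u) [CommRing A] [IsLocalRing A] (d : ℕ) (p : PrimeSpectrum A) : ℝ :=
  open Classical in
  if h : ∃ l : ℝ, Tendsto (sam (maximalIdeal A) (A ⧸ p.asIdeal) d) atTop (𝓝 l) then h.choose else 0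

lemma tendsto_mult (d : ℕ) (p : PrimeSpectrum A) (hd : ringKrullDim (A ⧸ p.asIdeal) = d) :
    Tendsto (sam (maximalIdeal A) (A ⧸ p.asIdeal) d) atTop (𝓝 (mult A d p)) := by
  have h := exists_tendsto_sam_quotient p d hd
  rw [mult, dif_pos h]
  exact h.choose_spec

/-- associativity formula with the canonical multiplicity function. -/
theorem assoc_mult (d : ℕ) (M : Type u) [AddCommGroup M] [Module A M] [Module.Finite A M]
    (hdim : supportDim A M ≤ d) :
    Tendsto (sam (maximalIdeal A) M d) atTop (𝓝 (tot d (mult A d) M)) :=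
  (assoc (maximalIdeal A) ⟨le_rfl, 1, by rw [pow_one]⟩ d (mult A d)
    (fun p hp => tendsto_mult d p hp) M hdim).2

end Limits

end Groth.Agent.Lib.Helper90.GradedLocal
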