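import Mathlib
import Groth.Agent.Lib.Helper8.ResOfExact
import Groth.Prelude.Def_DRing2

/-!
# Tor via explicit resolutions, in linear-algebra terms (helper90)
-/

set_option autoImplicit false
universe u

open CategoryTheory CategoryTheory.Limits MonoidalCategory TensorProduct

namespace Groth.Agent.Lib.Helper90.TorLin

open Groth.Agent.Lib.Helper8.ResOfExact

variable {R : Type u} [CommRing R]

/-- concrete homology of a pair of composable linear maps -/
abbrev Hm {Y₂ Y₁ Y₀ : Type u} [AddCommGroup Y₂] [Module R Y₂] [AddCommGroup Y₁] [Module R Y₁]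
    [AddCommGroup Y₀] [Module R Y₀] (f : Y₂ →ₗ[R] Y₁) (g : Y₁ →ₗ[R] Y₀) (h : g ∘ₗ f = 0) : Type u :=
  LinearMap.ker g ⧸ LinearMap.range (f.codRestrict (LinearMap.ker g)
    (fun x => LinearMap.congr_fun h x))

section

variable (N : Type u) [AddCommGroup N] [Module R N]
variable (X : ℕ → Type u) [∀ n, AddCommGroup (X n)] [∀ n, Module R (X n)]
  (d : ∀ n, X (n + 1) →ₗ[R] X n) (hd : ∀ n, (d n).comp (d (n + 1)) = 0)

include hd in
lemma lTensor_comp_eq_zero (n : ℕ) :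
    ((d n).lTensor N).comp ((d (n + 1)).lTensor N) = 0 := by
  rw [← LinearMap.lTensor_comp, hd n, LinearMap.lTensor_zero]

/-- the complex `N ⊗ X` -/
noncomputable abbrev tcx : ChainComplex (ModuleCat.{u} R) ℕ :=
  ((tensorLeft (ModuleCat.of R N)).mapHomologicalComplex (ComplexShape.down ℕ)).obj (cx X d hd)

lemma tcx_d (m : ℕ) : (tcx N X d hd).d (m + 1) m = ModuleCat.ofHom ((d m).lTensor N) := by
  change (tensorLeft (ModuleCat.of R N)).map ((cx X d hd).d (m + 1) m) = _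
  rw [cx_d]
  rfl

theorem tcx_homology_succ (n : ℕ) :
    Nonempty ((tcx N X d hd).homology (n + 1) ≃ₗ[R]
      Hm ((d (n + 1)).lTensor N) ((d n).lTensor N) (lTensor_comp_eq_zero N X d hd n)) := by
  set C := tcx N X d hd with hC
  have e₁ := C.homologyIsoSc' (n + 1 + 1) (n + 1) n (by simp) (by simp)
  let T : ShortComplex (ModuleCat.{u} R) :=
    ShortComplex.moduleCatMk ((d (n + 1)).lTensor N) ((d n).lTensor N)
      (lTensor_comp_eq_zero N X d hd n)
  let e₃ : C.sc' (n + 1 + 1) (n + 1) n ≅ T :=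
    ShortComplex.isoMk (Iso.refl _) (Iso.refl _) (Iso.refl _) (by
      change 𝟙 _ ≫ T.f = C.d (n + 1 + 1) (n + 1) ≫ 𝟙 _
      rw [Category.id_comp, Category.comp_id, tcx_d N X d hd (n + 1)]
      rfl) (by
      change 𝟙 _ ≫ T.g = C.d (n + 1) n ≫ 𝟙 _
      rw [Category.id_comp, Category.comp_id, tcx_d N X d hd n]
      rfl)
  exact ⟨(e₁ ≪≫ ShortComplex.homologyMapIso e₃ ≪≫ T.moduleCatHomologyIso).toLinearEquiv⟩

theorem tcx_homology_zero :
    Nonempty ((tcx N X d hd).homology 0 ≃ₗ[R]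
      Hm ((d 0).lTensor N) (0 : N ⊗[R] X 0 →ₗ[R] N ⊗[R] X 0) (LinearMap.zero_comp _)) := by
  set C := tcx N X d hd with hC
  have e₁ := C.homologyIsoSc' 1 0 0 (by simp) (by simp)
  let T : ShortComplex (ModuleCat.{u} R) :=
    ShortComplex.moduleCatMk ((d 0).lTensor N) (0 : N ⊗[R] X 0 →ₗ[R] N ⊗[R] X 0)
      (LinearMap.zero_comp _)
  let e₃ : C.sc' 1 0 0 ≅ T :=
    ShortComplex.isoMk (Iso.refl _) (Iso.refl _) (Iso.refl _) (by
      change 𝟙 _ ≫ T.f = C.d 1 0 ≫ 𝟙 _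
      rw [Category.id_comp, Category.comp_id, tcx_d N X d hd 0]
      rfl) (by
      change 𝟙 _ ≫ T.g = C.d 0 0 ≫ 𝟙 _
      rw [Category.id_comp, Category.comp_id, C.shape 0 0 (by simp)]
      rfl)
  exact ⟨(e₁ ≪≫ ShortComplex.homologyMapIso e₃ ≪≫ T.moduleCatHomologyIso).toLinearEquiv⟩

variable {Z : Type u} [AddCommGroup Z] [Module R Z] [∀ n, Module.Projective R (X n)]
  (ε : X 0 →ₗ[R] Z) (hε : ε.comp (d 0) = 0) (hsurj : Function.Surjective ε)
  (h0 : LinearMap.ker ε = LinearMap.range (d 0))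
  (hex : ∀ n, LinearMap.ker (d n) = LinearMap.range (d (n + 1)))

include hε hsurj h0 hex

/-- Tor computed from an explicit projective resolution of the second variable. -/
theorem nonempty_tor_iso_tcx (n : ℕ) :
    Nonempty (DRing.Tor R n N Z ≃ₗ[R] (tcx N X d hd).homology n) := by
  let Q : ProjectiveResolution (ModuleCat.of R Z) := res X d ε hd hε hsurj h0 hex
  exact ⟨(Q.isoLeftDerivedObj (tensorLeft (ModuleCat.of R N)) n).toLinearEquiv⟩

theorem tor_succ (n : ℕ) :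
    Nonempty (DRing.Tor R (n + 1) N Z ≃ₗ[R]
      Hm ((d (n + 1)).lTensor N) ((d n).lTensor N) (lTensor_comp_eq_zero N X d hd n)) := by
  obtain ⟨e1⟩ := nonempty_tor_iso_tcx N X d hd ε hε hsurj h0 hex (n + 1)
  obtain ⟨e2⟩ := tcx_homology_succ N X d hd n
  exact ⟨e1.trans e2⟩

include hd in
theorem tor_zero :
    Nonempty (DRing.Tor R 0 N Z ≃ₗ[R]
      Hm ((d 0).lTensor N) (0 : N ⊗[R] X 0 →ₗ[R] N ⊗[R] X 0) (LinearMap.zero_comp _)) := by
  obtain ⟨e1⟩ := nonempty_tor_iso_tcx N X d hd ε hε hsurj h0 hex 0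
  obtain ⟨e2⟩ := tcx_homology_zero N X d hd
  exact ⟨e1.trans e2⟩

end

end Groth.Agent.Lib.Helper90.TorLin
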