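import Mathlib
import Groth.Agent.Lib.Helper90.TorLin1

/-!
# Base change for Tor, part 2: lengths under change of rings (helper90)
-/

set_option autoImplicit false
universe u

open TensorProduct

namespace Groth.Agent.Lib.Helper90.TorBC

open Groth.Agent.Lib.Helper90.TorLin

variable {R S : Type u} [CommRing R] [CommRing S] [Algebra R S]

/-- A bijective semilinear map (over `algebraMap R S`) onto an `S`-module on which `S` acts through
`R` preserves length. -/
theorem length_eq_of_semilinear_bijective {T' T : Type*} [AddCommGroup T'] [Module R T']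
    [AddCommGroup T] [Module S T] (θ : T' →ₛₗ[algebraMap R S] T) (hθ : Function.Bijective θ)
    (hs : ∀ s : S, ∃ r : R, ∀ t : T, s • t = algebraMap R S r • t) :
    Module.length R T' = Module.length S T := by
  let Φ : Submodule S T ≃o Submodule R T' :=
    { toFun := fun N => N.comap θ
      invFun := fun N' =>
        { carrier := θ '' N'
          add_mem' := by
            rintro _ _ ⟨a, ha, rfl⟩ ⟨b, hb, rfl⟩
            exact ⟨a + b, N'.add_mem ha hb, map_add θ a b⟩
          zero_mem' := ⟨0, N'.zero_mem, map_zero θ⟩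
          smul_mem' := by
            rintro s _ ⟨a, ha, rfl⟩
            obtain ⟨r, hr⟩ := hs s
            exact ⟨r • a, N'.smul_mem r ha, by rw [map_smulₛₗ, hr]⟩ }
      left_inv := by
        intro N
        ext t
        constructor
        · rintro ⟨a, ha, rfl⟩
          exact ha
        · intro ht
          obtain ⟨a, rfl⟩ := hθ.2 t
          exact ⟨a, ht, rfl⟩
      right_inv := by
        intro N'
        ext a
        constructor
        · rintro ⟨b, hb, hab⟩
          rwa [← hθ.1 hab]
        · intro ha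
          exact ⟨a, ha, rfl⟩
      map_rel_iff' := by
        intro N₁ N₂
        constructor
        · intro h t ht
          obtain ⟨a, rfl⟩ := hθ.2 t
          exact h ht
        · intro h a ha
          exact h ha }
  apply WithBot.coe_injective
  rw [Module.coe_length, Module.coe_length]
  exact (Order.krullDim_eq_of_orderIso Φ).symm

/-- Length is insensitive to restriction of scalars when `S` acts through `R`. -/
theorem length_eq_of_smul_surj {T : Type*} [AddCommGroup T] [Module R T] [Module S T]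
    [IsScalarTower R S T] (hs : ∀ s : S, ∃ r : R, ∀ t : T, s • t = r • t) :
    Module.length R T = Module.length S T := by
  let θ : T →ₛₗ[algebraMap R S] T :=
    { toFun := id
      map_add' := fun _ _ => rfl
      map_smul' := fun r t => (algebraMap_smul S r t).symm }
  refine length_eq_of_semilinear_bijective θ Function.bijective_id ?_
  intro s
  obtain ⟨r, hr⟩ := hs s
  exact ⟨r, fun t => by rw [hr t, algebraMap_smul]⟩

section Hm

variable {Y₂ Y₁ Y₀ : Type u} [AddCommGroup Y₂] [Module R Y₂] [AddCommGroup Y₁] [Module R Y₁]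
  [AddCommGroup Y₀] [Module R Y₀] (f : Y₂ →ₗ[R] Y₁) (g : Y₁ →ₗ[R] Y₀) (h : g ∘ₗ f = 0)
  {Y₂' Y₁' Y₀' : Type u} [AddCommGroup Y₂'] [Module S Y₂'] [AddCommGroup Y₁'] [Module S Y₁']
  [AddCommGroup Y₀'] [Module S Y₀'] (f' : Y₂' →ₗ[S] Y₁') (g' : Y₁' →ₗ[S] Y₀') (h' : g' ∘ₗ f' = 0)

/-- Cross-ring comparison of the homology of two three-term complexes. -/
theorem length_Hm_eq (φ₂ : Y₂ → Y₂') (φ₁ : Y₁ →ₛₗ[algebraMap R S] Y₁') (φ₀ : Y₀ → Y₀')
    (hφ₂ : Function.Surjective φ₂) (hφ₁ : Function.Bijective φ₁)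
    (hφ₀ : Function.Injective φ₀) (hφ₀0 : φ₀ 0 = 0)
    (hf : ∀ x, φ₁ (f x) = f' (φ₂ x)) (hg : ∀ y, φ₀ (g y) = g' (φ₁ y))
    (hs : ∀ s : S, ∃ r : R, ∀ y : Y₁', s • y = algebraMap R S r • y) :
    Module.length R (Hm f g h) = Module.length S (Hm f' g' h') := by
  have hk : ∀ y, g y = 0 ↔ g' (φ₁ y) = 0 := by
    intro y
    rw [← hg]
    constructor
    · intro hy
      rw [hy, hφ₀0]
    · intro hy
      exact hφ₀ (hy.trans hφ₀0.symm)
  have hr : ∀ y, y ∈ LinearMap.range f ↔ φ₁ y ∈ LinearMap.range f' := by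
    intro y
    constructor
    · rintro ⟨x, rfl⟩
      exact ⟨φ₂ x, (hf x).symm⟩
    · rintro ⟨x', hx'⟩
      obtain ⟨x, rfl⟩ := hφ₂ x'
      rw [← hf] at hx'
      exact ⟨x, hφ₁.1 hx'⟩
  let ψ : LinearMap.ker g →ₛₗ[algebraMap R S] LinearMap.ker g' :=
    (φ₁.domRestrict (LinearMap.ker g)).codRestrict (LinearMap.ker g') (by
      intro c
      exact (hk c.1).mp c.2)
  have hψ : ∀ c : LinearMap.ker g, ((ψ c : LinearMap.ker g') : Y₁') = φ₁ c.1 := fun c => rfl
  have hle : LinearMap.range (f.codRestrict (LinearMap.ker g)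
      (fun x => LinearMap.congr_fun h x)) ≤
      (LinearMap.range (f'.codRestrict (LinearMap.ker g')
        (fun x => LinearMap.congr_fun h' x))).comap ψ := by
    rintro _ ⟨x, rfl⟩
    refine ⟨φ₂ x, ?_⟩
    apply Subtype.ext
    rw [hψ]
    exact (hf x).symm
  let θ : Hm f g h →ₛₗ[algebraMap R S] Hm f' g' h' := Submodule.mapQ _ _ ψ hle
  have hθmk : ∀ c, θ (Submodule.Quotient.mk c) = Submodule.Quotient.mk (ψ c) := fun c => rfl
  have hθ : Function.Bijective θ := by
    constructor
    · rw [injective_iff_map_eq_zero]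
      intro a ha
      obtain ⟨c, rfl⟩ := Submodule.Quotient.mk_surjective _ a
      rw [hθmk, Submodule.Quotient.mk_eq_zero] at ha
      rw [Submodule.Quotient.mk_eq_zero]
      obtain ⟨x', hx'⟩ := ha
      have h1 : φ₁ c.1 ∈ LinearMap.range f' := ⟨x', by
        have := congrArg Subtype.val hx'
        rw [hψ] at this
        exact this⟩
      obtain ⟨x, hx⟩ := (hr c.1).mpr h1
      exact ⟨x, Subtype.ext hx⟩
    · intro b
      obtain ⟨c', rfl⟩ := Submodule.Quotient.mk_surjective _ b
      obtain ⟨y, hy⟩ := hφ₁.2 c'.1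
      have hyk : y ∈ LinearMap.ker g := by
        rw [LinearMap.mem_ker, hk, hy]
        exact c'.2
      refine ⟨Submodule.Quotient.mk ⟨y, hyk⟩, ?_⟩
      rw [hθmk]
      congr 1
      exact Subtype.ext hy
  refine length_eq_of_semilinear_bijective θ hθ ?_
  intro s
  obtain ⟨r, hr'⟩ := hs s
  refine ⟨r, fun t => ?_⟩
  obtain ⟨c', rfl⟩ := Submodule.Quotient.mk_surjective _ t
  rw [← Submodule.Quotient.mk_smul, ← Submodule.Quotient.mk_smul]
  congr 1
  exact Subtype.ext (hr' c'.1)

end Hm

end Groth.Agent.Lib.Helper90.TorBC
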