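import Mathlib
import Groth.Agent.Lib.Helper90.SamuelDim
import Groth.Agent.Lib.Helper90.Assoc

/-!
# Dimension of `M/xM` and chains of primes (EGA 0_IV 16.3)
-/

namespace Groth.Agent.Lib.Helper90.DimQuot

open Module

universe u v

section Chain

variable {A : Type u} [CommRing A]

/-- a chain of primes starting at `p` bounds `dim A/p` from below. -/
lemma length_le_ringKrullDim_quotient_head (q : LTSeries (PrimeSpectrum A)) :
    (q.length : WithBot ℕ∞) ≤ ringKrullDim (A ⧸ q.head.asIdeal) := by
  let e := (q.head.asIdeal.primeSpectrumQuotientOrderIsoZeroLocus).symm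
  have hmem : ∀ i, q i ∈ PrimeSpectrum.zeroLocus (q.head.asIdeal : Set A) := by
    intro i
    rw [PrimeSpectrum.mem_zeroLocus]
    exact (q.monotone (Fin.zero_le i) : q.head ≤ q i)
  let q' : LTSeries (PrimeSpectrum (A ⧸ q.head.asIdeal)) :=
    { length := q.length
      toFun := fun i => e ⟨q i, hmem i⟩
      step := fun i => e.strictMono (by
        have := q.step i
        exact this) }
  have : (q'.length : WithBot ℕ∞) ≤ ringKrullDim (A ⧸ q.head.asIdeal) :=
    Order.LTSeries.length_le_krullDim q'
  exact this

end Chain

section Semilocal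

variable {A : Type u} [CommRing A] [IsNoetherianRing A] [Finite (MaximalSpectrum A)]

/-- the dimension of a nonzero finite module over a Noetherian semilocal ring is a natural number. -/
lemma exists_supportDim_eq_nat (M : Type u) [AddCommGroup M] [Module A M] [Module.Finite A M]
    [Nontrivial M] : ∃ d : ℕ, supportDim A M = d := by
  obtain ⟨P, -, hP⟩ := SamuelDim.exists_hilbertSamuel (A := A) M
  exact ⟨P.natDegree, hP.symm⟩

lemma supportDim_ne_top (M : Type u) [AddCommGroup M] [Module A M] [Module.Finite A M] :
    supportDim A M ≠ ⊤ := by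
  rcases subsingleton_or_nontrivial M with h | h
  · rw [supportDim_eq_bot_of_subsingleton]
    exact bot_ne_top
  · obtain ⟨d, hd⟩ := exists_supportDim_eq_nat (A := A) M
    rw [hd]
    intro h
    have : ((d : ℕ∞) : WithBot ℕ∞) = ((⊤ : ℕ∞) : WithBot ℕ∞) := h
    exact ENat.coe_ne_top d (WithBot.coe_injective this)

end Semilocal

end Groth.Agent.Lib.Helper90.DimQuot
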