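import Mathlib
import Groth.Agent.Lib.Helper90.GrMod

/-!
# Lengths of `m`-primary quotients and localization at a maximal ideal
-/

namespace Groth.Agent.Lib.Helper90.GradedLocal

open Module

universe u

section MaxLoc

variable {A : Type u} [CommRing A] (m : Ideal A) [hm : m.IsMaximal]

/-- elements outside `m` are units modulo an `m`-primary ideal `K`. -/
lemma exists_mul_sub_one_mem {K : Ideal A} {j : ℕ} (hK : m ^ j ≤ K) {s : A} (hs : s ∉ m) :
    ∃ t : A, s * t - 1 ∈ K := by
  have h : IsUnit (Ideal.Quotient.mk (m ^ j) s) := Ideal.Quotient.isUnit_mk_pow_of_notMem m hs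
  obtain ⟨u, hu⟩ := h.exists_right_inv
  obtain ⟨t, rfl⟩ := Ideal.Quotient.mk_surjective u
  refine ⟨t, hK ?_⟩
  rw [← Ideal.Quotient.eq_zero_iff_mem, map_sub, map_mul, hu, map_one, sub_self]

/-- the comparison map `A/K → A_m/KA_m`. -/
noncomputable def quotMap (K : Ideal A) :
    (A ⧸ K) →ₐ[A] (Localization.AtPrime m ⧸ K.map (algebraMap A (Localization.AtPrime m))) :=
  Ideal.Quotient.liftₐ K ((Ideal.Quotient.mkₐ A _).comp (Algebra.ofId A (Localization.AtPrime m)))
    (fun a ha => by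
      rw [AlgHom.comp_apply, Ideal.Quotient.mkₐ_eq_mk, Ideal.Quotient.eq_zero_iff_mem]
      exact Ideal.mem_map_of_mem _ ha)

lemma quotMap_mk (K : Ideal A) (a : A) :
    quotMap m K (Ideal.Quotient.mk K a) =
      Ideal.Quotient.mk _ (algebraMap A (Localization.AtPrime m) a) := rfl

lemma quotMap_bijective {K : Ideal A} {j : ℕ} (hK : m ^ j ≤ K) :
    Function.Bijective (quotMap m K) := by
  constructor
  · rw [injective_iff_map_eq_zero]
    intro x hx
    obtain ⟨a, rfl⟩ := Ideal.Quotient.mk_surjective x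
    rw [quotMap_mk, Ideal.Quotient.eq_zero_iff_mem,
      IsLocalization.algebraMap_mem_map_algebraMap_iff m.primeCompl] at hx
    obtain ⟨s, hs, hsa⟩ := hx
    obtain ⟨t, ht⟩ := exists_mul_sub_one_mem m hK (Ideal.mem_primeCompl_iff.mp hs)
    rw [Ideal.Quotient.eq_zero_iff_mem]
    have : a = t * (s * a) - (s * t - 1) * a := by ring
    rw [this]
    exact K.sub_mem (K.mul_mem_left _ hsa) (K.mul_mem_right _ ht)
  · intro y
    obtain ⟨b, rfl⟩ := Ideal.Quotient.mk_surjective y
    obtain ⟨a, s, rfl⟩ := IsLocalization.exists_mk'_eq m.primeCompl b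
    obtain ⟨t, ht⟩ := exists_mul_sub_one_mem m hK (Ideal.mem_primeCompl_iff.mp s.2)
    refine ⟨Ideal.Quotient.mk K (a * t), ?_⟩
    rw [quotMap_mk, Ideal.Quotient.eq, ← Ideal.mul_unit_mem_iff_mem _
      (IsLocalization.map_units (Localization.AtPrime m) s), sub_mul,
      IsLocalization.mk'_spec, ← map_mul, ← map_sub]
    apply Ideal.mem_map_of_mem
    have : a * t * (s : A) - a = (s * t - 1) * a := by ring
    rw [this]
    exact K.mul_mem_right _ ht

/-- `ℓ_{A_m}(A_m/KA_m) = ℓ_A(A/K)` for an `m`-primary ideal `K`. -/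
theorem length_quot_map {K : Ideal A} {j : ℕ} (hK : m ^ j ≤ K) :
    Module.length (Localization.AtPrime m)
      (Localization.AtPrime m ⧸ K.map (algebraMap A (Localization.AtPrime m))) =
    Module.length A (A ⧸ K) := by
  set B := Localization.AtPrime m
  set Q := B ⧸ K.map (algebraMap A B)
  have h1 : Module.length B Q = Module.length Q Q :=
    Module.length_eq_of_surjective (S := B) (R := Q) Ideal.Quotient.mk_surjective
  have hsurj : Function.Surjective (algebraMap A Q) := by
    intro y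
    obtain ⟨x, rfl⟩ := (quotMap_bijective m hK).2 y
    obtain ⟨a, rfl⟩ := Ideal.Quotient.mk_surjective x
    exact ⟨a, rfl⟩
  have h2 : Module.length A Q = Module.length Q Q :=
    Module.length_eq_of_surjective (S := A) (R := Q) hsurj
  have h3 : Module.length A (A ⧸ K) = Module.length A Q :=
    (LinearEquiv.ofBijective (quotMap m K).toLinearMap (quotMap_bijective m hK)).length_eq
  rw [h1, ← h2, h3]

end MaxLoc

section QuotQuot

variable {B : Type u} [CommRing B]

/-- `(B/𝔞)/I(B/𝔞) ≃ B/(𝔞 + I)`. -/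
noncomputable def quotQuotEquiv (𝔞 I : Ideal B) :
    ((B ⧸ 𝔞) ⧸ (I • (⊤ : Submodule B (B ⧸ 𝔞)))) ≃ₗ[B] (B ⧸ (𝔞 ⊔ I)) :=
  Submodule.quotEquivOfEq _ _ (by
    have h : (I : Submodule B B) = I • (⊤ : Submodule B B) := by
      rw [smul_eq_mul, Ideal.mul_top]
    conv_rhs => rw [h]
    rw [Submodule.map_smul'', Submodule.map_top, Submodule.range_mkQ]) ≪≫ₗ
    Submodule.quotientQuotientEquivQuotientSup (𝔞 : Submodule B B) (I : Submodule B B)

lemma length_quot_quot (𝔞 I : Ideal B) :
    Module.length B ((B ⧸ 𝔞) ⧸ (I • (⊤ : Submodule B (B ⧸ 𝔞)))) =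
      Module.length B (B ⧸ (𝔞 ⊔ I)) :=
  (quotQuotEquiv 𝔞 I).length_eq

end QuotQuot

end Groth.Agent.Lib.Helper90.GradedLocal
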