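import Mathlib

namespace Groth.Agent.Lib.Helper90.HomogSection

open MvPolynomial Module

universe u v

attribute [local instance] MvPolynomial.gradedAlgebra

variable {k : Type u} [Field k] {σ : Type v}

/-- the degree-`m` part of an ideal. -/
noncomputable def part (J : Ideal (MvPolynomial σ k)) (m : ℕ) : Submodule k (MvPolynomial σ k) :=
  J.restrictScalars k ⊓ homogeneousSubmodule σ k m

lemma mem_part {J : Ideal (MvPolynomial σ k)} {m : ℕ} {g : MvPolynomial σ k} :
    g ∈ part J m ↔ g ∈ J ∧ g.IsHomogeneous m := Iff.rfl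

/-- multiplication by `f`, as a `k`-linear map. -/
noncomputable def mulL (f : MvPolynomial σ k) : MvPolynomial σ k →ₗ[k] MvPolynomial σ k :=
  LinearMap.mulLeft k f

@[simp] lemma mulL_apply (f g : MvPolynomial σ k) : mulL f g = f * g := rfl

lemma mulL_injective {f : MvPolynomial σ k} (hf : f ≠ 0) : Function.Injective (mulL f) :=
  fun _ _ h => mul_left_cancel₀ hf h

lemma part_sup_span {I : Ideal (MvPolynomial σ k)} (hI : I.IsHomogeneous (homogeneousSubmodule σ k))
    {f : MvPolynomial σ k} {d : ℕ} (hf : f.IsHomogeneous d) {m : ℕ} (hm : d ≤ m) :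
    part (I ⊔ Ideal.span {f}) m =
      part I m ⊔ (homogeneousSubmodule σ k (m - d)).map (mulL f) := by
  apply le_antisymm
  · rintro g ⟨hg, hgm⟩
    obtain ⟨a, ha, b, hb, rfl⟩ := Submodule.mem_sup.mp hg
    obtain ⟨h, rfl⟩ := Ideal.mem_span_singleton'.mp hb
    have hgm' : a + h * f ∈ homogeneousSubmodule σ k m := hgm
    have e1 : ((DirectSum.decompose (homogeneousSubmodule σ k) (a + h * f) m : _) :
        MvPolynomial σ k) = a + h * f := DirectSum.decompose_of_mem_same _ hgm'
    rw [DirectSum.decompose_add, DirectSum.add_apply, Submodule.coe_add,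
      DirectSum.coe_decompose_mul_of_right_mem_of_le (homogeneousSubmodule σ k)
        ((mem_homogeneousSubmodule d f).mpr hf) hm] at e1
    rw [← e1]
    apply Submodule.add_mem
    · apply Submodule.mem_sup_left
      exact ⟨hI m ha, (DirectSum.decompose (homogeneousSubmodule σ k) a m).2⟩
    · apply Submodule.mem_sup_right
      refine ⟨_, (DirectSum.decompose (homogeneousSubmodule σ k) h (m - d)).2, ?_⟩
      rw [mulL_apply, mul_comm]
  · apply sup_le
    · rintro g ⟨hg, hgm⟩
      exact ⟨Ideal.mem_sup_left hg, hgm⟩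
    · rintro _ ⟨h, hh, rfl⟩
      refine ⟨Ideal.mem_sup_right (Ideal.mul_mem_right _ _ (Ideal.mem_span_singleton_self f)), ?_⟩
      have : (f * h).IsHomogeneous (d + (m - d)) := hf.mul ((mem_homogeneousSubmodule _ h).mp hh)
      rwa [Nat.add_sub_cancel' hm] at this

lemma map_mulL_inf_part {I : Ideal (MvPolynomial σ k)} [I.IsPrime]
    {f : MvPolynomial σ k} {d : ℕ} (hf : f.IsHomogeneous d) (hfI : f ∉ I) {m : ℕ} (hm : d ≤ m) :
    (homogeneousSubmodule σ k (m - d)).map (mulL f) ⊓ part I m = (part I (m - d)).map (mulL f) := by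
  apply le_antisymm
  · rintro _ ⟨⟨h, hh, rfl⟩, hI, -⟩
    have hI' : f * h ∈ I := hI
    have hhI : h ∈ I := (Ideal.IsPrime.mem_or_mem ‹_› hI').resolve_left hfI
    exact ⟨h, ⟨hhI, hh⟩, rfl⟩
  · rintro _ ⟨h, ⟨hhI, hh⟩, rfl⟩
    refine ⟨⟨h, hh, rfl⟩, Ideal.mul_mem_left _ _ hhI, ?_⟩
    have : (f * h).IsHomogeneous (d + (m - d)) := hf.mul hh
    rwa [Nat.add_sub_cancel' hm] at this

variable [Finite σ]

instance finite_homogeneousSubmodule (m : ℕ) : Module.Finite k ↥(homogeneousSubmodule σ k m) :=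
  Module.Finite.iff_fg.mpr (homogeneousSubmodule_fg σ k m)

instance finite_part (J : Ideal (MvPolynomial σ k)) (m : ℕ) : Module.Finite k ↥(part J m) :=
  Submodule.finiteDimensional_of_le inf_le_right

/-- the Hilbert function of `R/J`. -/
noncomputable def hilb (J : Ideal (MvPolynomial σ k)) (m : ℕ) : ℤ :=
  (finrank k ↥(homogeneousSubmodule σ k m) : ℤ) - (finrank k ↥(part J m) : ℤ)

theorem hilb_sup_span {I : Ideal (MvPolynomial σ k)} [I.IsPrime]
    (hI : I.IsHomogeneous (homogeneousSubmodule σ k))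
    {f : MvPolynomial σ k} {d : ℕ} (hf : f.IsHomogeneous d) (hfI : f ∉ I) {m : ℕ} (hm : d ≤ m) :
    hilb (I ⊔ Ideal.span {f}) m = hilb I m - hilb I (m - d) := by
  have hf0 : f ≠ 0 := fun h => hfI (h ▸ I.zero_mem)
  have h1 := Submodule.finrank_sup_add_finrank_inf_eq (part I m)
    ((homogeneousSubmodule σ k (m - d)).map (mulL f))
  have hmap : ∀ S : Submodule k (MvPolynomial σ k),
      finrank k ↥(S.map (mulL f)) = finrank k ↥S := fun S =>
    (Submodule.equivMapOfInjective (mulL f) (mulL_injective hf0) S).finrank_eq.symm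
  rw [← part_sup_span hI hf hm, inf_comm, map_mulL_inf_part hf hfI hm, hmap, hmap] at h1
  simp only [hilb]
  have h1' : (finrank k ↥(part (I ⊔ Ideal.span {f}) m) : ℤ) + finrank k ↥(part I (m - d)) =
      finrank k ↥(part I m) + finrank k ↥(homogeneousSubmodule σ k (m - d)) := by
    exact_mod_cast h1
  linarith

end Groth.Agent.Lib.Helper90.HomogSection
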