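import Mathlib
import Groth.Agent.Lib.Helper90.GradedLocal
import Groth.Agent.Lib.Helper90.HomogSection

/-!
# The irrelevant ideal of a polynomial ring over a field: graded pieces and lengths
-/

namespace Groth.Agent.Lib.Helper90.GradedLocal

open Module MvPolynomial HomogSection

universe u

attribute [local instance] MvPolynomial.gradedAlgebra

section Irrelevant

variable {k : Type u} [Field k] {σ : Type} [Finite σ]

lemma mem_idealOfVars_iff (p : MvPolynomial σ k) :
    p ∈ idealOfVars σ k ↔ constantCoeff p = 0 := by
  have h := mem_pow_idealOfVars_iff' (σ := σ) (R := k) 1 p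
  rw [pow_one] at h
  rw [h, constantCoeff_eq]
  constructor
  · intro hx
    exact hx 0 (by simp)
  · intro h0 x hx
    have : x = 0 := by
      have : Finsupp.degree x = 0 := by omega
      exact (Finsupp.degree_eq_zero_iff x).mp this
    rw [this]
    exact h0

lemma idealOfVars_eq_ker : idealOfVars σ k = RingHom.ker (constantCoeff (σ := σ) (R := k)) := by
  ext p
  rw [mem_idealOfVars_iff, RingHom.mem_ker]

instance isMaximal_idealOfVars : (idealOfVars σ k).IsMaximal := by
  rw [idealOfVars_eq_ker]
  exact RingHom.ker_isMaximal_of_surjective _ (fun c => ⟨C c, constantCoeff_C _ c⟩)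

lemma sub_C_mem_idealOfVars (p : MvPolynomial σ k) :
    p - C (constantCoeff p) ∈ idealOfVars σ k := by
  rw [mem_idealOfVars_iff, map_sub, constantCoeff_C, sub_self]

section Kill

variable {N : Type*} [AddCommGroup N] [Module (MvPolynomial σ k) N] [Module k N]
  [IsScalarTower k (MvPolynomial σ k) N]

lemma smul_eq_constantCoeff_smul
    (hN : ∀ r ∈ idealOfVars σ k, ∀ n : N, r • n = 0) (r : MvPolynomial σ k) (n : N) :
    r • n = constantCoeff r • n := by
  have h := hN _ (sub_C_mem_idealOfVars r) n
  rw [sub_smul, sub_eq_zero] at h
  rw [h, ← algebraMap_eq, algebraMap_smul]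

/-- for a module killed by the irrelevant ideal, length over `k[X]` is length over `k`. -/
lemma length_eq_of_kill (hN : ∀ r ∈ idealOfVars σ k, ∀ n : N, r • n = 0) :
    Module.length (MvPolynomial σ k) N = Module.length k N := by
  let e : Submodule (MvPolynomial σ k) N ≃o Submodule k N :=
    { toFun := Submodule.restrictScalars k
      invFun := fun W =>
        { carrier := W
          add_mem' := W.add_mem
          zero_mem' := W.zero_mem
          smul_mem' := fun r x hx => by
            rw [smul_eq_constantCoeff_smul hN]
            exact W.smul_mem _ hx }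
      left_inv := fun W => rfl
      right_inv := fun W => rfl
      map_rel_iff' := Iff.rfl }
  apply WithBot.coe_injective
  rw [Module.coe_length, Module.coe_length]
  exact Order.krullDim_eq_of_orderIso e

end Kill

end Irrelevant

end Groth.Agent.Lib.Helper90.GradedLocal
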