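import Mathlib
import Groth.Agent.Lib.Helper90.GradedLocal2

/-!
# Graded pieces of `R/(J + m^j)` for a homogeneous ideal `J`
-/

namespace Groth.Agent.Lib.Helper90.GradedLocal

open Module MvPolynomial HomogSection

universe u

attribute [local instance] MvPolynomial.gradedAlgebra

section Pieces

variable {k : Type u} [Field k] {σ : Type} [Finite σ] (J : Ideal (MvPolynomial σ k))

/-- `K_j = J + m^j`. -/
noncomputable def KK (j : ℕ) : Ideal (MvPolynomial σ k) := J ⊔ idealOfVars σ k ^ j

lemma pow_le_KK (j : ℕ) : idealOfVars σ k ^ j ≤ KK J j := le_sup_right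

lemma KK_succ_le (j : ℕ) : KK J (j + 1) ≤ KK J j :=
  sup_le_sup_left (Ideal.pow_le_pow_right (Nat.le_succ j)) _

omit [Finite σ] in
lemma homog_mem_pow {r : MvPolynomial σ k} {j : ℕ} (hr : r ∈ homogeneousSubmodule σ k j) :
    r ∈ idealOfVars σ k ^ j := by
  rw [mem_pow_idealOfVars_iff]
  intro x hx
  have h := hr (mem_support_iff.mp hx)
  rw [Finsupp.degree_eq_weight_one]
  exact le_of_eq h.symm

omit [Finite σ] in
lemma homogeneousComponent_eq_zero_of_mem_pow {b : MvPolynomial σ k} {j : ℕ}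
    (hb : b ∈ idealOfVars σ k ^ (j + 1)) : homogeneousComponent j b = 0 := by
  apply homogeneousComponent_eq_zero'
  intro d hd
  have := (mem_pow_idealOfVars_iff (j + 1) b).mp hb d hd
  omega

omit [Finite σ] in
lemma sub_homogeneousComponent_mem_pow {b : MvPolynomial σ k} {j : ℕ}
    (hb : b ∈ idealOfVars σ k ^ j) : b - homogeneousComponent j b ∈ idealOfVars σ k ^ (j + 1) := by
  rw [mem_pow_idealOfVars_iff']
  intro x hx
  rw [coeff_sub, coeff_homogeneousComponent]
  split_ifs with h
  · exact sub_self _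
  · have : Finsupp.degree x < j := by omega
    rw [(mem_pow_idealOfVars_iff' j b).mp hb x this, sub_zero]

variable {J}

omit [Finite σ] in
lemma mem_KK_succ_iff (hJ : J.IsHomogeneous (homogeneousSubmodule σ k)) {r : MvPolynomial σ k}
    {j : ℕ} (hr : r ∈ homogeneousSubmodule σ k j) : r ∈ KK J (j + 1) ↔ r ∈ J := by
  constructor
  · intro h
    obtain ⟨a, ha, b, hb, rfl⟩ := Submodule.mem_sup.mp h
    have h1 : homogeneousComponent j (a + b) = a + b := homogeneousComponent_eq_self hr
    rw [map_add, homogeneousComponent_eq_zero_of_mem_pow hb, add_zero] at h1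
    rw [← h1]
    exact homogeneousComponent_mem_of_mem hJ ha j
  · intro h
    exact Ideal.mem_sup_left h

omit [Finite σ] in
lemma exists_homog_sub_mem {x : MvPolynomial σ k} {j : ℕ} (hx : x ∈ KK J j) :
    ∃ r ∈ homogeneousSubmodule σ k j, x - r ∈ KK J (j + 1) := by
  obtain ⟨a, ha, b, hb, rfl⟩ := Submodule.mem_sup.mp hx
  refine ⟨homogeneousComponent j b, homogeneousComponent_mem j b, ?_⟩
  have : a + b - homogeneousComponent j b = a + (b - homogeneousComponent j b) := by ring
  rw [this]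
  exact Submodule.add_mem_sup ha (sub_homogeneousComponent_mem_pow hb)

variable (J)

/-- the `j`-th graded piece `K_j/K_{j+1}` as a submodule of `R/K_{j+1}`. -/
noncomputable def NN (j : ℕ) : Submodule (MvPolynomial σ k) (MvPolynomial σ k ⧸ KK J (j + 1)) :=
  Submodule.map (KK J (j + 1)).mkQ (KK J j)

omit [Finite σ] in
lemma NN_kill (j : ℕ) : ∀ r ∈ idealOfVars σ k, ∀ n : ↥(NN J j), r • n = 0 := by
  rintro r hr ⟨y, hy⟩
  obtain ⟨x, hx, rfl⟩ := Submodule.mem_map.mp hy
  apply Subtype.ext
  rw [Submodule.coe_smul, Submodule.coe_zero]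
  change r • (Submodule.Quotient.mk x : MvPolynomial σ k ⧸ KK J (j + 1)) = 0
  rw [← Submodule.Quotient.mk_smul, Submodule.Quotient.mk_eq_zero, smul_eq_mul]
  obtain ⟨a, ha, b, hb, rfl⟩ := Submodule.mem_sup.mp hx
  rw [mul_add]
  refine Submodule.add_mem_sup (J.mul_mem_left _ ha) ?_
  rw [pow_succ']
  exact Ideal.mul_mem_mul hr hb

/-- the map `R_j → K_j/K_{j+1}`. -/
noncomputable def psi (j : ℕ) : ↥(homogeneousSubmodule σ k j) →ₗ[k] ↥(NN J j) where
  toFun r := ⟨Submodule.Quotient.mk (r : MvPolynomial σ k),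
    Submodule.mem_map.mpr ⟨r, pow_le_KK J j (homog_mem_pow r.2), rfl⟩⟩
  map_add' r r' := by
    apply Subtype.ext
    rfl
  map_smul' c r := by
    apply Subtype.ext
    rfl

lemma psi_surjective (j : ℕ) : Function.Surjective (psi J j) := by
  rintro ⟨y, hy⟩
  obtain ⟨x, hx, rfl⟩ := Submodule.mem_map.mp hy
  obtain ⟨r, hr, hxr⟩ := exists_homog_sub_mem hx
  refine ⟨⟨r, hr⟩, ?_⟩
  apply Subtype.ext
  change (Submodule.Quotient.mk r : MvPolynomial σ k ⧸ KK J (j + 1)) = Submodule.Quotient.mk x
  rw [eq_comm, Submodule.Quotient.eq]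
  exact hxr

variable {J}

lemma ker_psi (hJ : J.IsHomogeneous (homogeneousSubmodule σ k)) (j : ℕ) :
    LinearMap.ker (psi J j) = (part J j).comap (homogeneousSubmodule σ k j).subtype := by
  ext r
  rw [LinearMap.mem_ker, Submodule.mem_comap, Submodule.subtype_apply, mem_part]
  constructor
  · intro h
    have h1 : (Submodule.Quotient.mk (r : MvPolynomial σ k) :
        MvPolynomial σ k ⧸ KK J (j + 1)) = 0 := congrArg Subtype.val h
    rw [Submodule.Quotient.mk_eq_zero] at h1
    exact ⟨(mem_KK_succ_iff hJ r.2).mp h1, r.2⟩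
  · rintro ⟨h, -⟩
    apply Subtype.ext
    change (Submodule.Quotient.mk (r : MvPolynomial σ k) :
        MvPolynomial σ k ⧸ KK J (j + 1)) = 0
    rw [Submodule.Quotient.mk_eq_zero]
    exact (mem_KK_succ_iff hJ r.2).mpr h

lemma finrank_NN (hJ : J.IsHomogeneous (homogeneousSubmodule σ k)) (j : ℕ) :
    (finrank k ↥(NN J j) : ℤ) = hilb J j := by
  have h1 := LinearMap.finrank_range_add_finrank_ker (psi J j)
  have h2 : finrank k ↥((part J j).comap (homogeneousSubmodule σ k j).subtype) =
      finrank k ↥(part J j) :=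
    (Submodule.comapSubtypeEquivOfLe (p := part J j) (q := homogeneousSubmodule σ k j)
      inf_le_right).finrank_eq
  rw [LinearMap.range_eq_top.mpr (psi_surjective J j), finrank_top, ker_psi hJ, h2] at h1
  simp only [hilb]
  omega

lemma length_NN (hJ : J.IsHomogeneous (homogeneousSubmodule σ k)) (j : ℕ) :
    Module.length (MvPolynomial σ k) ↥(NN J j) = (finrank k ↥(NN J j) : ℕ∞) := by
  haveI : Module.Finite k ↥(NN J j) := Module.Finite.of_surjective (psi J j) (psi_surjective J j)
  rw [length_eq_of_kill (NN_kill J j), Module.length_eq_finrank]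

/-- the recursion for the lengths `ℓ(R/(J + m^j))`. -/
theorem length_KK_succ (hJ : J.IsHomogeneous (homogeneousSubmodule σ k)) (j : ℕ) :
    Module.length (MvPolynomial σ k) (MvPolynomial σ k ⧸ KK J (j + 1)) =
      (finrank k ↥(NN J j) : ℕ∞) + Module.length (MvPolynomial σ k) (MvPolynomial σ k ⧸ KK J j) := by
  rw [← length_NN hJ]
  exact GrMod.length_quot_eq_add (KK J (j + 1)) (KK J j) (KK_succ_le J j)

end Pieces

end Groth.Agent.Lib.Helper90.GradedLocal
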