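import Mathlib
import Groth.Agent.Lib.Helper90.HSPoly

namespace Groth.Agent.Lib.Helper90.PolyDiff

open Polynomial HSPoly

/-- coefficient of `X^(t-1)` in `P(X - c)`. -/
lemma coeff_comp_X_sub_C_pred (P : ℚ[X]) (c : ℚ) (hP : 1 ≤ P.natDegree) :
    (P.comp (X - C c)).coeff (P.natDegree - 1) =
      P.coeff (P.natDegree - 1) - c * P.natDegree * P.leadingCoeff := by
  set t := P.natDegree with ht
  have h1 : P.comp (X - C c) = taylor (-c) P := by
    rw [taylor_apply, map_neg, sub_eq_add_neg]
  rw [h1, taylor_coeff]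
  have hdeg : (hasseDeriv (t - 1) P).natDegree < 2 := by
    have := natDegree_hasseDeriv_le P (t - 1)
    omega
  rw [eval_eq_sum_range' hdeg, Finset.sum_range_succ, Finset.sum_range_one, hasseDeriv_coeff,
    hasseDeriv_coeff]
  have e1 : 0 + (t - 1) = t - 1 := by omega
  have e2 : 1 + (t - 1) = t := by omega
  rw [e1, e2, Nat.choose_self, pow_zero, pow_one, leadingCoeff, ← ht]
  have e3 : t.choose (t - 1) = t := by
    obtain ⟨s, hs⟩ : ∃ s, t = s + 1 := ⟨t - 1, by omega⟩
    rw [hs, Nat.add_sub_cancel, Nat.choose_succ_self_right]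
  rw [e3]
  push_cast
  ring

/-- the backward difference `P(X) - P(X - c)` has degree exactly `deg P - 1` and leading coefficient
`c * deg P * lc P`. -/
theorem natDegree_leadingCoeff_sub_comp (P : ℚ[X]) (c : ℚ) (hc : c ≠ 0) (hP : 1 ≤ P.natDegree) :
    (P - P.comp (X - C c)).natDegree = P.natDegree - 1 ∧
      (P - P.comp (X - C c)).leadingCoeff = c * P.natDegree * P.leadingCoeff := by
  have hle := natDegree_sub_comp_le P c
  have hco : (P - P.comp (X - C c)).coeff (P.natDegree - 1) = c * P.natDegree * P.leadingCoeff := by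
    rw [coeff_sub, coeff_comp_X_sub_C_pred P c hP]
    ring
  have hne : c * P.natDegree * P.leadingCoeff ≠ 0 := by
    have h1 : (P.natDegree : ℚ) ≠ 0 := by
      have : 0 < P.natDegree := hP
      exact_mod_cast this.ne'
    have h2 : P.leadingCoeff ≠ 0 := by
      rw [Ne, leadingCoeff_eq_zero]
      rintro rfl
      simp at hP
    exact mul_ne_zero (mul_ne_zero hc h1) h2
  have hdeg : (P - P.comp (X - C c)).natDegree = P.natDegree - 1 := by
    apply le_antisymm hle
    apply le_natDegree_of_ne_zero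
    rw [hco]
    exact hne
  refine ⟨hdeg, ?_⟩
  rw [leadingCoeff, hdeg, hco]

end Groth.Agent.Lib.Helper90.PolyDiff
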