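import Mathlib
import Groth.Agent.Lib.Helper90.PolyDiff

/-!
# Forward differences of rational polynomials
-/

namespace Groth.Agent.Lib.Helper90.PolyDiff

section PolyDiff

open Polynomial

/-- a polynomial is determined by its forward differences at large integers. -/
lemma eq_comp_sub_of_diff (Q P : ℚ[X]) (N : ℕ)
    (h : ∀ j : ℕ, N ≤ j → Q.eval ((j : ℚ) + 1) - Q.eval (j : ℚ) = P.eval (j : ℚ)) :
    P = Q.comp (X + C 1) - Q := by
  apply Polynomial.eq_of_infinite_eval_eq
  apply Set.infinite_of_injective_forall_mem (f := fun j : ℕ => ((j + N : ℕ) : ℚ))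
  · intro a b hab
    have hab' : ((a + N : ℕ) : ℚ) = ((b + N : ℕ) : ℚ) := hab
    have : (a + N : ℕ) = b + N := by exact_mod_cast hab'
    omega
  · intro j
    simp only [Set.mem_setOf_eq, eval_sub, eval_comp, eval_add, eval_X, eval_C]
    rw [← h (j + N) (Nat.le_add_left N j)]

lemma natDegree_of_diff (Q P : ℚ[X]) (N : ℕ)
    (h : ∀ j : ℕ, N ≤ j → Q.eval ((j : ℚ) + 1) - Q.eval (j : ℚ) = P.eval (j : ℚ)) (hP : P ≠ 0) :
    Q.natDegree = P.natDegree + 1 ∧ P.leadingCoeff = Q.natDegree * Q.leadingCoeff := by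
  have hPQ := eq_comp_sub_of_diff Q P N h
  set Q' := Q.comp (X + C 1) with hQ'
  have hq : (X + C 1 : ℚ[X]).natDegree = 1 := natDegree_X_add_C 1
  have hdeg : Q'.natDegree = Q.natDegree := by rw [hQ', natDegree_comp, hq, mul_one]
  have hlc : Q'.leadingCoeff = Q.leadingCoeff := by
    rw [hQ', leadingCoeff_comp (by rw [hq]; exact one_ne_zero), leadingCoeff_X_add_C, one_pow,
      mul_one]
  have hback : Q'.comp (X - C 1) = Q := by
    rw [hQ', comp_assoc]
    have : (X + C 1 : ℚ[X]).comp (X - C 1) = X := by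
      rw [add_comp, X_comp, C_comp]
      ring
    rw [this, comp_X]
  have h1 : 1 ≤ Q.natDegree := by
    by_contra hc
    have h0 : Q.natDegree = 0 := by omega
    have hQc : Q = C (Q.coeff 0) := eq_C_of_natDegree_eq_zero h0
    apply hP
    rw [hPQ, hQ', hQc, C_comp, sub_self]
  have key := natDegree_leadingCoeff_sub_comp Q' 1 one_ne_zero (by rw [hdeg]; exact h1)
  rw [hback, ← hPQ, hdeg, hlc, one_mul] at key
  refine ⟨by omega, key.2⟩

end PolyDiff

end Groth.Agent.Lib.Helper90.PolyDiff
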