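import Mathlib
import Groth.Agent.Lib.Helper90.GradedLocal3
import Groth.Agent.Lib.Helper90.SamuelDim
import Groth.Agent.Lib.Helper90.PolyDiff2
import Groth.Agent.Lib.Helper90.PolyLim

/-!
# Hilbert functions of homogeneous ideals via the local ring at the irrelevant ideal
-/

namespace Groth.Agent.Lib.Helper90.GradedLocal

open Module MvPolynomial HomogSection IsLocalRing

universe u

attribute [local instance] MvPolynomial.gradedAlgebra


section Localized

variable {k : Type u} [Field k] {σ : Type} [Finite σ] (J : Ideal (MvPolynomial σ k))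

/-- the local ring of the affine cone at the vertex. -/
abbrev BB (k : Type u) [Field k] (σ : Type) [Finite σ] : Type u :=
  Localization.AtPrime (idealOfVars σ k)

/-- the `BB`-module `B/JB`. -/
abbrev MM : Type u := BB k σ ⧸ J.map (algebraMap (MvPolynomial σ k) (BB k σ))

lemma length_MM_quot (j : ℕ) :
    Module.length (BB k σ) (MM J ⧸ (maximalIdeal (BB k σ) ^ j • (⊤ : Submodule (BB k σ) (MM J)))) =
      Module.length (MvPolynomial σ k) (MvPolynomial σ k ⧸ KK J j) := by
  rw [length_quot_quot, ← Localization.AtPrime.map_eq_maximalIdeal, ← Ideal.map_pow, ← Ideal.map_sup]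
  exact length_quot_map (idealOfVars σ k) (pow_le_KK J j)

variable {J}

lemma length_KK_ne_top (hJ : J.IsHomogeneous (homogeneousSubmodule σ k)) (j : ℕ) :
    Module.length (MvPolynomial σ k) (MvPolynomial σ k ⧸ KK J j) ≠ ⊤ := by
  induction j with
  | zero =>
    have : KK J 0 = ⊤ := by
      rw [KK, pow_zero, Ideal.one_eq_top, sup_top_eq]
    rw [this]
    have : Subsingleton (MvPolynomial σ k ⧸ (⊤ : Ideal (MvPolynomial σ k))) :=
      Ideal.Quotient.subsingleton_iff.mpr rfl
    rw [Module.length_eq_zero]
    exact ENat.zero_ne_top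
  | succ j ih =>
    rw [length_KK_succ hJ]
    exact WithTop.add_ne_top.mpr ⟨ENat.coe_ne_top _, ih⟩

/-- the Samuel function of `B/JB`, computed in the polynomial ring. -/
noncomputable def sam (J : Ideal (MvPolynomial σ k)) (j : ℕ) : ℤ :=
  ((Module.length (MvPolynomial σ k) (MvPolynomial σ k ⧸ KK J j)).toNat : ℤ)

lemma sam_succ (hJ : J.IsHomogeneous (homogeneousSubmodule σ k)) (j : ℕ) :
    sam J (j + 1) = hilb J j + sam J j := by
  simp only [sam]
  rw [length_KK_succ hJ, ENat.toNat_add (ENat.coe_ne_top _) (length_KK_ne_top hJ j),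
    ENat.toNat_coe, ← finrank_NN hJ]
  push_cast
  rfl

lemma samuelFn_MM (j : ℕ) :
    GrMod.samuelFn (Ring.jacobson (BB k σ)) (MM J) j = sam J j := by
  simp only [GrMod.samuelFn, sam]
  rw [IsLocalRing.ringJacobson_eq_maximalIdeal, length_MM_quot]

end Localized

end Groth.Agent.Lib.Helper90.GradedLocal
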