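import Mathlib
import Groth.Agent.Lib.Helper90.GradedLocal4
import Groth.Agent.Lib.Helper90.SamuelLocal

/-!
# The Hilbert–Samuel polynomial of the cone `B/JB` versus the Hilbert polynomial of `J`
-/

namespace Groth.Agent.Lib.Helper90.GradedLocal

open Module MvPolynomial HomogSection IsLocalRing

universe u

attribute [local instance] MvPolynomial.gradedAlgebra

section Homog

variable {k : Type u} [Field k] {σ : Type} [Finite σ] {J : Ideal (MvPolynomial σ k)}

/-- a proper homogeneous ideal lies in the irrelevant ideal. -/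
lemma le_idealOfVars (hJ : J.IsHomogeneous (homogeneousSubmodule σ k)) (hJt : J ≠ ⊤) :
    J ≤ idealOfVars σ k := by
  intro p hp
  rw [mem_idealOfVars_iff]
  by_contra h
  apply hJt
  have h0 := homogeneousComponent_mem_of_mem hJ hp 0
  rw [homogeneousComponent_zero] at h0
  rw [Ideal.eq_top_iff_one]
  have h1 : (1 : MvPolynomial σ k) = C (coeff 0 p)⁻¹ * C (coeff 0 p) := by
    rw [← C_mul, inv_mul_cancel₀, C_1]
    rwa [constantCoeff_eq] at h
  rw [h1]
  exact J.mul_mem_left _ h0

omit [Finite σ] in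
/-- minimal primes over a homogeneous ideal are homogeneous. -/
lemma isHomogeneous_of_mem_minimalPrimes (hJ : J.IsHomogeneous (homogeneousSubmodule σ k))
    {q : Ideal (MvPolynomial σ k)} (hq : q ∈ J.minimalPrimes) :
    q.IsHomogeneous (homogeneousSubmodule σ k) := by
  have hqp : q.IsPrime := hq.1.1
  have hcore : (q.homogeneousCore (homogeneousSubmodule σ k)).toIdeal.IsPrime :=
    hqp.homogeneousCore
  have hJc : J ≤ (q.homogeneousCore (homogeneousSubmodule σ k)).toIdeal :=
    hJ.toIdeal_homogeneousCore_eq_self.symm.trans_le (Ideal.homogeneousCore_mono _ hq.1.2)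
  have hle : (q.homogeneousCore (homogeneousSubmodule σ k)).toIdeal ≤ q :=
    Ideal.toIdeal_homogeneousCore_le _ _
  have := hq.2 ⟨hcore, hJc⟩ hle
  have heq : (q.homogeneousCore (homogeneousSubmodule σ k)).toIdeal = q := le_antisymm hle this
  rw [← heq]
  exact HomogeneousIdeal.isHomogeneous _

lemma map_ne_top (hJm : J ≤ idealOfVars σ k) :
    J.map (algebraMap (MvPolynomial σ k) (BB k σ)) ≠ ⊤ := by
  intro h
  have h1 : J.map (algebraMap (MvPolynomial σ k) (BB k σ)) ≤ maximalIdeal (BB k σ) := by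
    rw [← Localization.AtPrime.map_eq_maximalIdeal]
    exact Ideal.map_mono hJm
  rw [h] at h1
  exact (maximalIdeal.isMaximal (BB k σ)).ne_top (top_le_iff.mp h1)

lemma nontrivial_MM (hJm : J ≤ idealOfVars σ k) : Nontrivial (MM J) :=
  Ideal.Quotient.nontrivial_iff.mpr (map_ne_top hJm)

/-- the Hilbert–Samuel polynomial of `B/JB`, its degree and its difference polynomial. -/
theorem exists_HS (hJ : J.IsHomogeneous (homogeneousSubmodule σ k)) (hJm : J ≤ idealOfVars σ k)
    (P : Polynomial ℚ) (m₀ : ℕ) (hP : ∀ j : ℕ, m₀ ≤ j → P.eval (j : ℚ) = ((hilb J j : ℤ) : ℚ)) :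
    ∃ Q : Polynomial ℚ, Samuel.IsHS (BB k σ) (MM J) Q ∧
      (Q.natDegree : WithBot ℕ∞) =
        ringKrullDim (BB k σ ⧸ J.map (algebraMap (MvPolynomial σ k) (BB k σ))) ∧
      P = Q.comp (Polynomial.X + Polynomial.C 1) - Q := by
  haveI := nontrivial_MM hJm
  obtain ⟨Q, hQ, hdeg⟩ := SamuelDim.exists_hilbertSamuel (A := BB k σ) (MM J)
  refine ⟨Q, hQ, ?_, ?_⟩
  · rw [hdeg, Module.supportDim_quotient_eq_ringKrullDim]
  · obtain ⟨N, hN⟩ := hQ
    apply PolyDiff.eq_comp_sub_of_diff Q P (max N m₀)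
    intro j hj
    have h1 := hN j (by omega)
    have h2 := hN (j + 1) (by omega)
    rw [samuelFn_MM] at h1 h2
    rw [sam_succ hJ] at h2
    push_cast at h2
    rw [← h2, ← h1, hP j (by omega)]
    ring

end Homog

end Groth.Agent.Lib.Helper90.GradedLocal
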