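import Mathlib
import Groth.Agent.Lib.Helper90.GradedLocal5
import Groth.Agent.Lib.Helper90.DimQuot
import Groth.Agent.Lib.Helper73.DimFT.Catenary

/-!
# The dimension of the affine cone of a homogeneous ideal is the dimension at the vertex
-/

namespace Groth.Agent.Lib.Helper90.GradedLocal

open Module MvPolynomial HomogSection IsLocalRing

universe u

attribute [local instance] MvPolynomial.gradedAlgebra

section General

/-- if every element of `B` is a unit multiple of an element of the image of `A`, then
`dim B ≤ dim A`. -/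
lemma ringKrullDim_le_of_units {A B : Type*} [CommRing A] [CommRing B] (ψ : A →+* B)
    (h : ∀ b : B, ∃ u : B, IsUnit u ∧ u * b ∈ ψ.range) : ringKrullDim B ≤ ringKrullDim A := by
  apply Order.krullDim_le_of_strictMono
    (fun p : PrimeSpectrum B => (⟨Ideal.comap ψ p.asIdeal, inferInstance⟩ : PrimeSpectrum A))
  intro p q hpq
  have hle : p.asIdeal ≤ q.asIdeal := hpq.le
  refine lt_of_le_of_ne (Ideal.comap_mono hle : Ideal.comap ψ p.asIdeal ≤ Ideal.comap ψ q.asIdeal)
    ?_
  intro heq
  have heq' : Ideal.comap ψ p.asIdeal = Ideal.comap ψ q.asIdeal :=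
    congrArg PrimeSpectrum.asIdeal heq
  apply hpq.ne
  apply PrimeSpectrum.ext
  apply le_antisymm hle
  intro b hb
  obtain ⟨u, hu, a, ha⟩ := h b
  have h1 : a ∈ Ideal.comap ψ q.asIdeal := by
    rw [Ideal.mem_comap, ha]
    exact q.asIdeal.mul_mem_left _ hb
  rw [← heq', Ideal.mem_comap, ha] at h1
  rcases p.isPrime.mem_or_mem h1 with h2 | h2
  · exact absurd (p.asIdeal.eq_top_of_isUnit_mem h2 hu) p.isPrime.ne_top
  · exact h2

lemma localRingHom_surjective {A A' : Type u} [CommRing A] [CommRing A'] (f : A →+* A')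
    (hf : Function.Surjective f) (P : Ideal A') [P.IsPrime] (I : Ideal A) [I.IsPrime]
    (h : I = P.comap f) : Function.Surjective (Localization.localRingHom I P f h) := by
  subst h
  exact RingHom.surjective_localRingHom_of_surjective f hf P

/-- the local ring of `A/q` at `m/q` is a quotient of `A_m/JA_m` for `J ≤ q ≤ m`. -/
lemma ringKrullDim_localization_quotient_le {A : Type u} [CommRing A] (m : Ideal A) [m.IsPrime]
    (q J : Ideal A) (hq : q ≤ m) (hJ : J ≤ q) [(m.map (Ideal.Quotient.mk q)).IsPrime] :
    ringKrullDim (Localization.AtPrime (m.map (Ideal.Quotient.mk q))) ≤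
      ringKrullDim (Localization.AtPrime m ⧸ J.map (algebraMap A (Localization.AtPrime m))) := by
  have hcomap : m = (m.map (Ideal.Quotient.mk q)).comap (Ideal.Quotient.mk q) := by
    rw [Ideal.comap_map_of_surjective _ Ideal.Quotient.mk_surjective, ← RingHom.ker_eq_comap_bot,
      Ideal.mk_ker, sup_eq_left.mpr hq]
  set φ := Localization.localRingHom m (m.map (Ideal.Quotient.mk q)) (Ideal.Quotient.mk q) hcomap
    with hφdef
  have hφ : Function.Surjective φ :=
    localRingHom_surjective _ Ideal.Quotient.mk_surjective _ _ hcomap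
  have hker : J.map (algebraMap A (Localization.AtPrime m)) ≤ RingHom.ker φ := by
    rw [Ideal.map_le_iff_le_comap]
    intro x hx
    rw [Ideal.mem_comap, RingHom.mem_ker, hφdef, Localization.localRingHom_to_map,
      Ideal.Quotient.eq_zero_iff_mem.mpr (hJ hx), map_zero]
  exact ringKrullDim_le_of_surjective
    (Ideal.Quotient.lift (J.map (algebraMap A (Localization.AtPrime m))) φ (fun a ha => hker ha))
    (Ideal.Quotient.lift_surjective_of_surjective _ _ hφ)

end General

section Cone

variable {k : Type u} [Field k] {σ : Type} [Finite σ] {J : Ideal (MvPolynomial σ k)}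

lemma ringKrullDim_BB_quot_le (J : Ideal (MvPolynomial σ k)) :
    ringKrullDim (BB k σ ⧸ J.map (algebraMap (MvPolynomial σ k) (BB k σ))) ≤
      ringKrullDim (MvPolynomial σ k ⧸ J) := by
  apply ringKrullDim_le_of_units (quotMap (idealOfVars σ k) J).toRingHom
  intro b
  obtain ⟨b, rfl⟩ := Ideal.Quotient.mk_surjective b
  obtain ⟨a, s, rfl⟩ := IsLocalization.exists_mk'_eq (idealOfVars σ k).primeCompl b
  refine ⟨Ideal.Quotient.mk _ (algebraMap (MvPolynomial σ k) (BB k σ) s),
    (IsLocalization.map_units (BB k σ) s).map _, Ideal.Quotient.mk J a, ?_⟩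
  change quotMap (idealOfVars σ k) J (Ideal.Quotient.mk J a) = _
  rw [quotMap_mk, ← map_mul, mul_comm, IsLocalization.mk'_spec]

theorem ringKrullDim_quot_le_BB (hJ : J.IsHomogeneous (homogeneousSubmodule σ k)) :
    ringKrullDim (MvPolynomial σ k ⧸ J) ≤
      ringKrullDim (BB k σ ⧸ J.map (algebraMap (MvPolynomial σ k) (BB k σ))) := by
  rw [ringKrullDim_quotient]
  change (⨆ c : LTSeries ↥(PrimeSpectrum.zeroLocus (J : Set (MvPolynomial σ k))),
    (c.length : WithBot ℕ∞)) ≤ _
  refine iSup_le fun c => ?_
  let c' : LTSeries (PrimeSpectrum (MvPolynomial σ k)) := c.map Subtype.val (fun a b h => h)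
  have hJc : J ≤ c'.head.asIdeal := c.head.2
  obtain ⟨q', hq'min, hq'le⟩ := Ideal.exists_minimalPrimes_le hJc
  haveI hq'p : q'.IsPrime := hq'min.1.1
  have hq'h := isHomogeneous_of_mem_minimalPrimes hJ hq'min
  have hq'm : q' ≤ idealOfVars σ k := le_idealOfVars hq'h hq'p.ne_top
  have hcomap : idealOfVars σ k =
      ((idealOfVars σ k).map (Ideal.Quotient.mk q')).comap (Ideal.Quotient.mk q') := by
    rw [Ideal.comap_map_of_surjective _ Ideal.Quotient.mk_surjective, ← RingHom.ker_eq_comap_bot,
      Ideal.mk_ker, sup_eq_left.mpr hq'm]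
  haveI hmax : ((idealOfVars σ k).map (Ideal.Quotient.mk q')).IsMaximal := by
    rcases Ideal.map_eq_top_or_isMaximal_of_surjective (Ideal.Quotient.mk q')
      Ideal.Quotient.mk_surjective (isMaximal_idealOfVars (k := k) (σ := σ)) with h | h
    · exfalso
      rw [h, Ideal.comap_top] at hcomap
      exact (isMaximal_idealOfVars (k := k) (σ := σ)).ne_top hcomap
    · exact h
  calc (c.length : WithBot ℕ∞) = (c'.length : WithBot ℕ∞) := rfl
    _ ≤ ringKrullDim (MvPolynomial σ k ⧸ c'.head.asIdeal) :=
        DimQuot.length_le_ringKrullDim_quotient_head c'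
    _ ≤ ringKrullDim (MvPolynomial σ k ⧸ q') :=
        ringKrullDim_le_of_surjective (Ideal.Quotient.factor hq'le)
          (Ideal.Quotient.factor_surjective hq'le)
    _ = (((idealOfVars σ k).map (Ideal.Quotient.mk q')).height : WithBot ℕ∞) :=
        (Groth.Agent.Lib.Helper73.height_eq_ringKrullDim_of_isMaximal k _).symm
    _ = ringKrullDim (Localization.AtPrime ((idealOfVars σ k).map (Ideal.Quotient.mk q'))) :=
        (IsLocalization.AtPrime.ringKrullDim_eq_height
          ((idealOfVars σ k).map (Ideal.Quotient.mk q'))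
          (Localization.AtPrime ((idealOfVars σ k).map (Ideal.Quotient.mk q')))).symm
    _ ≤ _ := ringKrullDim_localization_quotient_le (idealOfVars σ k) q' J hq'm hq'min.1.2

/-- the dimension of the affine cone equals the dimension of its local ring at the vertex. -/
theorem ringKrullDim_BB_quot (hJ : J.IsHomogeneous (homogeneousSubmodule σ k)) :
    ringKrullDim (BB k σ ⧸ J.map (algebraMap (MvPolynomial σ k) (BB k σ))) =
      ringKrullDim (MvPolynomial σ k ⧸ J) :=
  le_antisymm (ringKrullDim_BB_quot_le J) (ringKrullDim_quot_le_BB hJ)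

end Cone

end Groth.Agent.Lib.Helper90.GradedLocal
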