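import Mathlib
import Groth.Agent.Lib.Helper90.GradedLocal6

/-!
# Dimension of the cone and degree of the Hilbert polynomial
-/

namespace Groth.Agent.Lib.Helper90.GradedLocal

open Module MvPolynomial HomogSection IsLocalRing

universe u

attribute [local instance] MvPolynomial.gradedAlgebra

section Poly

lemma poly_eq_zero_of_eventually (P : Polynomial ℚ) (N : ℕ)
    (h : ∀ j : ℕ, N ≤ j → P.eval (j : ℚ) = 0) : P = 0 := by
  apply Polynomial.eq_of_infinite_eval_eq
  apply Set.infinite_of_injective_forall_mem (f := fun j : ℕ => ((j + N : ℕ) : ℚ))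
  · intro a b hab
    have hab' : ((a + N : ℕ) : ℚ) = ((b + N : ℕ) : ℚ) := hab
    have : (a + N : ℕ) = b + N := by exact_mod_cast hab'
    omega
  · intro j
    simp only [Set.mem_setOf_eq, Polynomial.eval_zero]
    exact h (j + N) (Nat.le_add_left N j)

end Poly

section Cone

variable {k : Type u} [Field k] {σ : Type} [Finite σ] {J : Ideal (MvPolynomial σ k)}

omit [Finite σ] in
lemma part_top (j : ℕ) :
    part (⊤ : Ideal (MvPolynomial σ k)) j = homogeneousSubmodule σ k j := by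
  unfold part
  rw [Submodule.restrictScalars_top, top_inf_eq]

omit [Finite σ] in
lemma hilb_top (j : ℕ) : hilb (⊤ : Ideal (MvPolynomial σ k)) j = 0 := by
  unfold hilb
  rw [part_top]
  exact sub_self _

/-- a homogeneous ideal with nonzero Hilbert polynomial is proper. -/
lemma ne_top_of_hilbPoly_ne_zero {P : Polynomial ℚ} (hP0 : P ≠ 0) (m₀ : ℕ)
    (hP : ∀ j : ℕ, m₀ ≤ j → P.eval (j : ℚ) = ((hilb J j : ℤ) : ℚ)) : J ≠ ⊤ := by
  rintro rfl
  apply hP0
  apply poly_eq_zero_of_eventually P m₀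
  intro j hj
  rw [hP j hj, hilb_top, Int.cast_zero]

/-- **dimension of the cone**: `dim R/J = deg P + 1` for the Hilbert polynomial `P ≠ 0`. -/
theorem ringKrullDim_quot_eq (hJ : J.IsHomogeneous (homogeneousSubmodule σ k))
    {P : Polynomial ℚ} (hP0 : P ≠ 0) (m₀ : ℕ)
    (hP : ∀ j : ℕ, m₀ ≤ j → P.eval (j : ℚ) = ((hilb J j : ℤ) : ℚ)) :
    ringKrullDim (MvPolynomial σ k ⧸ J) = (P.natDegree : WithBot ℕ∞) + 1 := by
  have hJt := ne_top_of_hilbPoly_ne_zero hP0 m₀ hP
  have hJm := le_idealOfVars hJ hJt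
  obtain ⟨Q, -, hdeg, hdiff⟩ := exists_HS hJ hJm P m₀ hP
  have h1 := PolyDiff.natDegree_of_diff Q P 0 (fun j _ => by
    rw [hdiff]
    simp) hP0
  rw [← ringKrullDim_BB_quot hJ, ← hdeg, h1.1]
  push_cast
  rfl

end Cone

end Groth.Agent.Lib.Helper90.GradedLocal
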