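import Mathlib
import Groth.Agent.Lib.Helper90.GradedLocal7

/-!
# Existence of the Hilbert polynomial of a homogeneous ideal, with degree bound
-/

namespace Groth.Agent.Lib.Helper90.GradedLocal

open Module MvPolynomial HomogSection IsLocalRing

universe u

attribute [local instance] MvPolynomial.gradedAlgebra

section Cone

variable {k : Type u} [Field k] {σ : Type} [Finite σ] {J : Ideal (MvPolynomial σ k)}

/-- existence of the Hilbert polynomial as the difference polynomial of the Hilbert–Samuel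
polynomial of the cone. -/
theorem exists_hilbPoly (hJ : J.IsHomogeneous (homogeneousSubmodule σ k))
    (hJt : J ≠ ⊤) :
    ∃ Q : Polynomial ℚ, (Q.natDegree : WithBot ℕ∞) = ringKrullDim (MvPolynomial σ k ⧸ J) ∧
      ∃ N : ℕ, ∀ j : ℕ, N ≤ j →
        (Q.comp (Polynomial.X + Polynomial.C 1) - Q).eval (j : ℚ) = ((hilb J j : ℤ) : ℚ) := by
  have hJm := le_idealOfVars hJ hJt
  haveI := nontrivial_MM hJm
  obtain ⟨Q, ⟨N, hN⟩, hdeg⟩ := SamuelDim.exists_hilbertSamuel (A := BB k σ) (MM J)
  refine ⟨Q, ?_, N, ?_⟩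
  · rw [hdeg, Module.supportDim_quotient_eq_ringKrullDim, ringKrullDim_BB_quot hJ]
  · intro j hj
    have h1 := hN j hj
    have h2 := hN (j + 1) (by omega)
    rw [samuelFn_MM] at h1 h2
    rw [sam_succ hJ] at h2
    push_cast at h2
    simp only [Polynomial.eval_sub, Polynomial.eval_comp, Polynomial.eval_add, Polynomial.eval_X,
      Polynomial.eval_C]
    rw [← h2, ← h1]
    ring

end Cone

section FinVars

variable {k : Type u} [Field k] {d : ℕ} {J : Ideal (MvPolynomial (Fin d) k)}

/-- a nonzero ideal of `k[X_1..X_d]` has a quotient of dimension `< d`. -/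
lemma ringKrullDim_quot_succ_le (hJ0 : J ≠ ⊥) :
    ringKrullDim (MvPolynomial (Fin d) k ⧸ J) + 1 ≤ (d : WithBot ℕ∞) := by
  obtain ⟨f, hfJ, hf0⟩ := Submodule.exists_mem_ne_zero_of_ne_bot hJ0
  have hle : Ideal.span {f} ≤ J := (Ideal.span_singleton_le_iff_mem J).mpr hfJ
  have h1 : ringKrullDim (MvPolynomial (Fin d) k ⧸ J) ≤
      ringKrullDim (MvPolynomial (Fin d) k ⧸ Ideal.span {f}) :=
    ringKrullDim_le_of_surjective (Ideal.Quotient.factor hle) (Ideal.Quotient.factor_surjective hle)
  have h2 := ringKrullDim_quotient_succ_le_of_nonZeroDivisor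
    (mem_nonZeroDivisors_of_ne_zero hf0)
  rw [Groth.Agent.Lib.Helper73.ringKrullDim_mvPolynomial_field] at h2
  exact (add_le_add_left h1 1).trans h2

end FinVars

end Groth.Agent.Lib.Helper90.GradedLocal
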