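import Mathlib
import Groth.Agent.Lib.Helper90.GradedLocal8
import Groth.Agent.Lib.Helper90.GradedLocal9

/-!
# The degree of a projective scheme as a sum over its top-dimensional components
-/

namespace Groth.Agent.Lib.Helper90.GradedLocal

open Module MvPolynomial HomogSection IsLocalRing Filter Topology

universe u

attribute [local instance] MvPolynomial.gradedAlgebra

section Poly

lemma natDegree_eq_zero_of_comp_eq (Q : Polynomial ℚ)
    (h : Q.comp (Polynomial.X + Polynomial.C 1) = Q) : Q.natDegree = 0 := by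
  have hev : ∀ j : ℕ, Q.eval (j : ℚ) = Q.eval 0 := by
    intro j
    induction j with
    | zero => simp
    | succ j ih =>
      have h1 := congrArg (Polynomial.eval (j : ℚ)) h
      simp only [Polynomial.eval_comp, Polynomial.eval_add, Polynomial.eval_X,
        Polynomial.eval_C] at h1
      push_cast
      rw [h1, ih]
  have h0 : Q - Polynomial.C (Q.eval 0) = 0 :=
    poly_eq_zero_of_eventually _ 0 (fun j _ => by simp [hev j])
  rw [sub_eq_zero] at h0
  rw [h0]
  exact Polynomial.natDegree_C _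

end Poly

section Cone

variable {k : Type u} [Field k] {σ : Type} [Finite σ] {J : Ideal (MvPolynomial σ k)}

/-- the normalized Samuel function of the cone converges to the degree `(deg P)! · lc P`. -/
theorem tendsto_sam_MM (hJ : J.IsHomogeneous (homogeneousSubmodule σ k))
    {P : Polynomial ℚ} (hP0 : P ≠ 0) (m₀ : ℕ)
    (hP : ∀ j : ℕ, m₀ ≤ j → P.eval (j : ℚ) = ((hilb J j : ℤ) : ℚ)) :
    Tendsto (Assoc.sam (maximalIdeal (BB k σ)) (MM J) (P.natDegree + 1)) atTop
      (𝓝 (((P.natDegree.factorial : ℚ) * P.leadingCoeff : ℚ) : ℝ)) := by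
  have hJt := ne_top_of_hilbPoly_ne_zero hP0 m₀ hP
  have hJm := le_idealOfVars hJ hJt
  obtain ⟨Q, hQ, -, hdiff⟩ := exists_HS hJ hJm P m₀ hP
  have h1 := PolyDiff.natDegree_of_diff Q P 0 (fun j _ => by
    rw [hdiff]
    simp) hP0
  have hlim := tendsto_sam_of_isHS (MM J) Q hQ (P.natDegree + 1) h1.1
  convert hlim using 2
  rw [h1.2, h1.1, Nat.factorial_succ]
  push_cast
  ring

lemma ringKrullDim_BB_quot_of_hilbPoly (hJ : J.IsHomogeneous (homogeneousSubmodule σ k))
    {P : Polynomial ℚ} (hP0 : P ≠ 0) (m₀ : ℕ)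
    (hP : ∀ j : ℕ, m₀ ≤ j → P.eval (j : ℚ) = ((hilb J j : ℤ) : ℚ)) :
    ringKrullDim (BB k σ ⧸ J.map (algebraMap (MvPolynomial σ k) (BB k σ))) =
      ((P.natDegree + 1 : ℕ) : WithBot ℕ∞) := by
  rw [ringKrullDim_BB_quot hJ, ringKrullDim_quot_eq hJ hP0 m₀ hP]
  push_cast
  rfl

lemma ringKrullDim_BB_quot_of_hilb_zero (hJ : J.IsHomogeneous (homogeneousSubmodule σ k))
    (hJm : J ≤ idealOfVars σ k) (m₀ : ℕ) (h0 : ∀ j : ℕ, m₀ ≤ j → hilb J j = 0) :
    ringKrullDim (BB k σ ⧸ J.map (algebraMap (MvPolynomial σ k) (BB k σ))) = 0 := by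
  obtain ⟨Q, -, hdeg, hdiff⟩ := exists_HS hJ hJm 0 m₀ (fun j hj => by
    rw [h0 j hj]
    simp)
  have h1 := natDegree_eq_zero_of_comp_eq Q (sub_eq_zero.mp hdiff.symm)
  rw [← hdeg, h1]
  rfl

lemma disjoint_of_le {p : Ideal (MvPolynomial σ k)} (hp : p ≤ idealOfVars σ k) :
    Disjoint ((idealOfVars σ k).primeCompl : Set (MvPolynomial σ k))
      (p : Set (MvPolynomial σ k)) :=
  Set.disjoint_left.mpr fun _ hx hxp => hx (hp hxp)

/-- the prime of `BB` attached to a prime of the polynomial ring inside the irrelevant ideal. -/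
noncomputable def toBB (p : Ideal (MvPolynomial σ k)) [hp : p.IsPrime]
    (hpm : p ≤ idealOfVars σ k) : PrimeSpectrum (BB k σ) :=
  ⟨p.map (algebraMap (MvPolynomial σ k) (BB k σ)),
    IsLocalization.isPrime_of_isPrime_disjoint (idealOfVars σ k).primeCompl (BB k σ) p hp
      (disjoint_of_le hpm)⟩

lemma comap_toBB (p : Ideal (MvPolynomial σ k)) [hp : p.IsPrime] (hpm : p ≤ idealOfVars σ k) :
    (toBB p hpm).asIdeal.comap (algebraMap (MvPolynomial σ k) (BB k σ)) = p :=
  IsLocalization.under_map_of_isPrime_disjoint (idealOfVars σ k).primeCompl (BB k σ) hp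
    (disjoint_of_le hpm)

/-- a prime of top dimension in the support of the cone comes from a minimal prime. -/
lemma comap_mem_minimalPrimes (I : Ideal (MvPolynomial σ k)) (d : ℕ)
    (hd : ringKrullDim (BB k σ ⧸ I.map (algebraMap (MvPolynomial σ k) (BB k σ))) = d)
    (𝔭 : PrimeSpectrum (BB k σ)) (hdim : ringKrullDim (BB k σ ⧸ 𝔭.asIdeal) = d)
    (hloc : Assoc.locLen (MM I) 𝔭 ≠ 0) :
    𝔭.asIdeal.comap (algebraMap (MvPolynomial σ k) (BB k σ)) ∈ I.minimalPrimes := by
  have hsupp := (Assoc.locLen_ne_zero_iff (MM I)).mp hloc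
  have hann : I.map (algebraMap (MvPolynomial σ k) (BB k σ)) ≤ 𝔭.asIdeal := by
    have h := Module.mem_support_iff_of_finite.mp hsupp
    rwa [Ideal.annihilator_quotient] at h
  set q := 𝔭.asIdeal.comap (algebraMap (MvPolynomial σ k) (BB k σ)) with hq
  have hIq : I ≤ q := Ideal.map_le_iff_le_comap.mp hann
  obtain ⟨q', hq'min, hq'q⟩ := Ideal.exists_minimalPrimes_le hIq
  haveI hq'p : q'.IsPrime := hq'min.1.1
  have hqm : q ≤ idealOfVars σ k := by
    have h1 : 𝔭.asIdeal ≤ maximalIdeal (BB k σ) := IsLocalRing.le_maximalIdeal 𝔭.isPrime.ne_top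
    rw [← Localization.AtPrime.map_eq_maximalIdeal] at h1
    have h2 := Ideal.comap_mono (f := algebraMap (MvPolynomial σ k) (BB k σ)) h1
    have h3 : Ideal.comap (algebraMap (MvPolynomial σ k) (BB k σ))
        ((idealOfVars σ k).map (algebraMap (MvPolynomial σ k) (BB k σ))) = idealOfVars σ k :=
      IsLocalization.under_map_of_isPrime_disjoint (idealOfVars σ k).primeCompl (BB k σ)
        (isMaximal_idealOfVars (k := k) (σ := σ)).isPrime (disjoint_of_le le_rfl)
    rwa [h3] at h2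
  have hq'm := hq'q.trans hqm
  have h𝔮' : (toBB q' hq'm).asIdeal ≤ 𝔭.asIdeal := by
    change q'.map _ ≤ _
    calc q'.map (algebraMap (MvPolynomial σ k) (BB k σ))
        ≤ q.map (algebraMap (MvPolynomial σ k) (BB k σ)) := Ideal.map_mono hq'q
      _ = 𝔭.asIdeal := IsLocalization.map_under (idealOfVars σ k).primeCompl (BB k σ) 𝔭.asIdeal
  rcases eq_or_lt_of_le h𝔮' with h | h
  · have hqq : q' = q := by
      rw [hq, ← h, comap_toBB]
    rw [← hqq]
    exact hq'min
  · exfalso
    haveI := (toBB q' hq'm).isPrime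
    have h1 := Assoc.ringKrullDim_quotient_succ_le_of_lt h
    have h2 : ringKrullDim (BB k σ ⧸ (toBB q' hq'm).asIdeal) ≤
        ringKrullDim (BB k σ ⧸ I.map (algebraMap (MvPolynomial σ k) (BB k σ))) :=
      Assoc.ringKrullDim_quotient_le_of_le (Ideal.map_mono hq'min.1.2)
    rw [hdim] at h1
    rw [hd] at h2
    have h3 : ((d + 1 : ℕ) : WithBot ℕ∞) ≤ (d : WithBot ℕ∞) := by
      push_cast
      exact h1.trans h2
    have : d + 1 ≤ d := by exact_mod_cast h3
    omega

end Cone

end Groth.Agent.Lib.Helper90.GradedLocal
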