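import Mathlib
import Groth.Agent.Lib.Helper90.GradedLocal10

/-!
# The degree formula: `deg V(I) = Σ mult · deg V(p_i)` over top-dimensional components
-/

namespace Groth.Agent.Lib.Helper90.GradedLocal

open Module MvPolynomial HomogSection IsLocalRing Filter Topology

universe u

attribute [local instance] MvPolynomial.gradedAlgebra

section Cone

variable {k : Type u} [Field k] {σ : Type} [Finite σ]

lemma hilb_nonneg (J : Ideal (MvPolynomial σ k)) (j : ℕ) : 0 ≤ hilb J j := by
  unfold hilb
  have h : finrank k ↥(part J j) ≤ finrank k ↥(homogeneousSubmodule σ k j) :=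
    Submodule.finrank_mono (inf_le_right : part J j ≤ homogeneousSubmodule σ k j)
  omega

lemma hilb_anti {I J : Ideal (MvPolynomial σ k)} (h : I ≤ J) (j : ℕ) : hilb J j ≤ hilb I j := by
  unfold hilb
  have h1 : finrank k ↥(part I j) ≤ finrank k ↥(part J j) :=
    Submodule.finrank_mono (inf_le_inf_right _ (fun x hx => h hx))
  omega

/-- if the Hilbert polynomial of `I` vanishes, so does that of any larger ideal. -/
lemma hilbPoly_eq_zero_of_le {I J : Ideal (MvPolynomial σ k)} (h : I ≤ J)
    (m₀ : ℕ) (hI0 : ∀ j : ℕ, m₀ ≤ j → hilb I j = 0)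
    (Q : Polynomial ℚ) (m₁ : ℕ) (hQ : ∀ j : ℕ, m₁ ≤ j → Q.eval (j : ℚ) = ((hilb J j : ℤ) : ℚ)) :
    Q = 0 := by
  apply poly_eq_zero_of_eventually Q (max m₀ m₁)
  intro j hj
  rw [hQ j (by omega)]
  have h1 := hilb_anti h j
  have h2 := hilb_nonneg J j
  rw [hI0 j (by omega)] at h1
  have : hilb J j = 0 := le_antisymm h1 h2
  rw [this, Int.cast_zero]

/-- **degree formula**, the main case. -/
theorem degree_formula {I : Ideal (MvPolynomial σ k)}
    (hI : I.IsHomogeneous (homogeneousSubmodule σ k))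
    {P : Polynomial ℚ} (hP0 : P ≠ 0) (m₀ : ℕ)
    (hP : ∀ j : ℕ, m₀ ≤ j → P.eval (j : ℚ) = ((hilb I j : ℤ) : ℚ))
    (r : ℕ) (p : Fin r → Ideal (MvPolynomial σ k)) [hp : ∀ i, (p i).IsPrime]
    (hpinj : Function.Injective p)
    (hpmin : ∀ q : Ideal (MvPolynomial σ k), q ∈ I.minimalPrimes ↔ ∃ i, q = p i)
    (Qp : Fin r → Polynomial ℚ)
    (hQp : ∀ i, ∃ m₁ : ℕ, ∀ j : ℕ, m₁ ≤ j → (Qp i).eval (j : ℚ) = ((hilb (p i) j : ℤ) : ℚ)) :
    (P.natDegree.factorial : ℚ) * P.leadingCoeff =
      ∑ i : Fin r, if (Qp i).natDegree = P.natDegree then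
        ((Qp i).natDegree.factorial : ℚ) * (Qp i).leadingCoeff *
          (Module.length (Localization.AtPrime (p i))
            (LocalizedModule (p i).primeCompl (MvPolynomial σ k ⧸ I))).toNat
      else 0 := by
  classical
  set d := P.natDegree + 1 with hd
  have hdimI : ringKrullDim (BB k σ ⧸ I.map (algebraMap (MvPolynomial σ k) (BB k σ))) =
      ((d : ℕ) : WithBot ℕ∞) := ringKrullDim_BB_quot_of_hilbPoly hI hP0 m₀ hP
  have hpmin' : ∀ i, p i ∈ I.minimalPrimes := fun i => (hpmin _).mpr ⟨i, rfl⟩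
  have hph : ∀ i, (p i).IsHomogeneous (homogeneousSubmodule σ k) :=
    fun i => isHomogeneous_of_mem_minimalPrimes hI (hpmin' i)
  have hpm : ∀ i, p i ≤ idealOfVars σ k := fun i => le_idealOfVars (hph i) (hp i).ne_top
  let φ : Fin r → PrimeSpectrum (BB k σ) := fun i => toBB (p i) (hpm i)
  have hφinj : Function.Injective φ := by
    intro i j hij
    apply hpinj
    rw [← comap_toBB (p i) (hpm i), ← comap_toBB (p j) (hpm j)]
    exact congrArg (fun x : PrimeSpectrum (BB k σ) =>
      x.asIdeal.comap (algebraMap (MvPolynomial σ k) (BB k σ))) hij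
  have hlim1 := tendsto_sam_MM hI hP0 m₀ hP
  have hsd : supportDim (BB k σ) (MM I) ≤ (d : WithBot ℕ∞) := by
    rw [Module.supportDim_quotient_eq_ringKrullDim, hdimI]
  have hlim2 := assoc_mult d (MM I) hsd
  have heq := tendsto_nhds_unique hlim1 hlim2
  have htot : Assoc.tot d (mult (BB k σ) d) (MM I) =
      ∑ i : Fin r, (fun 𝔭 : PrimeSpectrum (BB k σ) =>
        ∑ᶠ (_ : ringKrullDim (BB k σ ⧸ 𝔭.asIdeal) = d),
          ((Assoc.locLen (MM I) 𝔭).toNat : ℝ) * mult (BB k σ) d 𝔭) (φ i) := by
    simp only [Assoc.tot]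
    rw [finsum_eq_sum_of_support_subset (s := Finset.univ.image φ),
      Finset.sum_image (fun i _ j _ h => hφinj h)]
    intro 𝔭 h𝔭
    rw [Function.mem_support, Assoc.term_eq] at h𝔭
    split_ifs at h𝔭 with hpd
    · have hμ : (Assoc.locLen (MM I) 𝔭).toNat ≠ 0 := fun h => h𝔭 (by rw [h]; simp)
      have hloc : Assoc.locLen (MM I) 𝔭 ≠ 0 := fun h => hμ (by rw [h]; rfl)
      have hmin := comap_mem_minimalPrimes I d hdimI 𝔭 hpd hloc
      obtain ⟨i, hi⟩ := (hpmin _).mp hmin
      rw [Finset.coe_image, Finset.coe_univ, Set.image_univ]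
      refine ⟨i, ?_⟩
      apply PrimeSpectrum.ext
      change (p i).map (algebraMap (MvPolynomial σ k) (BB k σ)) = 𝔭.asIdeal
      rw [← hi]
      exact IsLocalization.map_under (idealOfVars σ k).primeCompl (BB k σ) 𝔭.asIdeal
    · exact absurd rfl h𝔭
  have hterm : ∀ i, (∑ᶠ (_ : ringKrullDim (BB k σ ⧸ (φ i).asIdeal) = d),
      ((Assoc.locLen (MM I) (φ i)).toNat : ℝ) * mult (BB k σ) d (φ i)) =
      (((if (Qp i).natDegree = P.natDegree then
        ((Qp i).natDegree.factorial : ℚ) * (Qp i).leadingCoeff *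
          (Module.length (Localization.AtPrime (p i))
            (LocalizedModule (p i).primeCompl (MvPolynomial σ k ⧸ I))).toNat
      else 0 : ℚ)) : ℝ) := by
    intro i
    rw [Assoc.term_eq]
    obtain ⟨mi, hmi⟩ := hQp i
    by_cases hQ0 : Qp i = 0
    · have h0 : ringKrullDim (BB k σ ⧸ (φ i).asIdeal) = 0 :=
        ringKrullDim_BB_quot_of_hilb_zero (hph i) (hpm i) mi (fun j hj => by
          have h := hmi j hj
          rw [hQ0, Polynomial.eval_zero] at h
          exact_mod_cast h.symm)
      rw [if_neg (by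
        rw [h0]
        intro h
        have : (0 : ℕ) = d := by exact_mod_cast h
        omega)]
      rw [hQ0]
      simp
    · have hdimi : ringKrullDim (BB k σ ⧸ (φ i).asIdeal) =
          (((Qp i).natDegree + 1 : ℕ) : WithBot ℕ∞) :=
        ringKrullDim_BB_quot_of_hilbPoly (hph i) hQ0 mi hmi
      by_cases hdeg : (Qp i).natDegree = P.natDegree
      · have hd' : (Qp i).natDegree + 1 = d := by rw [hdeg]
        have hdimi' : ringKrullDim (BB k σ ⧸ (φ i).asIdeal) = (d : WithBot ℕ∞) := by
          rw [hdimi, hd']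
        rw [if_pos hdeg, if_pos hdimi']
        have hl1 := tendsto_sam_MM (hph i) hQ0 mi hmi
        rw [hd'] at hl1
        have hl2 := tendsto_mult d (φ i) hdimi'
        have hm := tendsto_nhds_unique hl2 hl1
        rw [hm]
        have hL : Assoc.locLen (MM I) (φ i) = Module.length (Localization.AtPrime (p i))
            (LocalizedModule (p i).primeCompl (MvPolynomial σ k ⧸ I)) := by
          rw [show Assoc.locLen (MM I) (φ i) = _ from
            locLen_map_quotient (idealOfVars σ k).primeCompl I (φ i)]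
          exact length_congr_prime _ _ _ (comap_toBB (p i) (hpm i))
        rw [hL]
        push_cast
        ring
      · rw [if_neg hdeg, if_neg (by
          rw [hdimi]
          intro h
          apply hdeg
          have : (Qp i).natDegree + 1 = d := by exact_mod_cast h
          omega)]
        simp
  have hfinal : (((P.natDegree.factorial : ℚ) * P.leadingCoeff : ℚ) : ℝ) =
      ((∑ i : Fin r, if (Qp i).natDegree = P.natDegree then
        ((Qp i).natDegree.factorial : ℚ) * (Qp i).leadingCoeff *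
          (Module.length (Localization.AtPrime (p i))
            (LocalizedModule (p i).primeCompl (MvPolynomial σ k ⧸ I))).toNat
      else 0 : ℚ) : ℝ) := by
    rw [heq, htot, Rat.cast_sum]
    exact Finset.sum_congr rfl (fun i _ => hterm i)
  exact_mod_cast hfinal

end Cone

end Groth.Agent.Lib.Helper90.GradedLocal
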