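import Mathlib

/-!
# Choosing minimal generators of the maximal ideal from two ideals `P ⊔ Q = 𝔪`
-/

namespace Groth.Agent.Lib.Helper90.RegSplit

open IsLocalRing

universe u

variable {R : Type u} [CommRing R] [IsLocalRing R] [IsNoetherianRing R]

theorem exists_finset_split (P Q : Ideal R) (hPQ : P ⊔ Q = maximalIdeal R) :
    ∃ SP SQ : Finset R, (↑SP : Set R) ⊆ P ∧ (↑SQ : Set R) ⊆ Q ∧
      SP.card + SQ.card = Module.finrank (ResidueField R) (CotangentSpace R) ∧
      Ideal.span ((↑SP : Set R) ∪ ↑SQ) = maximalIdeal R := by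
  classical
  have hP : P ≤ maximalIdeal R := hPQ ▸ le_sup_left
  have hQ : Q ≤ maximalIdeal R := hPQ ▸ le_sup_right
  let s₀ : Set (maximalIdeal R) := {z | z.1 ∈ P ∨ z.1 ∈ Q}
  have h1 : Submodule.span R s₀ = ⊤ := by
    rw [eq_top_iff]
    rintro ⟨z, hz⟩ -
    rw [← hPQ, Submodule.mem_sup] at hz
    obtain ⟨p, hp, q, hq, rfl⟩ := hz
    have : (⟨p + q, hPQ ▸ Submodule.add_mem_sup hp hq⟩ : maximalIdeal R) =
        ⟨p, hP hp⟩ + ⟨q, hQ hq⟩ := rfl
    rw [this]
    exact Submodule.add_mem _ (Submodule.subset_span (Or.inl hp)) (Submodule.subset_span (Or.inr hq))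
  have h2 : Submodule.span (ResidueField R) ((maximalIdeal R).toCotangent '' s₀) = ⊤ :=
    CotangentSpace.span_image_eq_top_iff.mpr h1
  let v : s₀ → CotangentSpace R := fun z => (maximalIdeal R).toCotangent z.1
  have hrange : Set.range v = (maximalIdeal R).toCotangent '' s₀ := by
    ext w
    constructor
    · rintro ⟨z, rfl⟩
      exact ⟨z.1, z.2, rfl⟩
    · rintro ⟨z, hz, rfl⟩
      exact ⟨⟨z, hz⟩, rfl⟩
  obtain ⟨κ, a, ha, hspan, hli⟩ := exists_linearIndependent' (ResidueField R) v
  rw [hrange, h2] at hspan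
  haveI : Finite κ := hli.finite
  haveI : Fintype κ := Fintype.ofFinite κ
  have hcard : Fintype.card κ = Module.finrank (ResidueField R) (CotangentSpace R) :=
    (Module.finrank_eq_card_basis (Module.Basis.mk hli hspan.ge)).symm
  let ψ : κ → R := fun i => (a i).1.1
  have hψ : Function.Injective ψ := by
    intro i j hij
    apply ha
    apply Subtype.ext
    apply Subtype.ext
    exact hij
  refine ⟨(Finset.univ.filter (fun i : κ => ψ i ∈ P)).image ψ,
    (Finset.univ.filter (fun i : κ => ψ i ∉ P)).image ψ, ?_, ?_, ?_, ?_⟩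
  · intro x hx
    simp only [Finset.coe_image, Set.mem_image, Finset.coe_filter, Finset.mem_univ, true_and,
      Set.mem_setOf_eq] at hx
    obtain ⟨i, hi, rfl⟩ := hx
    exact hi
  · intro x hx
    simp only [Finset.coe_image, Set.mem_image, Finset.coe_filter, Finset.mem_univ, true_and,
      Set.mem_setOf_eq] at hx
    obtain ⟨i, hi, rfl⟩ := hx
    rcases (a i).2 with h | h
    · exact absurd h hi
    · exact h
  · rw [Finset.card_image_of_injective _ hψ, Finset.card_image_of_injective _ hψ,
      Finset.card_filter_add_card_filter_not, Finset.card_univ, hcard]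
  · have hunion : (↑((Finset.univ.filter (fun i : κ => ψ i ∈ P)).image ψ) : Set R) ∪
        ↑((Finset.univ.filter (fun i : κ => ψ i ∉ P)).image ψ) = Set.range ψ := by
      ext x
      simp only [Finset.coe_image, Finset.coe_filter, Finset.mem_univ, true_and, Set.mem_union,
        Set.mem_image, Set.mem_setOf_eq, Set.mem_range]
      constructor
      · rintro (⟨i, -, rfl⟩ | ⟨i, -, rfl⟩) <;> exact ⟨i, rfl⟩
      · rintro ⟨i, rfl⟩
        by_cases h : ψ i ∈ P
        · exact Or.inl ⟨i, h, rfl⟩
        · exact Or.inr ⟨i, h, rfl⟩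
    rw [hunion]
    let s₁ : Set (maximalIdeal R) := Set.range (fun i => (a i).1)
    have himg : (maximalIdeal R).toCotangent '' s₁ = Set.range (v ∘ a) := by
      ext w
      constructor
      · rintro ⟨z, ⟨i, rfl⟩, rfl⟩
        exact ⟨i, rfl⟩
      · rintro ⟨i, rfl⟩
        exact ⟨(a i).1, ⟨i, rfl⟩, rfl⟩
    have h3 : Submodule.span R s₁ = ⊤ := by
      rw [← CotangentSpace.span_image_eq_top_iff, himg, hspan]
    have h4 : (Submodule.span R s₁).map (maximalIdeal R).subtype = maximalIdeal R := by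
      rw [h3, Submodule.map_top, Submodule.range_subtype]
    rw [Submodule.map_span] at h4
    have h5 : (maximalIdeal R).subtype '' s₁ = Set.range ψ := by
      ext x
      constructor
      · rintro ⟨z, ⟨i, rfl⟩, rfl⟩
        exact ⟨i, rfl⟩
      · rintro ⟨i, rfl⟩
        exact ⟨(a i).1, ⟨i, rfl⟩, rfl⟩
    rw [h5] at h4
    exact h4

end Groth.Agent.Lib.Helper90.RegSplit
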