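import Mathlib
import Groth.Agent.Lib.Helper90.RegSplit
import Groth.Agent.Lib.Helper76.RegularLocal

/-!
# Transversal ideals in a regular local ring

`O` regular local of dimension `N`, `P ⊔ Q = 𝔪` and `dim O/P + dim O/Q ≥ N`: then `O/P`, `O/Q`
are regular and `P` is generated by a regular sequence of length `dim O/Q`.
-/

namespace Groth.Agent.Lib.Helper90.RegSplit

open IsLocalRing RingTheory.Sequence

universe u

lemma range_append {α : Type*} {m n : ℕ} (f : Fin m → α) (g : Fin n → α) :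
    Set.range (Fin.append f g) = Set.range f ∪ Set.range g := by
  ext y
  constructor
  · rintro ⟨i, rfl⟩
    refine Fin.addCases (fun j => ?_) (fun j => ?_) i
    · left; exact ⟨j, by simp⟩
    · right; exact ⟨j, by simp⟩
  · rintro (⟨j, rfl⟩ | ⟨j, rfl⟩)
    · exact ⟨Fin.castAdd n j, by simp⟩
    · exact ⟨Fin.natAdd m j, by simp⟩

lemma withBot_add_nat_cancel (d : WithBot ℕ∞) (a b : ℕ)
    (h : d + (a : WithBot ℕ∞) = ((b + a : ℕ) : WithBot ℕ∞)) : d = (b : WithBot ℕ∞) := by
  induction d using WithBot.recBotCoe with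
  | bot =>
    exfalso
    rw [WithBot.bot_add] at h
    exact WithBot.bot_ne_natCast _ h
  | coe d =>
    induction d using ENat.recTopCoe with
    | top =>
      exfalso
      have h' : (((⊤ : ℕ∞) + (a : ℕ∞) : ℕ∞) : WithBot ℕ∞) = (((b + a : ℕ) : ℕ∞) : WithBot ℕ∞) := by
        rw [WithBot.coe_add]
        exact h
      rw [top_add] at h'
      exact ENat.top_ne_coe _ (WithBot.coe_injective h')
    | coe d =>
      have h' : ((d + a : ℕ) : WithBot ℕ∞) = ((b + a : ℕ) : WithBot ℕ∞) := by
        push_cast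
        exact h
      have h3 : d + a = b + a := by exact_mod_cast h'
      have : d = b := by omega
      rw [this]
      rfl

section Quot

variable {O : Type u} [CommRing O] [IsLocalRing O] [IsNoetherianRing O]

lemma maximalIdeal_quotient_eq (I : Ideal O) [IsLocalRing (O ⧸ I)] :
    maximalIdeal (O ⧸ I) = (maximalIdeal O).map (Ideal.Quotient.mk I) := by
  have hπs : Function.Surjective (Ideal.Quotient.mk I) := Ideal.Quotient.mk_surjective
  have hmem : ∀ r : O, r ∈ maximalIdeal O ↔ Ideal.Quotient.mk I r ∈ maximalIdeal (O ⧸ I) := by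
    intro r
    have : IsLocalHom (Ideal.Quotient.mk I) := hπs.isLocalHom _
    rw [mem_maximalIdeal, mem_maximalIdeal, map_mem_nonunits_iff]
  apply le_antisymm
  · intro y hy
    obtain ⟨r, rfl⟩ := hπs y
    exact Ideal.mem_map_of_mem _ ((hmem r).mpr hy)
  · rw [Ideal.map_le_iff_le_comap]
    intro r hr
    exact (hmem r).mp hr

lemma spanFinrank_maximalIdeal_quotient_le (I : Ideal O) [IsLocalRing (O ⧸ I)] (T S : Finset O)
    (hT : (↑T : Set O) ⊆ I) (hspan : Ideal.span ((↑T : Set O) ∪ ↑S) = maximalIdeal O) :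
    (maximalIdeal (O ⧸ I)).spanFinrank ≤ S.card := by
  classical
  have h1 : maximalIdeal (O ⧸ I) = Ideal.span (Ideal.Quotient.mk I '' (↑S : Set O)) := by
    rw [maximalIdeal_quotient_eq, ← hspan, Ideal.map_span, Set.image_union]
    apply le_antisymm
    · rw [Ideal.span_le]
      rintro y (⟨t, ht, rfl⟩ | hy)
      · have : Ideal.Quotient.mk I t = 0 := Ideal.Quotient.eq_zero_iff_mem.mpr (hT ht)
        rw [this]
        exact Ideal.zero_mem _
      · exact Ideal.subset_span hy
    · exact Ideal.span_mono Set.subset_union_right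
  rw [h1]
  have hfin : (Ideal.Quotient.mk I '' (↑S : Set O)).Finite := S.finite_toSet.image _
  refine (Submodule.spanFinrank_span_le_ncard_of_finite hfin).trans ?_
  calc (Ideal.Quotient.mk I '' (↑S : Set O)).ncard ≤ (↑S : Set O).ncard :=
        Set.ncard_image_le S.finite_toSet
    _ = S.card := Set.ncard_coe_finset S

end Quot

theorem split_regular (O : Type u) [CommRing O] [IsRegularLocalRing O] (N : ℕ)
    (hN : ringKrullDim O = N) (P Q : Ideal O) (hPQ : P ⊔ Q = maximalIdeal O) (aP aQ : ℕ)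
    (hP : ringKrullDim (O ⧸ P) = aP) (hQ : ringKrullDim (O ⧸ Q) = aQ) (hle : N ≤ aP + aQ) :
    IsRegularLocalRing (O ⧸ P) ∧ IsRegularLocalRing (O ⧸ Q) ∧
      ∃ (c : ℕ) (g : Fin c → O), P = Ideal.span (Set.range g) ∧ IsRegular O (List.ofFn g) ∧
        c = aQ := by
  classical
  have hPm : P ≤ maximalIdeal O := hPQ ▸ le_sup_left
  have hQm : Q ≤ maximalIdeal O := hPQ ▸ le_sup_right
  have hmtop : maximalIdeal O ≠ ⊤ := (maximalIdeal.isMaximal O).ne_top
  have hPtop : P ≠ ⊤ := fun h => hmtop (top_le_iff.mp (h ▸ hPm))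
  have hQtop : Q ≠ ⊤ := fun h => hmtop (top_le_iff.mp (h ▸ hQm))
  haveI : Nontrivial (O ⧸ P) := Ideal.Quotient.nontrivial_iff.mpr hPtop
  haveI : Nontrivial (O ⧸ Q) := Ideal.Quotient.nontrivial_iff.mpr hQtop
  haveI : IsLocalRing (O ⧸ P) :=
    IsLocalRing.of_surjective' (Ideal.Quotient.mk P) Ideal.Quotient.mk_surjective
  haveI : IsLocalRing (O ⧸ Q) :=
    IsLocalRing.of_surjective' (Ideal.Quotient.mk Q) Ideal.Quotient.mk_surjective
  obtain ⟨SP, SQ, hSP, hSQ, hcard, hspan⟩ := exists_finset_split P Q hPQ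
  have hfr : Module.finrank (ResidueField O) (CotangentSpace O) = N := by
    have := (IsRegularLocalRing.iff_finrank_cotangentSpace O).mp inferInstance
    rw [hN] at this
    exact_mod_cast this
  rw [hfr] at hcard
  -- Krull bounds
  have hKP : aP ≤ SQ.card := by
    have h1 := spanFinrank_maximalIdeal_quotient_le P SP SQ hSP hspan
    have h2 := ringKrullDim_le_spanFinrank_maximalIdeal (O ⧸ P)
    rw [hP] at h2
    have h3 : (aP : WithBot ℕ∞) ≤ (SQ.card : WithBot ℕ∞) :=
      h2.trans (by exact_mod_cast h1)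
    exact_mod_cast h3
  have hKQ : aQ ≤ SP.card := by
    have hspan' : Ideal.span ((↑SQ : Set O) ∪ ↑SP) = maximalIdeal O := by
      rw [Set.union_comm]; exact hspan
    have h1 := spanFinrank_maximalIdeal_quotient_le Q SQ SP hSQ hspan'
    have h2 := ringKrullDim_le_spanFinrank_maximalIdeal (O ⧸ Q)
    rw [hQ] at h2
    have h3 : (aQ : WithBot ℕ∞) ≤ (SP.card : WithBot ℕ∞) :=
      h2.trans (by exact_mod_cast h1)
    exact_mod_cast h3
  have haP : aP = SQ.card := by omega
  have haQ : aQ = SP.card := by omega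
  have hregP : IsRegularLocalRing (O ⧸ P) := by
    apply IsRegularLocalRing.of_spanFinrank_maximalIdeal_le
    rw [hP, haP]
    exact_mod_cast spanFinrank_maximalIdeal_quotient_le P SP SQ hSP hspan
  have hregQ : IsRegularLocalRing (O ⧸ Q) := by
    apply IsRegularLocalRing.of_spanFinrank_maximalIdeal_le
    rw [hQ, haQ]
    have hspan' : Ideal.span ((↑SQ : Set O) ∪ ↑SP) = maximalIdeal O := by
      rw [Set.union_comm]; exact hspan
    exact_mod_cast spanFinrank_maximalIdeal_quotient_le Q SQ SP hSQ hspan'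
  refine ⟨hregP, hregQ, ?_⟩
  -- enumerate
  let xP : Fin SP.card → O := fun i => (SP.equivFin.symm i).1
  let xQ : Fin SQ.card → O := fun i => (SQ.equivFin.symm i).1
  have hrP : Set.range xP = ↑SP := by
    ext y
    constructor
    · rintro ⟨i, rfl⟩
      exact (SP.equivFin.symm i).2
    · intro hy
      exact ⟨SP.equivFin ⟨y, hy⟩, by simp [xP]⟩
  have hrQ : Set.range xQ = ↑SQ := by
    ext y
    constructor
    · rintro ⟨i, rfl⟩
      exact (SQ.equivFin.symm i).2
    · intro hy
      exact ⟨SQ.equivFin ⟨y, hy⟩, by simp [xQ]⟩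
  have hrange : Set.range (Fin.append xP xQ) = (↑SP : Set O) ∪ ↑SQ := by
    rw [range_append, hrP, hrQ]
  have hregall : IsRegular O (List.ofFn (Fin.append xP xQ)) := by
    apply Groth.Agent.Lib.Helper76.isRegular_of_span_range_eq_maximalIdeal O (SP.card + SQ.card)
    · rw [hN, hcard]
    · rw [hrange, hspan]
  rw [List.ofFn_fin_append] at hregall
  have hmemP : ∀ r ∈ List.ofFn xP, r ∈ maximalIdeal O := by
    intro r hr
    rw [List.mem_ofFn] at hr
    obtain ⟨i, rfl⟩ := hr
    exact hPm (hSP (SP.equivFin.symm i).2)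
  have hregxP : IsRegular O (List.ofFn xP) :=
    IsRegular.of_isWeaklyRegular_of_mem_maximalIdeal O hmemP
      ((isWeaklyRegular_append_iff O _ _).mp hregall.toIsWeaklyRegular).1
  refine ⟨SP.card, xP, ?_, hregxP, haQ.symm⟩
  -- `P` is generated by `xP`
  set I : Ideal O := Ideal.span (Set.range xP) with hI
  have hIP : I ≤ P := by
    rw [hI, hrP]
    exact Ideal.span_le.mpr hSP
  have hItop : I ≠ ⊤ := fun h => hPtop (top_le_iff.mp (h ▸ hIP))
  haveI : Nontrivial (O ⧸ I) := Ideal.Quotient.nontrivial_iff.mpr hItop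
  haveI : IsLocalRing (O ⧸ I) :=
    IsLocalRing.of_surjective' (Ideal.Quotient.mk I) Ideal.Quotient.mk_surjective
  have hofList : Ideal.ofList (List.ofFn xP) = I := by
    rw [hI]
    unfold Ideal.ofList
    congr 1
    ext y
    simp [List.mem_ofFn]
  have hdimD : ringKrullDim (O ⧸ I) = (SQ.card : ℕ) := by
    have h1 := ringKrullDim_add_length_eq_ringKrullDim_of_isRegular (List.ofFn xP) hregxP
    rw [hofList, List.length_ofFn, hN, ← hcard] at h1
    rw [add_comm SP.card SQ.card] at h1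
    exact withBot_add_nat_cancel _ _ _ h1
  have hregD : IsRegularLocalRing (O ⧸ I) := by
    apply IsRegularLocalRing.of_spanFinrank_maximalIdeal_le
    rw [hdimD]
    have hT : (↑SP : Set O) ⊆ I := by
      rw [hI, hrP]; exact Ideal.subset_span
    exact_mod_cast spanFinrank_maximalIdeal_quotient_le I SP SQ hT hspan
  haveI : IsDomain (O ⧸ I) := Groth.Agent.Lib.Helper76.isDomain_of_isRegularLocalRing (O ⧸ I)
  apply le_antisymm _ hIP
  intro z hz
  by_contra hzI
  set r : O ⧸ I := Ideal.Quotient.mk I z with hr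
  have hr0 : r ≠ 0 := by
    rw [hr, Ne, Ideal.Quotient.eq_zero_iff_mem]
    exact hzI
  have hrnzd : r ∈ nonZeroDivisors (O ⧸ I) := mem_nonZeroDivisors_of_ne_zero hr0
  have h1 := ringKrullDim_quotient_succ_le_of_nonZeroDivisor hrnzd
  let φ : (O ⧸ I) ⧸ Ideal.span {r} →+* O ⧸ P :=
    Ideal.Quotient.lift (Ideal.span {r}) (Ideal.Quotient.factor hIP) (by
      intro a ha
      rw [Ideal.mem_span_singleton'] at ha
      obtain ⟨t, rfl⟩ := ha
      rw [map_mul, hr, Ideal.Quotient.factor_mk, Ideal.Quotient.eq_zero_iff_mem.mpr hz, mul_zero])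
  have hφ : Function.Surjective φ := by
    intro y
    obtain ⟨y, rfl⟩ := Ideal.Quotient.mk_surjective y
    exact ⟨Ideal.Quotient.mk _ (Ideal.Quotient.mk I y), by simp [φ]⟩
  have h2 := ringKrullDim_le_of_surjective φ hφ
  rw [hP] at h2
  rw [hdimD] at h1
  have h3 : ((aP + 1 : ℕ) : WithBot ℕ∞) ≤ (SQ.card : WithBot ℕ∞) := by
    push_cast
    exact le_trans (by gcongr) h1
  have h4 : aP + 1 ≤ SQ.card := by exact_mod_cast h3
  omega

end Groth.Agent.Lib.Helper90.RegSplit
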