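import Mathlib
import Groth.Agent.Lib.Helper90.RegSplit2

/-!
# Dimension formula for flat local homomorphisms (helper90)

`dim S = dim R + dim S/𝔪_R S` and `dim S/IS = dim R/I + dim S/𝔪_R S` for a flat local homomorphism
`R → S` of Noetherian local rings.
-/

set_option autoImplicit false
universe u

open IsLocalRing

namespace Groth.Agent.Lib.Helper90.FlatDim

variable {R S : Type u} [CommRing R] [CommRing S] [IsLocalRing R] [IsLocalRing S]
  [IsNoetherianRing R] [IsNoetherianRing S] [Algebra R S] [hloc : IsLocalHom (algebraMap R S)]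

lemma comap_maximalIdeal : (maximalIdeal S).comap (algebraMap R S) = maximalIdeal R :=
  ((IsLocalRing.local_hom_TFAE (algebraMap R S)).out 0 4).mp hloc

lemma map_maximalIdeal_le : (maximalIdeal R).map (algebraMap R S) ≤ maximalIdeal S :=
  ((IsLocalRing.local_hom_TFAE (algebraMap R S)).out 0 2).mp hloc

lemma map_ne_top (I : Ideal R) (hI : I ≠ ⊤) : I.map (algebraMap R S) ≠ ⊤ := by
  intro h
  have h1 : I.map (algebraMap R S) ≤ maximalIdeal S :=
    (Ideal.map_mono (IsLocalRing.le_maximalIdeal hI)).trans map_maximalIdeal_le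
  rw [h, top_le_iff] at h1
  exact (maximalIdeal.isMaximal S).ne_top h1

/-- `dim S = dim R + dim S/𝔪_R S` for a flat local homomorphism. -/
theorem ringKrullDim_eq_add_of_flat [Module.Flat R S] :
    ringKrullDim S = ringKrullDim R +
      ringKrullDim (S ⧸ (maximalIdeal R).map (algebraMap R S)) := by
  haveI hlo : (maximalIdeal S).LiesOver (maximalIdeal R) :=
    ⟨comap_maximalIdeal.symm⟩
  have key := Ideal.height_eq_height_add_of_liesOver_of_hasGoingDown (maximalIdeal R)
    (maximalIdeal S)
  have hne : (maximalIdeal R).map (algebraMap R S) ≠ ⊤ :=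
    map_ne_top _ (maximalIdeal.isMaximal R).ne_top
  haveI : Nontrivial (S ⧸ (maximalIdeal R).map (algebraMap R S)) :=
    Ideal.Quotient.nontrivial_iff.mpr hne
  haveI : IsLocalRing (S ⧸ (maximalIdeal R).map (algebraMap R S)) :=
    IsLocalRing.of_surjective' (Ideal.Quotient.mk _) Ideal.Quotient.mk_surjective
  rw [← Groth.Agent.Lib.Helper90.RegSplit.maximalIdeal_quotient_eq] at key
  rw [← IsLocalRing.maximalIdeal_height_eq_ringKrullDim,
    ← IsLocalRing.maximalIdeal_height_eq_ringKrullDim,
    ← IsLocalRing.maximalIdeal_height_eq_ringKrullDim, key]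
  push_cast
  rfl

/-- `dim S/IS = dim R/I + dim S/𝔪_R S` for a flat local homomorphism. -/
theorem ringKrullDim_quotient_eq_add_of_flat [Module.Flat R S] (I : Ideal R) (hI : I ≠ ⊤) :
    ringKrullDim (S ⧸ I.map (algebraMap R S)) = ringKrullDim (R ⧸ I) +
      ringKrullDim (S ⧸ (maximalIdeal R).map (algebraMap R S)) := by
  haveI : Nontrivial (R ⧸ I) := Ideal.Quotient.nontrivial_iff.mpr hI
  haveI : IsLocalRing (R ⧸ I) :=
    IsLocalRing.of_surjective' (Ideal.Quotient.mk _) Ideal.Quotient.mk_surjective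
  haveI : Nontrivial (S ⧸ I.map (algebraMap R S)) :=
    Ideal.Quotient.nontrivial_iff.mpr (map_ne_top I hI)
  haveI : IsLocalRing (S ⧸ I.map (algebraMap R S)) :=
    IsLocalRing.of_surjective' (Ideal.Quotient.mk _) Ideal.Quotient.mk_surjective
  have hcomp : (algebraMap (R ⧸ I) (S ⧸ I.map (algebraMap R S))).comp (Ideal.Quotient.mk I) =
      (Ideal.Quotient.mk (I.map (algebraMap R S))).comp (algebraMap R S) := by
    ext x
    rfl
  have hmap : (maximalIdeal (R ⧸ I)).map (algebraMap (R ⧸ I) (S ⧸ I.map (algebraMap R S))) =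
      ((maximalIdeal R).map (algebraMap R S)).map (Ideal.Quotient.mk (I.map (algebraMap R S))) := by
    rw [Groth.Agent.Lib.Helper90.RegSplit.maximalIdeal_quotient_eq, Ideal.map_map, hcomp,
      ← Ideal.map_map]
  haveI : IsLocalHom (algebraMap (R ⧸ I) (S ⧸ I.map (algebraMap R S))) := by
    refine ((IsLocalRing.local_hom_TFAE _).out 0 2).mpr ?_
    rw [hmap, Groth.Agent.Lib.Helper90.RegSplit.maximalIdeal_quotient_eq (O := S)]
    exact Ideal.map_mono map_maximalIdeal_le
  haveI : Module.Flat (R ⧸ I) (S ⧸ I.map (algebraMap R S)) :=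
    Module.Flat.of_linearEquiv
      (Algebra.TensorProduct.quotIdealMapEquivQuotTensor S I).toLinearEquiv
  rw [ringKrullDim_eq_add_of_flat (R := R ⧸ I) (S := S ⧸ I.map (algebraMap R S)), hmap]
  congr 1
  have hsup : I.map (algebraMap R S) ⊔ (maximalIdeal R).map (algebraMap R S) =
      (maximalIdeal R).map (algebraMap R S) :=
    sup_eq_right.mpr (Ideal.map_mono (IsLocalRing.le_maximalIdeal hI))
  rw [ringKrullDim_eq_of_ringEquiv (DoubleQuot.quotQuotEquivQuotSup (I.map (algebraMap R S))
    ((maximalIdeal R).map (algebraMap R S))),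
    ringKrullDim_eq_of_ringEquiv (Ideal.quotEquivOfEq hsup)]

end Groth.Agent.Lib.Helper90.FlatDim
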