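import Mathlib
import Groth.Agent.Lib.Helper90.SamuelLocal

namespace Groth.Agent.Lib.Helper90.SamuelPrimary

open Module HilbPoly GrMod HSPoly Samuel SamuelDim SamuelLocal Polynomial IsLocalRing

universe u

variable {A : Type u} [CommRing A]

lemma smul_top_eq (J : Ideal A) : (J • (⊤ : Submodule A A)) = J := by
  rw [smul_eq_mul, Ideal.mul_top]

lemma samuelFn_ideal (J : Ideal A) (n : ℕ) :
    samuelFn J A n = ((Module.length A (A ⧸ J ^ n)).toNat : ℤ) := by
  simp only [samuelFn]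
  rw [smul_top_eq]

/-- monotonicity of lengths of quotients. -/
lemma length_quot_le_of_le {J K : Ideal A} (h : J ≤ K) :
    Module.length A (A ⧸ K) ≤ Module.length A (A ⧸ J) :=
  Module.length_le_of_surjective (Submodule.factor h) (Submodule.factor_surjective h)

variable [IsNoetherianRing A] [IsLocalRing A]

lemma length_quot_maximalIdeal_pow_ne_top (n : ℕ) :
    Module.length A (A ⧸ maximalIdeal A ^ n) ≠ ⊤ := by
  have := length_quot_jacobson_pow_ne_top A A n
  rwa [jacobson_pow_smul_top] at this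

lemma length_quot_ne_top {J : Ideal A} {N : ℕ} (hN : maximalIdeal A ^ N ≤ J) :
    Module.length A (A ⧸ J) ≠ ⊤ := by
  intro h
  have := length_quot_le_of_le hN
  rw [h, top_le_iff] at this
  exact length_quot_maximalIdeal_pow_ne_top N this

omit [IsNoetherianRing A] in
lemma pow_le_pow_of_le {J : Ideal A} {N : ℕ} (hN : maximalIdeal A ^ N ≤ J) (n : ℕ) :
    maximalIdeal A ^ (N * n) ≤ J ^ n := by
  rw [pow_mul]
  exact Ideal.pow_right_mono hN n

lemma length_quot_pow_ne_top {J : Ideal A} {N : ℕ} (hN : maximalIdeal A ^ N ≤ J) (n : ℕ) :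
    Module.length A (A ⧸ J ^ n) ≠ ⊤ :=
  length_quot_ne_top (pow_le_pow_of_le hN n)

/-- the Hilbert–Samuel polynomial of the maximal ideal. -/
theorem exists_poly_maximalIdeal (d : ℕ) (hd : ringKrullDim A = d) :
    ∃ P : ℚ[X], P.natDegree = d ∧ ∃ N₀ : ℕ, ∀ n, N₀ ≤ n →
      ((Module.length A (A ⧸ maximalIdeal A ^ n)).toNat : ℚ) = P.eval (n : ℚ) := by
  obtain ⟨P, ⟨N', hN'⟩, hdeg⟩ := exists_hilbertSamuel (A := A) A
  rw [Module.supportDim_self_eq_ringKrullDim, hd] at hdeg
  refine ⟨P, by exact_mod_cast hdeg, N', fun n hn => ?_⟩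
  rw [← hN' n hn, samuelFn_eq]
  push_cast
  rfl

/-- the Samuel polynomial of an `m`-primary ideal. -/
theorem exists_poly_primary (d : ℕ) (hd : ringKrullDim A = d) {J : Ideal A} {N : ℕ}
    (hN : maximalIdeal A ^ N ≤ J) :
    ∃ P : ℚ[X], P.natDegree ≤ d ∧ ∃ N₀ : ℕ, ∀ n, N₀ ≤ n →
      ((Module.length A (A ⧸ J ^ n)).toNat : ℚ) = P.eval (n : ℚ) := by
  obtain ⟨s, x, hx⟩ := Submodule.fg_iff_exists_fin_generating_family.mp
    (IsNoetherian.noetherian J)
  have hI : I x = J := hx
  have hfl : IsFiniteLength A (A ⧸ I x • (⊤ : Submodule A A)) := by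
    rw [hI, smul_top_eq]
    exact Module.length_ne_top_iff.mp (length_quot_ne_top hN)
  have hPL := samuel_PL x hfl
  rw [hI] at hPL
  obtain ⟨P, -, N₁, h₁⟩ := exists_poly_of_PL hPL
  obtain ⟨Pm, hPm, N₂, h₂⟩ := exists_poly_maximalIdeal d hd
  have hval : ∀ n, N₁ ≤ n → ((Module.length A (A ⧸ J ^ n)).toNat : ℚ) = P.eval (n : ℚ) := by
    intro n hn
    rw [← h₁ n hn, samuelFn_ideal]
    push_cast
    rfl
  refine ⟨P, ?_, N₁, hval⟩
  -- degree bound by comparison with `m^((N+1) n)`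
  have hN' : maximalIdeal A ^ (N + 1) ≤ J := (Ideal.pow_le_pow_right (Nat.le_succ N)).trans hN
  have hc : (Pm.comp (C ((N + 1 : ℕ) : ℚ) * X)).natDegree = d := by
    rw [natDegree_comp, natDegree_C_mul_X _ (by positivity), mul_one, hPm]
  rw [← hc]
  apply natDegree_le_of_eventually_le (max N₁ N₂)
  · intro n hn
    rw [← hval n (by omega)]
    positivity
  · intro n hn
    rw [← hval n (by omega), eval_comp, eval_mul, eval_C, eval_X]
    have h3 : N₂ ≤ (N + 1) * n := by
      have : n ≤ (N + 1) * n := Nat.le_mul_of_pos_left n (Nat.succ_pos N)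
      omega
    have h4 := h₂ ((N + 1) * n) h3
    rw [Nat.cast_mul] at h4
    rw [← h4]
    have h5 := length_quot_le_of_le (pow_le_pow_of_le hN' n)
    exact_mod_cast ENat.toNat_le_toNat h5 (length_quot_maximalIdeal_pow_ne_top _)

end Groth.Agent.Lib.Helper90.SamuelPrimary
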