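import Mathlib
import Groth.Prelude.Def_IntMult
import Groth.Agent.Lib.Helper64.StalkIdeal
import Groth.Agent.Lib.Helper90.DimParam

/-!
# Geometry of proper intersections at a generic point of a component: stalk-level consequences
-/

namespace Groth.Agent.Lib.Helper90.IntMultGeom

open AlgebraicGeometry CategoryTheory TopologicalSpace IsLocalRing
open Groth.Agent.Lib.Helper64.StalkSpec Groth.Agent.Lib.Helper64.StalkIdeal

universe u

lemma stalkIdeal_eq (X : Scheme.{u}) (I : X.IdealSheafData) (x : X) :
    IntMult.stalkIdeal I x = stalkIdeal I x := rfl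

section Top

/-- a proper closed nonempty subset of an irreducible space of finite dimension has smaller
dimension. -/
lemma lt_of_topologicalKrullDim_eq {X : Type*} [TopologicalSpace X] [IrreducibleSpace X]
    (V : Set X) (hV : IsClosed V) (hne : V ≠ Set.univ) {r n : ℕ}
    (hr : topologicalKrullDim ↥V = r) (hn : topologicalKrullDim X = n) : r < n := by
  unfold topologicalKrullDim at hr hn
  obtain ⟨l, hl⟩ := Order.le_krullDim_iff.mp hr.ge
  let φ : IrreducibleCloseds ↥V → IrreducibleCloseds X :=
    IrreducibleCloseds.map Subtype.val continuous_subtype_val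
  have hφ : StrictMono φ := IrreducibleCloseds.map_strictMono_of_isInducing Topology.IsInducing.subtypeVal
  let top : IrreducibleCloseds X := ⟨Set.univ, IrreducibleSpace.isIrreducible_univ X, isClosed_univ⟩
  have hlt : ∀ c : IrreducibleCloseds ↥V, φ c < top := by
    intro c
    have hsub : (φ c : Set X) ⊆ V := by
      change closure (Subtype.val '' (c : Set ↥V)) ⊆ V
      refine closure_minimal ?_ hV
      rintro _ ⟨x, -, rfl⟩
      exact x.2
    refine lt_of_le_of_ne (fun x _ => Set.mem_univ x) ?_
    intro heq
    apply hne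
    have : (φ c : Set X) = Set.univ := congrArg (fun z : IrreducibleCloseds X => (z : Set X)) heq
    rw [this] at hsub
    exact Set.univ_subset_iff.mp hsub
  let l' : LTSeries (IrreducibleCloseds X) := (l.map φ hφ).snoc top (hlt _)
  have hl' : l'.length = r + 1 := by
    simp [l', hl]
  have := Order.LTSeries.length_le_krullDim l'
  rw [hl', hn] at this
  have h2 : (r + 1 : ℕ) ≤ n := by exact_mod_cast this
  omega

end Top

section Stalk

variable {X : Scheme.{u}}

/-- the primes of the local ring at `ξ` containing both stalk ideals are maximal, when `ξ` is maximal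
under specialization in `V ∩ W`. -/
lemma isFiniteLength_quot_sup [IsLocallyNoetherian X] (IV IW : X.IdealSheafData) (ξ : X)
    (hmax : ∀ ξ' : X, ξ' ∈ IV.support → ξ' ∈ IW.support → ξ' ⤳ ξ → ξ' = ξ) :
    IsFiniteLength (X.presheaf.stalk ξ)
      (↑(X.presheaf.stalk ξ) ⧸ (IntMult.stalkIdeal IW ξ ⊔ IntMult.stalkIdeal IV ξ)) := by
  rw [stalkIdeal_eq, stalkIdeal_eq]
  apply DimParam.isFiniteLength_of_supportDim_le_zero
  unfold Module.supportDim
  rw [Order.krullDim_nonpos_iff_forall_isMax]
  intro p q hpq
  have hp : stalkIdeal IW ξ ⊔ stalkIdeal IV ξ ≤ p.1.asIdeal := by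
    have h := Module.mem_support_iff_of_finite.mp p.2
    rwa [Ideal.annihilator_quotient] at h
  have hq : stalkIdeal IW ξ ⊔ stalkIdeal IV ξ ≤ q.1.asIdeal := by
    have h := Module.mem_support_iff_of_finite.mp q.2
    rwa [Ideal.annihilator_quotient] at h
  have key : ∀ P : PrimeSpectrum (X.presheaf.stalk ξ),
      stalkIdeal IW ξ ⊔ stalkIdeal IV ξ ≤ P.asIdeal → P.asIdeal = maximalIdeal _ := by
    intro P hP
    obtain ⟨ζ, h, hζ⟩ := exists_specializes_primeOf_eq ξ P.asIdeal
    have hW : ζ ∈ IW.support := by
      rw [← stalkIdeal_le_primeOf_iff IW h, hζ]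
      exact le_sup_left.trans hP
    have hV : ζ ∈ IV.support := by
      rw [← stalkIdeal_le_primeOf_iff IV h, hζ]
      exact le_sup_right.trans hP
    have := hmax ζ hV hW h
    subst this
    rw [← hζ]
    exact primeOf_refl ζ
  have h1 := key p.1 hp
  have h2 := key q.1 hq
  change q.1 ≤ p.1
  rw [← PrimeSpectrum.asIdeal_le_asIdeal, h1, h2]

end Stalk

end Groth.Agent.Lib.Helper90.IntMultGeom
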