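import Mathlib

/-!
# Generic points of irreducible components of a closed subset; reduced induced structure on an
irreducible closed set is integral (helper90)
-/

set_option autoImplicit false
universe u

open AlgebraicGeometry Topology

namespace Groth.Agent.Lib.Helper90.InterDim

section Top

variable {X : Type*} [TopologicalSpace X]

lemma irreducibleSpace_of_homeomorph {Y : Type*} [TopologicalSpace Y] (e : X ≃ₜ Y)
    [IrreducibleSpace X] : IrreducibleSpace Y := by
  rw [irreducibleSpace_def]
  have h := (IrreducibleSpace.isIrreducible_univ X).image e e.continuous.continuousOn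
  rwa [Set.image_univ_of_surjective e.surjective] at h

/-- an irreducible component `Z` of a closed subset `C` of a quasi-sober `T₀` space has a generic
point `ζ`, which is maximal under specialization among the points of `C`, and `Z` has the dimension
of `closure {ζ}`. -/
theorem exists_generic_of_mem_irreducibleComponents [QuasiSober X] [T0Space X]
    (C : Set X) (hC : IsClosed C) (Z : Set ↥C) (hZ : Z ∈ irreducibleComponents ↥C) :
    ∃ ζ : X, ζ ∈ C ∧ (∀ ξ' ∈ C, ξ' ⤳ ζ → ξ' = ζ) ∧
      topologicalKrullDim ↥Z = topologicalKrullDim ↥(closure ({ζ} : Set X)) := by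
  have hZc : IsClosed Z := isClosed_of_mem_irreducibleComponents Z hZ
  have hZi : IsIrreducible Z := hZ.1
  have hZ'i : IsIrreducible (Subtype.val '' Z) :=
    hZi.image _ continuous_subtype_val.continuousOn
  have hZ'c : IsClosed (Subtype.val '' Z) :=
    hC.isClosedEmbedding_subtypeVal.isClosedMap _ hZc
  obtain ⟨ζ, hζ⟩ := QuasiSober.sober hZ'i hZ'c
  have hζcl : closure ({ζ} : Set X) = Subtype.val '' Z := hζ
  have hζmem : ζ ∈ Subtype.val '' Z := by
    rw [← hζcl]
    exact subset_closure rfl
  have hζC : ζ ∈ C := by
    obtain ⟨z, -, rfl⟩ := hζmem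
    exact z.2
  refine ⟨ζ, hζC, ?_, ?_⟩
  · intro ξ' hξ' hsp
    have hT : IsIrreducible (closure ({⟨ξ', hξ'⟩} : Set ↥C)) :=
      isIrreducible_singleton.closure
    have hZT : Z ≤ closure ({⟨ξ', hξ'⟩} : Set ↥C) := by
      intro z hz
      rw [closure_subtype, Set.image_singleton]
      have h1 : z.1 ∈ closure ({ζ} : Set X) := by
        rw [hζcl]
        exact ⟨z, hz, rfl⟩
      have h2 : closure ({ζ} : Set X) ⊆ closure ({ξ'} : Set X) :=
        closure_minimal (Set.singleton_subset_iff.mpr (specializes_iff_mem_closure.mp hsp))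
          isClosed_closure
      exact h2 h1
    have hTZ := hZ.2 hT hZT
    have hmem : (⟨ξ', hξ'⟩ : ↥C) ∈ Z := hTZ (subset_closure rfl)
    have h3 : ξ' ∈ closure ({ζ} : Set X) := by
      rw [hζcl]
      exact ⟨_, hmem, rfl⟩
    have h4 : ζ ⤳ ξ' := specializes_iff_mem_closure.mpr h3
    exact (hsp.antisymm h4).eq
  · let e1 : ↥Z ≃ₜ ↥(Subtype.val '' Z) :=
      (IsEmbedding.subtypeVal (p := fun x => x ∈ C)).homeomorphImage Z
    let e2 : ↥(Subtype.val '' Z) ≃ₜ ↥(closure ({ζ} : Set X)) := Homeomorph.setCongr hζcl.symm
    exact IsHomeomorph.topologicalKrullDim_eq _ (e1.trans e2).isHomeomorph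

end Top

section Scheme

variable {X : Scheme.{u}}

/-- The reduced induced closed subscheme structure is reduced. -/
theorem isReduced_subscheme_vanishingIdeal (Z : TopologicalSpace.Closeds X) :
    IsReduced (Scheme.IdealSheafData.vanishingIdeal Z).subscheme := by
  set I := Scheme.IdealSheafData.vanishingIdeal Z with hI
  have h1 : ∀ U : X.affineOpens, IsReduced (Spec (.of (Γ(X, U) ⧸ I.ideal U))) := by
    intro U
    rw [affine_isReduced_iff]
    change _root_.IsReduced (Γ(X, U) ⧸ I.ideal U)
    rw [← Ideal.isRadical_iff_quotient_reduced, hI, Scheme.IdealSheafData.vanishingIdeal_ideal]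
    exact PrimeSpectrum.isRadical_vanishingIdeal _
  have : ∀ U, IsReduced (I.subschemeCover.openCover.X U) := fun U => h1 U
  exact IsReduced.of_openCover _ I.subschemeCover.openCover

/-- The reduced induced closed subscheme structure on an irreducible closed set is integral. -/
theorem isIntegral_subscheme_vanishingIdeal (Z : TopologicalSpace.Closeds X)
    (hZ : IsIrreducible (Z : Set X)) :
    IsIntegral (Scheme.IdealSheafData.vanishingIdeal Z).subscheme := by
  set I := Scheme.IdealSheafData.vanishingIdeal Z with hI
  haveI := isReduced_subscheme_vanishingIdeal Z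
  haveI : IrreducibleSpace ↥(Z : Set X) := Subtype.irreducibleSpace hZ
  let e1 : I.subscheme ≃ₜ Set.range I.subschemeι := I.subschemeι.isEmbedding.toHomeomorph
  have hrange : Set.range I.subschemeι = (Z : Set X) := by
    rw [I.range_subschemeι, hI, Scheme.IdealSheafData.coe_support_vanishingIdeal]
  let e2 : Set.range I.subschemeι ≃ₜ ↥(Z : Set X) := Homeomorph.setCongr hrange
  haveI : IrreducibleSpace I.subscheme := irreducibleSpace_of_homeomorph (e1.trans e2).symm
  exact isIntegral_of_irreducibleSpace_of_isReduced _

end Scheme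

end Groth.Agent.Lib.Helper90.InterDim
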