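import Mathlib
import Groth.Prelude.Def_IntMult
import Groth.Prelude.Def_Cyc
import Groth.Agent.Lib.Helper64.StalkIdeal
import Groth.Agent.Lib.Helper73.DimFormula.CycJacobson
import Groth.Agent.Lib.Helper73.DimFormula.CycFlat
import Groth.Agent.Lib.Helper90.IntMultGeom
import Groth.Agent.Lib.Helper90.InterDim1

/-!
# Points specializing to `τ` and primes of `O_{X,τ}`: the ideal of the closure of a point, and
dimensions in terms of a dimension function (helper90)
-/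

set_option autoImplicit false
universe u

open AlgebraicGeometry CategoryTheory IsLocalRing
open Groth.Agent.Lib.Helper64.StalkSpec Groth.Agent.Lib.Helper64.StalkIdeal

namespace Groth.Agent.Lib.Helper90.CycOne

variable {X : Scheme.{u}}

lemma support_ptIdeal (ξ : X) : ((IntMult.ptIdeal ξ).support : Set X) = closure {ξ} := by
  unfold IntMult.ptIdeal
  rw [Scheme.IdealSheafData.coe_support_vanishingIdeal]
  rfl

lemma mem_support_ptIdeal_iff (ξ ζ : X) : ζ ∈ (IntMult.ptIdeal ξ).support ↔ ξ ⤳ ζ := by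
  rw [specializes_iff_mem_closure, ← support_ptIdeal]
  rfl

theorem stalkIdeal_ptIdeal_le {ξ τ : X} (h : ξ ⤳ τ) :
    IntMult.stalkIdeal (IntMult.ptIdeal ξ) τ ≤ primeOf h := by
  rw [IntMultGeom.stalkIdeal_eq, stalkIdeal_le_primeOf_iff, mem_support_ptIdeal_iff]

theorem specializes_of_primeOf_le {ξ ξ' τ : X} (h : ξ ⤳ τ) (h' : ξ' ⤳ τ)
    (hle : primeOf h ≤ primeOf h') : ξ ⤳ ξ' := by
  have h1 := (stalkIdeal_ptIdeal_le h).trans hle
  rwa [IntMultGeom.stalkIdeal_eq, stalkIdeal_le_primeOf_iff, mem_support_ptIdeal_iff] at h1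

theorem eq_of_primeOf_eq {ξ ξ' τ : X} (h : ξ ⤳ τ) (h' : ξ' ⤳ τ)
    (he : primeOf h = primeOf h') : ξ = ξ' :=
  ((specializes_of_primeOf_le h h' he.le).antisymm (specializes_of_primeOf_le h' h he.ge)).eq

/-- the stalk at `τ` of the ideal of the closure of a generization `ξ` is the prime of `ξ` -/
theorem stalkIdeal_ptIdeal {ξ τ : X} (h : ξ ⤳ τ) :
    IntMult.stalkIdeal (IntMult.ptIdeal ξ) τ = primeOf h := by
  haveI : IsIntegral (IntMult.ptIdeal ξ).subscheme :=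
    InterDim.isIntegral_subscheme_vanishingIdeal ⟨closure {ξ}, isClosed_closure⟩
      isIrreducible_singleton.closure
  have hτ : τ ∈ (IntMult.ptIdeal ξ).support := (mem_support_ptIdeal_iff ξ τ).mpr h
  haveI hp : (stalkIdeal (IntMult.ptIdeal ξ) τ).IsPrime :=
    stalkIdeal_isPrime_of_isIntegral _ τ hτ
  obtain ⟨ζ, hζ, hζe⟩ := exists_specializes_primeOf_eq τ (stalkIdeal (IntMult.ptIdeal ξ) τ)
  have h1 : ζ ∈ (IntMult.ptIdeal ξ).support := (stalkIdeal_le_primeOf_iff _ hζ).mp hζe.ge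
  have h2 : ξ ⤳ ζ := (mem_support_ptIdeal_iff ξ ζ).mp h1
  have h3 : ζ ⤳ ξ := specializes_of_primeOf_le hζ h (hζe.le.trans (stalkIdeal_ptIdeal_le h))
  have h4 : ζ = ξ := (h3.antisymm h2).eq
  subst h4
  exact hζe.symm

theorem ker_specMap {ξ τ : X} (h : ξ ⤳ τ) : RingHom.ker (Cyc.specMap τ ξ h) = primeOf h := by
  unfold primeOf
  rw [← IsLocalRing.ker_residue]
  rfl

theorem ringKrullDim_quot_primeOf (δ : X → ℤ) (hδ : Cyc.IsDimFun X δ) {ξ τ : X} (h : ξ ⤳ τ) :
    ringKrullDim (X.presheaf.stalk τ ⧸ primeOf h) = (((δ ξ - δ τ).toNat : ℕ) : WithBot ℕ∞) := by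
  have h1 := Groth.Agent.Lib.Helper73.ringKrullDim_locQuot_eq_codim τ ξ h
  rw [Groth.Agent.Lib.Helper73.codim_eq_of_cycIsDimFun δ hδ ξ τ h] at h1
  rw [← h1]
  exact ringKrullDim_eq_of_ringEquiv (Ideal.quotEquivOfEq (ker_specMap h).symm)

theorem ringKrullDim_stalk (δ : X → ℤ) (hδ : Cyc.IsDimFun X δ) [IrreducibleSpace X] (τ : X) :
    ringKrullDim (X.presheaf.stalk τ) =
      (((δ (genericPoint X) - δ τ).toNat : ℕ) : WithBot ℕ∞) := by
  rw [← Groth.Agent.Lib.Helper73.codim_genericPoint_eq τ,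
    Groth.Agent.Lib.Helper73.codim_eq_of_cycIsDimFun δ hδ _ _ (genericPoint_specializes τ)]

end Groth.Agent.Lib.Helper90.CycOne
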