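import Mathlib
import Groth.Prelude.Def_Cyc
import Groth.Agent.Lib.Helper90.CycOne1

/-!
# Flat pullback of cycles: fibres, lengths and composition (helper90)
-/

set_option autoImplicit false
universe u

open AlgebraicGeometry CategoryTheory IsLocalRing
open Groth.Agent.Lib.Helper64.StalkSpec Groth.Agent.Lib.Helper64.StalkIdeal

namespace Groth.Agent.Lib.Helper90.CycPull

variable {X Y Z : Scheme.{u}}

/-- `x` is maximal under generalization in its fibre -/
def IsFibMax (f : X ⟶ Y) (x : X) : Prop := ∀ y, f y = f x → y ⤳ x → y = x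

/-- the point of a generization is the image of its prime -/
theorem fromSpecStalk_primeOf {x ζ : X} (h : ζ ⤳ x) :
    X.fromSpecStalk x ⟨primeOf h, inferInstance⟩ = ζ := by
  have h1 := Scheme.SpecMap_stalkSpecializes_fromSpecStalk h
  have h2 : (Spec.map (X.presheaf.stalkSpecializes h) ≫ X.fromSpecStalk x)
      (IsLocalRing.closedPoint (X.presheaf.stalk ζ)) = ζ := by
    rw [h1]; exact Scheme.fromSpecStalk_closedPoint
  rw [Scheme.Hom.comp_apply] at h2
  have h3 : (Spec.map (X.presheaf.stalkSpecializes h))
      (IsLocalRing.closedPoint (X.presheaf.stalk ζ)) = ⟨primeOf h, inferInstance⟩ := by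
    apply PrimeSpectrum.ext
    rfl
  rw [h3] at h2
  exact h2

theorem primeOf_eq_maximalIdeal_of_eq {a b : X} (e : a = b) (h : a ⤳ b) :
    primeOf h = maximalIdeal (X.presheaf.stalk b) := by
  subst e
  exact primeOf_refl a

/-- the contraction of the prime of a generization along the stalk map -/
theorem comap_stalkMap_primeOf (f : X ⟶ Y) {x ζ : X} (h : ζ ⤳ x) :
    (primeOf h).comap (f.stalkMap x).hom = primeOf (h.map f.continuous) := by
  have h1 := Scheme.SpecMap_stalkMap_fromSpecStalk f (x := x)
  have h2 : (Spec.map (f.stalkMap x) ≫ Y.fromSpecStalk (f x)) ⟨primeOf h, inferInstance⟩ =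
      f ζ := by
    rw [h1, Scheme.Hom.comp_apply, fromSpecStalk_primeOf]
  rw [Scheme.Hom.comp_apply] at h2
  have h3 := fromSpecStalk_primeOf (h.map f.continuous)
  have h4 := (Y.fromSpecStalk (f x)).isEmbedding.injective (h2.trans h3.symm)
  exact congrArg PrimeSpectrum.asIdeal h4

/-- the image of the maximal ideal of the base lies in the prime of every generization inside the
fibre -/
theorem map_maximalIdeal_le_primeOf (f : X ⟶ Y) {x y : X} (h : y ⤳ x) (hf : f y = f x) :
    (maximalIdeal (Y.presheaf.stalk (f x))).map (f.stalkMap x).hom ≤ primeOf h := by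
  rw [Ideal.map_le_iff_le_comap, comap_stalkMap_primeOf,
    primeOf_eq_maximalIdeal_of_eq hf (h.map f.continuous)]

theorem primeOf_ne_maximalIdeal {x y : X} (h : y ⤳ x) (hne : y ≠ x) :
    primeOf h ≠ maximalIdeal (X.presheaf.stalk x) := by
  intro he
  rw [← primeOf_refl] at he
  exact hne (CycOne.eq_of_primeOf_eq h (specializes_refl x) he)

/-- at a point which is not maximal in its fibre the fibre local ring has infinite length -/
theorem length_fibre_eq_top [IsLocallyNoetherian X] (f : X ⟶ Y) (x : X) (hx : ¬ IsFibMax f x) :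
    Module.length (X.presheaf.stalk x) (X.presheaf.stalk x ⧸
      (maximalIdeal (Y.presheaf.stalk (f x))).map (f.stalkMap x).hom) = ⊤ := by
  unfold IsFibMax at hx
  push_neg at hx
  obtain ⟨y, hfy, hy, hne⟩ := hx
  by_contra hfin
  rw [← Ne, Module.length_ne_top_iff] at hfin
  set J := (maximalIdeal (Y.presheaf.stalk (f x))).map (f.stalkMap x).hom with hJ
  have hJq : J ≤ primeOf hy := map_maximalIdeal_le_primeOf f hy hfy
  have hfin2 : IsFiniteLength (X.presheaf.stalk x) (X.presheaf.stalk x ⧸ primeOf hy) := by
    rw [← Module.length_ne_top_iff] at hfin ⊢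
    have hle := Module.length_le_of_surjective (Submodule.factor hJq) (Submodule.factor_surjective hJq)
    exact ne_top_of_le_ne_top hfin hle
  have hart : IsArtinian (X.presheaf.stalk x) (X.presheaf.stalk x ⧸ primeOf hy) :=
    (isFiniteLength_iff_isNoetherian_isArtinian.mp hfin2).2
  haveI : IsArtinianRing (X.presheaf.stalk x ⧸ primeOf hy) :=
    isArtinian_of_tower (X.presheaf.stalk x) hart
  have hfield : IsField (X.presheaf.stalk x ⧸ primeOf hy) :=
    IsArtinianRing.isField_of_isDomain _
  have hmax : (primeOf hy).IsMaximal := Ideal.Quotient.maximal_of_isField _ hfield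
  exact primeOf_ne_maximalIdeal hy hne (IsLocalRing.eq_maximalIdeal hmax)

end Groth.Agent.Lib.Helper90.CycPull
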