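import Mathlib
import Groth.Agent.Lib.Helper90.CycPull1

/-!
# Composition of flat pullbacks of cycles (helper90)
-/

set_option autoImplicit false
universe u

open AlgebraicGeometry CategoryTheory IsLocalRing TensorProduct

namespace Groth.Agent.Lib.Helper90.CycPull

variable {X X' X'' : Scheme.{u}}

/-- multiplicativity of the fibre lengths along a composition with flat second map -/
theorem length_fibre_comp (p : X' ⟶ X) (p' : X'' ⟶ X') [Flat p'] (x'' : X'') :
    Module.length (X''.presheaf.stalk x'') (X''.presheaf.stalk x'' ⧸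
      (maximalIdeal (X.presheaf.stalk ((p' ≫ p) x''))).map ((p' ≫ p).stalkMap x'').hom) =
    Module.length (X'.presheaf.stalk (p' x'')) (X'.presheaf.stalk (p' x'') ⧸
      (maximalIdeal (X.presheaf.stalk (p (p' x'')))).map (p.stalkMap (p' x'')).hom) *
    Module.length (X''.presheaf.stalk x'') (X''.presheaf.stalk x'' ⧸
      (maximalIdeal (X'.presheaf.stalk (p' x''))).map (p'.stalkMap x'').hom) := by
  letI : Algebra (X'.presheaf.stalk (p' x'')) (X''.presheaf.stalk x'') :=
    (p'.stalkMap x'').hom.toAlgebra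
  haveI : IsLocalHom (algebraMap (X'.presheaf.stalk (p' x'')) (X''.presheaf.stalk x'')) := by
    change IsLocalHom (p'.stalkMap x'').hom
    infer_instance
  haveI : Module.Flat (X'.presheaf.stalk (p' x'')) (X''.presheaf.stalk x'') :=
    Flat.stalkMap p' x''
  set I := (maximalIdeal (X.presheaf.stalk (p (p' x'')))).map (p.stalkMap (p' x'')).hom with hI
  have h1 := IsLocalRing.length_baseChange (X'.presheaf.stalk (p' x'')) (X''.presheaf.stalk x'')
    (X'.presheaf.stalk (p' x'') ⧸ I)
  have h2 := (Algebra.TensorProduct.quotIdealMapEquivTensorQuot (X''.presheaf.stalk x'')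
    I).toLinearEquiv.length_eq
  have h3 : I.map (algebraMap (X'.presheaf.stalk (p' x'')) (X''.presheaf.stalk x'')) =
      (maximalIdeal (X.presheaf.stalk ((p' ≫ p) x''))).map ((p' ≫ p).stalkMap x'').hom := by
    rw [hI, Ideal.map_map, Scheme.Hom.stalkMap_comp]
    rfl
  rw [← h3, h2, h1]
  rfl


theorem isFibMax_of_comp (p : X' ⟶ X) (p' : X'' ⟶ X') [Flat p'] (x'' : X'')
    (h : IsFibMax (p' ≫ p) x'') : IsFibMax p' x'' ∧ IsFibMax p (p' x'') := by
  constructor
  · intro y hy hsp
    refine h y ?_ hsp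
    change p (p' y) = p (p' x'')
    rw [hy]
  · intro y' hy' hsp
    obtain ⟨y'', hy''sp, hy''⟩ := (Flat.generalizingMap p') hsp
    have : y'' = x'' := by
      refine h y'' ?_ hy''sp
      change p (p' y'') = p (p' x'')
      rw [hy'', hy']
    rw [← hy'', this]

theorem isFibMax_comp (p : X' ⟶ X) (p' : X'' ⟶ X') (x'' : X'')
    (h1 : IsFibMax p' x'') (h2 : IsFibMax p (p' x'')) : IsFibMax (p' ≫ p) x'' := by
  intro y hy hsp
  have hy' : p (p' y) = p (p' x'') := hy
  have h3 : p' y = p' x'' := h2 (p' y) hy' (hsp.map p'.continuous)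
  exact h1 y h3 hsp

/-- composition of flat pullbacks of cycles with shifts -/
theorem pullFun_comp [IsLocallyNoetherian X''] (p : X' ⟶ X) (p' : X'' ⟶ X') [Flat p']
    (δ : X → ℤ) (δ' : X' → ℤ) (δ'' : X'' → ℤ) (c c' : ℤ)
    (hc : ∀ x' : X', IsFibMax p x' → δ' x' = δ (p x') + c)
    (hc' : ∀ x'' : X'', IsFibMax p' x'' → δ'' x'' = δ' (p' x'') + c') (α : X → ℤ) :
    Cyc.pullFun (p' ≫ p) δ'' δ (c + c') α = Cyc.pullFun p' δ'' δ' c' (Cyc.pullFun p δ' δ c α) := by
  funext x''
  have hmul := length_fibre_comp p p' x''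
  unfold Cyc.pullFun
  by_cases h1 : δ'' x'' = δ' (p' x'') + c'
  · by_cases h2 : δ' (p' x'') = δ (p (p' x'')) + c
    · have h3 : δ'' x'' = δ ((p' ≫ p) x'') + (c + c') := by
        change δ'' x'' = δ (p (p' x'')) + (c + c')
        omega
      rw [if_pos h1, if_pos h2, if_pos h3, hmul, ENat.toNat_mul]
      push_cast
      change α (p (p' x'')) * _ = _
      ring
    · rw [if_pos h1, if_neg h2, zero_mul]
      split_ifs with h3
      · have hnm : ¬ IsFibMax (p' ≫ p) x'' := by
          intro hm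
          exact h2 (hc _ (isFibMax_of_comp p p' x'' hm).2)
        rw [length_fibre_eq_top (p' ≫ p) x'' hnm]
        simp
      · rfl
  · rw [if_neg h1]
    split_ifs with h3
    · have hnm : ¬ IsFibMax (p' ≫ p) x'' := by
        intro hm
        exact h1 (hc' _ (isFibMax_of_comp p p' x'' hm).1)
      rw [length_fibre_eq_top (p' ≫ p) x'' hnm]
      simp
    · rfl

end Groth.Agent.Lib.Helper90.CycPull
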