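import Mathlib
import Groth.Prelude.Def_Cyc
import Groth.Prelude.Def_Coh
import Groth.Agent.Lib.Helper90.CycPull2
import Groth.Agent.Lib.Lead.PullbackAff6

/-!
# Flat pullback of the cycle of a coherent module (helper90)
-/

set_option autoImplicit false
universe u

open AlgebraicGeometry CategoryTheory IsLocalRing TensorProduct
open Groth.Agent.Lib.Helper64.StalkSpec Groth.Agent.Lib.Helper64.StalkIdeal

namespace Groth.Agent.Lib.Helper90.CycPull

variable {X Y : Scheme.{u}}

/-- the prime of a further generization is smaller -/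
theorem primeOf_le_of_specializes {z y x : X} (hz : z ⤳ x) (hy : y ⤳ x) (hzy : z ⤳ y) :
    primeOf hz ≤ primeOf hy := by
  rw [← CycOne.stalkIdeal_ptIdeal hz, IntMultGeom.stalkIdeal_eq, stalkIdeal_le_primeOf_iff,
    CycOne.mem_support_ptIdeal_iff]
  exact hzy

/-- every point is a specialization of a point of its fibre which is maximal in the fibre -/
theorem exists_isFibMax_specializes (f : X ⟶ Y) (x : X) :
    ∃ y, f y = f x ∧ y ⤳ x ∧ IsFibMax f y := by
  set J := (maximalIdeal (Y.presheaf.stalk (f x))).map (f.stalkMap x).hom with hJ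
  have hJle : J ≤ maximalIdeal (X.presheaf.stalk x) :=
    IsLocalRing.map_maximalIdeal_le (f.stalkMap x).hom
  obtain ⟨q, hq, hqle⟩ := Ideal.exists_minimalPrimes_le hJle
  have hqp : q.IsPrime := hq.1.1
  obtain ⟨y, hy, hye⟩ := exists_specializes_primeOf_eq x q
  have hcomap : q.comap (f.stalkMap x).hom = maximalIdeal (Y.presheaf.stalk (f x)) := by
    have h1 : maximalIdeal (Y.presheaf.stalk (f x)) ≤ q.comap (f.stalkMap x).hom :=
      Ideal.map_le_iff_le_comap.mp hq.1.2
    exact ((IsLocalRing.maximalIdeal.isMaximal _).eq_of_le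
      (Ideal.IsPrime.ne_top (Ideal.comap_isPrime _ _)) h1).symm
  have hfy : f y = f x := by
    have h2 := comap_stalkMap_primeOf f hy
    rw [hye, hcomap, ← primeOf_refl (f x)] at h2
    exact (CycOne.eq_of_primeOf_eq (specializes_refl (f x)) (hy.map f.continuous) h2).symm
  refine ⟨y, hfy, hy, ?_⟩
  intro z hfz hzy
  have hz : z ⤳ x := hzy.trans hy
  have h3 : J ≤ primeOf hz := map_maximalIdeal_le_primeOf f hz (hfz.trans hfy)
  have h4 : primeOf hz ≤ q := hye ▸ primeOf_le_of_specializes hz hy hzy
  have h5 : q ≤ primeOf hz := hq.2 ⟨inferInstance, h3⟩ h4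
  exact CycOne.eq_of_primeOf_eq hz hy ((le_antisymm h4 h5).trans hye.symm)

/-- the dimension inequality `δ'(x') ≤ δ(p x') + c` -/
theorem delta_le (p : Y ⟶ X) (δ : X → ℤ) (δ' : Y → ℤ) (c : ℤ) (hδ' : Cyc.IsDimFun Y δ')
    (hc : ∀ y : Y, IsFibMax p y → δ' y = δ (p y) + c) (y : Y) : δ' y ≤ δ (p y) + c := by
  obtain ⟨z, hfz, hz, hmax⟩ := exists_isFibMax_specializes p y
  have h1 := hc z hmax
  rw [hfz] at h1
  by_cases hzy : z = y
  · rw [← hzy]
    rw [hzy]
    rw [← h1, hzy]
  · have := (hδ' z y hz hzy).1
    omega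

theorem subsingleton_tensor_of_right (A B M : Type*) [CommRing A] [CommRing B] [Algebra A B]
    [AddCommGroup M] [Module A M] [Subsingleton M] : Subsingleton (B ⊗[A] M) := by
  refine ⟨fun a b => ?_⟩
  have h0 : ∀ z : B ⊗[A] M, z = 0 := by
    intro z
    induction z using TensorProduct.induction_on with
    | zero => rfl
    | tmul b m => rw [Subsingleton.elim m 0, TensorProduct.tmul_zero]
    | add a b ha hb => rw [ha, hb, add_zero]
  rw [h0 a, h0 b]

/-- the main statement -/
theorem main (X X' : Scheme.{u}) (p : X' ⟶ X) [Flat p] (δ : X → ℤ) (δ' : X' → ℤ)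
    (hX' : Cyc.IsSetup X' δ') (c : ℤ)
    (hc : ∀ x' : X', (∀ y, p y = p x' → y ⤳ x' → y = x') → δ' x' = δ (p x') + c) (k : ℤ)
    (F : X.Modules) (hF : Coh.IsCoh F)
    (hdim : ∀ x : X, Nontrivial (F.presheaf.stalk x) → δ x ≤ k) :
    (∀ x' : X', Nontrivial (((Scheme.Modules.pullback p).obj F).presheaf.stalk x') →
      δ' x' ≤ k + c) ∧
    Cyc.pullFun p δ' δ c (Cyc.sheafFun δ k F) =
      Cyc.sheafFun δ' (k + c) ((Scheme.Modules.pullback p).obj F) := by
  have : F.IsQuasicoherent := hF.1
  have hle : ∀ x' : X', δ' x' ≤ δ (p x') + c := delta_le p δ δ' c hX'.2.2 hc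
  -- stalk facts
  have key : ∀ x' : X',
      Module.length (X'.presheaf.stalk x')
        (((Scheme.Modules.pullback p).obj F).presheaf.stalk x') =
      Module.length (X.presheaf.stalk (p x')) (F.presheaf.stalk (p x')) *
        Module.length (X'.presheaf.stalk x') (X'.presheaf.stalk x' ⧸
          Ideal.map (p.stalkMap x').hom (maximalIdeal (X.presheaf.stalk (p x')))) := by
    intro x'
    let alg : Algebra (X.presheaf.stalk (p x')) (X'.presheaf.stalk x') :=
      (p.stalkMap x').hom.toAlgebra
    have : IsLocalHom (algebraMap (X.presheaf.stalk (p x')) (X'.presheaf.stalk x')) := by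
      change IsLocalHom (p.stalkMap x').hom
      infer_instance
    have : Module.Flat (X.presheaf.stalk (p x')) (X'.presheaf.stalk x') := Flat.stalkMap p x'
    obtain ⟨e⟩ := Groth.Agent.Lib.Lead.PullbackAff.nonempty_stalk_pullback_equiv p F x'
    rw [e.length_eq, IsLocalRing.length_baseChange]
    rfl
  have hnt : ∀ x' : X', Nontrivial (((Scheme.Modules.pullback p).obj F).presheaf.stalk x') →
      Nontrivial (F.presheaf.stalk (p x')) := by
    intro x' h
    by_contra hns
    rw [not_nontrivial_iff_subsingleton] at hns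
    have h0 : Module.length (X.presheaf.stalk (p x')) (F.presheaf.stalk (p x')) = 0 :=
      Module.length_eq_zero_iff.mpr hns
    have h1 := key x'
    rw [h0, zero_mul, Module.length_eq_zero_iff] at h1
    exact not_subsingleton _ h1
  refine ⟨fun x' h => ?_, ?_⟩
  · have h1 := hdim (p x') (hnt x' h)
    have h2 := hle x'
    omega
  · funext x'
    unfold Cyc.pullFun Cyc.sheafFun
    have hk := key x'
    by_cases h1 : δ' x' = δ (p x') + c
    · by_cases h2 : δ (p x') = k
      · have h3 : δ' x' = k + c := by omega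
        rw [if_pos h1, if_pos h2, if_pos h3, hk, ENat.toNat_mul]
        push_cast
        rfl
      · have h3 : ¬ δ' x' = k + c := by omega
        rw [if_pos h1, if_neg h2, if_neg h3, zero_mul]
    · rw [if_neg h1]
      by_cases h3 : δ' x' = k + c
      · rw [if_pos h3]
        have h4 : ¬ Nontrivial (((Scheme.Modules.pullback p).obj F).presheaf.stalk x') := by
          intro h
          have h5 := hdim (p x') (hnt x' h)
          have h6 := hle x'
          omega
        rw [not_nontrivial_iff_subsingleton] at h4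
        rw [Module.length_eq_zero_iff.mpr h4]
        rfl
      · rw [if_neg h3]

end Groth.Agent.Lib.Helper90.CycPull
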