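import Mathlib
import Groth.Prelude.Def_Tame

/-!
# Orders of vanishing along a flat local homomorphism (helper90)

For a flat local homomorphism `A → B` of one-dimensional Noetherian local domains with a compatible
map of fraction fields `ψ : K → L` one has `ord_B(ψ g) = ord_A(g) · ℓ_B(B/𝔪_A B)`.
-/

set_option autoImplicit false
universe u v

open IsLocalRing TensorProduct

namespace Groth.Agent.Lib.Helper90.FlatOrd

section one

variable (R : Type u) [CommRing R] [IsNoetherianRing R] [Ring.KrullDimLE 1 R] [IsDomain R]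
  (K : Type v) [Field K] [Algebra R K] [IsFractionRing R K]

/-- the integer valued order of a fraction of nonzero elements -/
theorem ordFrac_div_eq {a b : R} (ha : a ≠ 0) (hb : b ≠ 0) :
    CycAlg.ordFrac R K (algebraMap R K a / algebraMap R K b) =
      ((Ring.ord R a).toNat : ℤ) - ((Ring.ord R b).toNat : ℤ) := by
  have hcond : IsNoetherianRing R ∧ Ring.KrullDimLE 1 R ∧ Nontrivial R ∧ IsFractionRing R K :=
    ⟨inferInstance, inferInstance, inferInstance, inferInstance⟩
  unfold CycAlg.ordFrac
  rw [dif_pos hcond, map_div₀, Ring.ordFrac_eq_ord R ha, Ring.ordFrac_eq_ord R hb]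
  have ha' : a ∈ nonZeroDivisors R := mem_nonZeroDivisors_of_ne_zero ha
  have hb' : b ∈ nonZeroDivisors R := mem_nonZeroDivisors_of_ne_zero hb
  obtain ⟨n, hn⟩ := ENat.ne_top_iff_exists.mp (Ring.ord_ne_top ha')
  obtain ⟨m, hm⟩ := ENat.ne_top_iff_exists.mp (Ring.ord_ne_top hb')
  rw [Ring.ordMonoidWithZeroHom_eq_coe R ha' hn.symm, Ring.ordMonoidWithZeroHom_eq_coe R hb' hm.symm,
    ← hn, ← hm, ← WithZero.coe_div]
  simp

end one

section flat

variable (A B : Type u) [CommRing A] [CommRing B] [IsLocalRing A] [IsLocalRing B] [Algebra A B]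
  [IsLocalHom (algebraMap A B)] [Module.Flat A B]

/-- `ℓ_B(B/aB) = ℓ_A(A/aA) · ℓ_B(B/𝔪_A B)` -/
theorem ord_map_of_flat (a : A) :
    Ring.ord B (algebraMap A B a) =
      Ring.ord A a * Module.length B (B ⧸ (maximalIdeal A).map (algebraMap A B)) := by
  unfold Ring.ord
  have h1 := IsLocalRing.length_baseChange A B (A ⧸ Ideal.span {a})
  have h2 := (Algebra.TensorProduct.quotIdealMapEquivTensorQuot B
    (Ideal.span {a})).toLinearEquiv.length_eq
  have h3 : (Ideal.span {a}).map (algebraMap A B) = Ideal.span {algebraMap A B a} := by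
    rw [Ideal.map_span, Set.image_singleton]
  rw [← h3, h2, h1]

variable [IsNoetherianRing A] [IsNoetherianRing B] [IsDomain A] [IsDomain B]
  [Ring.KrullDimLE 1 A] [Ring.KrullDimLE 1 B]
  (K L : Type u) [Field K] [Field L] [Algebra A K] [Algebra B L] [IsFractionRing A K]
  [IsFractionRing B L]

/-- orders of vanishing along a flat local homomorphism of one-dimensional local domains -/
theorem ordFrac_flat (ψ : K →+* L)
    (hψ : ∀ a, ψ (algebraMap A K a) = algebraMap B L (algebraMap A B a)) (g : K) (hg : g ≠ 0) :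
    CycAlg.ordFrac B L (ψ g) = CycAlg.ordFrac A K g *
      ((Module.length B (B ⧸ (maximalIdeal A).map (algebraMap A B))).toNat : ℤ) := by
  obtain ⟨a, b, hb, rfl⟩ := IsFractionRing.div_surjective (A := A) g
  have hb0 : b ≠ 0 := nonZeroDivisors.ne_zero hb
  have ha0 : a ≠ 0 := by
    rintro rfl
    simp at hg
  have hinj : Function.Injective (algebraMap A B) := by
    haveI : Module.FaithfullyFlat A B := Module.FaithfullyFlat.of_flat_of_isLocalHom
    exact FaithfulSMul.algebraMap_injective A B
  have hφa : algebraMap A B a ≠ 0 := (map_ne_zero_iff _ hinj).mpr ha0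
  have hφb : algebraMap A B b ≠ 0 := (map_ne_zero_iff _ hinj).mpr hb0
  rw [map_div₀, hψ, hψ, ordFrac_div_eq B L hφa hφb, ordFrac_div_eq A K ha0 hb0, ord_map_of_flat,
    ord_map_of_flat, ENat.toNat_mul, ENat.toNat_mul]
  push_cast
  ring

end flat

end Groth.Agent.Lib.Helper90.FlatOrd
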