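import Mathlib
import Groth.Prelude.Def_Cyc
import Groth.Agent.Lib.Helper90.FlatOrd1
import Groth.Agent.Lib.Helper90.CycPull3
import Groth.Agent.Lib.Helper64.CycLen2
import Groth.Agent.Lib.Helper64.OrdOpen
import Groth.Agent.Lib.Helper73.DimFormula.FiberDimAdd

/-!
# Flat pullback of principal divisors (helper90)
-/

set_option autoImplicit false
universe u

open AlgebraicGeometry CategoryTheory IsLocalRing TensorProduct
open Groth.Agent.Lib.Helper64.StalkSpec Groth.Agent.Lib.Helper64.StalkIdeal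

namespace Groth.Agent.Lib.Helper90.FlatOrd

variable {X Y : Scheme.{u}}

/-- the prime of a maximal point of an integral scheme is zero -/
theorem primeOf_eq_bot [IsIntegral X] {x ξ : X} (h : ξ ⤳ x) (hmax : ∀ t, t ⤳ ξ → t = ξ) :
    primeOf h = ⊥ := by
  obtain ⟨ζ, hζ, hζe⟩ := exists_specializes_primeOf_eq x (⊥ : Ideal (X.presheaf.stalk x))
  have h1 : ζ ⤳ ξ := CycOne.specializes_of_primeOf_le hζ h (by rw [hζe]; exact bot_le)
  have h2 := hmax ζ h1
  subst h2
  exact hζe

theorem specMap_injective {x ξ : X} (h : ξ ⤳ x) (hbot : primeOf h = ⊥) :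
    Function.Injective (Cyc.specMap x ξ h) := by
  rw [RingHom.injective_iff_ker_eq_bot, CycOne.ker_specMap, hbot]

/-- `κ(ξ)` is the fraction field of `O_x` when the prime of `ξ` is zero -/
theorem isFractionRing_stalk {x ξ : X} (h : ξ ⤳ x) (hbot : primeOf h = ⊥) :
    @IsFractionRing (X.presheaf.stalk x) _ (X.residueField ξ) _ (Cyc.specMap x ξ h).toAlgebra := by
  letI : Algebra (X.presheaf.stalk x) (X.residueField ξ) := (Cyc.specMap x ξ h).toAlgebra
  have hF := Groth.Agent.Lib.Helper64.CycLen.isFractionRing_locQuot h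
  haveI : FaithfulSMul (X.presheaf.stalk x) (X.residueField ξ) := by
    rw [faithfulSMul_iff_algebraMap_injective]
    exact specMap_injective h hbot
  apply IsFractionRing.of_field
  intro z
  obtain ⟨a, b, -, hz⟩ := IsFractionRing.div_surjective (A := Cyc.LocQuot x ξ h) z
  obtain ⟨a, rfl⟩ := Ideal.Quotient.mk_surjective a
  obtain ⟨b, rfl⟩ := Ideal.Quotient.mk_surjective b
  exact ⟨a, b, hz.symm⟩

/-- the order along `ξ ⤳ x` computed in `O_x` itself when the prime of `ξ` is zero -/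
theorem ordAt_eq_ordFrac_stalk {x ξ : X} (h : ξ ⤳ x) (hbot : primeOf h = ⊥)
    [IsNoetherianRing (X.presheaf.stalk x)] [Ring.KrullDimLE 1 (X.presheaf.stalk x)]
    [IsDomain (X.presheaf.stalk x)] (g : X.residueField ξ) :
    Cyc.ordAt x ξ h g =
      @CycAlg.ordFrac (X.presheaf.stalk x) _ (X.residueField ξ) _ (Cyc.specMap x ξ h).toAlgebra g := by
  letI : Algebra (X.presheaf.stalk x) (X.residueField ξ) := (Cyc.specMap x ξ h).toAlgebra
  haveI hFA : IsFractionRing (X.presheaf.stalk x) (X.residueField ξ) := isFractionRing_stalk h hbot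
  let e : X.presheaf.stalk x ≃+* Cyc.LocQuot x ξ h :=
    RingEquiv.ofBijective (Ideal.Quotient.mk _) ⟨by
      rw [injective_iff_map_eq_zero]
      intro a ha
      rw [Ideal.Quotient.eq_zero_iff_mem, RingHom.mem_ker] at ha
      exact specMap_injective h hbot (ha.trans (map_zero _).symm), Ideal.Quotient.mk_surjective⟩
  haveI hN : IsNoetherianRing (Cyc.LocQuot x ξ h) := isNoetherianRing_of_ringEquiv _ e
  haveI hD : Ring.KrullDimLE 1 (Cyc.LocQuot x ξ h) := by
    rw [Ring.krullDimLE_iff, ← ringKrullDim_eq_of_ringEquiv e, ← Ring.krullDimLE_iff]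
    infer_instance
  haveI hdom : IsDomain (Cyc.LocQuot x ξ h) := e.symm.toMulEquiv.isDomain
  haveI hF : IsFractionRing (Cyc.LocQuot x ξ h) (X.residueField ξ) :=
    Groth.Agent.Lib.Helper64.CycLen.isFractionRing_locQuot h
  have hc1 : IsNoetherianRing (Cyc.LocQuot x ξ h) ∧ Ring.KrullDimLE 1 (Cyc.LocQuot x ξ h) ∧
      Nontrivial (Cyc.LocQuot x ξ h) ∧ IsFractionRing (Cyc.LocQuot x ξ h) (X.residueField ξ) :=
    ⟨hN, hD, inferInstance, hF⟩
  have hc2 : IsNoetherianRing (X.presheaf.stalk x) ∧ Ring.KrullDimLE 1 (X.presheaf.stalk x) ∧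
      Nontrivial (X.presheaf.stalk x) ∧ IsFractionRing (X.presheaf.stalk x) (X.residueField ξ) :=
    ⟨inferInstance, inferInstance, inferInstance, hFA⟩
  unfold Cyc.ordAt CycAlg.ordFrac
  rw [dif_pos hc1, dif_pos hc2]
  congr 1
  exact Groth.Agent.Lib.Helper64.OrdOpen.ordFrac_ringEquiv e (RingEquiv.refl (X.residueField ξ))
    (fun r => rfl) g

/-- compatibility of the specialization maps with a morphism -/
theorem residueFieldMap_specMap (f : X ⟶ Y) {x ξ : X} (h : ξ ⤳ x) (a : Y.presheaf.stalk (f x)) :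
    (f.residueFieldMap ξ).hom (Cyc.specMap (f x) (f ξ) (h.map f.continuous) a) =
      Cyc.specMap x ξ h ((f.stalkMap x).hom a) := by
  unfold Cyc.specMap
  have h1 := Scheme.Hom.stalkSpecializes_stalkMap_apply f ξ x h a
  have h2 := Scheme.residue_residueFieldMap f ξ
  have h3 := congrArg (fun φ => φ.hom ((Y.presheaf.stalkSpecializes (h.map f.continuous)).hom a)) h2
  simp only [CommRingCat.hom_comp, RingHom.comp_apply] at h3 ⊢
  rw [h3]
  congr 1

end Groth.Agent.Lib.Helper90.FlatOrd
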