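import Mathlib
import Groth.Prelude.Def_Cyc
import Groth.Agent.Lib.Helper90.FlatOrd2

/-!
# Flat pullback of principal divisors: the main statement (helper90)
-/

set_option autoImplicit false
universe u

open AlgebraicGeometry CategoryTheory IsLocalRing TensorProduct
open Groth.Agent.Lib.Helper64.StalkSpec Groth.Agent.Lib.Helper64.StalkIdeal

namespace Groth.Agent.Lib.Helper90.FlatOrd

variable {X Y : Scheme.{u}}

/-- orders along a flat morphism of integral schemes at points with local rings of dimension `≤ 1` -/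
theorem ordAt_pullback (f : X ⟶ Y) [Flat f] [IsIntegral X] [IsIntegral Y] [IsLocallyNoetherian X]
    [IsLocallyNoetherian Y] {x ξ : X} (h : ξ ⤳ x) (hmax : ∀ t, t ⤳ ξ → t = ξ)
    (hmax' : ∀ t, t ⤳ f ξ → t = f ξ)
    [Ring.KrullDimLE 1 (Y.presheaf.stalk (f x))] [Ring.KrullDimLE 1 (X.presheaf.stalk x)]
    (g : Y.residueField (f ξ)) (hg : g ≠ 0) :
    Cyc.ordAt x ξ h (f.residueFieldMap ξ g) =
      Cyc.ordAt (f x) (f ξ) (h.map f.continuous) g *
        ((Module.length (X.presheaf.stalk x) (X.presheaf.stalk x ⧸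
          Ideal.map (f.stalkMap x).hom (maximalIdeal (Y.presheaf.stalk (f x))))).toNat : ℤ) := by
  have hbX : primeOf h = ⊥ := primeOf_eq_bot h hmax
  have hbY : primeOf (h.map f.continuous) = ⊥ := primeOf_eq_bot (h.map f.continuous) hmax'
  rw [ordAt_eq_ordFrac_stalk h hbX, ordAt_eq_ordFrac_stalk (h.map f.continuous) hbY]
  letI : Algebra (Y.presheaf.stalk (f x)) (X.presheaf.stalk x) := (f.stalkMap x).hom.toAlgebra
  haveI : IsLocalHom (algebraMap (Y.presheaf.stalk (f x)) (X.presheaf.stalk x)) := by
    change IsLocalHom (f.stalkMap x).hom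
    infer_instance
  haveI : Module.Flat (Y.presheaf.stalk (f x)) (X.presheaf.stalk x) := Flat.stalkMap f x
  letI : Algebra (X.presheaf.stalk x) (X.residueField ξ) := (Cyc.specMap x ξ h).toAlgebra
  letI : Algebra (Y.presheaf.stalk (f x)) (Y.residueField (f ξ)) :=
    (Cyc.specMap (f x) (f ξ) (h.map f.continuous)).toAlgebra
  haveI : IsFractionRing (X.presheaf.stalk x) (X.residueField ξ) := isFractionRing_stalk h hbX
  haveI : IsFractionRing (Y.presheaf.stalk (f x)) (Y.residueField (f ξ)) :=
    isFractionRing_stalk (h.map f.continuous) hbY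
  exact ordFrac_flat (Y.presheaf.stalk (f x)) (X.presheaf.stalk x) (Y.residueField (f ξ))
    (X.residueField ξ) (f.residueFieldMap ξ).hom (fun a => residueFieldMap_specMap f h a) g hg

/-- flat pullback of a principal divisor -/
theorem main (X Y : Scheme.{u}) [IsIntegral X] [IsIntegral Y] (δX : X → ℤ) (δY : Y → ℤ)
    (hX : Cyc.IsSetup X δX) (hY : Cyc.IsSetup Y δY) (f : X ⟶ Y) [Flat f] [LocallyOfFiniteType f]
    (r : ℕ) (hr : Cyc.HasRelDim f r) (hδ : Cyc.DeltaCompat f δX δY)
    (g : Y.residueField (f (genericPoint X))) (hg : g ≠ 0) :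
    Cyc.pullFun f δX δY r (Cyc.divFun δY (f (genericPoint X)) g) =
      Cyc.divFun δX (genericPoint X) (f.residueFieldMap (genericPoint X) g) := by
  haveI : IsLocallyNoetherian X := hX.1
  haveI : IsLocallyNoetherian Y := hY.1
  have hresf : ∀ y : X, δX y = δY (f y) + Groth.Agent.Lib.Helper73.resTrdegNat f y := by
    intro x
    obtain ⟨n, hn, hx⟩ := hδ x
    have h1 : Groth.Agent.Lib.Helper73.resTrdeg f x = (n : Cardinal.{u}) := hn
    rw [Groth.Agent.Lib.Helper73.resTrdeg_eq_resTrdegNat] at h1
    have : Groth.Agent.Lib.Helper73.resTrdegNat f x = n := by exact_mod_cast h1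
    rw [hx, this]
  rw [Groth.Agent.Lib.Helper73.hasRelDim_iff_forall_maximal] at hr
  have hcf : ∀ y : X, CycPull.IsFibMax f y → δX y = δY (f y) + (r : ℤ) := by
    intro y hy
    rw [hresf y, hr y (fun t ht hgt => hy t hgt ht)]
  have hle := CycPull.delta_le f δY δX (r : ℤ) hX.2.2 hcf
  have hη : ∀ t : X, genericPoint X ⤳ t := fun t => genericPoint_specializes t
  have hηmax : ∀ t : X, t ⤳ genericPoint X → t = genericPoint X :=
    fun t ht => (ht.antisymm (hη t)).eq
  have hfη : f (genericPoint X) = genericPoint Y := by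
    obtain ⟨t, ht, hft⟩ := Flat.generalizingMap f (genericPoint_specializes (f (genericPoint X)))
    rw [← hft, hηmax t ht]
  have hη' : ∀ z : Y, f (genericPoint X) ⤳ z :=
    fun z => by rw [hfη]; exact genericPoint_specializes z
  have hη'max : ∀ z : Y, z ⤳ f (genericPoint X) → z = f (genericPoint X) :=
    fun z hz => (hz.antisymm (hη' z)).eq
  have hηdim : δX (genericPoint X) = δY (f (genericPoint X)) + (r : ℤ) :=
    hcf (genericPoint X) (fun z _ hz => hηmax z hz)
  funext x
  have hL : Cyc.pullFun f δX δY r (Cyc.divFun δY (f (genericPoint X)) g) x =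
      if δX x = δY (f x) + (r : ℤ) then
        Cyc.divFun δY (f (genericPoint X)) g (f x) *
          ((Module.length (X.presheaf.stalk x) (X.presheaf.stalk x ⧸
            Ideal.map (f.stalkMap x).hom (maximalIdeal (Y.presheaf.stalk (f x))))).toNat : ℤ)
      else 0 := rfl
  rw [hL]
  by_cases hA : δX x + 1 = δX (genericPoint X)
  · have hR : Cyc.divFun δX (genericPoint X) (f.residueFieldMap (genericPoint X) g) x =
        Cyc.ordAt x (genericPoint X) (hη x) (f.residueFieldMap (genericPoint X) g) := by
      unfold Cyc.divFun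
      exact dif_pos ⟨hη x, hA⟩
    rw [hR]
    have h1 := hle x
    have hdY : δY (f (genericPoint X)) ≤ δY (f x) + 1 := by omega
    haveI : Ring.KrullDimLE 1 (X.presheaf.stalk x) :=
      Groth.Agent.Lib.Helper64.CycLen.krullDimLE_one_stalk hX.2.2 (k := δX x) (fun z => by
        by_cases hz : genericPoint X = z
        · rw [← hz]; omega
        · have := (hX.2.2 (genericPoint X) z (hη z) hz).1
          omega) x rfl
    haveI : Ring.KrullDimLE 1 (Y.presheaf.stalk (f x)) :=
      Groth.Agent.Lib.Helper64.CycLen.krullDimLE_one_stalk hY.2.2 (k := δY (f x)) (fun z => by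
        by_cases hz : f (genericPoint X) = z
        · rw [← hz]; omega
        · have := (hY.2.2 (f (genericPoint X)) z (hη' z) hz).1
          omega) (f x) rfl
    have key := ordAt_pullback f (hη x) hηmax hη'max g hg
    by_cases h2 : δX x = δY (f x) + (r : ℤ)
    · rw [if_pos h2]
      have hD : Cyc.divFun δY (f (genericPoint X)) g (f x) =
          Cyc.ordAt (f x) (f (genericPoint X)) (hη' (f x)) g := by
        unfold Cyc.divFun
        exact dif_pos ⟨hη' (f x), by omega⟩
      rw [hD]
      exact key.symm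
    · rw [if_neg h2]
      have hx : ¬ CycPull.IsFibMax f x := fun hmax => h2 (hcf x hmax)
      have htop := CycPull.length_fibre_eq_top f x hx
      rw [htop] at key
      refine Eq.trans ?_ key.symm
      simp
  · have hR : Cyc.divFun δX (genericPoint X) (f.residueFieldMap (genericPoint X) g) x = 0 := by
      unfold Cyc.divFun
      exact dif_neg (fun h => hA h.2)
    rw [hR]
    by_cases h2 : δX x = δY (f x) + (r : ℤ)
    · rw [if_pos h2]
      have hD : Cyc.divFun δY (f (genericPoint X)) g (f x) = 0 := by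
        unfold Cyc.divFun
        exact dif_neg (fun h => hA (by omega))
      rw [hD, zero_mul]
    · rw [if_neg h2]

end Groth.Agent.Lib.Helper90.FlatOrd
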