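import Mathlib
import Groth.Prelude.Def_Cyc
import Groth.Agent.Lib.Helper90.FlatOrd3
import Groth.Agent.Lib.Helper64.CycLen1
import Groth.Agent.Lib.Helper64.CycOrd1

/-!
# The length of `O_x/(b)` as a sum over the maximal points specializing to `x` (helper90)
-/

set_option autoImplicit false
universe u

open AlgebraicGeometry CategoryTheory IsLocalRing TensorProduct
open Groth.Agent.Lib.Helper64.StalkSpec Groth.Agent.Lib.Helper64.StalkIdeal

namespace Groth.Agent.Lib.Helper90.FlatOrd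

variable {X Y : Scheme.{u}}

/-- every minimal prime of a local ring of `X` is the prime of a maximal point -/
theorem exists_maxPt_of_mem_minimalPrimes (x : X) (q : Ideal (X.presheaf.stalk x))
    (hq : q ∈ minimalPrimes (X.presheaf.stalk x)) :
    ∃ (ξ : X) (h : ξ ⤳ x), primeOf h = q ∧ ∀ t, t ⤳ ξ → t = ξ := by
  haveI : q.IsPrime := hq.1.1
  obtain ⟨ξ, hξ, hqe⟩ := exists_specializes_primeOf_eq x q
  refine ⟨ξ, hξ, hqe, ?_⟩
  intro t ht
  have ht' : t ⤳ x := ht.trans hξ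
  have h1 : primeOf ht' ≤ q := hqe ▸ CycPull.primeOf_le_of_specializes ht' hξ ht
  have h2 : q ≤ primeOf ht' := hq.2 ⟨inferInstance, bot_le⟩ h1
  exact CycOne.eq_of_primeOf_eq ht' hξ ((le_antisymm h1 h2).trans hqe.symm)

/-- every point has a maximal generization -/
theorem exists_maxPt_specializes (z : X) : ∃ ξ : X, ξ ⤳ z ∧ ∀ t, t ⤳ ξ → t = ξ := by
  obtain ⟨q, hq, -⟩ := Ideal.exists_minimalPrimes_le
    (bot_le : (⊥ : Ideal (X.presheaf.stalk z)) ≤ maximalIdeal (X.presheaf.stalk z))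
  obtain ⟨ξ, hξ, -, hmax⟩ := exists_maxPt_of_mem_minimalPrimes z q hq
  exact ⟨ξ, hξ, hmax⟩

/-- a flat morphism to an integral scheme maps maximal points to the generic point -/
theorem map_maxPt (f : X ⟶ Y) [Flat f] [IsIntegral Y] {ξ : X} (hξ : ∀ t, t ⤳ ξ → t = ξ) :
    f ξ = genericPoint Y := by
  obtain ⟨t, ht, hft⟩ := Flat.generalizingMap f (genericPoint_specializes (f ξ))
  rw [← hft, hξ t ht]

/-- the prime of a maximal point is a minimal prime -/
theorem primeOf_mem_minimalPrimes {x ξ : X} (h : ξ ⤳ x) (hξ : ∀ t, t ⤳ ξ → t = ξ) :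
    primeOf h ∈ minimalPrimes (X.presheaf.stalk x) := by
  refine ⟨⟨inferInstance, bot_le⟩, ?_⟩
  rintro J ⟨hJ, -⟩ hJle
  haveI := hJ
  obtain ⟨ζ, hζ, rfl⟩ := exists_specializes_primeOf_eq x J
  have h1 := CycOne.specializes_of_primeOf_le hζ h hJle
  have h2 := hξ ζ h1
  subst h2
  exact le_refl _

theorem residueFieldCongr_specMap {y y₁ y₂ : Y} (e : y₁ = y₂) (h₁ : y₁ ⤳ y) (h₂ : y₂ ⤳ y)
    (a : Y.presheaf.stalk y) :
    (Y.residueFieldCongr e).hom (Cyc.specMap y y₁ h₁ a) = Cyc.specMap y y₂ h₂ a := by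
  subst e
  rfl

section sum

variable [IsLocallyNoetherian X] (Q : X → Prop) (hQ : ∀ ξ : X, Q ξ ↔ ∀ t, t ⤳ ξ → t = ξ) (x : X)

open Classical in
/-- the summand attached to a maximal point -/
noncomputable def term (b : X.presheaf.stalk x) (ξ : {ξ : X // Q ξ}) : ℤ :=
  if h : ξ.1 ⤳ x then
    ((Module.length (X.presheaf.stalk ξ.1) (X.presheaf.stalk ξ.1)).toNat : ℤ) *
      Cyc.ordAt x ξ.1 h (Cyc.specMap x ξ.1 h b)
  else 0

include hQ in
theorem finite_specializes : {ξ : {ξ : X // Q ξ} | ξ.1 ⤳ x}.Finite := by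
  classical
  let e : {ξ : {ξ : X // Q ξ} | ξ.1 ⤳ x} → minimalPrimes (X.presheaf.stalk x) :=
    fun ξ => ⟨primeOf ξ.2, primeOf_mem_minimalPrimes ξ.2 ((hQ ξ.1.1).mp ξ.1.2)⟩
  have hinj : Function.Injective e := by
    intro ξ₁ ξ₂ h12
    have h1 : primeOf ξ₁.2 = primeOf ξ₂.2 := congrArg Subtype.val h12
    have h2 := CycOne.eq_of_primeOf_eq ξ₁.2 ξ₂.2 h1
    exact Subtype.ext (Subtype.ext h2)
  haveI : Finite (minimalPrimes (X.presheaf.stalk x)) :=
    (minimalPrimes.finite_of_isNoetherianRing (X.presheaf.stalk x)).to_subtype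
  exact Set.finite_coe_iff.mp (Finite.of_injective e hinj)

theorem support_term_subset (b : X.presheaf.stalk x) :
    Function.support (term Q x b) ⊆ {ξ : {ξ : X // Q ξ} | ξ.1 ⤳ x} := by
  intro ξ hξ
  by_contra h
  apply hξ
  unfold term
  exact dif_neg h

include hQ in
/-- **the length formula as a sum over maximal points** -/
theorem finsum_term_eq (hdim : ringKrullDim (X.presheaf.stalk x) = 1) (b : X.presheaf.stalk x)
    (hb : b ∈ nonZeroDivisors (X.presheaf.stalk x)) (hbu : ¬ IsUnit b) :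
    ∑ᶠ ξ : {ξ : X // Q ξ}, term Q x b ξ =
      ((Module.length (X.presheaf.stalk x) (X.presheaf.stalk x ⧸ Ideal.span {b})).toNat : ℤ) := by
  classical
  rw [Groth.Agent.Lib.Helper64.CycLen.length_quotient_span_eq_finsum hdim b hb hbu]
  have hs : ∑ᶠ ξ : {ξ : X // Q ξ}, term Q x b ξ =
      ∑ᶠ ξ ∈ {ξ : {ξ : X // Q ξ} | ξ.1 ⤳ x}, term Q x b ξ := by
    rw [← finsum_mem_univ]
    exact finsum_mem_inter_support_eq' _ _ _
      (fun ξ hξ => ⟨fun _ => support_term_subset Q x b hξ, fun _ => Set.mem_univ _⟩)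
  rw [hs]
  let e : {ξ : X // Q ξ} → PrimeSpectrum (X.presheaf.stalk x) :=
    fun ξ => if h : ξ.1 ⤳ x then Groth.Agent.Lib.Helper64.CycLen.qOf h
      else ⟨maximalIdeal (X.presheaf.stalk x), inferInstance⟩
  have he : ∀ (ξ : {ξ : X // Q ξ}) (h : ξ.1 ⤳ x), e ξ = Groth.Agent.Lib.Helper64.CycLen.qOf h :=
    fun ξ h => dif_pos h
  refine finsum_mem_eq_of_bijOn e ⟨?_, ?_, ?_⟩ ?_
  · intro ξ hξ
    change (e ξ).asIdeal ∈ minimalPrimes (X.presheaf.stalk x)
    rw [he ξ hξ, Groth.Agent.Lib.Helper64.CycLen.qOf_asIdeal]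
    exact primeOf_mem_minimalPrimes hξ ((hQ ξ.1).mp ξ.2)
  · intro ξ₁ h₁ ξ₂ h₂ h12
    rw [he ξ₁ h₁, he ξ₂ h₂] at h12
    have h3 : primeOf h₁ = primeOf h₂ := by
      rw [← Groth.Agent.Lib.Helper64.CycLen.qOf_asIdeal, ← Groth.Agent.Lib.Helper64.CycLen.qOf_asIdeal,
        h12]
    exact Subtype.ext (CycOne.eq_of_primeOf_eq h₁ h₂ h3)
  · intro q hq
    obtain ⟨ξ, h, hqe, hmax⟩ := exists_maxPt_of_mem_minimalPrimes x q.asIdeal hq
    refine ⟨⟨ξ, (hQ ξ).mpr hmax⟩, h, ?_⟩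
    rw [he _ h]
    apply PrimeSpectrum.ext
    rw [Groth.Agent.Lib.Helper64.CycLen.qOf_asIdeal]
    exact hqe
  · intro ξ hξ
    have h1 : term Q x b ξ = ((Module.length (X.presheaf.stalk ξ.1) (X.presheaf.stalk ξ.1)).toNat : ℤ) *
      Cyc.ordAt x ξ.1 hξ (Cyc.specMap x ξ.1 hξ b) := by
      unfold term
      exact dif_pos hξ
    rw [h1, he ξ hξ, Groth.Agent.Lib.Helper64.CycLen.length_localization_qOf hξ,
      Groth.Agent.Lib.Helper64.CycLen.ordFrac_qOf hξ b]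

/-- the unit case -/
theorem finsum_term_eq_of_isUnit (b : X.presheaf.stalk x) (hbu : IsUnit b) :
    ∑ᶠ ξ : {ξ : X // Q ξ}, term Q x b ξ =
      ((Module.length (X.presheaf.stalk x) (X.presheaf.stalk x ⧸ Ideal.span {b})).toNat : ℤ) := by
  have h0 : ∀ ξ, term Q x b ξ = 0 := by
    intro ξ
    unfold term
    split_ifs with h
    · rw [Groth.Agent.Lib.Helper64.CycOrd.ordAt_specMap_unit x ξ.1 h hbu, mul_zero]
    · rfl
  rw [finsum_congr h0, finsum_zero]
  have htop : Ideal.span {b} = ⊤ := Ideal.span_singleton_eq_top.mpr hbu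
  haveI : Subsingleton (X.presheaf.stalk x ⧸ Ideal.span {b}) := by
    rw [htop]
    exact Ideal.Quotient.subsingleton_iff.mpr rfl
  rw [Module.length_eq_zero_iff.mpr inferInstance]
  rfl

end sum

end Groth.Agent.Lib.Helper90.FlatOrd
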