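import Mathlib
import Groth.Prelude.Def_Cyc
import Groth.Agent.Lib.Helper90.FlatOrd4

/-!
# Flat pullback of a principal divisor to a possibly non-integral source (helper90)
-/

set_option autoImplicit false
universe u

open AlgebraicGeometry CategoryTheory IsLocalRing TensorProduct
open Groth.Agent.Lib.Helper64.StalkSpec Groth.Agent.Lib.Helper64.StalkIdeal

namespace Groth.Agent.Lib.Helper90.FlatOrd

theorem main1907 (X Y : Scheme.{u}) [IsIntegral Y] (δX : X → ℤ) (δY : Y → ℤ)
    (hX : Cyc.IsSetup X δX) (hY : Cyc.IsSetup Y δY) (f : X ⟶ Y) [Flat f] [LocallyOfFiniteType f]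
    (r : ℕ) (hr : Cyc.HasRelDim f r) (hδ : Cyc.DeltaCompat f δX δY) (k : ℤ)
    (hk : δY (genericPoint Y) = k) (g : Y.residueField (genericPoint Y)) (hg : g ≠ 0) (x : X) :
    Cyc.pullFun f δX δY r (Cyc.divFun δY (genericPoint Y) g) x =
      ∑ᶠ ξ : {ξ : X // (∀ x' : X, x' ⤳ ξ → x' = ξ) ∧ f ξ = genericPoint Y},
        ((Module.length (X.presheaf.stalk ξ.1) (X.presheaf.stalk ξ.1)).toNat : ℤ) *
          Cyc.divFun δX ξ.1 (f.residueFieldMap ξ.1 ((Y.residueFieldCongr ξ.2.2.symm).hom g)) x := by
  haveI : IsLocallyNoetherian X := hX.1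
  haveI : IsLocallyNoetherian Y := hY.1
  have hresf : ∀ y : X, δX y = δY (f y) + Groth.Agent.Lib.Helper73.resTrdegNat f y := by
    intro x
    obtain ⟨n, hn, hx⟩ := hδ x
    have h1 : Groth.Agent.Lib.Helper73.resTrdeg f x = (n : Cardinal.{u}) := hn
    rw [Groth.Agent.Lib.Helper73.resTrdeg_eq_resTrdegNat] at h1
    have : Groth.Agent.Lib.Helper73.resTrdegNat f x = n := by exact_mod_cast h1
    rw [hx, this]
  rw [Groth.Agent.Lib.Helper73.hasRelDim_iff_forall_maximal] at hr
  have hcf : ∀ y : X, CycPull.IsFibMax f y → δX y = δY (f y) + (r : ℤ) := by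
    intro y hy
    rw [hresf y, hr y (fun t ht hgt => hy t hgt ht)]
  have hle := CycPull.delta_le f δY δX (r : ℤ) hX.2.2 hcf
  have hQ : ∀ ξ : X, ((∀ x' : X, x' ⤳ ξ → x' = ξ) ∧ f ξ = genericPoint Y) ↔
      ∀ t, t ⤳ ξ → t = ξ := fun ξ => ⟨fun h => h.1, fun h => ⟨h, map_maxPt f h⟩⟩
  have hηY : ∀ z : Y, genericPoint Y ⤳ z := fun z => genericPoint_specializes z
  have hηmax : ∀ z : Y, z ⤳ genericPoint Y → z = genericPoint Y :=
    fun z hz => (hz.antisymm (hηY z)).eq
  have hδI : ∀ ξ : X, ((∀ x' : X, x' ⤳ ξ → x' = ξ) ∧ f ξ = genericPoint Y) →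
      δX ξ = k + (r : ℤ) := by
    intro ξ hξ
    rw [hcf ξ (fun z _ hz => hξ.1 z hz), hξ.2, hk]
  have hδXle : ∀ z : X, δX z ≤ k + (r : ℤ) := by
    intro z
    obtain ⟨ξ, hξz, hξmax⟩ := exists_maxPt_specializes z
    have h1 := hδI ξ ((hQ ξ).mpr hξmax)
    by_cases hz : ξ = z
    · rw [← hz, h1]
    · have := (hX.2.2 ξ z hξz hz).1
      omega
  have hδYle : ∀ z : Y, δY z ≤ k := by
    intro z
    by_cases hz : genericPoint Y = z
    · rw [← hz, hk]
    · have := (hY.2.2 (genericPoint Y) z (hηY z) hz).1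
      omega
  have hL : Cyc.pullFun f δX δY r (Cyc.divFun δY (genericPoint Y) g) x =
      if δX x = δY (f x) + (r : ℤ) then
        Cyc.divFun δY (genericPoint Y) g (f x) *
          ((Module.length (X.presheaf.stalk x) (X.presheaf.stalk x ⧸
            Ideal.map (f.stalkMap x).hom (maximalIdeal (Y.presheaf.stalk (f x))))).toNat : ℤ)
      else 0 := rfl
  rw [hL]
  by_cases hA : δX x + 1 = k + (r : ℤ)
  · -- the main case
    have h1 := hle x
    haveI : Ring.KrullDimLE 1 (X.presheaf.stalk x) :=
      Groth.Agent.Lib.Helper64.CycLen.krullDimLE_one_stalk hX.2.2 (k := δX x) (fun z => by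
        have := hδXle z
        omega) x rfl
    haveI : Ring.KrullDimLE 1 (Y.presheaf.stalk (f x)) :=
      Groth.Agent.Lib.Helper64.CycLen.krullDimLE_one_stalk hY.2.2 (k := δY (f x)) (fun z => by
        have := hδYle z
        omega) (f x) rfl
    have h₀ : genericPoint Y ⤳ f x := hηY (f x)
    have hbot : primeOf h₀ = ⊥ := primeOf_eq_bot h₀ hηmax
    letI algAK : Algebra (Y.presheaf.stalk (f x)) (Y.residueField (genericPoint Y)) :=
      (Cyc.specMap (f x) (genericPoint Y) h₀).toAlgebra
    haveI hFA : IsFractionRing (Y.presheaf.stalk (f x)) (Y.residueField (genericPoint Y)) :=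
      isFractionRing_stalk h₀ hbot
    obtain ⟨a, b, hb, hgab⟩ := IsFractionRing.div_surjective (A := Y.presheaf.stalk (f x)) g
    have hgab' : g = Cyc.specMap (f x) (genericPoint Y) h₀ a /
        Cyc.specMap (f x) (genericPoint Y) h₀ b := hgab.symm
    have hb0 : b ≠ 0 := nonZeroDivisors.ne_zero hb
    have ha0 : a ≠ 0 := by
      rintro rfl
      rw [map_zero, zero_div] at hgab'
      exact hg hgab'
    letI algAB : Algebra (Y.presheaf.stalk (f x)) (X.presheaf.stalk x) :=
      (f.stalkMap x).hom.toAlgebra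
    haveI : IsLocalHom (algebraMap (Y.presheaf.stalk (f x)) (X.presheaf.stalk x)) := by
      change IsLocalHom (f.stalkMap x).hom
      infer_instance
    haveI : Module.Flat (Y.presheaf.stalk (f x)) (X.presheaf.stalk x) := Flat.stalkMap f x
    have hφ : ∀ c : Y.presheaf.stalk (f x), c ≠ 0 →
        (f.stalkMap x).hom c ∈ nonZeroDivisors (X.presheaf.stalk x) := by
      intro c hc
      have hreg : IsSMulRegular (X.presheaf.stalk x)
          (algebraMap (Y.presheaf.stalk (f x)) (X.presheaf.stalk x) c) :=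
        IsSMulRegular.of_flat (IsRegular.of_ne_zero hc).isSMulRegular
      rw [mem_nonZeroDivisors_iff_right]
      intro z hz
      apply hreg
      change (f.stalkMap x).hom c * z = (f.stalkMap x).hom c * 0
      rw [mul_zero, mul_comm]
      exact hz
    -- the sums
    have hsum : ∀ c : Y.presheaf.stalk (f x), c ≠ 0 →
        ∑ᶠ ξ : {ξ : X // (∀ x' : X, x' ⤳ ξ → x' = ξ) ∧ f ξ = genericPoint Y},
          term _ x ((f.stalkMap x).hom c) ξ =
        ((Ring.ord (Y.presheaf.stalk (f x)) c).toNat : ℤ) *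
          ((Module.length (X.presheaf.stalk x) (X.presheaf.stalk x ⧸
            Ideal.map (f.stalkMap x).hom (maximalIdeal (Y.presheaf.stalk (f x))))).toNat : ℤ) := by
      intro c hc
      have h2 : ∑ᶠ ξ : {ξ : X // (∀ x' : X, x' ⤳ ξ → x' = ξ) ∧ f ξ = genericPoint Y},
          term _ x ((f.stalkMap x).hom c) ξ =
          ((Module.length (X.presheaf.stalk x)
            (X.presheaf.stalk x ⧸ Ideal.span {(f.stalkMap x).hom c})).toNat : ℤ) := by
        by_cases hu : IsUnit ((f.stalkMap x).hom c)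
        · exact finsum_term_eq_of_isUnit _ x _ hu
        · have hdim := Groth.Agent.Lib.Helper64.CycLen.ringKrullDim_stalk_eq_one hX.2.2
            (k := δX x) (fun z => by have := hδXle z; omega) x rfl _ (hφ c hc) hu
          exact finsum_term_eq _ hQ x hdim _ (hφ c hc) hu
      rw [h2]
      have h3 := ord_map_of_flat (Y.presheaf.stalk (f x)) (X.presheaf.stalk x) c
      have h4 : Module.length (X.presheaf.stalk x)
          (X.presheaf.stalk x ⧸ Ideal.span {(f.stalkMap x).hom c}) =
          Ring.ord (X.presheaf.stalk x)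
            (algebraMap (Y.presheaf.stalk (f x)) (X.presheaf.stalk x) c) := rfl
      rw [h4, h3, ENat.toNat_mul]
      push_cast
      rfl
    -- the terms
    have hterm : ∀ ξ : {ξ : X // (∀ x' : X, x' ⤳ ξ → x' = ξ) ∧ f ξ = genericPoint Y},
        ((Module.length (X.presheaf.stalk ξ.1) (X.presheaf.stalk ξ.1)).toNat : ℤ) *
          Cyc.divFun δX ξ.1 (f.residueFieldMap ξ.1 ((Y.residueFieldCongr ξ.2.2.symm).hom g)) x =
        term _ x ((f.stalkMap x).hom a) ξ - term _ x ((f.stalkMap x).hom b) ξ := by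
      intro ξ
      by_cases h : ξ.1 ⤳ x
      · have hD : Cyc.divFun δX ξ.1
            (f.residueFieldMap ξ.1 ((Y.residueFieldCongr ξ.2.2.symm).hom g)) x =
            Cyc.ordAt x ξ.1 h (f.residueFieldMap ξ.1 ((Y.residueFieldCongr ξ.2.2.symm).hom g)) := by
          unfold Cyc.divFun
          exact dif_pos ⟨h, by rw [hδI ξ.1 ξ.2]; exact hA⟩
        have e1 : (Y.residueFieldCongr ξ.2.2.symm).hom g =
            Cyc.specMap (f x) (f ξ.1) (h.map f.continuous) a /
              Cyc.specMap (f x) (f ξ.1) (h.map f.continuous) b := by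
          rw [hgab', map_div₀, residueFieldCongr_specMap ξ.2.2.symm h₀ (h.map f.continuous),
            residueFieldCongr_specMap ξ.2.2.symm h₀ (h.map f.continuous)]
        have e2 : f.residueFieldMap ξ.1 ((Y.residueFieldCongr ξ.2.2.symm).hom g) =
            Cyc.specMap x ξ.1 h ((f.stalkMap x).hom a) /
              Cyc.specMap x ξ.1 h ((f.stalkMap x).hom b) := by
          rw [e1, map_div₀]
          exact congrArg₂ (· / ·) (residueFieldMap_specMap f h a) (residueFieldMap_specMap f h b)
        have hmin := primeOf_mem_minimalPrimes h ξ.2.1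
        have hne : ∀ c : Y.presheaf.stalk (f x), c ≠ 0 →
            Cyc.specMap x ξ.1 h ((f.stalkMap x).hom c) ≠ 0 := by
          intro c hc h0
          have h5 : (f.stalkMap x).hom c ∈ primeOf h := by
            rw [← CycOne.ker_specMap h]
            exact h0
          exact notMem_nonZeroDivisors_of_mem_mem_minimalPrimes h5 hmin (hφ c hc)
        have hord : Cyc.ordAt x ξ.1 h (Cyc.specMap x ξ.1 h ((f.stalkMap x).hom a) /
              Cyc.specMap x ξ.1 h ((f.stalkMap x).hom b)) =
            Cyc.ordAt x ξ.1 h (Cyc.specMap x ξ.1 h ((f.stalkMap x).hom a)) -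
              Cyc.ordAt x ξ.1 h (Cyc.specMap x ξ.1 h ((f.stalkMap x).hom b)) := by
          rw [div_eq_mul_inv, Groth.Agent.Lib.Helper64.CycOrd.ordAt_mul x ξ.1 h (hne a ha0)
            (inv_ne_zero (hne b hb0)), ← zpow_neg_one,
            Groth.Agent.Lib.Helper64.CycOrd.ordAt_zpow x ξ.1 h (hne b hb0)]
          ring
        have t1 : ∀ c, term _ x ((f.stalkMap x).hom c) ξ =
            ((Module.length (X.presheaf.stalk ξ.1) (X.presheaf.stalk ξ.1)).toNat : ℤ) *
              Cyc.ordAt x ξ.1 h (Cyc.specMap x ξ.1 h ((f.stalkMap x).hom c)) := by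
          intro c
          unfold term
          exact dif_pos h
        rw [hD, e2, hord, t1 a, t1 b]
        ring
      · have hD : Cyc.divFun δX ξ.1
            (f.residueFieldMap ξ.1 ((Y.residueFieldCongr ξ.2.2.symm).hom g)) x = 0 := by
          unfold Cyc.divFun
          exact dif_neg (fun hh => h hh.1)
        have t0 : ∀ c, term _ x ((f.stalkMap x).hom c) ξ = 0 := by
          intro c
          unfold term
          exact dif_neg h
        rw [hD, t0 a, t0 b]
        ring
    rw [finsum_congr hterm, finsum_sub_distrib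
      ((finite_specializes _ hQ x).subset (support_term_subset _ x _))
      ((finite_specializes _ hQ x).subset (support_term_subset _ x _)),
      hsum a ha0, hsum b hb0]
    by_cases h2 : δX x = δY (f x) + (r : ℤ)
    · rw [if_pos h2]
      have hD : Cyc.divFun δY (genericPoint Y) g (f x) =
          Cyc.ordAt (f x) (genericPoint Y) h₀ g := by
        unfold Cyc.divFun
        exact dif_pos ⟨h₀, by omega⟩
      rw [hD, ordAt_eq_ordFrac_stalk h₀ hbot, ← hgab,
        ordFrac_div_eq (Y.presheaf.stalk (f x)) (Y.residueField (genericPoint Y)) ha0 hb0]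
      ring
    · rw [if_neg h2]
      have hx : ¬ CycPull.IsFibMax f x := fun hmax => h2 (hcf x hmax)
      rw [CycPull.length_fibre_eq_top f x hx]
      simp
  · -- everything vanishes
    have hterm : ∀ ξ : {ξ : X // (∀ x' : X, x' ⤳ ξ → x' = ξ) ∧ f ξ = genericPoint Y},
        ((Module.length (X.presheaf.stalk ξ.1) (X.presheaf.stalk ξ.1)).toNat : ℤ) *
          Cyc.divFun δX ξ.1 (f.residueFieldMap ξ.1 ((Y.residueFieldCongr ξ.2.2.symm).hom g)) x =
        0 := by
      intro ξ
      have hD : Cyc.divFun δX ξ.1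
          (f.residueFieldMap ξ.1 ((Y.residueFieldCongr ξ.2.2.symm).hom g)) x = 0 := by
        unfold Cyc.divFun
        exact dif_neg (fun hh => hA (by rw [← hδI ξ.1 ξ.2]; exact hh.2))
      rw [hD, mul_zero]
    rw [finsum_congr hterm, finsum_zero]
    by_cases h2 : δX x = δY (f x) + (r : ℤ)
    · rw [if_pos h2]
      have hD : Cyc.divFun δY (genericPoint Y) g (f x) = 0 := by
        unfold Cyc.divFun
        exact dif_neg (fun hh => hA (by have := hh.2; omega))
      rw [hD, zero_mul]
    · rw [if_neg h2]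

end Groth.Agent.Lib.Helper90.FlatOrd
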