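import Mathlib
import Groth.Prelude.Def_Tame
import Groth.Agent.Lib.Helper64.OrdOpen

/-!
# Transport of `CycAlg.ordFrac` along ring isomorphisms; iterated quotients (helper90)
-/

set_option autoImplicit false
universe u v

namespace Groth.Agent.Lib.Helper90.RelOrdQ2

theorem cond_of_ringEquiv {R R' : Type u} {K K' : Type v} [CommRing R] [CommRing R'] [Field K]
    [Field K'] [Algebra R K] [Algebra R' K'] (e : R ≃+* R') (E : K ≃+* K')
    (h : ∀ r, E (algebraMap R K r) = algebraMap R' K' (e r))
    (hc : IsNoetherianRing R ∧ Ring.KrullDimLE 1 R ∧ Nontrivial R ∧ IsFractionRing R K) :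
    IsNoetherianRing R' ∧ Ring.KrullDimLE 1 R' ∧ Nontrivial R' ∧ IsFractionRing R' K' := by
  obtain ⟨h1, h2, h3, h4⟩ := hc
  haveI := h3
  refine ⟨isNoetherianRing_of_ringEquiv _ e, ?_, e.injective.nontrivial, ?_⟩
  · rw [Ring.krullDimLE_iff, ← ringKrullDim_eq_of_ringEquiv e, ← Ring.krullDimLE_iff]
    exact h2
  · have h' : ∀ r', algebraMap R' K' r' = E (algebraMap R K (e.symm r')) := by
      intro r'
      rw [h, RingEquiv.apply_symm_apply]
    haveI : FaithfulSMul R' K' := by
      rw [faithfulSMul_iff_algebraMap_injective]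
      intro a b hab
      rw [h', h'] at hab
      exact e.symm.injective (IsFractionRing.injective R K (E.injective hab))
    apply IsFractionRing.of_field
    intro z
    obtain ⟨a, b, -, hz⟩ := IsFractionRing.div_surjective (A := R) (E.symm z)
    refine ⟨e a, e b, ?_⟩
    rw [← h, ← h, ← map_div₀, hz, RingEquiv.apply_symm_apply]

/-- `CycAlg.ordFrac` is invariant under compatible isomorphisms of rings and fields -/
theorem ordFrac_ringEquiv {R R' : Type u} {K K' : Type v} [CommRing R] [CommRing R'] [Field K]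
    [Field K'] [Algebra R K] [Algebra R' K'] (e : R ≃+* R') (E : K ≃+* K')
    (h : ∀ r, E (algebraMap R K r) = algebraMap R' K' (e r)) (k : K) :
    CycAlg.ordFrac R' K' (E k) = CycAlg.ordFrac R K k := by
  unfold CycAlg.ordFrac
  by_cases hc : IsNoetherianRing R ∧ Ring.KrullDimLE 1 R ∧ Nontrivial R ∧ IsFractionRing R K
  · have hc' := cond_of_ringEquiv e E h hc
    rw [dif_pos hc, dif_pos hc']
    obtain ⟨h1, h2, h3, h4⟩ := hc
    obtain ⟨h1', h2', h3', h4'⟩ := hc'
    haveI : IsDomain R := (IsFractionRing.injective R K).isDomain (algebraMap R K)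
    haveI : IsDomain R' := (IsFractionRing.injective R' K').isDomain (algebraMap R' K')
    congr 1
    exact Groth.Agent.Lib.Helper64.OrdOpen.ordFrac_ringEquiv e E h k
  · have hc' : ¬ (IsNoetherianRing R' ∧ Ring.KrullDimLE 1 R' ∧ Nontrivial R' ∧
        IsFractionRing R' K') := by
      intro hc'
      apply hc
      refine cond_of_ringEquiv e.symm E.symm ?_ hc'
      intro r'
      apply E.injective
      rw [RingEquiv.apply_symm_apply, h, RingEquiv.apply_symm_apply]
    rw [dif_neg hc, dif_neg hc']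

/-- the iterated quotient `(B/J)/q` is the quotient of `B` by the preimage of `q` -/
noncomputable def quotQuotEquiv {B : Type u} [CommRing B] (J : Ideal B) (q : Ideal (B ⧸ J)) :
    (B ⧸ q.comap (Ideal.Quotient.mk J)) ≃+* ((B ⧸ J) ⧸ q) :=
  RingEquiv.ofBijective
    (Ideal.Quotient.lift (q.comap (Ideal.Quotient.mk J))
      ((Ideal.Quotient.mk q).comp (Ideal.Quotient.mk J))
      (fun a ha => by
        rw [RingHom.comp_apply, Ideal.Quotient.eq_zero_iff_mem]
        exact ha))
    ⟨by
      rw [injective_iff_map_eq_zero]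
      intro a ha
      obtain ⟨a, rfl⟩ := Ideal.Quotient.mk_surjective a
      rw [Ideal.Quotient.lift_mk, RingHom.comp_apply, Ideal.Quotient.eq_zero_iff_mem] at ha
      rw [Ideal.Quotient.eq_zero_iff_mem]
      exact ha, by
      intro z
      obtain ⟨z, rfl⟩ := Ideal.Quotient.mk_surjective z
      obtain ⟨z, rfl⟩ := Ideal.Quotient.mk_surjective z
      exact ⟨Ideal.Quotient.mk _ z, by rw [Ideal.Quotient.lift_mk]; rfl⟩⟩

theorem quotQuotEquiv_mk {B : Type u} [CommRing B] (J : Ideal B) (q : Ideal (B ⧸ J)) (b : B) :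
    quotQuotEquiv J q (Ideal.Quotient.mk _ b) = Ideal.Quotient.mk q (Ideal.Quotient.mk J b) := by
  unfold quotQuotEquiv
  rw [RingEquiv.ofBijective_apply, Ideal.Quotient.lift_mk]
  rfl

/-- (Q2) -/
theorem ordFrac_quotient_quotient {B : Type u} [CommRing B] (J : Ideal B) (q : Ideal (B ⧸ J))
    [q.IsPrime] (b : B) :
    CycAlg.ordFrac ((B ⧸ J) ⧸ q) q.ResidueField
        (algebraMap (B ⧸ J) q.ResidueField (Ideal.Quotient.mk J b)) =
      CycAlg.ordFrac (B ⧸ q.comap (Ideal.Quotient.mk J)) (q.comap (Ideal.Quotient.mk J)).ResidueField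
        (algebraMap B (q.comap (Ideal.Quotient.mk J)).ResidueField b) := by
  let e := quotQuotEquiv J q
  let E : (q.comap (Ideal.Quotient.mk J)).ResidueField ≃+* q.ResidueField :=
    IsFractionRing.ringEquivOfRingEquiv e
  have hE : ∀ r, E (algebraMap (B ⧸ q.comap (Ideal.Quotient.mk J))
      (q.comap (Ideal.Quotient.mk J)).ResidueField r) =
      algebraMap ((B ⧸ J) ⧸ q) q.ResidueField (e r) :=
    fun r => IsFractionRing.ringEquivOfRingEquiv_algebraMap e r
  have h1 := ordFrac_ringEquiv e E hE (algebraMap (B ⧸ q.comap (Ideal.Quotient.mk J))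
      (q.comap (Ideal.Quotient.mk J)).ResidueField (Ideal.Quotient.mk _ b))
  rw [hE, quotQuotEquiv_mk] at h1
  have h2 : algebraMap ((B ⧸ J) ⧸ q) q.ResidueField
      (Ideal.Quotient.mk q (Ideal.Quotient.mk J b)) =
      algebraMap (B ⧸ J) q.ResidueField (Ideal.Quotient.mk J b) :=
    (IsScalarTower.algebraMap_apply (B ⧸ J) ((B ⧸ J) ⧸ q) q.ResidueField _).symm
  have h3 : algebraMap (B ⧸ q.comap (Ideal.Quotient.mk J))
      (q.comap (Ideal.Quotient.mk J)).ResidueField (Ideal.Quotient.mk _ b) =
      algebraMap B (q.comap (Ideal.Quotient.mk J)).ResidueField b :=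
    (IsScalarTower.algebraMap_apply B (B ⧸ q.comap (Ideal.Quotient.mk J))
      (q.comap (Ideal.Quotient.mk J)).ResidueField b).symm
  rw [h2, h3] at h1
  exact h1

end Groth.Agent.Lib.Helper90.RelOrdQ2
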