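import Mathlib
import Groth.Prelude.Def_Tame
import Groth.Agent.Lib.Helper64.CycLen1
import Groth.Agent.Lib.Helper90.FlatOrd1
import Groth.Agent.Lib.Helper90.RelOrdQ2
import Groth.Agent.Lib.Helper64.CycLen2
import Groth.Agent.Lib.Helper75.Cyc1940Q1

/-!
# The length of `B/(J + (b))` as a sum over the minimal primes of `J` (helper90)
-/

set_option autoImplicit false
universe u

open IsLocalRing TensorProduct

namespace Groth.Agent.Lib.Helper90.RelOrd

/-- length of a double quotient -/
theorem length_doubleQuot {B : Type u} [CommRing B] (J : Ideal B) (b : B) :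
    Module.length (B ⧸ J) ((B ⧸ J) ⧸ Ideal.span {Ideal.Quotient.mk J b}) =
      Module.length B (B ⧸ (J ⊔ Ideal.span {b})) := by
  have h1 : Module.length B ((B ⧸ J) ⧸ Ideal.span {Ideal.Quotient.mk J b}) =
      Module.length (B ⧸ J) ((B ⧸ J) ⧸ Ideal.span {Ideal.Quotient.mk J b}) :=
    Module.length_eq_of_surjective (S := B) (R := B ⧸ J) Ideal.Quotient.mk_surjective
  rw [← h1]
  have h2 : (Ideal.span {b}).map (Ideal.Quotient.mkₐ B J) = Ideal.span {Ideal.Quotient.mk J b} := by
    rw [Ideal.map_span, Set.image_singleton]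
    rfl
  have e := (DoubleQuot.quotQuotEquivQuotSupₐ B J (Ideal.span {b})).toLinearEquiv
  rw [← h2]
  exact e.length_eq

/-- a local ring of dimension `≤ 1` with a nonunit nonzerodivisor has dimension one -/
theorem ringKrullDim_eq_one_of_nzd {R : Type*} [CommRing R] [IsLocalRing R] [Ring.KrullDimLE 1 R]
    (f : R) (hf : f ∈ nonZeroDivisors R) (hfu : ¬ IsUnit f) : ringKrullDim R = 1 := by
  have h1 : ringKrullDim R ≤ 1 := by
    have := (Ring.krullDimLE_iff (n := 1) (R := R)).1 inferInstance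
    exact_mod_cast this
  have h0 : ¬ ringKrullDim R ≤ 0 := by
    intro h0
    haveI : Ring.KrullDimLE 0 R := (Ring.krullDimLE_iff (n := 0) (R := R)).2 (by exact_mod_cast h0)
    have hmin := Ideal.mem_minimalPrimes_of_krullDimLE_zero (maximalIdeal R)
    have hfm : f ∈ maximalIdeal R := (mem_maximalIdeal f).2 hfu
    exact notMem_nonZeroDivisors_of_mem_mem_minimalPrimes hfm hmin hf
  exact Groth.Agent.Lib.Helper64.CycLen.eq_one_of_le_one_of_not_le_zero h1 h0

/-- **the length of `B/(J + (b))` as a sum over the minimal primes of `J`** -/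
theorem length_quotient_sup_span_eq_finsum {B : Type u} [CommRing B] [IsNoetherianRing B]
    [IsLocalRing B] (J : Ideal B) (hJ : J ≠ ⊤) [Ring.KrullDimLE 1 (B ⧸ J)] (b : B)
    (hb : Ideal.Quotient.mk J b ∈ nonZeroDivisors (B ⧸ J)) (hbu : ¬ IsUnit b) :
    ((Module.length B (B ⧸ (J ⊔ Ideal.span {b}))).toNat : ℤ) =
      ∑ᶠ (Q : PrimeSpectrum B) (_ : Q.asIdeal ∈ J.minimalPrimes),
        ((Module.length (Localization.AtPrime Q.asIdeal)
          (Localization.AtPrime Q.asIdeal ⧸
            J.map (algebraMap B (Localization.AtPrime Q.asIdeal)))).toNat : ℤ) *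
        CycAlg.ordFrac (B ⧸ Q.asIdeal) Q.asIdeal.ResidueField
          (algebraMap B Q.asIdeal.ResidueField b) := by
  haveI : Nontrivial (B ⧸ J) := Ideal.Quotient.nontrivial_iff.mpr hJ
  haveI : IsLocalRing (B ⧸ J) :=
    IsLocalRing.of_surjective' (Ideal.Quotient.mk J) Ideal.Quotient.mk_surjective
  have hbu' : ¬ IsUnit (Ideal.Quotient.mk J b) := by
    intro hu
    haveI : IsLocalHom (Ideal.Quotient.mk J) :=
      IsLocalHom.of_surjective _ Ideal.Quotient.mk_surjective
    exact hbu (isUnit_of_map_unit (Ideal.Quotient.mk J) b hu)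
  have hdim := ringKrullDim_eq_one_of_nzd (Ideal.Quotient.mk J b) hb hbu'
  rw [← length_doubleQuot,
    Groth.Agent.Lib.Helper64.CycLen.length_quotient_span_eq_finsum hdim _ hb hbu']
  let e : PrimeSpectrum (B ⧸ J) → PrimeSpectrum B :=
    fun q => ⟨q.asIdeal.comap (Ideal.Quotient.mk J), inferInstance⟩
  refine finsum_mem_eq_of_bijOn e ⟨?_, ?_, ?_⟩ ?_
  · intro q hq
    change (q.asIdeal.comap (Ideal.Quotient.mk J)) ∈ J.minimalPrimes
    rw [Ideal.minimalPrimes_eq_comap]
    exact ⟨q.asIdeal, hq, rfl⟩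
  · intro q₁ _ q₂ _ h12
    have h3 : q₁.asIdeal.comap (Ideal.Quotient.mk J) = q₂.asIdeal.comap (Ideal.Quotient.mk J) :=
      congrArg PrimeSpectrum.asIdeal h12
    exact PrimeSpectrum.ext
      (Ideal.comap_injective_of_surjective _ Ideal.Quotient.mk_surjective h3)
  · intro Q hQ
    have hQ' : Q.asIdeal ∈ J.minimalPrimes := hQ
    rw [Ideal.minimalPrimes_eq_comap] at hQ'
    obtain ⟨q, hq, hqQ⟩ := hQ'
    haveI : q.IsPrime := hq.1.1
    exact ⟨⟨q, inferInstance⟩, hq, PrimeSpectrum.ext hqQ⟩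
  · intro q _
    change _ = ((Module.length (Localization.AtPrime (q.asIdeal.comap (Ideal.Quotient.mk J)))
      (Localization.AtPrime (q.asIdeal.comap (Ideal.Quotient.mk J)) ⧸
        J.map (algebraMap B (Localization.AtPrime (q.asIdeal.comap (Ideal.Quotient.mk J)))))).toNat : ℤ) *
      CycAlg.ordFrac (B ⧸ q.asIdeal.comap (Ideal.Quotient.mk J))
        (q.asIdeal.comap (Ideal.Quotient.mk J)).ResidueField
        (algebraMap B (q.asIdeal.comap (Ideal.Quotient.mk J)).ResidueField b)
    rw [← Groth.Agent.Lib.Helper75.Cyc1940Q1.length_localization_quotient J q.asIdeal,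
      ← Groth.Agent.Lib.Helper90.RelOrdQ2.ordFrac_quotient_quotient J q.asIdeal b]

section flat

variable (A B : Type u) [CommRing A] [CommRing B] [IsLocalRing A] [IsLocalRing B] [Algebra A B]
  [IsLocalHom (algebraMap A B)] [Module.Flat A B]

/-- `ℓ_B(B/(PB + cB)) = ord_{A/P}(c) · ℓ_B(B/𝔪_A B)` -/
theorem length_quotient_map_sup_span (P : Ideal A) (c : A) :
    Module.length B (B ⧸ (P.map (algebraMap A B) ⊔ Ideal.span {algebraMap A B c})) =
      Ring.ord (A ⧸ P) (Ideal.Quotient.mk P c) *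
        Module.length B (B ⧸ (maximalIdeal A).map (algebraMap A B)) := by
  have h1 := IsLocalRing.length_baseChange A B (A ⧸ (P ⊔ Ideal.span {c}))
  have h2 := (Algebra.TensorProduct.quotIdealMapEquivTensorQuot B
    (P ⊔ Ideal.span {c})).toLinearEquiv.length_eq
  have h3 : (P ⊔ Ideal.span {c}).map (algebraMap A B) =
      P.map (algebraMap A B) ⊔ Ideal.span {algebraMap A B c} := by
    rw [Ideal.map_sup, Ideal.map_span, Set.image_singleton]
  rw [← h3, h2, h1]
  congr 1
  unfold Ring.ord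
  exact (length_doubleQuot P c).symm

end flat

end Groth.Agent.Lib.Helper90.RelOrd
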