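import Mathlib
import Groth.Prelude.Def_Cyc
import Groth.Agent.Lib.Helper90.RelOrd1
import Groth.Agent.Lib.Helper90.FlatOrd5

/-!
# Points of the fibre over `ξ` and minimal primes over `𝔭_ξ O_{x'}` (helper90)
-/

set_option autoImplicit false
universe u

open AlgebraicGeometry CategoryTheory IsLocalRing TensorProduct
open Groth.Agent.Lib.Helper64.StalkSpec Groth.Agent.Lib.Helper64.StalkIdeal

namespace Groth.Agent.Lib.Helper90.RelOrd

variable {X X' : Scheme.{u}}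

theorem primeOf_congr {a b x : X} (e : a = b) (ha : a ⤳ x) (hb : b ⤳ x) :
    primeOf ha = primeOf hb := by
  subst e
  rfl

/-- the points of `X'` over `ξ` which are maximal in their fibre -/
abbrev Over (p : X' ⟶ X) (ξ : X) : Type u :=
  {ξ' : X' // p ξ' = ξ ∧ ∀ y, p y = p ξ' → y ⤳ ξ' → y = ξ'}

theorem comap_primeOf_over (p : X' ⟶ X) {x' : X'} {ξ : X} (h : ξ ⤳ p x') (ξ' : Over p ξ)
    (h' : ξ'.1 ⤳ x') : (primeOf h').comap (p.stalkMap x').hom = primeOf h := by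
  rw [CycPull.comap_stalkMap_primeOf p h']
  exact primeOf_congr ξ'.2.1 _ _

theorem primeOf_mem_minimalPrimes_map (p : X' ⟶ X) {x' : X'} {ξ : X} (h : ξ ⤳ p x')
    (ξ' : Over p ξ) (h' : ξ'.1 ⤳ x') :
    primeOf h' ∈ ((primeOf h).map (p.stalkMap x').hom).minimalPrimes := by
  have hcomap := comap_primeOf_over p h ξ' h'
  refine ⟨⟨inferInstance, ?_⟩, ?_⟩
  · rw [Ideal.map_le_iff_le_comap, hcomap]
  · rintro Q₁ ⟨hQ₁, hle⟩ hQ₁Q
    haveI := hQ₁
    obtain ⟨ζ, hζ, rfl⟩ := exists_specializes_primeOf_eq x' Q₁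
    have hζξ' : ζ ⤳ ξ'.1 := CycOne.specializes_of_primeOf_le hζ h' hQ₁Q
    have h1 : primeOf h ≤ (primeOf hζ).comap (p.stalkMap x').hom :=
      Ideal.map_le_iff_le_comap.mp hle
    have h2 : (primeOf hζ).comap (p.stalkMap x').hom ≤ primeOf h := by
      rw [← hcomap]
      exact Ideal.comap_mono hQ₁Q
    have h3 : (primeOf hζ).comap (p.stalkMap x').hom = primeOf h := le_antisymm h2 h1
    rw [CycPull.comap_stalkMap_primeOf p hζ] at h3
    have hpζ : p ζ = ξ := CycOne.eq_of_primeOf_eq (hζ.map p.continuous) h h3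
    have hz : ζ = ξ'.1 := ξ'.2.2 ζ (hpζ.trans ξ'.2.1.symm) hζξ'
    exact (primeOf_congr hz hζ h').ge

theorem exists_over_of_mem_minimalPrimes (p : X' ⟶ X) [Flat p] {x' : X'} {ξ : X}
    (h : ξ ⤳ p x') (Q : Ideal (X'.presheaf.stalk x'))
    (hQ : Q ∈ ((primeOf h).map (p.stalkMap x').hom).minimalPrimes) :
    ∃ (ξ' : Over p ξ) (h' : ξ'.1 ⤳ x'), primeOf h' = Q := by
  haveI := hQ.1.1
  obtain ⟨ξ₁, h₁, hQe⟩ := exists_specializes_primeOf_eq x' Q
  have hle : primeOf h ≤ primeOf (h₁.map p.continuous) := by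
    rw [← CycPull.comap_stalkMap_primeOf p h₁, hQe]
    exact Ideal.map_le_iff_le_comap.mp hQ.1.2
  have hsp : ξ ⤳ p ξ₁ := CycOne.specializes_of_primeOf_le h (h₁.map p.continuous) hle
  obtain ⟨ζ, hζ, hpζ⟩ := Flat.generalizingMap p hsp
  have key : ∀ z : X', z ⤳ ξ₁ → p z = ξ → z = ξ₁ := by
    intro z hzξ₁ hpz
    have hzx : z ⤳ x' := hzξ₁.trans h₁
    have h7 : primeOf hzx ≤ Q := hQe ▸ CycPull.primeOf_le_of_specializes hzx h₁ hzξ₁
    have h8 : (primeOf h).map (p.stalkMap x').hom ≤ primeOf hzx := by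
      rw [Ideal.map_le_iff_le_comap, CycPull.comap_stalkMap_primeOf p hzx]
      exact (primeOf_congr hpz (hzx.map p.continuous) h).ge
    have h9 := hQ.2 ⟨inferInstance, h8⟩ h7
    exact CycOne.eq_of_primeOf_eq hzx h₁ ((le_antisymm h7 h9).trans hQe.symm)
  have hζeq : ζ = ξ₁ := key ζ hζ hpζ
  have hpξ₁ : p ξ₁ = ξ := hζeq ▸ hpζ
  exact ⟨⟨ξ₁, hpξ₁, fun z hz hzξ₁ => key z hzξ₁ (hz.trans hpξ₁)⟩, h₁, hQe⟩

/-- the quotient `O_{x'}/𝔭_ξ O_{x'}` has dimension at most one -/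
theorem krullDimLE_one_quotient (p : X' ⟶ X) (δ : X → ℤ) (δ' : X' → ℤ) (c : ℤ)
    (hδ : Cyc.IsDimFun X δ) (hδ' : Cyc.IsDimFun X' δ') (hle : ∀ y' : X', δ' y' ≤ δ (p y') + c)
    {x' : X'} {ξ : X} (h : ξ ⤳ p x') (h1 : δ' x' = δ (p x') + c) (h2 : δ (p x') + 1 = δ ξ) :
    Ring.KrullDimLE 1 (X'.presheaf.stalk x' ⧸ (primeOf h).map (p.stalkMap x').hom) := by
  set J := (primeOf h).map (p.stalkMap x').hom with hJ
  have hJm : J ≤ maximalIdeal (X'.presheaf.stalk x') := by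
    rw [hJ, Ideal.map_le_iff_le_comap, ← primeOf_refl x',
      CycPull.comap_stalkMap_primeOf p (specializes_refl x')]
    exact CycPull.primeOf_le_of_specializes h _ h
  have hJtop : J ≠ ⊤ := fun ht => (maximalIdeal.isMaximal _).ne_top (top_le_iff.mp (ht ▸ hJm))
  haveI : Nontrivial (X'.presheaf.stalk x' ⧸ J) := Ideal.Quotient.nontrivial_iff.mpr hJtop
  haveI : IsLocalRing (X'.presheaf.stalk x' ⧸ J) :=
    IsLocalRing.of_surjective' (Ideal.Quotient.mk J) Ideal.Quotient.mk_surjective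
  -- bound on δ' for primes containing J
  have bound : ∀ (ζ : X') (hζ : ζ ⤳ x'), J ≤ primeOf hζ → δ' ζ ≤ δ' x' + 1 := by
    intro ζ hζ hJζ
    have h3 : primeOf h ≤ primeOf (hζ.map p.continuous) := by
      rw [← CycPull.comap_stalkMap_primeOf p hζ]
      exact Ideal.map_le_iff_le_comap.mp hJζ
    have hsp : ξ ⤳ p ζ := CycOne.specializes_of_primeOf_le h (hζ.map p.continuous) h3
    have h4 : δ (p ζ) ≤ δ ξ := by
      by_cases he : ξ = p ζ
      · rw [← he]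
      · exact (hδ ξ (p ζ) hsp he).1.le
    have h5 := hle ζ
    omega
  apply Ring.KrullDimLE.mk₁
  intro I hI
  haveI := hI
  have hJI : J ≤ I.comap (Ideal.Quotient.mk J) := by
    intro a ha
    rw [Ideal.mem_comap, Ideal.Quotient.eq_zero_iff_mem.mpr ha]
    exact zero_mem _
  obtain ⟨ζ, hζ, hζe⟩ := exists_specializes_primeOf_eq x' (I.comap (Ideal.Quotient.mk J))
  by_cases hzx : ζ = x'
  · right
    have h3 : I.comap (Ideal.Quotient.mk J) = maximalIdeal (X'.presheaf.stalk x') := by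
      rw [← hζe, primeOf_congr hzx hζ (specializes_refl x'), primeOf_refl]
    have h4 : maximalIdeal (X'.presheaf.stalk x' ⧸ J) ≤ I := by
      rw [← Ideal.comap_le_comap_iff_of_surjective (Ideal.Quotient.mk J)
        Ideal.Quotient.mk_surjective, h3]
      exact le_maximalIdeal (Ideal.comap_ne_top _ (maximalIdeal.isMaximal _).ne_top)
    have h5 : I = maximalIdeal (X'.presheaf.stalk x' ⧸ J) :=
      le_antisymm (le_maximalIdeal hI.ne_top) h4
    rw [h5]
    exact maximalIdeal.isMaximal _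
  · left
    have h3 := (hδ' ζ x' hζ hzx).1
    have h4 := bound ζ hζ (hζe ▸ hJI)
    refine ⟨⟨hI, bot_le⟩, ?_⟩
    rintro I₂ ⟨hI₂, -⟩ hI₂I
    haveI := hI₂
    have hJI₂ : J ≤ I₂.comap (Ideal.Quotient.mk J) := by
      intro a ha
      rw [Ideal.mem_comap, Ideal.Quotient.eq_zero_iff_mem.mpr ha]
      exact zero_mem _
    obtain ⟨ζ₂, hζ₂, hζ₂e⟩ := exists_specializes_primeOf_eq x' (I₂.comap (Ideal.Quotient.mk J))
    have h5 : primeOf hζ₂ ≤ primeOf hζ := by
      rw [hζ₂e, hζe]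
      exact Ideal.comap_mono hI₂I
    have hsp : ζ₂ ⤳ ζ := CycOne.specializes_of_primeOf_le hζ₂ hζ h5
    by_cases he : ζ₂ = ζ
    · have h6 : I₂.comap (Ideal.Quotient.mk J) = I.comap (Ideal.Quotient.mk J) := by
        rw [← hζ₂e, ← hζe]
        exact primeOf_congr he _ _
      exact (Ideal.comap_injective_of_surjective _ Ideal.Quotient.mk_surjective h6).ge
    · exfalso
      have h6 := (hδ' ζ₂ ζ hsp he).1
      have h7 := bound ζ₂ hζ₂ (hζ₂e ▸ hJI₂)
      omega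

end Groth.Agent.Lib.Helper90.RelOrd
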