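import Mathlib
import Groth.Prelude.Def_Cyc
import Groth.Agent.Lib.Helper64.CycLen2

/-!
# The multiplicity of a point in its fibre, computed in the local ring of a specialization (helper90)
-/

set_option autoImplicit false
universe u

open AlgebraicGeometry CategoryTheory IsLocalRing
open Groth.Agent.Lib.Helper64.StalkSpec Groth.Agent.Lib.Helper64.StalkIdeal

namespace Groth.Agent.Lib.Helper90.RelOrdQ4

theorem length_self_of_ringEquiv {R S : Type*} [CommRing R] [CommRing S] (e : R ≃+* S) :
    Module.length R R = Module.length S S := by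
  let := e.toRingHom.toAlgebra
  have h1 : Module.length R S = Module.length S S :=
    Module.length_eq_of_surjective e.surjective
  rw [← h1]
  refine LinearEquiv.length_eq
    ({ e with map_smul' := fun r x => ?_ } : R ≃ₗ[R] S)
  change e (r * x) = e r * e x
  exact map_mul e r x

theorem length_quotient_of_ringEquiv {R S : Type*} [CommRing R] [CommRing S] (e : R ≃+* S)
    (I : Ideal R) (J : Ideal S) (hIJ : J = I.map (e : R →+* S)) :
    Module.length R (R ⧸ I) = Module.length S (S ⧸ J) := by
  rw [Module.length_eq_of_surjective (R := R ⧸ I) (S := R) (M := R ⧸ I)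
      Ideal.Quotient.mk_surjective,
    Module.length_eq_of_surjective (R := S ⧸ J) (S := S) (M := S ⧸ J)
      Ideal.Quotient.mk_surjective]
  exact length_self_of_ringEquiv (Ideal.quotientEquiv I J e hIJ)

theorem length_localization_quotient_map_eq {X X' : Scheme.{u}} (p : X' ⟶ X) {x' ξ' : X'}
    (h' : ξ' ⤳ x') :
    Module.length (Localization.AtPrime (primeOf h'))
      (Localization.AtPrime (primeOf h') ⧸
        ((primeOf (h'.map p.continuous)).map (p.stalkMap x').hom).map
          (algebraMap (X'.presheaf.stalk x') (Localization.AtPrime (primeOf h')))) =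
    Module.length (X'.presheaf.stalk ξ') (X'.presheaf.stalk ξ' ⧸
      Ideal.map (p.stalkMap ξ').hom (maximalIdeal (X.presheaf.stalk (p ξ')))) := by
  letI alg : Algebra (X'.presheaf.stalk x') (X'.presheaf.stalk ξ') :=
    (X'.presheaf.stalkSpecializes h').hom.toAlgebra
  haveI loc : IsLocalization.AtPrime (X'.presheaf.stalk ξ') (primeOf h') :=
    isLocalization_stalkSpecializes h'
  letI algA : Algebra (X.presheaf.stalk (p x')) (X.presheaf.stalk (p ξ')) :=
    (X.presheaf.stalkSpecializes (h'.map p.continuous)).hom.toAlgebra
  haveI locA : IsLocalization.AtPrime (X.presheaf.stalk (p ξ')) (primeOf (h'.map p.continuous)) :=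
    isLocalization_stalkSpecializes (h'.map p.continuous)
  let e : Localization.AtPrime (primeOf h') ≃ₐ[X'.presheaf.stalk x'] X'.presheaf.stalk ξ' :=
    IsLocalization.algEquiv (primeOf h').primeCompl _ _
  apply length_quotient_of_ringEquiv e.toRingEquiv
  rw [Ideal.map_map]
  have hcomp : ((e.toRingEquiv : Localization.AtPrime (primeOf h') →+* X'.presheaf.stalk ξ').comp
      (algebraMap (X'.presheaf.stalk x') (Localization.AtPrime (primeOf h')))) =
      (X'.presheaf.stalkSpecializes h').hom := by
    ext b
    exact e.commutes b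
  rw [hcomp, Ideal.map_map]
  have hnat : (X'.presheaf.stalkSpecializes h').hom.comp (p.stalkMap x').hom =
      (p.stalkMap ξ').hom.comp (X.presheaf.stalkSpecializes (h'.map p.continuous)).hom := by
    ext a
    exact (Scheme.Hom.stalkSpecializes_stalkMap_apply p ξ' x' h' a).symm
  rw [hnat, ← Ideal.map_map]
  congr 1
  exact (IsLocalization.AtPrime.map_eq_maximalIdeal (primeOf (h'.map p.continuous))
    (X.presheaf.stalk (p ξ'))).symm

end Groth.Agent.Lib.Helper90.RelOrdQ4
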