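import Mathlib
import Groth.Prelude.Def_Cyc
import Groth.Agent.Lib.Helper90.RelOrd2
import Groth.Agent.Lib.Helper90.RelOrdQ4

/-!
# The length of `O_{x'}/(𝔭_ξ O_{x'} + (b))` as a sum over the fibre-maximal points over `ξ` (helper90)
-/

set_option autoImplicit false
universe u

open AlgebraicGeometry CategoryTheory IsLocalRing TensorProduct
open Groth.Agent.Lib.Helper64.StalkSpec Groth.Agent.Lib.Helper64.StalkIdeal

namespace Groth.Agent.Lib.Helper90.RelOrd

variable {X X' : Scheme.{u}} (p : X' ⟶ X)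

/-- the multiplicity of a point of `X'` in its fibre -/
noncomputable def mult (ξ' : X') : ℤ :=
  ((Module.length (X'.presheaf.stalk ξ') (X'.presheaf.stalk ξ' ⧸
    Ideal.map (p.stalkMap ξ').hom (maximalIdeal (X.presheaf.stalk (p ξ'))))).toNat : ℤ)

open Classical in
/-- the summand attached to a fibre-maximal point over `ξ` -/
noncomputable def relTerm (ξ : X) (x' : X') (b : X'.presheaf.stalk x') (ξ' : Over p ξ) : ℤ :=
  if h' : ξ'.1 ⤳ x' then mult p ξ'.1 * Cyc.ordAt x' ξ'.1 h' (Cyc.specMap x' ξ'.1 h' b) else 0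

theorem support_relTerm_subset (ξ : X) (x' : X') (b : X'.presheaf.stalk x') :
    Function.support (relTerm p ξ x' b) ⊆ {ξ' : Over p ξ | ξ'.1 ⤳ x'} := by
  intro ξ' hξ'
  by_contra h
  apply hξ'
  unfold relTerm
  exact dif_neg h

theorem finite_specializes_over [IsLocallyNoetherian X'] (ξ : X) (x' : X') :
    {ξ' : Over p ξ | ξ'.1 ⤳ x'}.Finite := by
  classical
  by_cases h : ξ ⤳ p x'
  · let e : {ξ' : Over p ξ | ξ'.1 ⤳ x'} →
        ((primeOf h).map (p.stalkMap x').hom).minimalPrimes :=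
      fun ξ' => ⟨primeOf ξ'.2, primeOf_mem_minimalPrimes_map p h ξ'.1 ξ'.2⟩
    have hinj : Function.Injective e := by
      intro ξ₁ ξ₂ h12
      have h1 : primeOf ξ₁.2 = primeOf ξ₂.2 := congrArg Subtype.val h12
      have h2 := CycOne.eq_of_primeOf_eq ξ₁.2 ξ₂.2 h1
      exact Subtype.ext (Subtype.ext h2)
    haveI : Finite ((primeOf h).map (p.stalkMap x').hom).minimalPrimes :=
      (Ideal.finite_minimalPrimes_of_isNoetherianRing _ _).to_subtype
    exact Set.finite_coe_iff.mp (Finite.of_injective e hinj)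
  · have : {ξ' : Over p ξ | ξ'.1 ⤳ x'} = ∅ := by
      ext ξ'
      simp only [Set.mem_setOf_eq, Set.mem_empty_iff_false, iff_false]
      intro h'
      apply h
      have := h'.map p.continuous
      rwa [ξ'.2.1] at this
    rw [this]
    exact Set.finite_empty

/-- transport of helper54's Q4 to an arbitrary presentation of the prime and of the ideal -/
theorem length_localization_quotient_map_eq' {x' ξ' : X'} (h' : ξ' ⤳ x')
    (q : Ideal (X'.presheaf.stalk x')) [q.IsPrime] (hq : q = primeOf h')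
    (J : Ideal (X'.presheaf.stalk x'))
    (hJ : J = (primeOf (h'.map p.continuous)).map (p.stalkMap x').hom) :
    ((Module.length (Localization.AtPrime q)
      (Localization.AtPrime q ⧸ J.map (algebraMap (X'.presheaf.stalk x')
        (Localization.AtPrime q)))).toNat : ℤ) = mult p ξ' := by
  subst hq hJ
  unfold mult
  rw [Groth.Agent.Lib.Helper90.RelOrdQ4.length_localization_quotient_map_eq p h']

/-- **the length formula as a sum over the fibre-maximal points over `ξ`** -/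
theorem finsum_relTerm_eq [IsLocallyNoetherian X'] [Flat p] (ξ : X) (x' : X') (h : ξ ⤳ p x')
    (J : Ideal (X'.presheaf.stalk x')) (hJ : J = (primeOf h).map (p.stalkMap x').hom)
    [Ring.KrullDimLE 1 (X'.presheaf.stalk x' ⧸ J)] (b : X'.presheaf.stalk x')
    (hb : Ideal.Quotient.mk J b ∈ nonZeroDivisors (X'.presheaf.stalk x' ⧸ J)) (hbu : ¬ IsUnit b) :
    ∑ᶠ ξ' : Over p ξ, relTerm p ξ x' b ξ' =
      ((Module.length (X'.presheaf.stalk x')
        (X'.presheaf.stalk x' ⧸ (J ⊔ Ideal.span {b}))).toNat : ℤ) := by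
  classical
  have hJtop : J ≠ ⊤ := by
    intro ht
    apply hbu
    have h1 : Subsingleton (X'.presheaf.stalk x' ⧸ J) := by
      rw [ht]
      exact Ideal.Quotient.subsingleton_iff.mpr rfl
    have h0 : (0 : X'.presheaf.stalk x' ⧸ J) ∈ nonZeroDivisors (X'.presheaf.stalk x' ⧸ J) := by
      rwa [Subsingleton.elim 0 (Ideal.Quotient.mk J b)]
    have h2 : (1 : X'.presheaf.stalk x') ∈ J := by rw [ht]; exact Submodule.mem_top
    -- contradiction via the KrullDimLE instance being irrelevant: use that b is a unit? no: derive False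
    exfalso
    have h3 := ‹Ring.KrullDimLE 1 (X'.presheaf.stalk x' ⧸ J)›
    have hJm : J ≤ maximalIdeal (X'.presheaf.stalk x') := by
      rw [hJ, Ideal.map_le_iff_le_comap, ← primeOf_refl x',
        CycPull.comap_stalkMap_primeOf p (specializes_refl x')]
      exact CycPull.primeOf_le_of_specializes h _ h
    exact (maximalIdeal.isMaximal _).ne_top (top_le_iff.mp (ht ▸ hJm))
  rw [length_quotient_sup_span_eq_finsum J hJtop b hb hbu]
  have hs : ∑ᶠ ξ' : Over p ξ, relTerm p ξ x' b ξ' =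
      ∑ᶠ ξ' ∈ {ξ' : Over p ξ | ξ'.1 ⤳ x'}, relTerm p ξ x' b ξ' := by
    rw [← finsum_mem_univ]
    exact finsum_mem_inter_support_eq' _ _ _
      (fun ξ' hξ' => ⟨fun _ => support_relTerm_subset p ξ x' b hξ', fun _ => Set.mem_univ _⟩)
  rw [hs]
  let e : Over p ξ → PrimeSpectrum (X'.presheaf.stalk x') :=
    fun ξ' => if h' : ξ'.1 ⤳ x' then Groth.Agent.Lib.Helper64.CycLen.qOf h'
      else ⟨maximalIdeal (X'.presheaf.stalk x'), inferInstance⟩
  have he : ∀ (ξ' : Over p ξ) (h' : ξ'.1 ⤳ x'), e ξ' = Groth.Agent.Lib.Helper64.CycLen.qOf h' :=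
    fun ξ' h' => dif_pos h'
  refine finsum_mem_eq_of_bijOn e ⟨?_, ?_, ?_⟩ ?_
  · intro ξ' hξ'
    change (e ξ').asIdeal ∈ J.minimalPrimes
    rw [he ξ' hξ', Groth.Agent.Lib.Helper64.CycLen.qOf_asIdeal, hJ]
    exact primeOf_mem_minimalPrimes_map p h ξ' hξ'
  · intro ξ₁ h₁ ξ₂ h₂ h12
    rw [he ξ₁ h₁, he ξ₂ h₂] at h12
    have h3 : primeOf h₁ = primeOf h₂ := by
      rw [← Groth.Agent.Lib.Helper64.CycLen.qOf_asIdeal, ← Groth.Agent.Lib.Helper64.CycLen.qOf_asIdeal,
        h12]
    exact Subtype.ext (CycOne.eq_of_primeOf_eq h₁ h₂ h3)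
  · intro Q hQ
    have hQ' : Q.asIdeal ∈ ((primeOf h).map (p.stalkMap x').hom).minimalPrimes := hJ ▸ hQ
    obtain ⟨ξ', h', hqe⟩ := exists_over_of_mem_minimalPrimes p h Q.asIdeal hQ'
    refine ⟨ξ', h', ?_⟩
    rw [he _ h']
    apply PrimeSpectrum.ext
    rw [Groth.Agent.Lib.Helper64.CycLen.qOf_asIdeal]
    exact hqe
  · intro ξ' hξ'
    have h1 : relTerm p ξ x' b ξ' =
        mult p ξ'.1 * Cyc.ordAt x' ξ'.1 hξ' (Cyc.specMap x' ξ'.1 hξ' b) := by
      unfold relTerm
      exact dif_pos hξ'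
    have hJ' : J = (primeOf (hξ'.map p.continuous)).map (p.stalkMap x').hom := by
      rw [hJ]
      congr 1
      exact (primeOf_congr ξ'.2.1 (hξ'.map p.continuous) h).symm
    rw [h1, he ξ' hξ', length_localization_quotient_map_eq' p hξ'
      (Groth.Agent.Lib.Helper64.CycLen.qOf hξ').asIdeal
      (Groth.Agent.Lib.Helper64.CycLen.qOf_asIdeal hξ') J hJ',
      Groth.Agent.Lib.Helper64.CycLen.ordFrac_qOf hξ' b]

/-- the unit case -/
theorem finsum_relTerm_eq_of_isUnit (ξ : X) (x' : X') (b : X'.presheaf.stalk x') (hbu : IsUnit b)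
    (J : Ideal (X'.presheaf.stalk x')) :
    ∑ᶠ ξ' : Over p ξ, relTerm p ξ x' b ξ' =
      ((Module.length (X'.presheaf.stalk x')
        (X'.presheaf.stalk x' ⧸ (J ⊔ Ideal.span {b}))).toNat : ℤ) := by
  have h0 : ∀ ξ', relTerm p ξ x' b ξ' = 0 := by
    intro ξ'
    unfold relTerm
    split_ifs with h
    · rw [Groth.Agent.Lib.Helper64.CycOrd.ordAt_specMap_unit x' ξ'.1 h hbu, mul_zero]
    · rfl
  rw [finsum_congr h0, finsum_zero]
  have htop : J ⊔ Ideal.span {b} = ⊤ := by
    rw [Ideal.span_singleton_eq_top.mpr hbu, sup_top_eq]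
  haveI : Subsingleton (X'.presheaf.stalk x' ⧸ (J ⊔ Ideal.span {b})) := by
    rw [htop]
    exact Ideal.Quotient.subsingleton_iff.mpr rfl
  rw [Module.length_eq_zero_iff.mpr inferInstance]
  rfl

end Groth.Agent.Lib.Helper90.RelOrd
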