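import Mathlib
import Groth.Prelude.Def_Cyc
import Groth.Agent.Lib.Helper90.RelOrd3
import Groth.Agent.Lib.Helper98.Cyc1940Q3

/-!
# Flat pullback of the principal divisor of a rational function on the closure of a point (helper90)
-/

set_option autoImplicit false
universe u

open AlgebraicGeometry CategoryTheory IsLocalRing TensorProduct
open Groth.Agent.Lib.Helper64.StalkSpec Groth.Agent.Lib.Helper64.StalkIdeal

namespace Groth.Agent.Lib.Helper90.RelOrd

variable {X X' : Scheme.{u}}

/-- the function induced by `g ∈ κ(ξ)` on a point `ξ'` over `ξ` -/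
noncomputable def pb (p : X' ⟶ X) {ξ : X} (g : X.residueField ξ) (ξ' : Over p ξ) :
    X'.residueField ξ'.1 :=
  p.residueFieldMap ξ'.1 ((X.residueFieldCongr ξ'.2.1.symm).hom g)

theorem pb_specMap_div (p : X' ⟶ X) {ξ : X} {x' : X'} (h : ξ ⤳ p x') (ξ' : Over p ξ)
    (h' : ξ'.1 ⤳ x') (a b : X.presheaf.stalk (p x')) :
    pb p (Cyc.specMap (p x') ξ h a / Cyc.specMap (p x') ξ h b) ξ' =
      Cyc.specMap x' ξ'.1 h' ((p.stalkMap x').hom a) /
        Cyc.specMap x' ξ'.1 h' ((p.stalkMap x').hom b) := by
  unfold pb
  have e1 : (X.residueFieldCongr ξ'.2.1.symm).hom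
      (Cyc.specMap (p x') ξ h a / Cyc.specMap (p x') ξ h b) =
      Cyc.specMap (p x') (p ξ'.1) (h'.map p.continuous) a /
        Cyc.specMap (p x') (p ξ'.1) (h'.map p.continuous) b := by
    rw [map_div₀, FlatOrd.residueFieldCongr_specMap ξ'.2.1.symm h (h'.map p.continuous),
      FlatOrd.residueFieldCongr_specMap ξ'.2.1.symm h (h'.map p.continuous)]
  rw [e1, map_div₀]
  exact congrArg₂ (· / ·) (FlatOrd.residueFieldMap_specMap p h' a)
    (FlatOrd.residueFieldMap_specMap p h' b)

theorem pb_ne_zero (p : X' ⟶ X) {ξ : X} {g : X.residueField ξ} (hg : g ≠ 0) (ξ' : Over p ξ) :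
    pb p g ξ' ≠ 0 := by
  unfold pb
  intro h0
  apply hg
  have h1 : (X.residueFieldCongr ξ'.2.1.symm).hom g = 0 := by
    by_contra hne
    exact hne ((map_eq_zero (p.residueFieldMap ξ'.1).hom).mp h0)
  exact (map_eq_zero (X.residueFieldCongr ξ'.2.1.symm).hom.hom).mp h1

/-- **flat pullback of a principal divisor on the closure of `ξ`** -/
theorem pullFun_divFun (X X' : Scheme.{u}) (δ : X → ℤ) (δ' : X' → ℤ) (hX : Cyc.IsSetup X δ)
    (hX' : Cyc.IsSetup X' δ') (p : X' ⟶ X) [Flat p] (c : ℤ)
    (hc : ∀ x' : X', (∀ y, p y = p x' → y ⤳ x' → y = x') → δ' x' = δ (p x') + c)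
    (ξ : X) (g : X.residueField ξ) (hg : g ≠ 0) (x' : X') :
    Cyc.pullFun p δ' δ c (Cyc.divFun δ ξ g) x' =
      ∑ᶠ ξ' : Over p ξ, mult p ξ'.1 * Cyc.divFun δ' ξ'.1 (pb p g ξ') x' := by
  haveI : IsLocallyNoetherian X := hX.1
  haveI : IsLocallyNoetherian X' := hX'.1
  have hle := CycPull.delta_le p δ δ' c hX'.2.2 hc
  have hδO : ∀ ξ' : Over p ξ, δ' ξ'.1 = δ ξ + c := by
    intro ξ'
    rw [hc ξ'.1 ξ'.2.2, ξ'.2.1]
  have hL : Cyc.pullFun p δ' δ c (Cyc.divFun δ ξ g) x' =
      if δ' x' = δ (p x') + c then
        Cyc.divFun δ ξ g (p x') *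
          ((Module.length (X'.presheaf.stalk x') (X'.presheaf.stalk x' ⧸
            Ideal.map (p.stalkMap x').hom (maximalIdeal (X.presheaf.stalk (p x'))))).toNat : ℤ)
      else 0 := rfl
  rw [hL]
  -- a general vanishing principle for the right hand side
  have hzero : (∀ ξ' : Over p ξ, mult p ξ'.1 * Cyc.divFun δ' ξ'.1 (pb p g ξ') x' = 0) →
      ∑ᶠ ξ' : Over p ξ, mult p ξ'.1 * Cyc.divFun δ' ξ'.1 (pb p g ξ') x' = 0 := by
    intro h0
    rw [finsum_congr h0, finsum_zero]
  by_cases hξeq : ξ = p x'
  · -- constants have no divisor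
    subst hξeq
    have hD : Cyc.divFun δ (p x') g (p x') = 0 := by
      unfold Cyc.divFun
      exact dif_neg (fun hh => by have := hh.2; omega)
    rw [hD, zero_mul, ite_self]
    symm
    apply hzero
    intro ξ'
    by_cases hcond : ξ'.1 ⤳ x' ∧ δ' x' + 1 = δ' ξ'.1
    · have hD' : Cyc.divFun δ' ξ'.1 (pb p g ξ') x' =
          Cyc.ordAt x' ξ'.1 hcond.1 (pb p g ξ') := by
        unfold Cyc.divFun
        exact dif_pos hcond
      -- lift g to a unit of the local ring
      have hsurj : Function.Surjective (Cyc.specMap (p x') (p x') (specializes_refl (p x'))) := by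
        intro z
        obtain ⟨w, rfl⟩ := Ideal.Quotient.mk_surjective
          (I := maximalIdeal (X.presheaf.stalk (p x'))) z
        refine ⟨w, ?_⟩
        unfold Cyc.specMap
        rw [TopCat.Presheaf.stalkSpecializes_refl]
        rfl
      obtain ⟨u, hu⟩ := hsurj g
      have huu : IsUnit u := by
        by_contra hnu
        have h1 : u ∈ primeOf (specializes_refl (p x')) := by
          rw [primeOf_refl]
          exact (mem_maximalIdeal u).2 hnu
        rw [← CycOne.ker_specMap] at h1
        exact hg (hu ▸ h1)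
      have h2 := pb_specMap_div p (specializes_refl (p x')) ξ' hcond.1 u 1
      rw [map_one, div_one, hu, map_one, map_one, div_one] at h2
      rw [hD', h2, Groth.Agent.Lib.Helper64.CycOrd.ordAt_specMap_unit x' ξ'.1 hcond.1
        (huu.map _), mul_zero]
    · have hD' : Cyc.divFun δ' ξ'.1 (pb p g ξ') x' = 0 := by
        unfold Cyc.divFun
        exact dif_neg hcond
      rw [hD', mul_zero]
  · by_cases hcond : ξ ⤳ p x' ∧ δ (p x') + 1 = δ ξ
    · obtain ⟨h, hdim⟩ := hcond
      have hD : Cyc.divFun δ ξ g (p x') = Cyc.ordAt (p x') ξ h g := by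
        unfold Cyc.divFun
        exact dif_pos ⟨h, hdim⟩
      by_cases h1 : δ' x' = δ (p x') + c
      · -- the main case
        rw [if_pos h1, hD]
        set P := RingHom.ker (Cyc.specMap (p x') ξ h) with hP
        have hPe : P = primeOf h := CycOne.ker_specMap h
        haveI hPp : P.IsPrime := RingHom.ker_isPrime _
        letI algAB : Algebra (X.presheaf.stalk (p x')) (X'.presheaf.stalk x') :=
          (p.stalkMap x').hom.toAlgebra
        haveI : IsLocalHom (algebraMap (X.presheaf.stalk (p x')) (X'.presheaf.stalk x')) := by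
          change IsLocalHom (p.stalkMap x').hom
          infer_instance
        haveI : Module.Flat (X.presheaf.stalk (p x')) (X'.presheaf.stalk x') := Flat.stalkMap p x'
        set J := P.map (p.stalkMap x').hom with hJ
        have hJe : J = (primeOf h).map (p.stalkMap x').hom := by rw [hJ, hPe]
        haveI hKB : Ring.KrullDimLE 1 (X'.presheaf.stalk x' ⧸ J) := by
          rw [hJe]
          exact krullDimLE_one_quotient p δ δ' c hX.2.2 hX'.2.2 hle h h1 hdim
        -- the local ring of the closure of ξ at p x'
        haveI hRN : IsNoetherianRing (Cyc.LocQuot (p x') ξ h) := Ideal.Quotient.isNoetherianRing _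
        haveI hRD : IsDomain (Cyc.LocQuot (p x') ξ h) := Ideal.Quotient.isDomain P
        haveI hRF : IsFractionRing (Cyc.LocQuot (p x') ξ h) (X.residueField ξ) :=
          Groth.Agent.Lib.Helper64.CycLen.isFractionRing_locQuot h
        haveI hRK : Ring.KrullDimLE 1 (Cyc.LocQuot (p x') ξ h) := by
          have h2 := CycOne.ringKrullDim_quot_primeOf δ hX.2.2 h
          have h3 : ((δ ξ - δ (p x')).toNat : ℕ) = 1 := by omega
          rw [h3, ← hPe] at h2
          rw [Ring.krullDimLE_iff]
          exact h2.le
        obtain ⟨a₀, b₀, hb₀, hgab⟩ :=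
          IsFractionRing.div_surjective (A := Cyc.LocQuot (p x') ξ h) g
        obtain ⟨a, rfl⟩ := Ideal.Quotient.mk_surjective a₀
        obtain ⟨b, rfl⟩ := Ideal.Quotient.mk_surjective b₀
        have hgab' : g = Cyc.specMap (p x') ξ h a / Cyc.specMap (p x') ξ h b := hgab.symm
        have hb0 : Ideal.Quotient.mk P b ≠ 0 := nonZeroDivisors.ne_zero hb₀
        have ha0 : Ideal.Quotient.mk P a ≠ 0 := by
          intro h0
          apply hg
          rw [← hgab, h0, map_zero, zero_div]
        have haP : a ∉ P := fun hh => ha0 (Ideal.Quotient.eq_zero_iff_mem.mpr hh)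
        have hbP : b ∉ P := fun hh => hb0 (Ideal.Quotient.eq_zero_iff_mem.mpr hh)
        -- the sums
        have hsum : ∀ t : X.presheaf.stalk (p x'), t ∉ P →
            ∑ᶠ ξ' : Over p ξ, relTerm p ξ x' ((p.stalkMap x').hom t) ξ' =
            ((Ring.ord (Cyc.LocQuot (p x') ξ h) (Ideal.Quotient.mk P t)).toNat : ℤ) *
              ((Module.length (X'.presheaf.stalk x') (X'.presheaf.stalk x' ⧸
                Ideal.map (p.stalkMap x').hom
                  (maximalIdeal (X.presheaf.stalk (p x'))))).toNat : ℤ) := by
          intro t ht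
          have h2 : ∑ᶠ ξ' : Over p ξ, relTerm p ξ x' ((p.stalkMap x').hom t) ξ' =
              ((Module.length (X'.presheaf.stalk x') (X'.presheaf.stalk x' ⧸
                (J ⊔ Ideal.span {(p.stalkMap x').hom t}))).toNat : ℤ) := by
            by_cases hu : IsUnit ((p.stalkMap x').hom t)
            · exact finsum_relTerm_eq_of_isUnit p ξ x' _ hu J
            · exact finsum_relTerm_eq p ξ x' h J hJe _
                (Groth.Agent.Lib.Helper98.Cyc1940Q3.mk_map_mem_nonZeroDivisors P t ht) hu
          rw [h2]
          have h3 := length_quotient_map_sup_span (X.presheaf.stalk (p x'))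
            (X'.presheaf.stalk x') P t
          have h4 : Module.length (X'.presheaf.stalk x') (X'.presheaf.stalk x' ⧸
                (J ⊔ Ideal.span {(p.stalkMap x').hom t})) =
              Ring.ord (Cyc.LocQuot (p x') ξ h) (Ideal.Quotient.mk P t) *
                Module.length (X'.presheaf.stalk x') (X'.presheaf.stalk x' ⧸
                  Ideal.map (p.stalkMap x').hom
                    (maximalIdeal (X.presheaf.stalk (p x')))) := h3
          rw [h4, ENat.toNat_mul]
          push_cast
          rfl
        -- the terms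
        have hterm : ∀ ξ' : Over p ξ, mult p ξ'.1 * Cyc.divFun δ' ξ'.1 (pb p g ξ') x' =
            relTerm p ξ x' ((p.stalkMap x').hom a) ξ' -
              relTerm p ξ x' ((p.stalkMap x').hom b) ξ' := by
          intro ξ'
          by_cases h' : ξ'.1 ⤳ x'
          · have hD' : Cyc.divFun δ' ξ'.1 (pb p g ξ') x' =
                Cyc.ordAt x' ξ'.1 h' (pb p g ξ') := by
              unfold Cyc.divFun
              exact dif_pos ⟨h', by rw [hδO ξ']; omega⟩
            have e2 : pb p g ξ' = Cyc.specMap x' ξ'.1 h' ((p.stalkMap x').hom a) /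
                Cyc.specMap x' ξ'.1 h' ((p.stalkMap x').hom b) := by
              rw [hgab']
              exact pb_specMap_div p h ξ' h' a b
            have hne : ∀ t : X.presheaf.stalk (p x'), t ∉ P →
                Cyc.specMap x' ξ'.1 h' ((p.stalkMap x').hom t) ≠ 0 := by
              intro t ht h0
              have h5 : (p.stalkMap x').hom t ∈ primeOf h' := by
                rw [← CycOne.ker_specMap h']
                exact h0
              have h6 : t ∈ (primeOf h').comap (p.stalkMap x').hom := h5
              rw [comap_primeOf_over p h ξ' h', ← hPe] at h6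
              exact ht h6
            have hord : Cyc.ordAt x' ξ'.1 h'
                (Cyc.specMap x' ξ'.1 h' ((p.stalkMap x').hom a) /
                  Cyc.specMap x' ξ'.1 h' ((p.stalkMap x').hom b)) =
                Cyc.ordAt x' ξ'.1 h' (Cyc.specMap x' ξ'.1 h' ((p.stalkMap x').hom a)) -
                  Cyc.ordAt x' ξ'.1 h' (Cyc.specMap x' ξ'.1 h' ((p.stalkMap x').hom b)) := by
              rw [div_eq_mul_inv, Groth.Agent.Lib.Helper64.CycOrd.ordAt_mul x' ξ'.1 h' (hne a haP)
                (inv_ne_zero (hne b hbP)), ← zpow_neg_one,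
                Groth.Agent.Lib.Helper64.CycOrd.ordAt_zpow x' ξ'.1 h' (hne b hbP)]
              ring
            have t1 : ∀ t, relTerm p ξ x' ((p.stalkMap x').hom t) ξ' =
                mult p ξ'.1 *
                  Cyc.ordAt x' ξ'.1 h' (Cyc.specMap x' ξ'.1 h' ((p.stalkMap x').hom t)) := by
              intro t
              unfold relTerm
              exact dif_pos h'
            rw [hD', e2, hord, t1 a, t1 b]
            ring
          · have hD' : Cyc.divFun δ' ξ'.1 (pb p g ξ') x' = 0 := by
              unfold Cyc.divFun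
              exact dif_neg (fun hh => h' hh.1)
            have t0 : ∀ t, relTerm p ξ x' ((p.stalkMap x').hom t) ξ' = 0 := by
              intro t
              unfold relTerm
              exact dif_neg h'
            rw [hD', t0 a, t0 b]
            ring
        rw [finsum_congr hterm, finsum_sub_distrib
          ((finite_specializes_over p ξ x').subset (support_relTerm_subset p ξ x' _))
          ((finite_specializes_over p ξ x').subset (support_relTerm_subset p ξ x' _)),
          hsum a haP, hsum b hbP]
        have hO : Cyc.ordAt (p x') ξ h g =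
            CycAlg.ordFrac (Cyc.LocQuot (p x') ξ h) (X.residueField ξ) g := rfl
        rw [hO, ← hgab,
          FlatOrd.ordFrac_div_eq (Cyc.LocQuot (p x') ξ h) (X.residueField ξ) ha0 hb0]
        ring
      · rw [if_neg h1]
        symm
        apply hzero
        intro ξ'
        have hD' : Cyc.divFun δ' ξ'.1 (pb p g ξ') x' = 0 := by
          unfold Cyc.divFun
          refine dif_neg (fun hh => h1 ?_)
          have h2 := hh.2
          rw [hδO ξ'] at h2
          omega
        rw [hD', mul_zero]
    · have hD : Cyc.divFun δ ξ g (p x') = 0 := by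
        unfold Cyc.divFun
        exact dif_neg hcond
      rw [hD, zero_mul, ite_self]
      symm
      apply hzero
      intro ξ'
      have hD' : Cyc.divFun δ' ξ'.1 (pb p g ξ') x' = 0 := by
        unfold Cyc.divFun
        refine dif_neg (fun hh => hcond ?_)
        have hsp : ξ ⤳ p x' := by
          have := hh.1.map p.continuous
          rwa [ξ'.2.1] at this
        have h2 := hh.2
        rw [hδO ξ'] at h2
        have h3 := hle x'
        have h4 := (hX.2.2 ξ (p x') hsp hξeq).1
        exact ⟨hsp, by omega⟩
      rw [hD', mul_zero]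

end Groth.Agent.Lib.Helper90.RelOrd
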