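import Mathlib
import Groth.Prelude.Def_Cyc
import Groth.Agent.Lib.Helper90.RelOrd4
import Groth.Agent.Lib.Helper45.Cyc1940Q5

/-!
# Flat pullback preserves rational equivalence to zero (helper90)
-/

set_option autoImplicit false
universe u

open AlgebraicGeometry CategoryTheory IsLocalRing TensorProduct
open Groth.Agent.Lib.Helper64.StalkSpec Groth.Agent.Lib.Helper64.StalkIdeal

namespace Groth.Agent.Lib.Helper90.RelOrd

/-- a `finsum` over a sigma type with finite support is an iterated `finsum` -/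
theorem finsum_sigma_eq {ι : Type*} {κ : ι → Type*} {M : Type*} [AddCommMonoid M]
    (F : (Σ i, κ i) → M) (hF : (Function.support F).Finite) :
    ∑ᶠ j, F j = ∑ᶠ i, ∑ᶠ k, F ⟨i, k⟩ := by
  classical
  set s := hF.toFinset with hs
  have hs0 : ∀ j, j ∉ s → F j = 0 := by
    intro j hj
    by_contra hne
    exact hj (by rw [hs, Set.Finite.mem_toFinset]; exact hne)
  rw [finsum_eq_sum_of_support_subset F (s := s) (by rw [hs, Set.Finite.coe_toFinset])]
  have h1 : ∀ i, ∑ᶠ k, F ⟨i, k⟩ =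
      ∑ k ∈ s.preimage (Sigma.mk i) sigma_mk_injective.injOn, F ⟨i, k⟩ := by
    intro i
    apply finsum_eq_sum_of_support_subset
    intro k hk
    rw [Finset.coe_preimage, Set.mem_preimage]
    by_contra hne
    exact hk (hs0 _ hne)
  rw [finsum_congr h1]
  rw [finsum_eq_sum_of_support_subset _ (s := s.image Sigma.fst)]
  · rw [← Finset.sum_sigma, Finset.sigma_image_fst_preimage_mk]
  · intro i hi
    rw [Function.mem_support] at hi
    obtain ⟨k, hk, hne⟩ := Finset.exists_ne_zero_of_sum_ne_zero hi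
    rw [Finset.mem_preimage] at hk
    rw [Finset.coe_image]
    exact ⟨⟨i, k⟩, hk, rfl⟩

variable {X X' : Scheme.{u}}

theorem specializes_of_divFun_ne_zero (δ : X → ℤ) (ξ : X) (g : X.residueField ξ) (x : X)
    (h : Cyc.divFun δ ξ g x ≠ 0) : ξ ⤳ x := by
  unfold Cyc.divFun at h
  by_contra hn
  exact h (dif_neg (fun hh => hn hh.1))

/-- **flat pullback preserves rational equivalence to zero** -/
theorem main1940 (X X' : Scheme.{u}) (δ : X → ℤ) (δ' : X' → ℤ) (hX : Cyc.IsSetup X δ)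
    (hX' : Cyc.IsSetup X' δ') (p : X' ⟶ X) [Flat p] (c : ℤ)
    (hc : ∀ x' : X', (∀ y, p y = p x' → y ⤳ x' → y = x') → δ' x' = δ (p x') + c) (k : ℤ)
    (α : AlgebraicCycle X ℤ) (h0 : Cyc.RatEquivZero δ k α)
    (α' : AlgebraicCycle X' ℤ) (hα' : ⇑α' = Cyc.pullFun p δ' δ c ⇑α) :
    Cyc.RatEquivZero δ' (k + c) α' := by
  haveI : IsLocallyNoetherian X := hX.1
  haveI : IsLocallyNoetherian X' := hX'.1
  obtain ⟨ι, ξ, f, hδξ, hf, hlf, hsum⟩ := h0
  have hlf' := Groth.Agent.Lib.Helper45.Cyc1940Q5.locallyFinite_pullback_family p ξ hlf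
  refine ⟨Σ i, Over p (ξ i), fun j => j.2.1,
    fun j => (pb p (f j.1) j.2) ^ (mult p j.2.1), ?_, ?_, hlf', ?_⟩
  · intro j
    have h1 : δ' j.2.1 = δ (p j.2.1) + c := hc j.2.1 j.2.2.2
    rw [h1, j.2.2.1, hδξ]
    ring
  · intro j
    exact zpow_ne_zero _ (pb_ne_zero p (hf j.1) j.2)
  · intro x'
    rw [hα']
    -- the right hand side
    have hR : ∀ j : Σ i, Over p (ξ i),
        Cyc.divFun δ' j.2.1 ((pb p (f j.1) j.2) ^ (mult p j.2.1)) x' =
          mult p j.2.1 * Cyc.divFun δ' j.2.1 (pb p (f j.1) j.2) x' := by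
      intro j
      exact Groth.Agent.Lib.Helper64.CycOrd.divFun_zpow δ' j.2.1 (pb_ne_zero p (hf j.1) j.2) _ x'
    rw [finsum_congr hR]
    have hfin : (Function.support (fun j : Σ i, Over p (ξ i) =>
        mult p j.2.1 * Cyc.divFun δ' j.2.1 (pb p (f j.1) j.2) x')).Finite := by
      obtain ⟨U, hU, hxU, hUfin⟩ := hlf' x'
      refine hUfin.subset ?_
      intro j hj
      rw [Function.mem_support] at hj
      have h1 : Cyc.divFun δ' j.2.1 (pb p (f j.1) j.2) x' ≠ 0 := by
        intro h0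
        exact hj (by rw [h0, mul_zero])
      have h2 := specializes_of_divFun_ne_zero δ' _ _ _ h1
      exact ⟨x', specializes_iff_mem_closure.1 h2, hxU⟩
    rw [finsum_sigma_eq _ hfin]
    -- the left hand side
    have hL : Cyc.pullFun p δ' δ c (⇑α) x' =
        ∑ᶠ i, Cyc.pullFun p δ' δ c (Cyc.divFun δ (ξ i) (f i)) x' := by
      unfold Cyc.pullFun
      by_cases h1 : δ' x' = δ (p x') + c
      · simp only [if_pos h1]
        rw [hsum (p x'), finsum_mul]
      · simp only [if_neg h1]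
        rw [finsum_zero]
    rw [hL]
    apply finsum_congr
    intro i
    exact pullFun_divFun X X' δ δ' hX hX' p c hc (ξ i) (f i) (hf i) x'

end Groth.Agent.Lib.Helper90.RelOrd
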