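import Mathlib
import Groth.Agent.Lib.Helper52.GrDepthMain
import Groth.Agent.Lib.Helper52.GrDimMain
import Groth.Agent.Lib.Helper67.CM
import Groth.Agent.Lib.Helper67.SuppLoc

/-!
# Cohen–Macaulayness of a graded module is detected at the irrelevant maximal ideal
-/

namespace Groth.Agent.Lib.Helper90.GrModCM

open LocCoh TensorProduct Groth.Agent.Lib.Helper52.GrDepthGeneric

universe u

section Loc

variable {R : Type u} [CommRing R] [IsNoetherianRing R] (M : Type u) [AddCommGroup M]
  [Module R M] [Module.Finite R M] (m q : Ideal R) [hm : m.IsPrime] [hq : q.IsPrime]

instance isNoetherianRing_atPrime : IsNoetherianRing (Localization.AtPrime m) :=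
  IsLocalization.isNoetherianRing m.primeCompl _ inferInstance

omit [IsNoetherianRing R] in
lemma disjoint_of_le (hqm : q ≤ m) : Disjoint (m.primeCompl : Set R) (q : Set R) := by
  rw [Set.disjoint_left]
  intro a ha haq
  exact ha (hqm haq)

omit [IsNoetherianRing R] in
theorem map_isPrime (hqm : q ≤ m) : (q.map (algebraMap R (Localization.AtPrime m))).IsPrime :=
  IsLocalization.isPrime_of_isPrime_disjoint m.primeCompl _ q hq (disjoint_of_le m q hqm)

omit [IsNoetherianRing R] in
theorem map_liesOver (hqm : q ≤ m) : (q.map (algebraMap R (Localization.AtPrime m))).LiesOver q :=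
  ⟨(IsLocalization.under_map_of_isPrime_disjoint m.primeCompl _ hq (disjoint_of_le m q hqm)).symm⟩

/-- `(M_m)_{q R_m} ≅ (R_m)_{q R_m} ⊗_R M`. -/
noncomputable def locLocEquiv [hP : (q.map (algebraMap R (Localization.AtPrime m))).IsPrime] :
    LocalizedModule (q.map (algebraMap R (Localization.AtPrime m))).primeCompl
        (LocalizedModule m.primeCompl M) ≃ₗ[Localization.AtPrime
          (q.map (algebraMap R (Localization.AtPrime m)))]
      Localization.AtPrime (q.map (algebraMap R (Localization.AtPrime m))) ⊗[R] M :=
  (LocalizedModule.equivTensorProduct (q.map (algebraMap R (Localization.AtPrime m))).primeCompl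
      (LocalizedModule m.primeCompl M)) ≪≫ₗ
    (AlgebraTensorModule.congr
      (LinearEquiv.refl (Localization.AtPrime (q.map (algebraMap R (Localization.AtPrime m))))
        (Localization.AtPrime (q.map (algebraMap R (Localization.AtPrime m)))))
      (LocalizedModule.equivTensorProduct m.primeCompl M)) ≪≫ₗ
    AlgebraTensorModule.cancelBaseChange R (Localization.AtPrime m)
      (Localization.AtPrime (q.map (algebraMap R (Localization.AtPrime m))))
      (Localization.AtPrime (q.map (algebraMap R (Localization.AtPrime m)))) M

theorem depth_localization_localization (hqm : q ≤ m)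
    [hP : (q.map (algebraMap R (Localization.AtPrime m))).IsPrime] :
    depth (Localization.AtPrime (q.map (algebraMap R (Localization.AtPrime m))))
        (LocalizedModule (q.map (algebraMap R (Localization.AtPrime m))).primeCompl
          (LocalizedModule m.primeCompl M)) =
      depth (Localization.AtPrime q) (LocalizedModule q.primeCompl M) := by
  haveI := map_liesOver m q hqm
  rw [← depth_tensor_localization_of_eq_map q (q.map (algebraMap R (Localization.AtPrime m))) M rfl]
  exact Groth.Agent.Lib.Helper56.depth_congr (locLocEquiv M m q)

theorem supportDim_localization_localization (hqm : q ≤ m)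
    [hP : (q.map (algebraMap R (Localization.AtPrime m))).IsPrime] :
    Module.supportDim (Localization.AtPrime (q.map (algebraMap R (Localization.AtPrime m))))
        (LocalizedModule (q.map (algebraMap R (Localization.AtPrime m))).primeCompl
          (LocalizedModule m.primeCompl M)) =
      Module.supportDim (Localization.AtPrime q) (LocalizedModule q.primeCompl M) := by
  haveI := map_liesOver m q hqm
  rw [← Groth.Agent.Lib.Helper52.GrDimMain.supportDim_tensor_localization_of_eq_map q
    (q.map (algebraMap R (Localization.AtPrime m))) M rfl]
  exact Module.supportDim_eq_of_equiv (locLocEquiv M m q)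

/-- Cohen–Macaulayness passes to localizations at smaller primes. -/
theorem cm_localization_of_le (hqm : q ≤ m)
    (h : Subsingleton (LocalizedModule m.primeCompl M) ∨
      IsCohenMacaulayModule (Localization.AtPrime m) (LocalizedModule m.primeCompl M)) :
    Subsingleton (LocalizedModule q.primeCompl M) ∨
      IsCohenMacaulayModule (Localization.AtPrime q) (LocalizedModule q.primeCompl M) := by
  haveI hP := map_isPrime m q hqm
  have hd := depth_localization_localization M m q hqm
  have hs := supportDim_localization_localization M m q hqm
  by_cases hsub : Subsingleton (LocalizedModule q.primeCompl M)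
  · exact Or.inl hsub
  right
  have hnt : Nontrivial (LocalizedModule q.primeCompl M) := not_subsingleton_iff_nontrivial.mp hsub
  have hntP : Nontrivial (LocalizedModule (q.map (algebraMap R (Localization.AtPrime m))).primeCompl
      (LocalizedModule m.primeCompl M)) := by
    rw [← Module.supportDim_ne_bot_iff_nontrivial
      (Localization.AtPrime (q.map (algebraMap R (Localization.AtPrime m)))), hs,
      Module.supportDim_ne_bot_iff_nontrivial]
    exact hnt
  have hsupp : (⟨q.map (algebraMap R (Localization.AtPrime m)), hP⟩ :
      PrimeSpectrum (Localization.AtPrime m)) ∈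
      Module.support (Localization.AtPrime m) (LocalizedModule m.primeCompl M) :=
    Module.mem_support_iff.mpr hntP
  rcases h with h | h
  · exfalso
    exact not_subsingleton _ (inferInstance : Subsingleton
      (LocalizedModule (q.map (algebraMap R (Localization.AtPrime m))).primeCompl
        (LocalizedModule m.primeCompl M)))
  · have hcm := Groth.Agent.Lib.Helper67.isCohenMacaulayModule_localization
      (LocalizedModule m.primeCompl M) h ⟨q.map (algebraMap R (Localization.AtPrime m)), hP⟩ hsupp
    have hcm' : Module.supportDim (Localization.AtPrime (q.map (algebraMap R (Localization.AtPrime m))))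
        (LocalizedModule (q.map (algebraMap R (Localization.AtPrime m))).primeCompl
          (LocalizedModule m.primeCompl M)) =
        ((depth (Localization.AtPrime (q.map (algebraMap R (Localization.AtPrime m))))
        (LocalizedModule (q.map (algebraMap R (Localization.AtPrime m))).primeCompl
          (LocalizedModule m.primeCompl M)) : ℕ∞) : WithBot ℕ∞) := hcm
    show Module.supportDim _ _ = _
    rw [← hs, ← hd]
    exact hcm'

end Loc

end Groth.Agent.Lib.Helper90.GrModCM
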