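import Mathlib
import Groth.Agent.Lib.Helper90.GrModCM1

/-!
# Cohen–Macaulayness of a graded module is detected at the irrelevant maximal ideal, II
-/

namespace Groth.Agent.Lib.Helper90.GrModCM

open LocCoh TensorProduct

universe u

section Graded

variable {R : Type u} [CommRing R] [IsNoetherianRing R] (𝒜 : ℤ → AddSubgroup R) [GradedRing 𝒜]
  {M : Type u} [AddCommGroup M] [Module R M] (ℳ : ℤ → AddSubgroup M) [DirectSum.Decomposition ℳ]
  [SetLike.GradedSMul 𝒜 ℳ] [Module.Finite R M]

include ℳ in
/-- Cohen–Macaulay (or zero) at the homogeneous core implies Cohen–Macaulay (or zero) at the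
prime. -/
theorem cm_of_cm_core (p : Ideal R) [p.IsPrime]
    [hq : (Ideal.homogeneousCore 𝒜 p).toIdeal.IsPrime]
    (h : Subsingleton (LocalizedModule (Ideal.homogeneousCore 𝒜 p).toIdeal.primeCompl M) ∨
      IsCohenMacaulayModule (Localization.AtPrime (Ideal.homogeneousCore 𝒜 p).toIdeal)
        (LocalizedModule (Ideal.homogeneousCore 𝒜 p).toIdeal.primeCompl M)) :
    Subsingleton (LocalizedModule p.primeCompl M) ∨
      IsCohenMacaulayModule (Localization.AtPrime p) (LocalizedModule p.primeCompl M) := by
  have hQP : (Ideal.homogeneousCore 𝒜 p).toIdeal ≤ p := Ideal.toIdeal_homogeneousCore_le 𝒜 p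
  have hpr : (p.map (Ideal.Quotient.mk (Ideal.homogeneousCore 𝒜 p).toIdeal)).IsPrime :=
    Ideal.map_isPrime_of_surjective Ideal.Quotient.mk_surjective (by rw [Ideal.mk_ker]; exact hQP)
  have hfin : (p.map (Ideal.Quotient.mk (Ideal.homogeneousCore 𝒜 p).toIdeal)).height ≠ ⊤ :=
    Ideal.height_ne_top hpr.ne_top
  obtain ⟨d, hd⟩ := ENat.ne_top_iff_exists.mp hfin
  have h1 := Groth.Agent.Lib.Helper52.GrDepthMain.depth_localization_eq_add_height_core 𝒜 ℳ p d
    hd.symm
  have h2 := Groth.Agent.Lib.Helper52.GrDimMain.supportDim_localization_eq_add_height_core 𝒜 ℳ p d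
    hd.symm
  rcases h with h | h
  · left
    rw [← Module.supportDim_eq_bot_iff_subsingleton (R := Localization.AtPrime p), h2,
      Module.supportDim_eq_bot_of_subsingleton, WithBot.bot_add]
  · right
    have h' : Module.supportDim (Localization.AtPrime (Ideal.homogeneousCore 𝒜 p).toIdeal)
        (LocalizedModule (Ideal.homogeneousCore 𝒜 p).toIdeal.primeCompl M) =
        ((depth (Localization.AtPrime (Ideal.homogeneousCore 𝒜 p).toIdeal)
        (LocalizedModule (Ideal.homogeneousCore 𝒜 p).toIdeal.primeCompl M) : ℕ∞) : WithBot ℕ∞) := h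
    show Module.supportDim _ _ = _
    rw [h2, h1, h']
    push_cast
    rfl

include ℳ in
/-- a graded module over a *local graded ring which is Cohen–Macaulay (or zero) at the *maximal
ideal is Cohen–Macaulay (or zero) at every prime. -/
theorem cm_of_cm_at (m : Ideal R) [m.IsPrime]
    (hm : ∀ I : Ideal R, I.IsHomogeneous 𝒜 → I ≠ ⊤ → I ≤ m)
    (h : Subsingleton (LocalizedModule m.primeCompl M) ∨
      IsCohenMacaulayModule (Localization.AtPrime m) (LocalizedModule m.primeCompl M))
    (p : Ideal R) [hp : p.IsPrime] :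
    Subsingleton (LocalizedModule p.primeCompl M) ∨
      IsCohenMacaulayModule (Localization.AtPrime p) (LocalizedModule p.primeCompl M) := by
  haveI hq : (Ideal.homogeneousCore 𝒜 p).toIdeal.IsPrime := hp.homogeneousCore
  have hle : (Ideal.homogeneousCore 𝒜 p).toIdeal ≤ m :=
    hm _ (Ideal.homogeneousCore 𝒜 p).isHomogeneous hq.ne_top
  exact cm_of_cm_core 𝒜 ℳ p (cm_localization_of_le M m _ hle h)

include ℳ in
/-- a graded module over a *local graded ring whose depth with respect to the *maximal ideal is at
least its dimension is Cohen–Macaulay (or zero) at every prime. -/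
theorem cm_of_supportDim_le_idealDepth (m : Ideal R) [m.IsPrime]
    (hm : ∀ I : Ideal R, I.IsHomogeneous 𝒜 → I ≠ ⊤ → I ≤ m)
    (h : Module.supportDim R M ≤ ((idealDepth m M : ℕ∞) : WithBot ℕ∞))
    (p : Ideal R) [hp : p.IsPrime] :
    Subsingleton (LocalizedModule p.primeCompl M) ∨
      IsCohenMacaulayModule (Localization.AtPrime p) (LocalizedModule p.primeCompl M) := by
  apply cm_of_cm_at 𝒜 ℳ m hm
  by_cases hsub : Subsingleton (LocalizedModule m.primeCompl M)
  · exact Or.inl hsub
  right
  have hnt : Nontrivial (LocalizedModule m.primeCompl M) := not_subsingleton_iff_nontrivial.mp hsub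
  have hsupp : (⟨m, inferInstance⟩ : PrimeSpectrum R) ∈ Module.support R M :=
    Module.mem_support_iff.mpr hnt
  have h1 := Groth.Agent.Lib.Helper67.idealDepth_le_depth_localization m M m le_rfl
  have h2 := Groth.Agent.Lib.Helper67.supportDim_localization_add_ringKrullDim_quotient_le M
    ⟨m, inferInstance⟩ hsupp
  have h3 := Groth.Agent.Lib.Helper67.depth_le_supportDim (R := Localization.AtPrime m)
    (LocalizedModule m.primeCompl M)
  have h4 : Module.supportDim (Localization.AtPrime m) (LocalizedModule m.primeCompl M) ≤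
      Module.supportDim R M := by
    refine le_trans ?_ h2
    have : (0 : WithBot ℕ∞) ≤ ringKrullDim (R ⧸ m) := by
      have : Nontrivial (R ⧸ m) := Ideal.Quotient.nontrivial_iff.mpr (Ideal.IsPrime.ne_top inferInstance)
      exact ringKrullDim_nonneg_of_nontrivial
    calc Module.supportDim (Localization.AtPrime m) (LocalizedModule m.primeCompl M)
        = Module.supportDim (Localization.AtPrime m) (LocalizedModule m.primeCompl M) + 0 := by
          rw [add_zero]
      _ ≤ _ := add_le_add le_rfl this
  show Module.supportDim _ _ = _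
  apply le_antisymm
  · calc Module.supportDim (Localization.AtPrime m) (LocalizedModule m.primeCompl M)
        ≤ Module.supportDim R M := h4
      _ ≤ ((idealDepth m M : ℕ∞) : WithBot ℕ∞) := h
      _ ≤ _ := by exact_mod_cast h1
  · exact h3

end Graded

end Groth.Agent.Lib.Helper90.GrModCM
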