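import Mathlib

/-!
# ℤ-graded modules over ℤ-graded `k`-algebras: components and pieces as subspaces
-/

namespace Groth.Agent.Lib.Helper90.Seg

universe u

open DirectSum

section Comp

variable {M : Type u} [AddCommGroup M] (ℳ : ℤ → AddSubgroup M) [DirectSum.Decomposition ℳ]

/-- the degree-`n` component. -/
def comp (n : ℤ) (m : M) : M := ((DirectSum.decompose ℳ m) n : M)

lemma comp_mem (n : ℤ) (m : M) : comp ℳ n m ∈ ℳ n := (DirectSum.decompose ℳ m n).2

lemma comp_add (n : ℤ) (m m' : M) : comp ℳ n (m + m') = comp ℳ n m + comp ℳ n m' := by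
  unfold comp
  rw [DirectSum.decompose_add, DirectSum.add_apply]
  rfl

lemma comp_zero (n : ℤ) : comp ℳ n (0 : M) = 0 := by
  unfold comp
  rw [DirectSum.decompose_zero, DirectSum.zero_apply]
  rfl

lemma comp_sum {ι : Type*} (s : Finset ι) (f : ι → M) (n : ℤ) :
    comp ℳ n (∑ i ∈ s, f i) = ∑ i ∈ s, comp ℳ n (f i) := by
  classical
  induction s using Finset.induction_on with
  | empty => simp [comp_zero]
  | insert a s ha ih => rw [Finset.sum_insert ha, Finset.sum_insert ha, comp_add, ih]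

lemma comp_of_mem_same {n : ℤ} {m : M} (hm : m ∈ ℳ n) : comp ℳ n m = m :=
  DirectSum.decompose_of_mem_same ℳ hm

lemma comp_of_mem_ne {n j : ℤ} {m : M} (hm : m ∈ ℳ j) (h : j ≠ n) : comp ℳ n m = 0 :=
  DirectSum.decompose_of_mem_ne ℳ hm h

lemma sum_comp (m : M) : ∃ s : Finset ℤ, m = ∑ j ∈ s, comp ℳ j m := by
  classical
  refine ⟨(DirectSum.decompose ℳ m).support, ?_⟩
  exact (DirectSum.sum_support_decompose ℳ m).symm

/-- an element all of whose components vanish is zero. -/
lemma eq_zero_of_comp {m : M} (h : ∀ n, comp ℳ n m = 0) : m = 0 := by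
  obtain ⟨s, hs⟩ := sum_comp ℳ m
  rw [hs]
  exact Finset.sum_eq_zero fun j _ => h j

/-- if the pieces vanish outside `[a, b)`, every element is the sum of its components there. -/
lemma eq_sum_Ico {a b : ℤ} (h : ∀ n, ¬ (a ≤ n ∧ n < b) → ℳ n = ⊥) (m : M) :
    m = ∑ j ∈ Finset.Ico a b, comp ℳ j m := by
  classical
  obtain ⟨s, hs⟩ := sum_comp ℳ m
  have h0 : ∀ n, ¬ (a ≤ n ∧ n < b) → comp ℳ n m = 0 := by
    intro n hn
    have := comp_mem ℳ n m
    rw [h n hn] at this
    exact (AddSubgroup.mem_bot).mp this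
  have h1 : ∑ j ∈ s, comp ℳ j m = ∑ j ∈ s ∪ Finset.Ico a b, comp ℳ j m := by
    apply Finset.sum_subset Finset.subset_union_left
    intro j hj hjs
    by_contra hne
    apply hjs
    by_contra hjs'
    apply hne
    -- component outside the support of `s`-sum: use uniqueness
    have : comp ℳ j m = comp ℳ j (∑ i ∈ s, comp ℳ i m) := by rw [← hs]
    rw [this, comp_sum]
    apply Finset.sum_eq_zero
    intro i hi
    exact comp_of_mem_ne ℳ (comp_mem ℳ i m) (fun hij => hjs' (hij ▸ hi))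
  have h2 : ∑ j ∈ Finset.Ico a b, comp ℳ j m = ∑ j ∈ s ∪ Finset.Ico a b, comp ℳ j m := by
    apply Finset.sum_subset Finset.subset_union_right
    intro j _ hjs
    apply h0
    intro hj
    exact hjs (Finset.mem_Ico.mpr hj)
  rw [h2, ← h1, ← hs]

end Comp

section Smul

variable {k : Type u} [Field k] {R : Type u} [CommRing R] [Algebra k R]
  (𝒜 : ℤ → Submodule k R) [GradedAlgebra 𝒜]
  {M : Type u} [AddCommGroup M] [Module R M] [Module k M] [IsScalarTower k R M]
  (ℳ : ℤ → AddSubgroup M) [DirectSum.Decomposition ℳ] [SetLike.GradedSMul 𝒜 ℳ]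

include 𝒜 in
lemma smul_mem_piece {i j : ℤ} {a : R} (ha : a ∈ 𝒜 i) {m : M} (hm : m ∈ ℳ j) :
    a • m ∈ ℳ (i + j) := by
  have := SetLike.GradedSMul.smul_mem (A := 𝒜) (B := ℳ) ha hm
  rwa [vadd_eq_add] at this

/-- the pieces as `k`-subspaces. -/
def pc (n : ℤ) : Submodule k M where
  carrier := ℳ n
  add_mem' := (ℳ n).add_mem
  zero_mem' := (ℳ n).zero_mem
  smul_mem' := fun c x hx => by
    have h1 : algebraMap k R c ∈ 𝒜 0 := SetLike.algebraMap_mem_graded 𝒜 c
    have h2 := smul_mem_piece 𝒜 ℳ h1 hx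
    rw [zero_add, algebraMap_smul] at h2
    exact h2

lemma mem_pc {n : ℤ} {m : M} : m ∈ pc 𝒜 ℳ n ↔ m ∈ ℳ n := Iff.rfl

/-- components of a product with a homogeneous scalar. -/
lemma comp_smul_of_mem {i : ℤ} {a : R} (ha : a ∈ 𝒜 i) (m : M) (n : ℤ) :
    comp ℳ n (a • m) = a • comp ℳ (n - i) m := by
  classical
  obtain ⟨s, hs⟩ := sum_comp ℳ m
  have h1 : ∀ j, a • comp ℳ j m ∈ ℳ (i + j) := fun j => smul_mem_piece 𝒜 ℳ ha (comp_mem ℳ j m)
  have h2 : comp ℳ n (a • m) = ∑ j ∈ s, comp ℳ n (a • comp ℳ j m) := by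
    conv_lhs => rw [hs, Finset.smul_sum]
    exact comp_sum ℳ _ _ n
  rw [h2]
  by_cases hns : n - i ∈ s
  · rw [Finset.sum_eq_single (n - i)]
    · have := h1 (n - i)
      rw [add_sub_cancel] at this
      exact comp_of_mem_same ℳ this
    · intro j _ hj
      exact comp_of_mem_ne ℳ (h1 j) (by omega)
    · intro h
      exact absurd hns h
  · have h0 : comp ℳ (n - i) m = 0 := by
      conv_lhs => rw [hs]
      rw [comp_sum]
      apply Finset.sum_eq_zero
      intro j hj
      exact comp_of_mem_ne ℳ (comp_mem ℳ j m) (fun h => hns (h ▸ hj))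
    rw [h0, smul_zero]
    apply Finset.sum_eq_zero
    intro j hj
    exact comp_of_mem_ne ℳ (h1 j) (fun h => hns (by
      have : n - i = j := by omega
      exact this ▸ hj))

/-- components of a general product. -/
lemma comp_smul_mem (a : R) {j : ℤ} {m : M} (hm : m ∈ ℳ j) (n : ℤ) :
    comp ℳ n (a • m) = ((DirectSum.decompose 𝒜 a (n - j) : 𝒜 (n - j)) : R) • m := by
  classical
  have ha : a = ∑ i ∈ (DirectSum.decompose 𝒜 a).support, ((DirectSum.decompose 𝒜 a i : 𝒜 i) : R) :=
    (DirectSum.sum_support_decompose 𝒜 a).symm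
  have h1 : ∀ i, ((DirectSum.decompose 𝒜 a i : 𝒜 i) : R) • m ∈ ℳ (i + j) := fun i =>
    smul_mem_piece 𝒜 ℳ (DirectSum.decompose 𝒜 a i).2 hm
  conv_lhs => rw [ha, Finset.sum_smul, comp_sum]
  by_cases hns : n - j ∈ (DirectSum.decompose 𝒜 a).support
  · rw [Finset.sum_eq_single (n - j)]
    · have := h1 (n - j)
      rw [sub_add_cancel] at this
      exact comp_of_mem_same ℳ this
    · intro i _ hi
      exact comp_of_mem_ne ℳ (h1 i) (by omega)
    · intro h
      exact absurd hns h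
  · have h0 : ((DirectSum.decompose 𝒜 a (n - j) : 𝒜 (n - j)) : R) = 0 := by
      rw [DFinsupp.notMem_support_iff] at hns
      rw [hns]
      rfl
    rw [h0, zero_smul]
    apply Finset.sum_eq_zero
    intro i hi
    exact comp_of_mem_ne ℳ (h1 i) (fun h => hns (by
      have : n - j = i := by omega
      exact this ▸ hi))

include 𝒜 in
/-- the component maps are `k`-linear. -/
lemma comp_smul_base (c : k) (m : M) (n : ℤ) : comp ℳ n (c • m) = c • comp ℳ n m := by
  have h1 : algebraMap k R c ∈ 𝒜 0 := SetLike.algebraMap_mem_graded 𝒜 c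
  have := comp_smul_of_mem 𝒜 ℳ h1 m n
  rwa [algebraMap_smul, algebraMap_smul, sub_zero] at this

/-- the component, as a `k`-linear map. -/
def compL (n : ℤ) : M →ₗ[k] M where
  toFun := comp ℳ n
  map_add' := comp_add ℳ n
  map_smul' := fun c m => comp_smul_base 𝒜 ℳ c m n

@[simp] lemma compL_apply (n : ℤ) (m : M) : compL 𝒜 ℳ n m = comp ℳ n m := rfl

end Smul

end Groth.Agent.Lib.Helper90.Seg
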