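import Mathlib
import Groth.Agent.Lib.Helper90.SegA

/-!
# Standard graded algebras, homogeneous generators of graded modules
-/

namespace Groth.Agent.Lib.Helper90.Seg

universe u

open DirectSum

section Std

variable {k : Type u} [Field k] {R : Type u} [CommRing R] [Algebra k R]
  (𝒜 : ℤ → Submodule k R) [GradedAlgebra 𝒜]

/-- `R` is standard graded over `k`, with the degree-one elements `x` generating. -/
structure IsStd {m : ℕ} (x : Fin m → R) : Prop where
  neg : ∀ n : ℤ, n < 0 → 𝒜 n = ⊥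
  zero : 𝒜 0 = Submodule.span k {(1 : R)}
  mem : ∀ i, x i ∈ 𝒜 1
  succ : ∀ n : ℤ, 0 ≤ n → ∀ a ∈ 𝒜 (n + 1),
    ∃ g : Fin m → R, (∀ i, g i ∈ 𝒜 n) ∧ a = ∑ i, x i * g i

/-- a standard graded algebra from the hypothesis that the irrelevant ideal is generated in
degree one. -/
lemma exists_isStd [IsNoetherianRing R] (hneg : ∀ n : ℤ, n < 0 → 𝒜 n = ⊥)
    (h0 : 𝒜 0 = Submodule.span k {(1 : R)})
    (hstd : Ideal.span (⋃ n ∈ Set.Ioi (0 : ℤ), (𝒜 n : Set R)) =
      Ideal.span ((𝒜 1 : Submodule k R) : Set R)) :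
    ∃ (m : ℕ) (x : Fin m → R), IsStd 𝒜 x := by
  classical
  have hfg : (Submodule.span R ((𝒜 1 : Submodule k R) : Set R)).FG :=
    IsNoetherian.noetherian (Ideal.span ((𝒜 1 : Submodule k R) : Set R))
  obtain ⟨s', hs'sub, hs'⟩ := (Submodule.fg_span_iff_fg_span_finset_subset _).mp hfg
  refine ⟨s'.card, fun i => ((s'.equivFin.symm i : s') : R), hneg, h0, fun i => ?_, ?_⟩
  · exact hs'sub (s'.equivFin.symm i).2
  · intro n hn a ha
    have hrange : Set.range (fun i : Fin s'.card => ((s'.equivFin.symm i : s') : R)) = (s' : Set R) := by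
      ext y
      constructor
      · rintro ⟨i, rfl⟩
        exact (s'.equivFin.symm i).2
      · intro hy
        exact ⟨s'.equivFin ⟨y, hy⟩, by simp⟩
    have ha1 : a ∈ Ideal.span (⋃ n ∈ Set.Ioi (0 : ℤ), (𝒜 n : Set R)) := by
      apply Ideal.subset_span
      simp only [Set.mem_iUnion, Set.mem_Ioi]
      exact ⟨n + 1, by omega, ha⟩
    rw [hstd] at ha1
    have ha2 : a ∈ Ideal.span (Set.range (fun i : Fin s'.card => ((s'.equivFin.symm i : s') : R))) := by
      rw [hrange]
      have : Ideal.span ((𝒜 1 : Submodule k R) : Set R) = Ideal.span (s' : Set R) := hs'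
      rw [← this]
      exact ha1
    obtain ⟨c, hc⟩ := Ideal.mem_span_range_iff_exists_fun.mp ha2
    refine ⟨fun i => ((DirectSum.decompose 𝒜 (c i) n : 𝒜 n) : R), fun i => (DirectSum.decompose 𝒜 (c i) n).2, ?_⟩
    have h1 : a = ((DirectSum.decompose 𝒜 a (n + 1) : 𝒜 (n + 1)) : R) :=
      (DirectSum.decompose_of_mem_same 𝒜 ha).symm
    rw [h1, ← hc, DirectSum.decompose_sum]
    rw [DFinsupp.finset_sum_apply, AddSubmonoidClass.coe_finset_sum]
    apply Finset.sum_congr rfl
    intro i _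
    have hx : ((s'.equivFin.symm i : s') : R) ∈ 𝒜 1 := hs'sub (s'.equivFin.symm i).2
    have := DirectSum.coe_decompose_mul_add_of_left_mem 𝒜 (i := 1) (j := n) (b := c i) hx
    rw [add_comm 1 n, mul_comm] at this
    rw [this]

variable {𝒜} {m : ℕ} {x : Fin m → R}

lemma IsStd.mem_zero (h : IsStd 𝒜 x) {a : R} (ha : a ∈ 𝒜 0) : ∃ c : k, a = algebraMap k R c := by
  rw [h.zero] at ha
  obtain ⟨c, rfl⟩ := Submodule.mem_span_singleton.mp ha
  exact ⟨c, by rw [Algebra.algebraMap_eq_smul_one]⟩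

/-- the generators generate `R` as an algebra. -/
lemma IsStd.aeval_surjective (h : IsStd 𝒜 x) :
    Function.Surjective (MvPolynomial.aeval x : MvPolynomial (Fin m) k →ₐ[k] R) := by
  classical
  have key : ∀ n : ℕ, ∀ a ∈ 𝒜 (n : ℤ), ∃ f : MvPolynomial (Fin m) k, MvPolynomial.aeval x f = a := by
    intro n
    induction n with
    | zero =>
      intro a ha
      obtain ⟨c, rfl⟩ := h.mem_zero (by simpa using ha)
      exact ⟨MvPolynomial.C c, by simp⟩
    | succ n ih =>
      intro a ha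
      obtain ⟨g, hg, rfl⟩ := h.succ n (by positivity) a (by simpa using ha)
      choose G hG using fun i => ih (g i) (hg i)
      refine ⟨∑ i, MvPolynomial.X i * G i, ?_⟩
      simp [hG]
  intro r
  have hr : r = ∑ i ∈ (DirectSum.decompose 𝒜 r).support, ((DirectSum.decompose 𝒜 r i : 𝒜 i) : R) :=
    (DirectSum.sum_support_decompose 𝒜 r).symm
  have : ∀ i : ℤ, ∃ f : MvPolynomial (Fin m) k,
      MvPolynomial.aeval x f = ((DirectSum.decompose 𝒜 r i : 𝒜 i) : R) := by
    intro i
    by_cases hi : 0 ≤ i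
    · obtain ⟨n, rfl⟩ := Int.eq_ofNat_of_zero_le hi
      exact key n _ (DirectSum.decompose 𝒜 r n).2
    · refine ⟨0, ?_⟩
      have h0 : ∀ y ∈ 𝒜 i, y = 0 := by
        intro y hy
        rw [h.neg i (by omega)] at hy
        exact (Submodule.mem_bot k).mp hy
      rw [map_zero]
      exact (h0 _ (DirectSum.decompose 𝒜 r i).2).symm
  choose F hF using this
  refine ⟨∑ i ∈ (DirectSum.decompose 𝒜 r).support, F i, ?_⟩
  rw [map_sum]
  conv_rhs => rw [hr]
  exact Finset.sum_congr rfl fun i _ => hF i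

/-- the evaluation of a homogeneous polynomial is homogeneous. -/
lemma IsStd.aeval_mem (h : IsStd 𝒜 x) {f : MvPolynomial (Fin m) k} {j : ℕ}
    (hf : f.IsHomogeneous j) : MvPolynomial.aeval x f ∈ 𝒜 (j : ℤ) := by
  classical
  rw [← MvPolynomial.support_sum_monomial_coeff f, map_sum]
  apply Submodule.sum_mem
  intro d hd
  rw [MvPolynomial.aeval_monomial, ← Algebra.smul_def]
  apply Submodule.smul_mem
  have hdeg : ((j : ℕ) : ℤ) = ∑ i ∈ d.support, (d i) • (1 : ℤ) := by
    have h1 := hf (MvPolynomial.mem_support_iff.mp hd)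
    have h1' : Finsupp.degree d = j := by
      rw [Finsupp.degree_eq_weight_one]
      exact h1
    rw [← h1']
    simp [Finsupp.degree]
  rw [hdeg]
  exact SetLike.prod_mem_graded (A := 𝒜) (F := d.support) (i := fun i => (d i) • (1 : ℤ))
    (g := fun i => x i ^ d i) (fun i _ => SetLike.pow_mem_graded (d i) (h.mem i))

end Std

section Gen

variable {k : Type u} [Field k] {R : Type u} [CommRing R] [Algebra k R]
  (𝒜 : ℤ → Submodule k R) [GradedAlgebra 𝒜]
  {M : Type u} [AddCommGroup M] [Module R M] [Module k M] [IsScalarTower k R M]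
  (ℳ : ℤ → AddSubgroup M) [DirectSum.Decomposition ℳ] [SetLike.GradedSMul 𝒜 ℳ]

/-- a finite family of homogeneous generators. -/
structure IsHomGen (S : Finset (ℤ × M)) : Prop where
  mem : ∀ p ∈ S, p.2 ∈ ℳ p.1
  span : Submodule.span R ((fun p : ℤ × M => p.2) '' (S : Set (ℤ × M))) = ⊤

omit [Module k M] [IsScalarTower k R M] in
lemma exists_isHomGen [Module.Finite R M] : ∃ S : Finset (ℤ × M), IsHomGen (R := R) ℳ S := by
  classical
  obtain ⟨s, hs⟩ := (Module.Finite.fg_top : (⊤ : Submodule R M).FG)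
  refine ⟨s.biUnion (fun u => (DirectSum.decompose ℳ u).support.image (fun n => (n, comp ℳ n u))),
    ?_, ?_⟩
  · intro p hp
    simp only [Finset.mem_biUnion, Finset.mem_image] at hp
    obtain ⟨u, -, n, -, rfl⟩ := hp
    exact comp_mem ℳ n u
  · rw [eq_top_iff, ← hs, Submodule.span_le]
    intro u hu
    have hu' : u = ∑ j ∈ (DirectSum.decompose ℳ u).support, comp ℳ j u :=
      (DirectSum.sum_support_decompose ℳ u).symm
    rw [hu']
    apply Submodule.sum_mem
    intro n hn
    apply Submodule.subset_span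
    refine ⟨(n, comp ℳ n u), ?_, rfl⟩
    simp only [Finset.coe_biUnion, Set.mem_iUnion, Finset.coe_image, Set.mem_image]
    exact ⟨u, hu, n, hn, rfl⟩

variable {ℳ} {S : Finset (ℤ × M)}

omit [Module k M] [IsScalarTower k R M] [DirectSum.Decomposition ℳ] in
lemma IsHomGen.exists_repr (hS : IsHomGen (R := R) ℳ S) (u : M) :
    ∃ r : ℤ × M → R, u = ∑ p ∈ S, r p • p.2 := by
  classical
  have hu : u ∈ Submodule.span R ((fun p : ℤ × M => p.2) '' (S : Set (ℤ × M))) := by
    rw [hS.span]; trivial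
  induction hu using Submodule.span_induction with
  | mem y hy =>
    obtain ⟨p₀, hp₀, rfl⟩ := hy
    refine ⟨fun p => if p = p₀ then 1 else 0, ?_⟩
    rw [Finset.sum_eq_single p₀]
    · simp
    · intro p _ hp
      simp [hp]
    · intro h
      exact absurd hp₀ h
  | zero => exact ⟨0, by simp⟩
  | add y z _ _ hy hz =>
    obtain ⟨r, rfl⟩ := hy
    obtain ⟨r', rfl⟩ := hz
    exact ⟨r + r', by simp [add_smul, Finset.sum_add_distrib]⟩
  | smul a y _ hy =>
    obtain ⟨r, rfl⟩ := hy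
    exact ⟨fun p => a * r p, by simp [mul_smul, Finset.smul_sum]⟩

include 𝒜 in
/-- homogeneous elements are homogeneous combinations of the generators. -/
lemma IsHomGen.exists_repr_homog (hS : IsHomGen (R := R) ℳ S) {n : ℤ} {u : M} (hu : u ∈ ℳ n) :
    ∃ r : ℤ × M → R, (∀ p, r p ∈ 𝒜 (n - p.1)) ∧ u = ∑ p ∈ S, r p • p.2 := by
  classical
  obtain ⟨r, hr⟩ := hS.exists_repr u
  refine ⟨fun p => ((DirectSum.decompose 𝒜 (r p) (n - p.1) : 𝒜 (n - p.1)) : R),
    fun p => (DirectSum.decompose 𝒜 (r p) (n - p.1)).2, ?_⟩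
  have h1 : u = comp ℳ n u := (comp_of_mem_same ℳ hu).symm
  rw [h1]
  conv_lhs => rw [hr, comp_sum]
  apply Finset.sum_congr rfl
  intro p hp
  exact comp_smul_mem 𝒜 ℳ (r p) (hS.mem p hp) n

/-- the bound on the degrees of the generators. -/
def degBound (S : Finset (ℤ × M)) : ℤ := ∑ p ∈ S, |p.1|

lemma le_degBound {p : ℤ × M} (hp : p ∈ S) : p.1 ≤ degBound S :=
  (le_abs_self _).trans (Finset.single_le_sum (f := fun p : ℤ × M => |p.1|)
    (fun _ _ => abs_nonneg _) hp)

lemma neg_degBound_le {p : ℤ × M} (hp : p ∈ S) : -degBound S ≤ p.1 := by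
  have := Finset.single_le_sum (f := fun p : ℤ × M => |p.1|) (fun _ _ => abs_nonneg _) hp
  have h2 := neg_abs_le p.1
  unfold degBound
  linarith

include 𝒜 in
/-- a finitely generated graded module over a nonnegatively graded ring is bounded below. -/
lemma IsHomGen.eq_bot_of_lt (hS : IsHomGen (R := R) ℳ S) (hneg : ∀ n : ℤ, n < 0 → 𝒜 n = ⊥)
    {n : ℤ} (hn : n < -degBound S) : ℳ n = ⊥ := by
  rw [eq_bot_iff]
  intro u hu
  obtain ⟨r, hr, rfl⟩ := hS.exists_repr_homog 𝒜 hu
  rw [AddSubgroup.mem_bot]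
  apply Finset.sum_eq_zero
  intro p hp
  have h1 := hr p
  have h2 := neg_degBound_le hp
  rw [hneg _ (by omega)] at h1
  rw [(Submodule.mem_bot k).mp h1, zero_smul]

/-- over a standard graded ring, high pieces are generated by the previous piece. -/
lemma IsHomGen.exists_succ (hS : IsHomGen (R := R) ℳ S) {m : ℕ} {x : Fin m → R}
    (hstd : IsStd 𝒜 x) {n : ℤ} (hn : degBound S ≤ n) {u : M} (hu : u ∈ ℳ (n + 1)) :
    ∃ g : Fin m → M, (∀ i, g i ∈ ℳ n) ∧ u = ∑ i, x i • g i := by
  classical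
  obtain ⟨r, hr, rfl⟩ := hS.exists_repr_homog 𝒜 hu
  have hex : ∀ p ∈ S, ∃ G : Fin m → R, (∀ i, G i ∈ 𝒜 (n - p.1)) ∧ r p = ∑ i, x i * G i := by
    intro p hp
    have h1 := hr p
    have h2 := le_degBound hp
    have e : n + 1 - p.1 = (n - p.1) + 1 := by ring
    rw [e] at h1
    exact hstd.succ (n - p.1) (by omega) (r p) h1
  choose! G hG1 hG2 using hex
  refine ⟨fun i => ∑ p ∈ S, G p i • p.2, fun i => ?_, ?_⟩
  · apply AddSubgroup.sum_mem
    intro p hp
    have := smul_mem_piece 𝒜 ℳ (hG1 p hp i) (hS.mem p hp)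
    rwa [sub_add_cancel] at this
  · simp only [Finset.smul_sum]
    rw [Finset.sum_comm]
    apply Finset.sum_congr rfl
    intro p hp
    rw [hG2 p hp, Finset.sum_smul]
    apply Finset.sum_congr rfl
    intro i _
    rw [mul_smul]

end Gen

end Groth.Agent.Lib.Helper90.Seg
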