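import Mathlib
import Groth.Agent.Lib.Helper90.SegB
import Groth.Agent.Lib.Helper90.HilbSerre
import Groth.Agent.Lib.Helper90.HSPoly

/-!
# The Hilbert polynomial of a finitely generated ℤ-graded module over a standard graded algebra
-/

namespace Groth.Agent.Lib.Helper90.Seg

universe u

open DirectSum Module

section Ext

variable {M : Type u} [AddCommGroup M] (ℳ : ℤ → AddSubgroup M) [DirectSum.Decomposition ℳ]

lemma ext_comp {m m' : M} (h : ∀ n, comp ℳ n m = comp ℳ n m') : m = m' := by
  apply (DirectSum.decompose ℳ).injective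
  apply DFinsupp.ext
  intro n
  exact Subtype.ext (h n)

lemma comp_comp (n j : ℤ) (m : M) : comp ℳ n (comp ℳ j m) = if j = n then comp ℳ j m else 0 := by
  split_ifs with h
  · subst h
    exact comp_of_mem_same ℳ (comp_mem ℳ j m)
  · exact comp_of_mem_ne ℳ (comp_mem ℳ j m) h

/-- bounded below graded modules: every element is a finite sum of components from `a` on. -/
lemma exists_eq_sum_range {a : ℤ} (h : ∀ n, n < a → ℳ n = ⊥) (m : M) :
    ∃ N : ℕ, m = ∑ i ∈ Finset.range N, comp ℳ (a + i) m := by
  classical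
  set s := (DirectSum.decompose ℳ m).support with hs
  set B : ℤ := ∑ j ∈ s, |j| with hB
  refine ⟨(B - a + 1).toNat, ext_comp ℳ fun n => ?_⟩
  rw [comp_sum]
  simp only [comp_comp]
  by_cases hn : a ≤ n ∧ n < a + ((B - a + 1).toNat : ℤ)
  · have hi : (n - a).toNat ∈ Finset.range (B - a + 1).toNat := by
      rw [Finset.mem_range]
      omega
    rw [Finset.sum_eq_single_of_mem _ hi]
    · have e : a + ((n - a).toNat : ℤ) = n := by omega
      rw [if_pos e, e]
    · intro i _ hi'
      rw [if_neg]
      intro e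
      apply hi'
      omega
  · have h0 : comp ℳ n m = 0 := by
      by_cases hna : n < a
      · have := comp_mem ℳ n m
        rw [h n hna] at this
        exact AddSubgroup.mem_bot.mp this
      · have hns : n ∉ s := by
          intro hns
          have h1 : |n| ≤ B := Finset.single_le_sum (f := fun j : ℤ => |j|)
            (fun _ _ => abs_nonneg _) hns
          have h2 := le_abs_self n
          have h3 := Int.self_le_toNat (B - a + 1)
          apply hn
          constructor
          · omega
          · omega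
        rw [hs, DFinsupp.notMem_support_iff] at hns
        unfold comp
        rw [hns]
        rfl
    rw [h0]
    symm
    apply Finset.sum_eq_zero
    intro i hi
    rw [if_neg]
    intro e
    apply hn
    have := Finset.mem_range.mp hi
    constructor
    · omega
    · omega

end Ext

section HS

variable {k : Type u} [Field k] {R : Type u} [CommRing R] [Algebra k R]
  (𝒜 : ℤ → Submodule k R) [GradedAlgebra 𝒜]
  {M : Type u} [AddCommGroup M] [Module R M] [Module k M] [IsScalarTower k R M]
  (ℳ : ℤ → AddSubgroup M) [DirectSum.Decomposition ℳ] [SetLike.GradedSMul 𝒜 ℳ]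
  {m : ℕ} (x : Fin m → R)

/-- `M` as a module over the polynomial ring through the generators `x`. -/
@[reducible] noncomputable def polyModule (M : Type u) [AddCommGroup M] [Module R M] :
    Module (MvPolynomial (Fin m) k) M :=
  Module.compHom M
    ((MvPolynomial.aeval x : MvPolynomial (Fin m) k →ₐ[k] R) : MvPolynomial (Fin m) k →+* R)

lemma polyModule_smul (f : MvPolynomial (Fin m) k) (u : M) :
    letI := polyModule (k := k) x M
    f • u = (MvPolynomial.aeval x f : R) • u := rfl

lemma polyModule_tower :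
    letI := polyModule (k := k) x M
    IsScalarTower k (MvPolynomial (Fin m) k) M := by
  letI := polyModule (k := k) x M
  refine ⟨fun c f u => ?_⟩
  rw [polyModule_smul, polyModule_smul, map_smul, smul_assoc]

variable {x}

lemma polyModule_finite (hstd : IsStd 𝒜 x) [Module.Finite R M] :
    letI := polyModule (k := k) x M
    Module.Finite (MvPolynomial (Fin m) k) M := by
  letI := polyModule (k := k) x M
  classical
  obtain ⟨s, hs⟩ := (Module.Finite.fg_top : (⊤ : Submodule R M).FG)
  refine ⟨⟨s, ?_⟩⟩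
  rw [eq_top_iff]
  intro u _
  have hu : u ∈ Submodule.span R (s : Set M) := by rw [hs]; trivial
  induction hu using Submodule.span_induction with
  | mem y hy => exact Submodule.subset_span hy
  | zero => exact Submodule.zero_mem _
  | add y z _ _ hy hz => exact Submodule.add_mem _ (hy trivial) (hz trivial)
  | smul a y _ hy =>
    obtain ⟨f, rfl⟩ := hstd.aeval_surjective a
    have := Submodule.smul_mem _ f (hy trivial)
    rwa [polyModule_smul] at this

variable (x)

/-- the shifted pieces. -/
def shiftPc (a : ℤ) (i : ℕ) : Submodule k M := pc 𝒜 ℳ (a + i)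

variable {x}

lemma isGr_shiftPc (hstd : IsStd 𝒜 x) {a : ℤ} (ha : ∀ n, n < a → ℳ n = ⊥) :
    letI := polyModule (k := k) x M
    haveI := polyModule_tower (k := k) (M := M) x
    HilbSerre.IsGr (d := m) (shiftPc 𝒜 ℳ a) := by
  letI := polyModule (k := k) x M
  haveI := polyModule_tower (k := k) (M := M) x
  refine ⟨fun i j u hu => ?_, ⟨fun i => compL 𝒜 ℳ (a + i), ?_⟩⟩
  · rw [polyModule_smul, MvPolynomial.aeval_X]
    have := smul_mem_piece 𝒜 ℳ (hstd.mem i) hu
    show x i • u ∈ ℳ (a + ((j + 1 : ℕ) : ℤ))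
    have e : a + ((j + 1 : ℕ) : ℤ) = 1 + (a + j) := by push_cast; ring
    rw [e]
    exact this
  · refine ⟨fun i u => comp_mem ℳ _ u, fun i u hu => comp_of_mem_same ℳ hu,
      fun i l u hu hne => comp_of_mem_ne ℳ hu (by omega), fun u => ?_⟩
    exact exists_eq_sum_range ℳ ha u

/-- the Hilbert polynomial. -/
theorem exists_hilbPoly_module (hstd : IsStd 𝒜 x) [Module.Finite R M] :
    ∃ (p : Polynomial ℚ) (n₀ : ℤ), (∀ n, Module.Finite k (pc 𝒜 ℳ n)) ∧
      ∀ n : ℤ, n₀ ≤ n → ((finrank k (pc 𝒜 ℳ n) : ℕ) : ℚ) = p.eval (n : ℚ) := by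
  classical
  obtain ⟨S, hS⟩ := exists_isHomGen (R := R) ℳ
  set a : ℤ := -degBound S with ha
  have hbot : ∀ n, n < a → ℳ n = ⊥ := fun n hn => hS.eq_bot_of_lt 𝒜 hstd.neg hn
  letI := polyModule (k := k) x M
  haveI := polyModule_tower (k := k) (M := M) x
  haveI := polyModule_finite 𝒜 (M := M) hstd
  obtain ⟨hFG, hPL⟩ := HilbSerre.hilbertSerre (shiftPc 𝒜 ℳ a) (isGr_shiftPc 𝒜 ℳ hstd hbot)
  have hfin : ∀ n, Module.Finite k (pc 𝒜 ℳ n) := by
    intro n
    by_cases hn : n < a
    · have : pc 𝒜 ℳ n = ⊥ := by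
        rw [eq_bot_iff]
        intro u hu
        have hu' : u ∈ ℳ n := hu
        rw [hbot n hn] at hu'
        rw [Submodule.mem_bot]
        exact AddSubgroup.mem_bot.mp hu'
      rw [this]
      infer_instance
    · have h1 := hFG (n - a).toNat
      have e : a + ((n - a).toNat : ℤ) = n := by omega
      unfold shiftPc at h1
      rw [e] at h1
      exact Module.Finite.iff_fg.mpr h1
  have hlen : ∀ i, Module.length k (shiftPc 𝒜 ℳ a i) ≠ ⊤ := by
    intro i
    haveI : Module.Finite k (shiftPc 𝒜 ℳ a i) := hfin (a + i)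
    exact Module.length_ne_top
  obtain ⟨P, -, N, hN⟩ := HSPoly.exists_poly_of_PL (hPL hlen)
  refine ⟨P.comp (Polynomial.X - Polynomial.C (a : ℚ)), a + N, hfin, fun n hn => ?_⟩
  rw [HSPoly.eval_comp_X_sub_C]
  have h1 := hN (n - a).toNat (by omega)
  have e : a + ((n - a).toNat : ℤ) = n := by omega
  have e2 : (((n - a).toNat : ℕ) : ℚ) = (n : ℚ) - (a : ℚ) := by
    have : (((n - a).toNat : ℕ) : ℤ) = n - a := by omega
    have h2 : ((((n - a).toNat : ℕ) : ℤ) : ℚ) = ((n - a : ℤ) : ℚ) := by rw [this]
    push_cast at h2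
    exact h2
  rw [e2] at h1
  rw [← h1]
  have key : ∀ n' : ℤ, n' = n →
      ((finrank k (pc 𝒜 ℳ n) : ℕ) : ℚ) = (((Module.length k (pc 𝒜 ℳ n')).toNat : ℤ) : ℚ) := by
    intro n' hn'
    rw [hn']
    haveI := hfin n
    rw [Module.length_eq_finrank]
    simp
  exact key _ e

end HS

end Groth.Agent.Lib.Helper90.Seg
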