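import Mathlib
import Groth.Agent.Lib.Helper90.SegC
import Groth.Agent.Lib.Helper90.HomogSection

/-!
# The annihilator of a graded module in the polynomial ring, and Hilbert function comparisons
-/

namespace Groth.Agent.Lib.Helper90.Seg

universe u

open DirectSum Module MvPolynomial HomogSection

attribute [local instance] MvPolynomial.gradedAlgebra

section Sup

variable {K V : Type*} [Field K] [AddCommGroup V] [Module K V]

lemma finrank_finset_sup_le {ι : Type*} (s : Finset ι) (f : ι → Submodule K V)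
    [∀ i, FiniteDimensional K (f i)] :
    finrank K ↥(s.sup f) ≤ ∑ i ∈ s, finrank K ↥(f i) := by
  classical
  induction s using Finset.induction_on with
  | empty => simp
  | insert a s ha ih =>
    rw [Finset.sup_insert, Finset.sum_insert ha]
    exact (Submodule.finrank_add_le_finrank_add_finrank _ _).trans (Nat.add_le_add_left ih _)

end Sup

section Ann

variable {k : Type u} [Field k] {R : Type u} [CommRing R] [Algebra k R]
  (𝒜 : ℤ → Submodule k R) [GradedAlgebra 𝒜]
  {M : Type u} [AddCommGroup M] [Module R M] [Module k M] [IsScalarTower k R M]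
  (ℳ : ℤ → AddSubgroup M) [DirectSum.Decomposition ℳ] [SetLike.GradedSMul 𝒜 ℳ]
  {m : ℕ} {x : Fin m → R}

/-- the decomposition of `aeval x f`. -/
lemma decompose_aeval (hstd : IsStd 𝒜 x) (f : MvPolynomial (Fin m) k) (j : ℕ) :
    ((DirectSum.decompose 𝒜 (aeval x f) (j : ℤ) : 𝒜 (j : ℤ)) : R) =
      aeval x (homogeneousComponent j f) := by
  classical
  conv_lhs => rw [← sum_homogeneousComponent f, map_sum, DirectSum.decompose_sum]
  rw [DFinsupp.finset_sum_apply, AddSubmonoidClass.coe_finset_sum]
  have hmem : ∀ i : ℕ, aeval x (homogeneousComponent i f) ∈ 𝒜 (i : ℤ) := fun i =>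
    hstd.aeval_mem (homogeneousComponent_mem i f)
  by_cases hj : j ∈ Finset.range (f.totalDegree + 1)
  · rw [Finset.sum_eq_single_of_mem j hj]
    · exact DirectSum.decompose_of_mem_same 𝒜 (hmem j)
    · intro i _ hi
      exact DirectSum.decompose_of_mem_ne 𝒜 (hmem i) (by exact_mod_cast hi)
  · have h0 : homogeneousComponent j f = 0 :=
      homogeneousComponent_eq_zero j f (by
        rw [Finset.mem_range] at hj
        omega)
    rw [h0, map_zero]
    apply Finset.sum_eq_zero
    intro i hi
    exact DirectSum.decompose_of_mem_ne 𝒜 (hmem i) (by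
      intro h
      apply hj
      have : i = j := by exact_mod_cast h
      exact this ▸ hi)

/-- the annihilator of `M` in the polynomial ring. -/
noncomputable def annPoly (x : Fin m → R) (M : Type u) [AddCommGroup M] [Module R M] :
    Ideal (MvPolynomial (Fin m) k) :=
  Ideal.comap (aeval x : MvPolynomial (Fin m) k →ₐ[k] R) (Module.annihilator R M)

lemma mem_annPoly {f : MvPolynomial (Fin m) k} :
    f ∈ annPoly (k := k) x M ↔ ∀ u : M, (aeval x f : R) • u = 0 := by
  unfold annPoly
  rw [Ideal.mem_comap, Module.mem_annihilator]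

include 𝒜 ℳ in
lemma annPoly_isHomogeneous (hstd : IsStd 𝒜 x) :
    (annPoly (k := k) x M).IsHomogeneous (homogeneousSubmodule (Fin m) k) := by
  classical
  intro i f hf
  have e : ((DirectSum.decompose (homogeneousSubmodule (Fin m) k) f i :
      homogeneousSubmodule (Fin m) k i) : MvPolynomial (Fin m) k) = homogeneousComponent i f :=
    decomposition.decompose'_apply f i
  rw [e, mem_annPoly]
  rw [mem_annPoly] at hf
  have key : ∀ (b : ℤ) (u : M), u ∈ ℳ b → (aeval x (homogeneousComponent i f) : R) • u = 0 := by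
    intro b u hu
    have h1 := comp_smul_mem 𝒜 ℳ (aeval x f) hu ((i : ℤ) + b)
    rw [hf u, comp_zero, add_sub_cancel_right, decompose_aeval 𝒜 hstd] at h1
    exact h1.symm
  intro u
  obtain ⟨s, hs⟩ := sum_comp ℳ u
  rw [hs, Finset.smul_sum]
  apply Finset.sum_eq_zero
  intro j _
  exact key j _ (comp_mem ℳ j u)

variable {ℳ}

/-- membership in the annihilator can be tested on generators. -/
lemma mem_annPoly_of_gen {S : Finset (ℤ × M)} (hS : IsHomGen (R := R) ℳ S)
    {f : MvPolynomial (Fin m) k} (hf : ∀ p ∈ S, (aeval x f : R) • p.2 = 0) :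
    f ∈ annPoly (k := k) x M := by
  rw [mem_annPoly]
  intro u
  obtain ⟨r, rfl⟩ := hS.exists_repr u
  rw [Finset.smul_sum]
  apply Finset.sum_eq_zero
  intro p hp
  rw [smul_comm, hf p hp, smul_zero]

/-- multiplication of a homogeneous polynomial with a fixed element, as a `k`-linear map. -/
noncomputable def mulGen (x : Fin m → R) (j : ℕ) (u : M) :
    ↥(homogeneousSubmodule (Fin m) k j) →ₗ[k] M where
  toFun f := (aeval x (f : MvPolynomial (Fin m) k) : R) • u
  map_add' f g := by simp [add_smul]
  map_smul' c f := by simp [smul_assoc]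

@[simp] lemma mulGen_apply (j : ℕ) (u : M) (f : ↥(homogeneousSubmodule (Fin m) k j)) :
    mulGen x j u f = (aeval x (f : MvPolynomial (Fin m) k) : R) • u := rfl

lemma part_comap_le_ker (j : ℕ) (u : M) :
    (part (annPoly (k := k) x M) j).comap (homogeneousSubmodule (Fin m) k j).subtype ≤
      LinearMap.ker (mulGen x j u) := by
  intro f hf
  rw [Submodule.mem_comap, Submodule.subtype_apply, mem_part] at hf
  rw [LinearMap.mem_ker, mulGen_apply]
  exact mem_annPoly.mp hf.1 u

lemma finrank_part_comap (j : ℕ) :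
    finrank k ↥((part (annPoly (k := k) x M) j).comap (homogeneousSubmodule (Fin m) k j).subtype) =
      finrank k ↥(part (annPoly (k := k) x M) j) :=
  (Submodule.comapSubtypeEquivOfLe (p := part (annPoly (k := k) x M) j)
    (q := homogeneousSubmodule (Fin m) k j) inf_le_right).finrank_eq

/-- the rank of the image of multiplication on a generator is bounded by the Hilbert function of
the annihilator. -/
lemma finrank_range_mulGen_le (j : ℕ) (u : M) :
    (finrank k ↥(LinearMap.range (mulGen (k := k) x j u)) : ℤ) ≤ hilb (annPoly (k := k) x M) j := by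
  have h1 := LinearMap.finrank_range_add_finrank_ker (mulGen (k := k) x j u)
  have h2 : finrank k ↥(part (annPoly (k := k) x M) j) ≤
      finrank k ↥(LinearMap.ker (mulGen (k := k) x j u)) := by
    rw [← finrank_part_comap]
    exact Submodule.finrank_mono (part_comap_le_ker j u)
  unfold hilb
  omega

end Ann

section Ineq

variable {k : Type u} [Field k] {R : Type u} [CommRing R] [Algebra k R]
  (𝒜 : ℤ → Submodule k R) [GradedAlgebra 𝒜]
  {M : Type u} [AddCommGroup M] [Module R M] [Module k M] [IsScalarTower k R M]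
  (ℳ : ℤ → AddSubgroup M) [DirectSum.Decomposition ℳ] [SetLike.GradedSMul 𝒜 ℳ]
  {m : ℕ} {x : Fin m → R}

variable {ℳ}

/-- upper bound for the Hilbert function of `M`. -/
theorem finrank_pc_le (hstd : IsStd 𝒜 x) {S : Finset (ℤ × M)} (hS : IsHomGen (R := R) ℳ S)
    {n : ℤ} (hn : degBound S ≤ n) :
    (finrank k ↥(pc 𝒜 ℳ n) : ℤ) ≤ ∑ p ∈ S, hilb (annPoly (k := k) x M) (n - p.1).toNat := by
  classical
  have hle : pc 𝒜 ℳ n ≤ S.sup (fun p => LinearMap.range (mulGen (k := k) x (n - p.1).toNat p.2)) := by
    intro u hu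
    obtain ⟨r, hr, rfl⟩ := hS.exists_repr_homog 𝒜 (mem_pc 𝒜 ℳ |>.mp hu)
    apply Submodule.sum_mem
    intro p hp
    have hmem : LinearMap.range (mulGen (k := k) x (n - p.1).toNat p.2) ≤
        S.sup (fun p => LinearMap.range (mulGen (k := k) x (n - p.1).toNat p.2)) :=
      Finset.le_sup (f := fun p => LinearMap.range (mulGen (k := k) x (n - p.1).toNat p.2)) hp
    apply hmem
    obtain ⟨F, hF⟩ := hstd.aeval_surjective (r p)
    have h2 := le_degBound hp
    have e : (((n - p.1).toNat : ℕ) : ℤ) = n - p.1 := by omega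
    refine ⟨⟨homogeneousComponent (n - p.1).toNat F, homogeneousComponent_mem _ F⟩, ?_⟩
    rw [mulGen_apply]
    show (aeval x (homogeneousComponent (n - p.1).toNat F) : R) • p.2 = r p • p.2
    rw [← decompose_aeval 𝒜 hstd, hF]
    have key : ∀ (i : ℤ) (a : R), a ∈ 𝒜 i → ∀ i', i' = i →
        ((DirectSum.decompose 𝒜 a i' : 𝒜 i') : R) = a := by
      intro i a ha i' hi'
      subst hi'
      exact DirectSum.decompose_of_mem_same 𝒜 ha
    rw [key _ _ (hr p) _ e]
  have h1 : finrank k ↥(pc 𝒜 ℳ n) ≤
      finrank k ↥(S.sup (fun p => LinearMap.range (mulGen (k := k) x (n - p.1).toNat p.2))) :=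
    Submodule.finrank_mono hle
  have h2 := finrank_finset_sup_le S
    (fun p => LinearMap.range (mulGen (k := k) x (n - p.1).toNat p.2))
  have h3 : ((∑ p ∈ S, finrank k ↥(LinearMap.range (mulGen (k := k) x (n - p.1).toNat p.2)) : ℕ) : ℤ) ≤
      ∑ p ∈ S, hilb (annPoly (k := k) x M) (n - p.1).toNat := by
    push_cast
    apply Finset.sum_le_sum
    intro p _
    exact finrank_range_mulGen_le _ _
  have h4 : (finrank k ↥(pc 𝒜 ℳ n) : ℤ) ≤
      ((∑ p ∈ S, finrank k ↥(LinearMap.range (mulGen (k := k) x (n - p.1).toNat p.2)) : ℕ) : ℤ) := by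
    exact_mod_cast h1.trans h2
  exact h4.trans h3

/-- the evaluation map on the generators. -/
noncomputable def evGen (x : Fin m → R) (S : Finset (ℤ × M)) (j : ℕ) :
    ↥(homogeneousSubmodule (Fin m) k j) →ₗ[k] (↥S → M) :=
  LinearMap.pi fun p => mulGen x j (p : ℤ × M).2

lemma ker_evGen_le {S : Finset (ℤ × M)} (hS : IsHomGen (R := R) ℳ S) (j : ℕ) :
    LinearMap.ker (evGen (k := k) x S j) ≤
      (part (annPoly (k := k) x M) j).comap (homogeneousSubmodule (Fin m) k j).subtype := by
  intro f hf
  rw [LinearMap.mem_ker] at hf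
  rw [Submodule.mem_comap, Submodule.subtype_apply, mem_part]
  refine ⟨mem_annPoly_of_gen hS fun p hp => ?_, (mem_homogeneousSubmodule _ _).mp f.2⟩
  have := congrFun hf ⟨p, hp⟩
  simpa [evGen] using this

include 𝒜 in
lemma range_evGen_le (hstd : IsStd 𝒜 x) {S : Finset (ℤ × M)} (hS : IsHomGen (R := R) ℳ S) (j : ℕ) :
    LinearMap.range (evGen (k := k) x S j) ≤
      Submodule.pi Set.univ (fun p : ↥S => pc 𝒜 ℳ ((j : ℤ) + (p : ℤ × M).1)) := by
  rintro _ ⟨f, rfl⟩
  intro p _
  show (aeval x (f : MvPolynomial (Fin m) k) : R) • (p : ℤ × M).2 ∈ ℳ ((j : ℤ) + (p : ℤ × M).1)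
  exact smul_mem_piece 𝒜 ℳ (hstd.aeval_mem ((mem_homogeneousSubmodule _ _).mp f.2)) (hS.mem p p.2)

end Ineq

end Groth.Agent.Lib.Helper90.Seg
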