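import Mathlib
import Groth.Agent.Lib.Helper90.SegD
import Groth.Agent.Lib.Helper90.GradedLocal11

/-!
# The dimension of a graded module from its Hilbert polynomial
-/

namespace Groth.Agent.Lib.Helper90.Seg

universe u

open DirectSum Module MvPolynomial HomogSection

attribute [local instance] MvPolynomial.gradedAlgebra

section Lower

variable {k : Type u} [Field k] {R : Type u} [CommRing R] [Algebra k R]
  (𝒜 : ℤ → Submodule k R) [GradedAlgebra 𝒜]
  {M : Type u} [AddCommGroup M] [Module R M] [Module k M] [IsScalarTower k R M]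
  {ℳ : ℤ → AddSubgroup M} [DirectSum.Decomposition ℳ] [SetLike.GradedSMul 𝒜 ℳ]
  {m : ℕ} {x : Fin m → R}

/-- the evaluation map on the generators, with values in the product of the pieces. -/
noncomputable def evGen' (hstd : IsStd 𝒜 x) {S : Finset (ℤ × M)} (hS : IsHomGen (R := R) ℳ S)
    (j : ℕ) :
    ↥(homogeneousSubmodule (Fin m) k j) →ₗ[k]
      (∀ p : ↥S, ↥(pc 𝒜 ℳ ((j : ℤ) + (p : ℤ × M).1))) :=
  LinearMap.pi fun p => (mulGen x j (p : ℤ × M).2).codRestrict _ (fun f =>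
    smul_mem_piece 𝒜 ℳ (hstd.aeval_mem ((mem_homogeneousSubmodule _ _).mp f.2)) (hS.mem p p.2))

lemma ker_evGen'_le (hstd : IsStd 𝒜 x) {S : Finset (ℤ × M)} (hS : IsHomGen (R := R) ℳ S) (j : ℕ) :
    LinearMap.ker (evGen' 𝒜 hstd hS j) ≤
      (part (annPoly (k := k) x M) j).comap (homogeneousSubmodule (Fin m) k j).subtype := by
  intro f hf
  rw [LinearMap.mem_ker] at hf
  rw [Submodule.mem_comap, Submodule.subtype_apply, mem_part]
  refine ⟨mem_annPoly_of_gen hS fun p hp => ?_, (mem_homogeneousSubmodule _ _).mp f.2⟩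
  have := congrArg Subtype.val (congrFun hf ⟨p, hp⟩)
  simpa [evGen'] using this

/-- lower bound for the Hilbert function of `M`. -/
theorem hilb_annPoly_le (hstd : IsStd 𝒜 x) {S : Finset (ℤ × M)} (hS : IsHomGen (R := R) ℳ S)
    (hfin : ∀ n, Module.Finite k (pc 𝒜 ℳ n)) (j : ℕ) :
    hilb (annPoly (k := k) x M) j ≤ ∑ p ∈ S, (finrank k ↥(pc 𝒜 ℳ ((j : ℤ) + p.1)) : ℤ) := by
  classical
  have h1 := LinearMap.finrank_range_add_finrank_ker (evGen' 𝒜 hstd hS j)
  have h2 : finrank k ↥(LinearMap.ker (evGen' 𝒜 hstd hS j)) ≤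
      finrank k ↥(part (annPoly (k := k) x M) j) := by
    rw [← finrank_part_comap]
    exact Submodule.finrank_mono (ker_evGen'_le 𝒜 hstd hS j)
  have h3 : finrank k ↥(LinearMap.range (evGen' 𝒜 hstd hS j)) ≤
      finrank k (∀ p : ↥S, ↥(pc 𝒜 ℳ ((j : ℤ) + (p : ℤ × M).1))) :=
    Submodule.finrank_le _
  rw [Module.finrank_pi_fintype] at h3
  have h4 : ∑ p : ↥S, finrank k ↥(pc 𝒜 ℳ ((j : ℤ) + (p : ℤ × M).1)) =
      ∑ p ∈ S, finrank k ↥(pc 𝒜 ℳ ((j : ℤ) + p.1)) :=
    Finset.sum_coe_sort S (fun p => finrank k ↥(pc 𝒜 ℳ ((j : ℤ) + p.1)))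
  rw [h4] at h3
  unfold hilb
  have h5 : ((∑ p ∈ S, finrank k ↥(pc 𝒜 ℳ ((j : ℤ) + p.1)) : ℕ) : ℤ) =
      ∑ p ∈ S, (finrank k ↥(pc 𝒜 ℳ ((j : ℤ) + p.1)) : ℤ) := by push_cast; rfl
  rw [← h5]
  omega

end Lower

section Dim

variable {k : Type u} [Field k] {R : Type u} [CommRing R] [Algebra k R]
  (𝒜 : ℤ → Submodule k R) [GradedAlgebra 𝒜]
  {M : Type u} [AddCommGroup M] [Module R M] [Module k M] [IsScalarTower k R M]
  (ℳ : ℤ → AddSubgroup M) [DirectSum.Decomposition ℳ] [SetLike.GradedSMul 𝒜 ℳ]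
  {m : ℕ} {x : Fin m → R}

/-- the support dimension through the annihilator in the polynomial ring. -/
lemma supportDim_eq_annPoly (hstd : IsStd 𝒜 x) [Module.Finite R M] :
    Module.supportDim R M = ringKrullDim (MvPolynomial (Fin m) k ⧸ annPoly (k := k) x M) := by
  rw [Module.supportDim_eq_ringKrullDim_quotient_annihilator]
  set I := Module.annihilator R M
  let g : MvPolynomial (Fin m) k →+* R ⧸ I :=
    (Ideal.Quotient.mk I).comp ((aeval x : MvPolynomial (Fin m) k →ₐ[k] R) : _ →+* R)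
  have hg : Function.Surjective g :=
    Ideal.Quotient.mk_surjective.comp hstd.aeval_surjective
  have hker : RingHom.ker g = annPoly (k := k) x M := by
    unfold annPoly
    rw [← RingHom.comap_ker, Ideal.mk_ker]
    rfl
  exact (ringKrullDim_eq_of_ringEquiv
    ((Ideal.quotEquivOfEq hker.symm).trans (RingHom.quotientKerEquivOfSurjective hg))).symm

lemma natCast_toNat_sub {n q : ℤ} (h : q ≤ n) : (((n - q).toNat : ℕ) : ℚ) = (n : ℚ) - (q : ℚ) := by
  have : (((n - q).toNat : ℕ) : ℤ) = n - q := by omega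
  have h2 : ((((n - q).toNat : ℕ) : ℤ) : ℚ) = ((n - q : ℤ) : ℚ) := by rw [this]
  push_cast at h2
  exact h2

/-- **the dimension of a graded module is one more than the degree of its Hilbert polynomial**. -/
theorem supportDim_eq_of_hilbPoly (hstd : IsStd 𝒜 x) [Module.Finite R M]
    (hfin : ∀ n, Module.Finite k (pc 𝒜 ℳ n))
    (p : Polynomial ℚ) (n₀ : ℤ)
    (hp : ∀ n : ℤ, n₀ ≤ n → ((finrank k (pc 𝒜 ℳ n) : ℕ) : ℚ) = p.eval (n : ℚ)) (hp0 : p ≠ 0) :
    Module.supportDim R M = (p.natDegree : WithBot ℕ∞) + 1 := by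
  classical
  obtain ⟨S, hS⟩ := exists_isHomGen (R := R) ℳ
  set J := annPoly (k := k) x M with hJdef
  have hJ : J.IsHomogeneous (homogeneousSubmodule (Fin m) k) := annPoly_isHomogeneous 𝒜 ℳ hstd
  -- `J` is proper
  have hJt : J ≠ ⊤ := by
    intro h
    apply hp0
    apply GradedLocal.poly_eq_zero_of_eventually p n₀.toNat
    intro j hj
    have h1 : (1 : MvPolynomial (Fin m) k) ∈ J := by rw [h]; trivial
    rw [hJdef, mem_annPoly] at h1
    have h2 : pc 𝒜 ℳ (j : ℤ) = ⊥ := by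
      rw [eq_bot_iff]
      intro u _
      have := h1 u
      rw [map_one, one_smul] at this
      rw [this]
      exact Submodule.zero_mem _
    have h3 := hp (j : ℤ) (by omega)
    rw [h2, finrank_bot] at h3
    simpa using h3.symm
  obtain ⟨Q, hQdim, N₁, hN₁⟩ := GradedLocal.exists_hilbPoly hJ hJt
  set PJ := Q.comp (Polynomial.X + Polynomial.C 1) - Q with hPJ
  -- upper comparison
  set Q₂ : Polynomial ℚ := ∑ q ∈ S, PJ.comp (Polynomial.X - Polynomial.C ((q.1 : ℤ) : ℚ)) with hQ₂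
  have hQ₂deg : Q₂.natDegree ≤ PJ.natDegree := by
    apply Polynomial.natDegree_sum_le_of_forall_le
    intro q _
    rw [HSPoly.natDegree_comp_X_sub_C]
  set N₂ : ℕ := max n₀.toNat (degBound S + N₁).toNat with hN₂
  have hup : ∀ n : ℕ, N₂ ≤ n → p.eval (n : ℚ) ≤ Q₂.eval (n : ℚ) := by
    intro n hn
    have hn1 : n₀ ≤ (n : ℤ) := by
      have := le_max_left n₀.toNat (degBound S + N₁).toNat
      omega
    have hn2 : degBound S + N₁ ≤ (n : ℤ) := by
      have := le_max_right n₀.toNat (degBound S + N₁).toNat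
      omega
    have h1 := finrank_pc_le 𝒜 hstd hS (n := (n : ℤ)) (by omega)
    have h2 := hp (n : ℤ) hn1
    have h2' : p.eval (n : ℚ) = ((finrank k (pc 𝒜 ℳ (n : ℤ)) : ℤ) : ℚ) := by
      rw [Int.cast_natCast, h2]
      simp
    rw [h2', hQ₂, Polynomial.eval_finset_sum]
    have h3 : ((∑ q ∈ S, hilb J ((n : ℤ) - q.1).toNat : ℤ) : ℚ) =
        ∑ q ∈ S, (PJ.comp (Polynomial.X - Polynomial.C ((q.1 : ℤ) : ℚ))).eval (n : ℚ) := by
      push_cast
      apply Finset.sum_congr rfl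
      intro q hq
      have hq1 := le_degBound hq
      rw [HSPoly.eval_comp_X_sub_C, ← hN₁ ((n : ℤ) - q.1).toNat (by omega),
        natCast_toNat_sub (by omega)]
      simp
    rw [← h3]
    exact_mod_cast h1
  have hp_nonneg : ∀ n : ℕ, N₂ ≤ n → 0 ≤ p.eval (n : ℚ) := by
    intro n hn
    have hn1 : n₀ ≤ (n : ℤ) := by
      have := le_max_left n₀.toNat (degBound S + N₁).toNat
      omega
    have h2 := hp (n : ℤ) hn1
    rw [Int.cast_natCast] at h2
    rw [← h2]
    positivity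
  have hPJ0 : PJ ≠ 0 := by
    intro h0
    apply hp0
    apply GradedLocal.poly_eq_zero_of_eventually p N₂
    intro j hj
    have h1 := hup j hj
    have h2 := hp_nonneg j hj
    have h3 : Q₂ = 0 := by
      rw [hQ₂]
      apply Finset.sum_eq_zero
      intro q _
      rw [h0, Polynomial.zero_comp]
    rw [h3, Polynomial.eval_zero] at h1
    linarith
  have hle1 : p.natDegree ≤ PJ.natDegree :=
    (HSPoly.natDegree_le_of_eventually_le N₂ hp_nonneg hup).trans hQ₂deg
  -- lower comparison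
  set Q₃ : Polynomial ℚ := ∑ q ∈ S, p.comp (Polynomial.X - Polynomial.C (-((q.1 : ℤ) : ℚ))) with hQ₃
  have hQ₃deg : Q₃.natDegree ≤ p.natDegree := by
    apply Polynomial.natDegree_sum_le_of_forall_le
    intro q _
    rw [HSPoly.natDegree_comp_X_sub_C]
  set N₃ : ℕ := max N₁ (n₀ + degBound S).toNat with hN₃
  have hPJ_nonneg : ∀ j : ℕ, N₃ ≤ j → 0 ≤ PJ.eval (j : ℚ) := by
    intro j hj
    rw [hN₁ j ((le_max_left _ _).trans hj)]
    exact_mod_cast GradedLocal.hilb_nonneg J j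
  have hlow : ∀ j : ℕ, N₃ ≤ j → PJ.eval (j : ℚ) ≤ Q₃.eval (j : ℚ) := by
    intro j hj
    have hj1 : N₁ ≤ j := (le_max_left _ _).trans hj
    have hj2 : n₀ + degBound S ≤ (j : ℤ) := by
      have := le_max_right N₁ (n₀ + degBound S).toNat
      omega
    rw [hN₁ j hj1, hQ₃, Polynomial.eval_finset_sum]
    have h1 := hilb_annPoly_le 𝒜 hstd hS hfin j
    have h3 : ((∑ q ∈ S, (finrank k ↥(pc 𝒜 ℳ ((j : ℤ) + q.1)) : ℤ) : ℤ) : ℚ) =
        ∑ q ∈ S, (p.comp (Polynomial.X - Polynomial.C (-((q.1 : ℤ) : ℚ)))).eval (j : ℚ) := by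
      push_cast
      apply Finset.sum_congr rfl
      intro q hq
      have hq1 := neg_degBound_le hq
      rw [HSPoly.eval_comp_X_sub_C, hp ((j : ℤ) + q.1) (by omega)]
      push_cast
      ring_nf
    rw [← h3]
    exact_mod_cast h1
  have hle2 : PJ.natDegree ≤ p.natDegree :=
    (HSPoly.natDegree_le_of_eventually_le N₃ hPJ_nonneg hlow).trans hQ₃deg
  rw [supportDim_eq_annPoly 𝒜 hstd, GradedLocal.ringKrullDim_quot_eq hJ hPJ0 N₁ hN₁,
    le_antisymm hle1 hle2]

end Dim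

end Groth.Agent.Lib.Helper90.Seg
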