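import Mathlib
import Groth.Prelude.Def_GrSeg
import Groth.Agent.Lib.Helper90.SegE

/-!
# The Segre product of standard graded algebras is standard graded
-/

namespace Groth.Agent.Lib.Helper90.Seg

universe u

open DirectSum Module TensorProduct GrSeg

section Art

variable {k : Type u} [Field k] {R : Type u} [CommRing R] [Algebra k R]
  (𝒜 : ℤ → Submodule k R) [GradedAlgebra 𝒜]
  {M : Type u} [AddCommGroup M] [Module R M] [Module k M] [IsScalarTower k R M]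
  (ℳ : ℤ → AddSubgroup M) [DirectSum.Decomposition ℳ] [SetLike.GradedSMul 𝒜 ℳ]

/-- a finitely generated graded module with eventually vanishing Hilbert function is Artinian. -/
theorem isArtinian_of_eventually_zero (hneg : ∀ n : ℤ, n < 0 → 𝒜 n = ⊥) [Module.Finite R M]
    (hfin : ∀ n, Module.Finite k (pc 𝒜 ℳ n)) (n₀ : ℤ)
    (h0 : ∀ n : ℤ, n₀ ≤ n → finrank k (pc 𝒜 ℳ n) = 0) : IsArtinian R M := by
  classical
  obtain ⟨S, hS⟩ := exists_isHomGen (R := R) ℳ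
  set a : ℤ := -degBound S with ha
  have hbot : ∀ n, ¬ (a ≤ n ∧ n < n₀) → ℳ n = ⊥ := by
    intro n hn
    by_cases hna : n < a
    · exact hS.eq_bot_of_lt 𝒜 hneg hna
    · have hn0 : n₀ ≤ n := by
        by_contra h
        exact hn ⟨by omega, by omega⟩
      haveI := hfin n
      have h1 : pc 𝒜 ℳ n = ⊥ := Submodule.finrank_eq_zero.mp (h0 n hn0)
      rw [eq_bot_iff]
      intro u hu
      have hu' : u ∈ pc 𝒜 ℳ n := hu
      rw [h1, Submodule.mem_bot] at hu'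
      rw [hu']
      exact AddSubgroup.zero_mem _
  have htop : (⊤ : Submodule k M) = (Finset.Ico a n₀).sup (fun n => pc 𝒜 ℳ n) := by
    symm
    rw [eq_top_iff]
    intro u _
    rw [eq_sum_Ico ℳ hbot u]
    apply Submodule.sum_mem
    intro j hj
    exact (Finset.le_sup (f := fun n => pc 𝒜 ℳ n) hj) (comp_mem ℳ j u)
  haveI : Module.Finite k M := by
    rw [Module.finite_def, htop]
    exact Submodule.fg_finset_sup _ _ (fun n _ => Module.Finite.iff_fg.mp (hfin n))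
  haveI : IsArtinian k M := inferInstance
  exact isArtinian_of_tower k ‹IsArtinian k M›

end Art

section Piece

variable {k : Type u} [Field k] {M N : Type u} [AddCommGroup M] [Module k M]
  [AddCommGroup N] [Module k N] {τ τ' : Type u} [SetLike τ M] [SetLike τ' N]
  (ℳ : ℤ → τ) (𝒩 : ℤ → τ')

lemma tmul_mem_segrePiece {n : ℤ} {a : M} {b : N} (ha : a ∈ ℳ n) (hb : b ∈ 𝒩 n) :
    a ⊗ₜ[k] b ∈ segrePiece k ℳ 𝒩 n :=
  Submodule.subset_span ⟨a, ha, b, hb, rfl⟩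

end Piece

section Ring

variable {k : Type u} [Field k] {R : Type u} [CommRing R] [Algebra k R]
  {𝒜 : ℤ → Submodule k R} [GradedAlgebra 𝒜]
  {S : Type u} [CommRing S] [Algebra k S] {ℬ : ℤ → Submodule k S} [GradedAlgebra ℬ]
  {T : Type u} [CommRing T] [Algebra k T] {𝒯 : ℤ → Submodule k T} [GradedAlgebra 𝒯]
  {ψ : T →ₐ[k] R ⊗[k] S}

lemma segRing_mem_of_map (hT : IsSegreRing 𝒜 ℬ 𝒯 ψ) {n : ℤ} {t : T}
    (ht : ψ t ∈ segrePiece k 𝒜 ℬ n) : t ∈ 𝒯 n := by
  rw [← hT.2 n] at ht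
  obtain ⟨t', ht', h⟩ := ht
  have : t' = t := hT.1 h
  exact this ▸ ht'

lemma segRing_map_mem (hT : IsSegreRing 𝒜 ℬ 𝒯 ψ) {n : ℤ} {t : T} (ht : t ∈ 𝒯 n) :
    ψ t ∈ segrePiece k 𝒜 ℬ n := by
  rw [← hT.2 n]
  exact ⟨t, ht, rfl⟩

lemma segRing_exists_of_mem (hT : IsSegreRing 𝒜 ℬ 𝒯 ψ) {n : ℤ} {w : R ⊗[k] S}
    (hw : w ∈ segrePiece k 𝒜 ℬ n) : ∃ t ∈ 𝒯 n, ψ t = w := by
  rw [← hT.2 n] at hw
  obtain ⟨t, ht, h⟩ := hw
  exact ⟨t, ht, h⟩

lemma segRing_neg (hT : IsSegreRing 𝒜 ℬ 𝒯 ψ) (hneg : ∀ n : ℤ, n < 0 → 𝒜 n = ⊥) (n : ℤ)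
    (hn : n < 0) : 𝒯 n = ⊥ := by
  rw [eq_bot_iff]
  intro t ht
  have h1 := (segRing_map_mem hT) ht
  have h2 : segrePiece k 𝒜 ℬ n = ⊥ := by
    unfold segrePiece
    rw [Submodule.span_eq_bot]
    rintro _ ⟨a, ha, b, -, rfl⟩
    rw [hneg n hn] at ha
    rw [(Submodule.mem_bot k).mp ha, TensorProduct.zero_tmul]
  rw [h2, Submodule.mem_bot] at h1
  rw [Submodule.mem_bot]
  exact hT.1 (by rw [map_zero]; exact h1)

lemma segRing_zero (hT : IsSegreRing 𝒜 ℬ 𝒯 ψ) (h0R : 𝒜 0 = Submodule.span k {(1 : R)})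
    (h0S : ℬ 0 = Submodule.span k {(1 : S)}) : 𝒯 0 = Submodule.span k {(1 : T)} := by
  apply le_antisymm
  · intro t ht
    have h1 := (segRing_map_mem hT) ht
    have h2 : segrePiece k 𝒜 ℬ 0 ≤ Submodule.span k {(1 : R ⊗[k] S)} := by
      unfold segrePiece
      rw [Submodule.span_le]
      rintro _ ⟨a, ha, b, hb, rfl⟩
      rw [h0R] at ha
      rw [h0S] at hb
      obtain ⟨α, rfl⟩ := Submodule.mem_span_singleton.mp ha
      obtain ⟨β, rfl⟩ := Submodule.mem_span_singleton.mp hb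
      rw [TensorProduct.smul_tmul_smul, ← Algebra.TensorProduct.one_def]
      exact Submodule.smul_mem _ _ (Submodule.mem_span_singleton_self _)
    obtain ⟨c, hc⟩ := Submodule.mem_span_singleton.mp (h2 h1)
    have : t = c • (1 : T) := hT.1 (by rw [map_smul, map_one, hc])
    rw [this]
    exact Submodule.smul_mem _ _ (Submodule.mem_span_singleton_self _)
  · rw [Submodule.span_le, Set.singleton_subset_iff]
    exact SetLike.GradedOne.one_mem

/-- the generators of the Segre product. -/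
theorem segRing_exists_isStd (hT : IsSegreRing 𝒜 ℬ 𝒯 ψ) {m m' : ℕ} {x : Fin m → R}
    {y : Fin m' → S} (hx : IsStd 𝒜 x) (hy : IsStd ℬ y) :
    ∃ z : Fin (m * m') → T, IsStd 𝒯 z ∧
      ∀ l, ψ (z l) = x (finProdFinEquiv.symm l).1 ⊗ₜ[k] y (finProdFinEquiv.symm l).2 := by
  classical
  have hex : ∀ l : Fin (m * m'), ∃ t ∈ 𝒯 1,
      ψ t = x (finProdFinEquiv.symm l).1 ⊗ₜ[k] y (finProdFinEquiv.symm l).2 := fun l =>
    (segRing_exists_of_mem hT) (tmul_mem_segrePiece 𝒜 ℬ (hx.mem _) (hy.mem _))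
  choose z hz1 hz2 using hex
  refine ⟨z, ⟨(segRing_neg hT) hx.neg, (segRing_zero hT) hx.zero hy.zero, hz1, ?_⟩, hz2⟩
  intro n hn t ht
  have key : ∀ w ∈ segrePiece k 𝒜 ℬ (n + 1), ∃ g : Fin (m * m') → T,
      (∀ l, g l ∈ 𝒯 n) ∧ w = ∑ l, ψ (z l) * ψ (g l) := by
    intro w hw
    induction hw using Submodule.span_induction with
    | mem w hw =>
      obtain ⟨a, ha, b, hb, rfl⟩ := hw
      obtain ⟨ga, hga, rfl⟩ := hx.succ n hn a ha
      obtain ⟨gb, hgb, rfl⟩ := hy.succ n hn b hb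
      have hex2 : ∀ l : Fin (m * m'), ∃ t ∈ 𝒯 n,
          ψ t = ga (finProdFinEquiv.symm l).1 ⊗ₜ[k] gb (finProdFinEquiv.symm l).2 := fun l =>
        (segRing_exists_of_mem hT) (tmul_mem_segrePiece 𝒜 ℬ (hga _) (hgb _))
      choose g hg1 hg2 using hex2
      refine ⟨g, hg1, ?_⟩
      rw [TensorProduct.sum_tmul]
      simp only [TensorProduct.tmul_sum]
      rw [← Finset.sum_product', Finset.univ_product_univ]
      rw [← Equiv.sum_comp finProdFinEquiv.symm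
        (fun p : Fin m × Fin m' => (x p.1 * ga p.1) ⊗ₜ[k] (y p.2 * gb p.2))]
      apply Finset.sum_congr rfl
      intro l _
      rw [hz2, hg2, Algebra.TensorProduct.tmul_mul_tmul]
    | zero => exact ⟨0, fun l => Submodule.zero_mem _, by simp⟩
    | add w w' _ _ hw hw' =>
      obtain ⟨g, hg, rfl⟩ := hw
      obtain ⟨g', hg', rfl⟩ := hw'
      refine ⟨g + g', fun l => Submodule.add_mem _ (hg l) (hg' l), ?_⟩
      simp [mul_add, Finset.sum_add_distrib]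
    | smul c w _ hw =>
      obtain ⟨g, hg, rfl⟩ := hw
      refine ⟨c • g, fun l => Submodule.smul_mem _ _ (hg l), ?_⟩
      simp [Finset.smul_sum]
  obtain ⟨g, hg, hgw⟩ := key (ψ t) ((segRing_map_mem hT) ht)
  refine ⟨g, hg, hT.1 ?_⟩
  rw [hgw, map_sum]
  simp

end Ring

end Groth.Agent.Lib.Helper90.Seg
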