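import Mathlib
import Groth.Prelude.Def_GrSeg
import Groth.Agent.Lib.Helper90.SegF

/-!
# The Segre product of graded modules: grading, Hilbert function, finite generation
-/

namespace Groth.Agent.Lib.Helper90.Seg

universe u

open DirectSum Module TensorProduct GrSeg

section Mod

variable {k : Type u} [Field k] {R : Type u} [CommRing R] [Algebra k R]
  {𝒜 : ℤ → Submodule k R} [GradedAlgebra 𝒜]
  {S : Type u} [CommRing S] [Algebra k S] {ℬ : ℤ → Submodule k S} [GradedAlgebra ℬ]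
  {T : Type u} [CommRing T] [Algebra k T] {𝒯 : ℤ → Submodule k T} [GradedAlgebra 𝒯]
  {ψ : T →ₐ[k] R ⊗[k] S}
  {M : Type u} [AddCommGroup M] [Module R M] [Module k M] [IsScalarTower k R M]
  {ℳ : ℤ → AddSubgroup M} [DirectSum.Decomposition ℳ] [SetLike.GradedSMul 𝒜 ℳ]
  {N : Type u} [AddCommGroup N] [Module S N] [Module k N] [IsScalarTower k S N]
  {𝒩 : ℤ → AddSubgroup N} [DirectSum.Decomposition 𝒩] [SetLike.GradedSMul ℬ 𝒩]
  {P : Type u} [AddCommGroup P] [Module T P] [Module k P] [IsScalarTower k T P]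
  {𝒬 : ℤ → AddSubgroup P} [DirectSum.Decomposition 𝒬]
  {φ : P →ₗ[k] M ⊗[k] N}

/-- the action of a Segre piece of the ring on a Segre piece of the module. -/
lemma act_mem {i j : ℤ} {w : R ⊗[k] S} (hw : w ∈ segrePiece k 𝒜 ℬ i) {v : M ⊗[k] N}
    (hv : v ∈ segrePiece k ℳ 𝒩 j) : act k R S M N w v ∈ segrePiece k ℳ 𝒩 (i + j) := by
  induction hw using Submodule.span_induction with
  | mem w hw =>
    obtain ⟨a, ha, b, hb, rfl⟩ := hw
    induction hv using Submodule.span_induction with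
    | mem v hv =>
      obtain ⟨x, hx, y, hy, rfl⟩ := hv
      rw [act_tmul]
      exact tmul_mem_segrePiece ℳ 𝒩 (smul_mem_piece 𝒜 ℳ ha hx) (smul_mem_piece ℬ 𝒩 hb hy)
    | zero => rw [map_zero]; exact Submodule.zero_mem _
    | add v v' _ _ hv hv' => rw [map_add]; exact Submodule.add_mem _ hv hv'
    | smul c v _ hv => rw [map_smul]; exact Submodule.smul_mem _ _ hv
  | zero => rw [map_zero, LinearMap.zero_apply]; exact Submodule.zero_mem _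
  | add w w' _ _ hw hw' => rw [map_add, LinearMap.add_apply]; exact Submodule.add_mem _ hw hw'
  | smul c w _ hw => rw [map_smul, LinearMap.smul_apply]; exact Submodule.smul_mem _ _ hw

omit [DirectSum.Decomposition ℳ] [SetLike.GradedSMul 𝒜 ℳ] [DirectSum.Decomposition 𝒩]
  [SetLike.GradedSMul ℬ 𝒩] [GradedAlgebra 𝒜] [GradedAlgebra ℬ] [GradedAlgebra 𝒯] in
lemma segMod_mem_of_map (hP : IsSegreMod ψ ℳ 𝒩 𝒬 φ) {n : ℤ} {q : P}
    (hq : φ q ∈ segrePiece k ℳ 𝒩 n) : q ∈ 𝒬 n := by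
  have h1 : φ q ∈ φ '' (𝒬 n : Set P) := by
    rw [hP.image_piece n]
    exact hq
  obtain ⟨q', hq', h⟩ := h1
  have : q' = q := hP.injective h
  exact this ▸ hq'

omit [DirectSum.Decomposition ℳ] [SetLike.GradedSMul 𝒜 ℳ] [DirectSum.Decomposition 𝒩]
  [SetLike.GradedSMul ℬ 𝒩] [GradedAlgebra 𝒜] [GradedAlgebra ℬ] [GradedAlgebra 𝒯] in
lemma segMod_map_mem (hP : IsSegreMod ψ ℳ 𝒩 𝒬 φ) {n : ℤ} {q : P} (hq : q ∈ 𝒬 n) :
    φ q ∈ segrePiece k ℳ 𝒩 n := by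
  have h1 : φ q ∈ φ '' (𝒬 n : Set P) := ⟨q, hq, rfl⟩
  rw [hP.image_piece n] at h1
  exact h1

omit [DirectSum.Decomposition ℳ] [SetLike.GradedSMul 𝒜 ℳ] [DirectSum.Decomposition 𝒩]
  [SetLike.GradedSMul ℬ 𝒩] [GradedAlgebra 𝒜] [GradedAlgebra ℬ] [GradedAlgebra 𝒯] in
lemma segMod_exists_of_mem (hP : IsSegreMod ψ ℳ 𝒩 𝒬 φ) {n : ℤ} {v : M ⊗[k] N}
    (hv : v ∈ segrePiece k ℳ 𝒩 n) : ∃ q ∈ 𝒬 n, φ q = v := by
  have h1 : v ∈ φ '' (𝒬 n : Set P) := by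
    rw [hP.image_piece n]
    exact hv
  obtain ⟨q, hq, h⟩ := h1
  exact ⟨q, hq, h⟩

/-- the Segre product of graded modules is a graded module over the Segre product. -/
lemma segMod_gradedSMul (hT : IsSegreRing 𝒜 ℬ 𝒯 ψ) (hP : IsSegreMod ψ ℳ 𝒩 𝒬 φ) :
    SetLike.GradedSMul 𝒯 𝒬 := by
  refine ⟨fun {i j t p} ht hp => ?_⟩
  rw [vadd_eq_add]
  apply segMod_mem_of_map hP
  rw [hP.map_smul]
  exact act_mem (segRing_map_mem hT ht) (segMod_map_mem hP hp)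

/-- the Segre piece is the image of the tensor product of the pieces. -/
lemma segrePiece_eq_range (n : ℤ) :
    segrePiece k ℳ 𝒩 n = LinearMap.range (TensorProduct.mapIncl (pc 𝒜 ℳ n) (pc ℬ 𝒩 n)) := by
  apply le_antisymm
  · unfold segrePiece
    rw [Submodule.span_le]
    rintro _ ⟨a, ha, b, hb, rfl⟩
    exact ⟨(⟨a, ha⟩ : pc 𝒜 ℳ n) ⊗ₜ[k] (⟨b, hb⟩ : pc ℬ 𝒩 n), rfl⟩
  · rintro _ ⟨z, rfl⟩
    induction z using TensorProduct.induction_on with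
    | zero => rw [map_zero]; exact Submodule.zero_mem _
    | tmul a b => exact tmul_mem_segrePiece ℳ 𝒩 a.2 b.2
    | add z z' hz hz' => rw [map_add]; exact Submodule.add_mem _ hz hz'

variable [SetLike.GradedSMul 𝒯 𝒬]

omit [GradedAlgebra 𝒜] [GradedAlgebra ℬ] [DirectSum.Decomposition ℳ] [SetLike.GradedSMul 𝒜 ℳ]
  [DirectSum.Decomposition 𝒩] [SetLike.GradedSMul ℬ 𝒩] in
lemma map_pc_eq (hP : IsSegreMod ψ ℳ 𝒩 𝒬 φ) (n : ℤ) :
    (pc 𝒯 𝒬 n).map φ = segrePiece k ℳ 𝒩 n := by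
  apply SetLike.coe_injective
  rw [Submodule.map_coe]
  exact hP.image_piece n

/-- the pieces of the Segre product are tensor products of the pieces. -/
noncomputable def pcEquiv (hP : IsSegreMod ψ ℳ 𝒩 𝒬 φ) (n : ℤ) :
    (↥(pc 𝒜 ℳ n) ⊗[k] ↥(pc ℬ 𝒩 n)) ≃ₗ[k] ↥(pc 𝒯 𝒬 n) :=
  (LinearEquiv.ofInjective (TensorProduct.mapIncl (pc 𝒜 ℳ n) (pc ℬ 𝒩 n))
    (Module.Flat.tensorProduct_mapIncl_injective_of_right _ _)).trans
    ((LinearEquiv.ofEq _ _ ((segrePiece_eq_range (𝒜 := 𝒜) (ℬ := ℬ) n).symm.trans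
      (map_pc_eq hP n).symm)).trans
      (Submodule.equivMapOfInjective φ hP.injective (pc 𝒯 𝒬 n)).symm)

lemma finite_pc_segre (hP : IsSegreMod ψ ℳ 𝒩 𝒬 φ) (n : ℤ)
    [Module.Finite k (pc 𝒜 ℳ n)] [Module.Finite k (pc ℬ 𝒩 n)] :
    Module.Finite k (pc 𝒯 𝒬 n) :=
  Module.Finite.equiv (pcEquiv (𝒜 := 𝒜) (ℬ := ℬ) hP n)

/-- the Hilbert function of a Segre product is the product of the Hilbert functions. -/
theorem finrank_pc_segre (hP : IsSegreMod ψ ℳ 𝒩 𝒬 φ) (n : ℤ) :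
    finrank k (pc 𝒯 𝒬 n) = finrank k (pc 𝒜 ℳ n) * finrank k (pc ℬ 𝒩 n) := by
  rw [← (pcEquiv (𝒜 := 𝒜) (ℬ := ℬ) hP n).finrank_eq, Module.finrank_tensorProduct]

end Mod

end Groth.Agent.Lib.Helper90.Seg
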