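import Groth.Agent.Lib.Helper8.GrHeight
import Groth.Agent.Lib.Helper56.SkLift
import Groth.Agent.Lib.Helper80.SnOpen
import Groth.Agent.Lib.Helper92.LocCohDepth
import Groth.Agent.Lib.Helper52.GrDimMain

/-!
# Vanishing of local cohomology below the dimension for graded Cohen–Macaulay modules
-/

set_option autoImplicit false
universe u

open GrLC LocCoh

namespace Groth.Agent.Lib.Helper90.SegCM5

section

variable {A : Type u} [CommRing A] [IsNoetherianRing A] (𝒜 : ℤ → AddSubgroup A) [GradedRing 𝒜]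

/-- the height of `P / P*` in `A / P*` is at most one. -/
theorem height_map_core_le_one (P : Ideal A) [hP : P.IsPrime] :
    (P.map (Ideal.Quotient.mk (P.homogeneousCore 𝒜).toIdeal)).height ≤ 1 := by
  have hQprime : (P.homogeneousCore 𝒜).toIdeal.IsPrime := hP.homogeneousCore
  have hQP : (P.homogeneousCore 𝒜).toIdeal ≤ P := Ideal.toIdeal_homogeneousCore_le 𝒜 P
  have hpr : (P.map (Ideal.Quotient.mk (P.homogeneousCore 𝒜).toIdeal)).IsPrime :=
    Ideal.map_isPrime_of_surjective Ideal.Quotient.mk_surjective (by rw [Ideal.mk_ker]; exact hQP)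
  have hc : (P.map (Ideal.Quotient.mk (P.homogeneousCore 𝒜).toIdeal)).comap
      (Ideal.Quotient.mk (P.homogeneousCore 𝒜).toIdeal) = P := by
    rw [Ideal.comap_map_of_surjective _ Ideal.Quotient.mk_surjective, ← RingHom.ker_eq_comap_bot,
      Ideal.mk_ker, sup_eq_left.mpr hQP]
  rw [show (1 : ℕ∞) = ((1 : ℕ) : ℕ∞) from rfl, Ideal.height_le_iff]
  intro q' hq' hlt
  have hq : (q'.comap (Ideal.Quotient.mk (P.homogeneousCore 𝒜).toIdeal)).IsPrime :=
    Ideal.comap_isPrime _ _
  have h1 : (P.homogeneousCore 𝒜).toIdeal ≤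
      q'.comap (Ideal.Quotient.mk (P.homogeneousCore 𝒜).toIdeal) := by
    intro a ha
    rw [Ideal.mem_comap, Ideal.Quotient.eq_zero_iff_mem.mpr ha]
    exact q'.zero_mem
  have h2 : q'.comap (Ideal.Quotient.mk (P.homogeneousCore 𝒜).toIdeal) ≤ P := by
    intro a ha
    rw [← hc]
    exact hlt.le ha
  have h3 : q'.comap (Ideal.Quotient.mk (P.homogeneousCore 𝒜).toIdeal) ≤
      (P.homogeneousCore 𝒜).toIdeal := by
    by_contra hnot
    have h4 := Groth.Agent.Lib.Helper8.GrHeight.le_of_between 𝒜 P
      (q'.comap (Ideal.Quotient.mk (P.homogeneousCore 𝒜).toIdeal)) h1 h2 hnot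
    have h5 : P.map (Ideal.Quotient.mk (P.homogeneousCore 𝒜).toIdeal) ≤ q' :=
      Ideal.map_le_iff_le_comap.mpr h4
    exact absurd hlt (not_lt_of_ge h5)
  have hbot : q' = ⊥ := by
    rw [eq_bot_iff]
    intro x hx
    obtain ⟨a, rfl⟩ := Ideal.Quotient.mk_surjective x
    have : a ∈ (P.homogeneousCore 𝒜).toIdeal := h3 hx
    rw [Ideal.mem_bot, Ideal.Quotient.eq_zero_iff_mem]
    exact this
  rw [hbot]
  haveI : IsDomain (A ⧸ (P.homogeneousCore 𝒜).toIdeal) := Ideal.Quotient.isDomain _
  rw [Ideal.height_bot]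
  exact_mod_cast zero_lt_one

variable {X : Type u} [AddCommGroup X] [Module A X] [Module.Finite A X]
  (𝒳 : ℤ → AddSubgroup X) [DirectSum.Decomposition 𝒳] [SetLike.GradedSMul 𝒜 𝒳]

include 𝒳 in
/-- `dim X_P ≤ dim X_m` for every prime of the support of a graded module over a *local ring with
maximal *maximal ideal. -/
theorem supportDim_localization_le (m : HomogeneousIdeal 𝒜) (hm : GrLC.IsStarLocal 𝒜 m)
    [hmax : m.toIdeal.IsMaximal] (P : Ideal A) [hP : P.IsPrime]
    (hPX : (⟨P, hP⟩ : PrimeSpectrum A) ∈ Module.support A X) :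
    Module.supportDim (Localization.AtPrime P) (LocalizedModule P.primeCompl X) ≤
      Module.supportDim (Localization.AtPrime m.toIdeal)
        (LocalizedModule m.toIdeal.primeCompl X) := by
  by_cases hPm : P ≤ m.toIdeal
  · exact Groth.Agent.Lib.Helper80.SnOpen.supportDim_localizedModule_mono X P m.toIdeal hPm
  haveI hQ : (P.homogeneousCore 𝒜).toIdeal.IsPrime := hP.homogeneousCore
  have hQP : (P.homogeneousCore 𝒜).toIdeal ≤ P := Ideal.toIdeal_homogeneousCore_le 𝒜 P
  have hQm : (P.homogeneousCore 𝒜).toIdeal ≤ m.toIdeal :=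
    _root_.toIdeal_le_toIdeal_iff.mpr
      (Groth.Agent.Lib.Helper8.GrHeight.le_of_isStarLocal 𝒜 m hm (P.homogeneousCore 𝒜) hQ.ne_top)
  have hQne : (P.homogeneousCore 𝒜).toIdeal ≠ m.toIdeal := by
    intro h
    apply hPm
    have : m.toIdeal ≤ P := h ▸ hQP
    exact (hmax.eq_of_le hP.ne_top this).symm ▸ le_rfl
  have hlt : (P.homogeneousCore 𝒜).toIdeal < m.toIdeal := lt_of_le_of_ne hQm hQne
  have hle1 := height_map_core_le_one 𝒜 P
  obtain ⟨d, hd⟩ : ∃ d : ℕ, (P.map (Ideal.Quotient.mk (P.homogeneousCore 𝒜).toIdeal)).height = d := by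
    obtain ⟨d, hd⟩ := ENat.ne_top_iff_exists.mp (ne_top_of_le_ne_top ENat.one_ne_top hle1)
    exact ⟨d, hd.symm⟩
  have hd1 : d ≤ 1 := by
    rw [hd] at hle1
    exact_mod_cast hle1
  have h2 := Groth.Agent.Lib.Helper52.GrDimMain.supportDim_localization_eq_add_height_core 𝒜 𝒳 P d hd
  have hntP : Nontrivial (LocalizedModule P.primeCompl X) := Module.mem_support_iff.mp hPX
  have hntQ : Nontrivial (LocalizedModule (P.homogeneousCore 𝒜).toIdeal.primeCompl X) := by
    rw [← Module.supportDim_ne_bot_iff_nontrivial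
      (Localization.AtPrime (P.homogeneousCore 𝒜).toIdeal)]
    intro hbot
    rw [hbot, WithBot.bot_add] at h2
    exact (Module.supportDim_ne_bot_iff_nontrivial (Localization.AtPrime P) _).mpr hntP h2
  have hQX : (⟨(P.homogeneousCore 𝒜).toIdeal, hQ⟩ : PrimeSpectrum A) ∈ Module.support A X :=
    Module.mem_support_iff.mpr hntQ
  have h3 := Groth.Agent.Lib.Helper56.supportDim_localization_add_one_le X
    (P.homogeneousCore 𝒜).toIdeal m.toIdeal hlt hQX
  rw [h2]
  refine le_trans ?_ h3
  exact add_le_add le_rfl (by exact_mod_cast hd1)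

include 𝒳 in
/-- **(B)**: a graded module over a *local ring (with maximal *maximal ideal) which is
Cohen–Macaulay at every prime has vanishing local cohomology below its dimension. -/
theorem H_vanish_of_cm_aux (m : HomogeneousIdeal 𝒜) (hm : GrLC.IsStarLocal 𝒜 m)
    [hmax : m.toIdeal.IsMaximal] (d : ℕ) (hd : Module.supportDim A X = d)
    (hcm : ∀ (q : Ideal A) [q.IsPrime], Subsingleton (LocalizedModule q.primeCompl X) ∨
      LocCoh.IsCohenMacaulayModule (Localization.AtPrime q) (LocalizedModule q.primeCompl X))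
    (i : ℕ) (hi : i < d) : Subsingleton (LocCoh.H m.toIdeal i X) := by
  have hle : Module.supportDim A X ≤ Module.supportDim (Localization.AtPrime m.toIdeal)
      (LocalizedModule m.toIdeal.primeCompl X) := by
    unfold Module.supportDim
    rw [Order.krullDim_eq_iSup_height]
    apply iSup_le
    intro P
    have h1 := Groth.Agent.Lib.Helper56.supportDim_localization_eq_height X P
    have h2 := supportDim_localization_le 𝒜 𝒳 m hm P.1.asIdeal P.2
    unfold Module.supportDim at h1 h2
    rw [← h1]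
    exact h2
  have hntm : Nontrivial (LocalizedModule m.toIdeal.primeCompl X) := by
    rw [← Module.supportDim_ne_bot_iff_nontrivial (Localization.AtPrime m.toIdeal)]
    intro hbot
    rw [hbot, hd, le_bot_iff] at hle
    exact WithBot.coe_ne_bot hle
  have hsuppm : (⟨m.toIdeal, hmax.isPrime⟩ : PrimeSpectrum A) ∈ Module.support A X :=
    Module.mem_support_iff.mpr hntm
  have hcmm : LocCoh.IsCohenMacaulayModule (Localization.AtPrime m.toIdeal)
      (LocalizedModule m.toIdeal.primeCompl X) := by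
    rcases hcm m.toIdeal with h | h
    · exact absurd h (not_subsingleton _)
    · exact h
  have hcmm' : Module.supportDim (Localization.AtPrime m.toIdeal)
      (LocalizedModule m.toIdeal.primeCompl X) =
      ((depth (Localization.AtPrime m.toIdeal) (LocalizedModule m.toIdeal.primeCompl X) : ℕ∞) :
        WithBot ℕ∞) := hcmm
  have hdep : idealDepth m.toIdeal X =
      depth (Localization.AtPrime m.toIdeal) (LocalizedModule m.toIdeal.primeCompl X) := by
    apply le_antisymm
    · exact Groth.Agent.Lib.Helper67.idealDepth_le_depth_localization m.toIdeal X m.toIdeal le_rfl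
    · rw [Groth.Agent.Lib.Helper67.idealDepth_eq_iInf_depth_localization m.toIdeal X]
      refine le_iInf₂ fun p hp => ?_
      have key : ∀ (Q : Ideal A) [hQ : Q.IsPrime], m.toIdeal = Q →
          depth (Localization.AtPrime m.toIdeal) (LocalizedModule m.toIdeal.primeCompl X) ≤
            depth (Localization.AtPrime Q) (LocalizedModule Q.primeCompl X) := by
        intro Q hQ hQm
        subst hQm
        exact le_rfl
      exact key p.asIdeal (hmax.eq_of_le p.2.ne_top hp)
  have hdepth : (d : ℕ∞) ≤ idealDepth m.toIdeal X := by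
    rw [hdep]
    have h1 : ((d : ℕ∞) : WithBot ℕ∞) ≤
        ((depth (Localization.AtPrime m.toIdeal) (LocalizedModule m.toIdeal.primeCompl X) : ℕ∞) :
          WithBot ℕ∞) := by
      rw [← hcmm']
      have : ((d : ℕ∞) : WithBot ℕ∞) = Module.supportDim A X := by rw [hd]; rfl
      rw [this]
      exact hle
    exact_mod_cast h1
  have hIM : m.toIdeal • (⊤ : Submodule A X) ≠ ⊤ := by
    have hann : Module.annihilator A X ≤ m.toIdeal := Module.mem_support_iff_of_finite.mp hsuppm
    intro htop
    obtain ⟨r, hr1, hr2⟩ := Submodule.exists_sub_one_mem_and_smul_eq_zero_of_fg_of_le_smul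
      m.toIdeal (⊤ : Submodule A X) Module.Finite.fg_top (by rw [htop])
    have hrann : r ∈ Module.annihilator A X :=
      Module.mem_annihilator.mpr (fun x => hr2 x trivial)
    have h1 : (1 : A) ∈ m.toIdeal := by
      have h2 := hann hrann
      have h3 : (1 : A) = r - (r - 1) := by ring
      rw [h3]
      exact m.toIdeal.sub_mem h2 hr1
    exact hmax.ne_top ((Ideal.eq_top_iff_one _).mpr h1)
  exact Groth.Agent.Lib.Helper92.LC.subsingleton_of_lt_idealDepth m.toIdeal d X hIM hdepth i hi

end

/-- **(B)**, with the binder order requested by helper8. -/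
theorem H_vanish_of_cm {A : Type u} [CommRing A] [IsNoetherianRing A] (𝒜 : ℤ → AddSubgroup A)
    [GradedRing 𝒜] (m : HomogeneousIdeal 𝒜) (hm : GrLC.IsStarLocal 𝒜 m) [m.toIdeal.IsMaximal]
    {X : Type u} [AddCommGroup X] [Module A X] [Module.Finite A X] (𝒳 : ℤ → AddSubgroup X)
    [DirectSum.Decomposition 𝒳] [SetLike.GradedSMul 𝒜 𝒳] (d : ℕ)
    (hd : Module.supportDim A X = d)
    (hcm : ∀ (q : Ideal A) [q.IsPrime], Subsingleton (LocalizedModule q.primeCompl X) ∨
      LocCoh.IsCohenMacaulayModule (Localization.AtPrime q) (LocalizedModule q.primeCompl X))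
    (i : ℕ) (hi : i < d) : Subsingleton (LocCoh.H m.toIdeal i X) :=
  H_vanish_of_cm_aux 𝒜 𝒳 m hm d hd hcm i hi

end Groth.Agent.Lib.Helper90.SegCM5
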