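import Mathlib
import Groth.Agent.Lib.Helper90.SegA

/-!
# Annihilators in ℤ-graded modules are homogeneous
-/

namespace Groth.Agent.Lib.Helper90.Seg

universe u

open DirectSum

section Ann

variable {k : Type u} [Field k] {R : Type u} [CommRing R] [Algebra k R]
  (𝒜 : ℤ → Submodule k R) [GradedAlgebra 𝒜]
  {M : Type u} [AddCommGroup M] [Module R M] [Module k M] [IsScalarTower k R M]
  (ℳ : ℤ → AddSubgroup M) [DirectSum.Decomposition ℳ] [SetLike.GradedSMul 𝒜 ℳ]

/-- if `a` kills a homogeneous element, so does every component of `a`. -/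
lemma smul_comp_eq_zero {j : ℤ} {x : M} (hx : x ∈ ℳ j) {a : R} (ha : a • x = 0) (i : ℤ) :
    ((DirectSum.decompose 𝒜 a i : 𝒜 i) : R) • x = 0 := by
  have h := comp_smul_mem 𝒜 ℳ a hx (i + j)
  rw [ha, comp_zero, add_sub_cancel_right] at h
  exact h.symm

/-- the annihilator of an element, as the kernel of `a ↦ a • x`. -/
def annEl (x : M) : Ideal R := LinearMap.ker (LinearMap.toSpanSingleton R M x)

omit [Algebra k R] [Module k M] [Field k] in
lemma mem_annEl {x : M} {a : R} : a ∈ annEl (R := R) x ↔ a • x = 0 := by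
  unfold annEl
  rw [LinearMap.mem_ker, LinearMap.toSpanSingleton_apply]

omit [Algebra k R] [Module k M] [Field k] in
lemma annihilator_le_annEl (x : M) : Module.annihilator R M ≤ annEl (R := R) x := by
  intro a ha
  rw [mem_annEl]
  exact Module.mem_annihilator.mp ha x

lemma annEl_isHomogeneous {j : ℤ} {x : M} (hx : x ∈ ℳ j) :
    (annEl (R := R) x).IsHomogeneous 𝒜 := by
  intro i a ha
  rw [mem_annEl] at ha ⊢
  exact smul_comp_eq_zero 𝒜 ℳ hx ha i

include ℳ in
lemma annihilator_isHomogeneous : (Module.annihilator R M).IsHomogeneous 𝒜 := by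
  intro i a ha
  rw [Module.mem_annihilator] at ha ⊢
  intro m
  obtain ⟨s, hs⟩ := sum_comp ℳ m
  rw [hs, Finset.smul_sum]
  apply Finset.sum_eq_zero
  intro j _
  exact smul_comp_eq_zero 𝒜 ℳ (comp_mem ℳ j m) (ha _) i

end Ann

section Homog

variable {k : Type u} [Field k] {R : Type u} [CommRing R] [Algebra k R]
  (𝒜 : ℤ → Submodule k R) [GradedAlgebra 𝒜]

/-- Minimal primes over a homogeneous ideal are homogeneous. -/
theorem isHomogeneous_of_mem_minimalPrimes {I : Ideal R} (hI : I.IsHomogeneous 𝒜) {q : Ideal R}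
    (hq : q ∈ I.minimalPrimes) : q.IsHomogeneous 𝒜 := by
  have hqp : q.IsPrime := hq.1.1
  have hcp : (q.homogeneousCore 𝒜).toIdeal.IsPrime := hqp.homogeneousCore
  have hIc : I ≤ (q.homogeneousCore 𝒜).toIdeal := by
    have := Ideal.homogeneousCore_mono 𝒜 hq.1.2
    rw [← hI.toIdeal_homogeneousCore_eq_self]
    exact this
  have hle : (q.homogeneousCore 𝒜).toIdeal ≤ q := Ideal.toIdeal_homogeneousCore_le 𝒜 q
  have : q ≤ (q.homogeneousCore 𝒜).toIdeal := hq.2 ⟨hcp, hIc⟩ hle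
  have e : (q.homogeneousCore 𝒜).toIdeal = q := le_antisymm hle this
  rw [← e]
  exact (q.homogeneousCore 𝒜).isHomogeneous

/-- the degree-zero component of an element of a proper homogeneous ideal vanishes. -/
lemma decompose_zero_eq_zero (h0R : 𝒜 0 = Submodule.span k {(1 : R)}) {I : Ideal R}
    (hI : I.IsHomogeneous 𝒜) (hne : I ≠ ⊤) {a : R} (ha : a ∈ I) :
    ((DirectSum.decompose 𝒜 a 0 : 𝒜 0) : R) = 0 := by
  have h1 : ((DirectSum.decompose 𝒜 a 0 : 𝒜 0) : R) ∈ I := hI 0 ha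
  have h2 : ((DirectSum.decompose 𝒜 a 0 : 𝒜 0) : R) ∈ Submodule.span k {(1 : R)} :=
    h0R ▸ (DirectSum.decompose 𝒜 a 0).2
  rw [Submodule.mem_span_singleton] at h2
  obtain ⟨c, hc⟩ := h2
  by_contra hne0
  have hc0 : c ≠ 0 := by
    rintro rfl
    rw [zero_smul] at hc
    exact hne0 hc.symm
  apply hne
  rw [Ideal.eq_top_iff_one]
  have : (1 : R) = (c⁻¹ • (1 : R)) * ((DirectSum.decompose 𝒜 a 0 : 𝒜 0) : R) := by
    rw [← hc, smul_mul_smul_comm, inv_mul_cancel₀ hc0, one_smul, one_mul]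
  rw [this]
  exact I.mul_mem_left _ h1

/-- two proper homogeneous ideals span a proper ideal. -/
lemma sup_ne_top_of_isHomogeneous (h0R : 𝒜 0 = Submodule.span k {(1 : R)}) {I J : Ideal R}
    (hI : I.IsHomogeneous 𝒜) (hJ : J.IsHomogeneous 𝒜) (hIne : I ≠ ⊤) (hJne : J ≠ ⊤) :
    I ⊔ J ≠ ⊤ := by
  intro htop
  have h1 : (1 : R) ∈ I ⊔ J := by rw [htop]; trivial
  obtain ⟨a, ha, b, hb, hab⟩ := Submodule.mem_sup.mp h1
  have ha0 := decompose_zero_eq_zero 𝒜 h0R hI hIne ha
  have hb0 := decompose_zero_eq_zero 𝒜 h0R hJ hJne hb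
  have h3 : ((DirectSum.decompose 𝒜 (a + b) 0 : 𝒜 0) : R) = 1 := by
    rw [hab]
    exact DirectSum.decompose_of_mem_same 𝒜 SetLike.GradedOne.one_mem
  rw [DirectSum.decompose_add, DirectSum.add_apply, Submodule.coe_add, ha0, hb0,
    add_zero] at h3
  apply hIne
  rw [Ideal.eq_top_iff_one, ← h3]
  exact I.zero_mem

end Homog

end Groth.Agent.Lib.Helper90.Seg
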