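import Mathlib
import Groth.Agent.Lib.Helper67.CM
import Groth.Agent.Lib.Helper67.SuppLoc
import Groth.Agent.Lib.Helper56.DepthAss
import Groth.Agent.Lib.Helper73.DimFT.Catenary
import Groth.Agent.Lib.Helper90.GradedLocal6
import Groth.Agent.Lib.Helper90.DimQuot
import Groth.Agent.Lib.Helper90.SegCM1

/-!
# Graded Cohen–Macaulay modules over graded algebras over a field are unmixed
-/

namespace Groth.Agent.Lib.Helper90.Seg

universe u

open LocCoh

section Dim

variable (k : Type u) [Field k] {R : Type u} [CommRing R] [Algebra k R] [Algebra.FiniteType k R]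

include k in
/-- for a prime `q` below a maximal ideal `p` of a finite type algebra over a field,
`dim R_p / q R_p = dim R / q`. -/
theorem ringKrullDim_localization_quotient_eq (p q : Ideal R) [hp : p.IsMaximal] [hq : q.IsPrime]
    (hqp : q ≤ p) :
    ringKrullDim (Localization.AtPrime p ⧸ q.map (algebraMap R (Localization.AtPrime p))) =
      ringKrullDim (R ⧸ q) := by
  apply le_antisymm
  · apply GradedLocal.ringKrullDim_le_of_units
      (Ideal.quotientMap (q.map (algebraMap R (Localization.AtPrime p)))
        (algebraMap R (Localization.AtPrime p)) Ideal.le_comap_map)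
    intro b
    obtain ⟨b, rfl⟩ := Ideal.Quotient.mk_surjective b
    obtain ⟨a, s, rfl⟩ := IsLocalization.exists_mk'_eq p.primeCompl b
    refine ⟨Ideal.Quotient.mk _ (algebraMap R (Localization.AtPrime p) s),
      (IsLocalization.map_units (Localization.AtPrime p) s).map _, Ideal.Quotient.mk q a, ?_⟩
    rw [Ideal.quotientMap_mk, ← map_mul, mul_comm, IsLocalization.mk'_spec]
  · have hcomap : p = (p.map (Ideal.Quotient.mk q)).comap (Ideal.Quotient.mk q) := by
      rw [Ideal.comap_map_of_surjective _ Ideal.Quotient.mk_surjective, ← RingHom.ker_eq_comap_bot,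
        Ideal.mk_ker, sup_eq_left.mpr hqp]
    have hmax : (p.map (Ideal.Quotient.mk q)).IsMaximal := by
      rcases Ideal.map_eq_top_or_isMaximal_of_surjective (Ideal.Quotient.mk q)
        Ideal.Quotient.mk_surjective hp with h | h
      · exfalso
        rw [h, Ideal.comap_top] at hcomap
        exact hp.ne_top hcomap
      · exact h
    calc ringKrullDim (R ⧸ q)
        = ((p.map (Ideal.Quotient.mk q)).height : WithBot ℕ∞) :=
          (Groth.Agent.Lib.Helper73.height_eq_ringKrullDim_of_isMaximal k _).symm
      _ = ringKrullDim (Localization.AtPrime (p.map (Ideal.Quotient.mk q))) :=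
          (IsLocalization.AtPrime.ringKrullDim_eq_height
            (p.map (Ideal.Quotient.mk q))
            (Localization.AtPrime (p.map (Ideal.Quotient.mk q)))).symm
      _ ≤ _ := GradedLocal.ringKrullDim_localization_quotient_le p q q hqp le_rfl

end Dim

section CM

variable {R : Type u} [CommRing R] [IsNoetherianRing R]
  {M : Type u} [AddCommGroup M] [Module R M] [Module.Finite R M]

/-- associated primes of a (locally) Cohen–Macaulay module are minimal in the support. -/
theorem mem_minimalPrimes_of_mem_associatedPrimes
    (hMcm : ∀ (q : Ideal R) [q.IsPrime], Subsingleton (LocalizedModule q.primeCompl M) ∨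
      IsCohenMacaulayModule (Localization.AtPrime q) (LocalizedModule q.primeCompl M))
    {q : Ideal R} (hq : q ∈ associatedPrimes R M) :
    q ∈ (Module.annihilator R M).minimalPrimes := by
  have : q.IsPrime := IsAssociatedPrime.isPrime hq
  have hann : Module.annihilator R M ≤ q :=
    Groth.Agent.Lib.Helper67.annihilator_le_of_mem_associatedPrimes hq
  have hd := Groth.Agent.Lib.Helper56.depth_localizedModule_eq_zero_of_mem_associatedPrimes hq
  apply Groth.Agent.Lib.Helper67.mem_minimalPrimes_of_supportDim_localization_le_zero M q hann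
  rcases hMcm q with h | h
  · rw [Module.supportDim_eq_bot_of_subsingleton]
    exact bot_le
  · have h' : Module.supportDim (Localization.AtPrime q) (LocalizedModule q.primeCompl M) =
        ((depth (Localization.AtPrime q) (LocalizedModule q.primeCompl M) : ℕ∞) : WithBot ℕ∞) := h
    rw [h', hd]
    exact le_rfl

end CM

section Loc

variable (k : Type u) [Field k] {R : Type u} [CommRing R] [Algebra k R] [Algebra.FiniteType k R]
  {M : Type u} [AddCommGroup M] [Module R M] [Module.Finite R M]

include k in
/-- `dim R/q = dim M_p` for an associated prime `q` below a maximal ideal `p` at which `M` is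
Cohen–Macaulay. -/
theorem ringKrullDim_quotient_eq_supportDim_localization (p : Ideal R) [hp : p.IsMaximal]
    {q : Ideal R} (hq : q ∈ associatedPrimes R M) (hqp : q ≤ p)
    (hcm : IsCohenMacaulayModule (Localization.AtPrime p) (LocalizedModule p.primeCompl M)) :
    ringKrullDim (R ⧸ q) =
      Module.supportDim (Localization.AtPrime p) (LocalizedModule p.primeCompl M) := by
  have : IsNoetherianRing R := Algebra.FiniteType.isNoetherianRing k R
  have hqp' : q.IsPrime := IsAssociatedPrime.isPrime hq
  rw [← ringKrullDim_localization_quotient_eq k p q hqp]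
  apply Groth.Agent.Lib.Helper67.ringKrullDim_quotient_eq_supportDim_of_CM _ hcm
  apply Module.associatedPrimes.mem_associatedPrimes_of_comap_mem_associatedPrimes_of_isLocalizedModule
    p.primeCompl (LocalizedModule.mkLinearMap p.primeCompl M)
  have hdis : Disjoint (p.primeCompl : Set R) (q : Set R) := by
    rw [Set.disjoint_left]
    intro a ha haq
    exact ha (hqp haq)
  have e : Ideal.comap (algebraMap R (Localization.AtPrime p))
      (Ideal.map (algebraMap R (Localization.AtPrime p)) q) = q :=
    IsLocalization.under_map_of_isPrime_disjoint p.primeCompl _ hqp' hdis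
  rw [e]
  exact hq

end Loc

section Graded

variable {k : Type u} [Field k] {R : Type u} [CommRing R] [Algebra k R] [Algebra.FiniteType k R]
  (𝒜 : ℤ → Submodule k R) [GradedAlgebra 𝒜]
  {M : Type u} [AddCommGroup M] [Module R M] [Module k M] [IsScalarTower k R M]
  (ℳ : ℤ → AddSubgroup M) [DirectSum.Decomposition ℳ] [SetLike.GradedSMul 𝒜 ℳ]
  [Module.Finite R M]

include ℳ in
/-- all associated primes of a graded Cohen–Macaulay module have the same dimension. -/
theorem ringKrullDim_quotient_eq_of_mem_associatedPrimes
    (h0R : 𝒜 0 = Submodule.span k {(1 : R)})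
    (hMcm : ∀ (q : Ideal R) [q.IsPrime], Subsingleton (LocalizedModule q.primeCompl M) ∨
      IsCohenMacaulayModule (Localization.AtPrime q) (LocalizedModule q.primeCompl M))
    {q₁ q₂ : Ideal R} (h₁ : q₁ ∈ associatedPrimes R M) (h₂ : q₂ ∈ associatedPrimes R M) :
    ringKrullDim (R ⧸ q₁) = ringKrullDim (R ⧸ q₂) := by
  have : IsNoetherianRing R := Algebra.FiniteType.isNoetherianRing k R
  have hm₁ := mem_minimalPrimes_of_mem_associatedPrimes hMcm h₁
  have hm₂ := mem_minimalPrimes_of_mem_associatedPrimes hMcm h₂
  have hh₁ := isHomogeneous_of_mem_minimalPrimes 𝒜 (annihilator_isHomogeneous 𝒜 ℳ) hm₁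
  have hh₂ := isHomogeneous_of_mem_minimalPrimes 𝒜 (annihilator_isHomogeneous 𝒜 ℳ) hm₂
  have hp₁ : q₁.IsPrime := hm₁.1.1
  have hp₂ : q₂.IsPrime := hm₂.1.1
  have hsup := sup_ne_top_of_isHomogeneous 𝒜 h0R hh₁ hh₂ hp₁.ne_top hp₂.ne_top
  obtain ⟨p, hpmax, hple⟩ := Ideal.exists_le_maximal _ hsup
  have hq₁p : q₁ ≤ p := le_trans le_sup_left hple
  have hq₂p : q₂ ≤ p := le_trans le_sup_right hple
  have hsupp : (⟨p, hpmax.isPrime⟩ : PrimeSpectrum R) ∈ Module.support R M := by
    rw [Module.mem_support_iff_of_finite]
    exact le_trans hm₁.1.2 hq₁p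
  have hnt : Nontrivial (LocalizedModule p.primeCompl M) := Module.mem_support_iff.mp hsupp
  have hcm : IsCohenMacaulayModule (Localization.AtPrime p) (LocalizedModule p.primeCompl M) := by
    rcases hMcm p with h | h
    · exact absurd h (not_subsingleton _)
    · exact h
  rw [ringKrullDim_quotient_eq_supportDim_localization k p h₁ hq₁p hcm,
    ringKrullDim_quotient_eq_supportDim_localization k p h₂ hq₂p hcm]

include ℳ in
/-- a graded Cohen–Macaulay module is unmixed: `dim R/q = dim M` for every associated prime. -/
theorem ringKrullDim_quotient_eq_supportDim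
    (h0R : 𝒜 0 = Submodule.span k {(1 : R)})
    (hMcm : ∀ (q : Ideal R) [q.IsPrime], Subsingleton (LocalizedModule q.primeCompl M) ∨
      IsCohenMacaulayModule (Localization.AtPrime q) (LocalizedModule q.primeCompl M))
    {q : Ideal R} (hq : q ∈ associatedPrimes R M) :
    ringKrullDim (R ⧸ q) = Module.supportDim R M := by
  have : IsNoetherianRing R := Algebra.FiniteType.isNoetherianRing k R
  apply le_antisymm
  · exact Groth.Agent.Lib.Helper67.ringKrullDim_quotient_le_supportDim
      (Groth.Agent.Lib.Helper67.annihilator_le_of_mem_associatedPrimes hq)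
  · rw [Module.supportDim_eq_ringKrullDim_quotient_annihilator, ringKrullDim_quotient]
    change (⨆ c : LTSeries ↥(PrimeSpectrum.zeroLocus ((Module.annihilator R M : Ideal R) : Set R)),
      (c.length : WithBot ℕ∞)) ≤ _
    refine iSup_le fun c => ?_
    let c' : LTSeries (PrimeSpectrum R) := c.map Subtype.val (fun a b h => h)
    have hJc : Module.annihilator R M ≤ c'.head.asIdeal := c.head.2
    obtain ⟨q', hq'min, hq'le⟩ := Ideal.exists_minimalPrimes_le hJc
    have hq'ass : q' ∈ associatedPrimes R M :=
      Module.associatedPrimes.minimalPrimes_annihilator_subset_associatedPrimes (R := R) (M := M)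
        hq'min
    calc (c.length : WithBot ℕ∞) = (c'.length : WithBot ℕ∞) := rfl
      _ ≤ ringKrullDim (R ⧸ c'.head.asIdeal) :=
          DimQuot.length_le_ringKrullDim_quotient_head c'
      _ ≤ ringKrullDim (R ⧸ q') :=
          ringKrullDim_le_of_surjective (Ideal.Quotient.factor hq'le)
            (Ideal.Quotient.factor_surjective hq'le)
      _ = ringKrullDim (R ⧸ q) :=
          ringKrullDim_quotient_eq_of_mem_associatedPrimes 𝒜 ℳ h0R hMcm hq'ass hq

include ℳ in
/-- in a graded Cohen–Macaulay module the annihilator of every nonzero element has full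
dimension. -/
theorem ringKrullDim_quotient_annEl
    (h0R : 𝒜 0 = Submodule.span k {(1 : R)})
    (hMcm : ∀ (q : Ideal R) [q.IsPrime], Subsingleton (LocalizedModule q.primeCompl M) ∨
      IsCohenMacaulayModule (Localization.AtPrime q) (LocalizedModule q.primeCompl M))
    {x : M} (hx : x ≠ 0) :
    ringKrullDim (R ⧸ annEl (R := R) x) = Module.supportDim R M := by
  have : IsNoetherianRing R := Algebra.FiniteType.isNoetherianRing k R
  apply le_antisymm
  · rw [Module.supportDim_eq_ringKrullDim_quotient_annihilator]
    exact Groth.Agent.Lib.Helper67.ringKrullDim_quotient_le_of_le (annihilator_le_annEl x)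
  · obtain ⟨q, hq, hle⟩ := exists_le_isAssociatedPrime_of_isNoetherianRing R x hx
    have hle' : annEl (R := R) x ≤ q := by
      intro a ha
      apply hle
      rw [Submodule.mem_colon_singleton, mem_annEl.mp ha]
      exact Submodule.zero_mem _
    rw [← ringKrullDim_quotient_eq_supportDim 𝒜 ℳ h0R hMcm hq]
    exact Groth.Agent.Lib.Helper67.ringKrullDim_quotient_le_of_le hle'

end Graded

end Groth.Agent.Lib.Helper90.Seg
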