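import Mathlib
import Groth.Prelude.Def_GrSeg
import Groth.Agent.S18647
import Groth.Agent.Lib.Helper5.GradedQuotient
import Groth.Agent.Lib.Helper90.SegF

/-!
# Segre products of quotients by homogeneous ideals
-/

namespace Groth.Agent.Lib.Helper90.Seg

universe u

open DirectSum TensorProduct GrSeg Groth.Agent.Lib.Helper5

section Proj

variable {k : Type u} [Field k] {A : Type u} [CommRing A] [Algebra k A]
  (𝒜 : ℤ → Submodule k A) [GradedAlgebra 𝒜]
  {B : Type u} [CommRing B] [Algebra k B] (ℬ : ℤ → Submodule k B) [GradedAlgebra ℬ]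

/-- the projection of `A ⊗ B` onto the Segre piece of degree `n`. -/
noncomputable def segProj (n : ℤ) : A ⊗[k] B →ₗ[k] A ⊗[k] B :=
  TensorProduct.map (GradedAlgebra.proj 𝒜 n) (GradedAlgebra.proj ℬ n)

lemma segProj_of_mem {m : ℤ} {w : A ⊗[k] B} (hw : w ∈ segrePiece k 𝒜 ℬ m) (n : ℤ) :
    segProj 𝒜 ℬ n w = if m = n then w else 0 := by
  induction hw using Submodule.span_induction with
  | mem w hw =>
    obtain ⟨a, ha, b, hb, rfl⟩ := hw
    unfold segProj
    rw [TensorProduct.map_tmul, GradedAlgebra.proj_apply, GradedAlgebra.proj_apply]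
    by_cases hmn : m = n
    · subst hmn
      rw [if_pos rfl, DirectSum.decompose_of_mem_same 𝒜 ha, DirectSum.decompose_of_mem_same ℬ hb]
    · rw [if_neg hmn, DirectSum.decompose_of_mem_ne 𝒜 ha hmn, TensorProduct.zero_tmul]
  | zero => rw [map_zero]; split_ifs <;> rfl
  | add w w' _ _ hw hw' =>
    rw [map_add, hw, hw']
    split_ifs
    · rfl
    · rw [add_zero]
  | smul c w _ hw =>
    rw [map_smul, hw]
    split_ifs
    · rfl
    · rw [smul_zero]

end Proj

section Ker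

variable {k : Type u} [Field k] {A : Type u} [CommRing A] [Algebra k A]
  (𝒜 : ℤ → Submodule k A) [GradedAlgebra 𝒜]
  {B : Type u} [CommRing B] [Algebra k B] (ℬ : ℤ → Submodule k B) [GradedAlgebra ℬ]
  {T : Type u} [CommRing T] [Algebra k T] (𝒯 : ℤ → Submodule k T) [GradedAlgebra 𝒯]

/-- the kernel of a map to a tensor product which carries the pieces to the Segre pieces is
homogeneous. -/
lemma ker_isHomogeneous (θ : T →ₐ[k] A ⊗[k] B)
    (hθ : ∀ (n : ℤ) (t : T), t ∈ 𝒯 n → θ t ∈ segrePiece k 𝒜 ℬ n) :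
    (RingHom.ker θ).IsHomogeneous 𝒯 := by
  have key : ∀ (i : ℤ) (t : T), segProj 𝒜 ℬ i (θ t) = θ ((DirectSum.decompose 𝒯 t i : 𝒯 i) : T) := by
    intro i t
    induction t using DirectSum.Decomposition.inductionOn 𝒯 with
    | zero => rw [DirectSum.decompose_zero, DirectSum.zero_apply, Submodule.coe_zero, map_zero,
        map_zero]
    | homogeneous t =>
      rename_i j
      rw [segProj_of_mem 𝒜 ℬ (hθ j t t.2) i]
      by_cases hji : j = i
      · subst hji
        rw [if_pos rfl, DirectSum.decompose_of_mem_same 𝒯 t.2]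
      · rw [if_neg hji, DirectSum.decompose_of_mem_ne 𝒯 t.2 hji, map_zero]
    | add t t' ht ht' =>
      rw [map_add, map_add, ht, ht', DirectSum.decompose_add, DirectSum.add_apply,
        Submodule.coe_add, map_add]
  intro i t ht
  rw [RingHom.mem_ker] at ht ⊢
  have := key i t
  rw [show θ t = 0 from ht, map_zero] at this
  exact this.symm

end Ker

section Quot

variable {k : Type u} [Field k] {R : Type u} [CommRing R] [Algebra k R]
  (𝒜 : ℤ → Submodule k R) [GradedAlgebra 𝒜]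
  {S : Type u} [CommRing S] [Algebra k S] (ℬ : ℤ → Submodule k S) [GradedAlgebra ℬ]
  {T : Type u} [CommRing T] [Algebra k T] (𝒯 : ℤ → Submodule k T) [GradedAlgebra 𝒯]
  (ψ : T →ₐ[k] R ⊗[k] S)

/-- the map `T → R/I ⊗ S/J`. -/
noncomputable def quotMapSeg (I : Ideal R) (J : Ideal S) : T →ₐ[k] (R ⧸ I) ⊗[k] (S ⧸ J) :=
  (Algebra.TensorProduct.map (Ideal.Quotient.mkₐ k I) (Ideal.Quotient.mkₐ k J)).comp ψ

lemma quotMapSeg_apply (I : Ideal R) (J : Ideal S) (t : T) :
    quotMapSeg ψ I J t =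
      Algebra.TensorProduct.map (Ideal.Quotient.mkₐ k I) (Ideal.Quotient.mkₐ k J) (ψ t) := rfl

lemma map_mk_mem_segrePiece (I : Ideal R) (J : Ideal S) {n : ℤ} {w : R ⊗[k] S}
    (hw : w ∈ segrePiece k 𝒜 ℬ n) :
    Algebra.TensorProduct.map (Ideal.Quotient.mkₐ k I) (Ideal.Quotient.mkₐ k J) w ∈
      segrePiece k (quotGrading 𝒜 I) (quotGrading ℬ J) n := by
  induction hw using Submodule.span_induction with
  | mem w hw =>
    obtain ⟨a, ha, b, hb, rfl⟩ := hw
    rw [Algebra.TensorProduct.map_tmul]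
    exact tmul_mem_segrePiece _ _ (mk_mem_quotGrading 𝒜 I ha) (mk_mem_quotGrading ℬ J hb)
  | zero => rw [map_zero]; exact Submodule.zero_mem _
  | add w w' _ _ hw hw' => rw [map_add]; exact Submodule.add_mem _ hw hw'
  | smul c w _ hw => rw [map_smul]; exact Submodule.smul_mem _ _ hw

/-- the Segre product of `R/I` and `S/J`, as a quotient of `R # S`, has dimension
`dim R/I + dim S/J - 1`. -/
theorem ringKrullDim_quotient_ker_quotMapSeg
    (hposR : ∀ n : ℤ, n < 0 → 𝒜 n = ⊥) (h0R : 𝒜 0 = Submodule.span k {(1 : R)})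
    [Algebra.FiniteType k R]
    (hposS : ∀ n : ℤ, n < 0 → ℬ n = ⊥) (h0S : ℬ 0 = Submodule.span k {(1 : S)})
    [Algebra.FiniteType k S]
    (hT : IsSegreRing 𝒜 ℬ 𝒯 ψ) {I : Ideal R} {J : Ideal S}
    (hI : I.IsHomogeneous 𝒜) (hJ : J.IsHomogeneous ℬ) (r s : ℕ)
    (hr : ringKrullDim (R ⧸ I) = r) (hs : ringKrullDim (S ⧸ J) = s) (h1r : 1 ≤ r) (h1s : 1 ≤ s) :
    ringKrullDim (T ⧸ RingHom.ker (quotMapSeg ψ I J)) = ((r + s - 1 : ℕ) : WithBot ℕ∞) := by
  letI := quotGradedAlgebra 𝒜 hI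
  letI := quotGradedAlgebra ℬ hJ
  set θ := quotMapSeg ψ I J with hθdef
  have hθ : ∀ (n : ℤ) (t : T), t ∈ 𝒯 n →
      θ t ∈ segrePiece k (quotGrading 𝒜 I) (quotGrading ℬ J) n := fun n t ht =>
    map_mk_mem_segrePiece 𝒜 ℬ I J (segRing_map_mem hT ht)
  have hK : (RingHom.ker θ).IsHomogeneous 𝒯 :=
    ker_isHomogeneous (quotGrading 𝒜 I) (quotGrading ℬ J) 𝒯 θ hθ
  letI := quotGradedAlgebra 𝒯 hK
  refine Groth.Agent.S18647.result k (R ⧸ I) (quotGrading 𝒜 I) ?_ ?_ (S ⧸ J) (quotGrading ℬ J)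
    ?_ ?_ (T ⧸ RingHom.ker θ) (quotGrading 𝒯 (RingHom.ker θ)) (Ideal.kerLiftAlg θ)
    (Ideal.kerLiftAlg_injective θ) ?_ r s hr hs h1r h1s
  · intro n hn
    unfold quotGrading
    rw [hposR n hn, Submodule.map_bot]
  · unfold quotGrading
    rw [h0R, Submodule.map_span, Set.image_singleton]
    congr 2
  · intro n hn
    unfold quotGrading
    rw [hposS n hn, Submodule.map_bot]
  · unfold quotGrading
    rw [h0S, Submodule.map_span, Set.image_singleton]
    congr 2
  · intro n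
    change _ = segrePiece k (quotGrading 𝒜 I) (quotGrading ℬ J) n
    apply le_antisymm
    · rintro _ ⟨t', ht', rfl⟩
      obtain ⟨t, ht, rfl⟩ := exists_of_mem_quotGrading 𝒯 _ ht'
      change Ideal.kerLiftAlg θ (Ideal.Quotient.mk _ t) ∈ _
      rw [Ideal.kerLiftAlg_mk]
      exact hθ n t ht
    · unfold segrePiece
      rw [Submodule.span_le]
      rintro _ ⟨a', ha', b', hb', rfl⟩
      obtain ⟨a, ha, rfl⟩ := exists_of_mem_quotGrading 𝒜 I ha'
      obtain ⟨b, hb, rfl⟩ := exists_of_mem_quotGrading ℬ J hb'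
      obtain ⟨t, ht, htw⟩ := segRing_exists_of_mem hT (tmul_mem_segrePiece 𝒜 ℬ ha hb)
      refine ⟨Ideal.Quotient.mk _ t, mk_mem_quotGrading 𝒯 _ ht, ?_⟩
      change Ideal.kerLiftAlg θ (Ideal.Quotient.mk _ t) = _
      rw [Ideal.kerLiftAlg_mk, hθdef, quotMapSeg_apply, htw, Algebra.TensorProduct.map_tmul]
      rfl

end Quot

end Groth.Agent.Lib.Helper90.Seg
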