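import Mathlib
import Groth.Prelude.Def_GrSeg
import Groth.Agent.Lib.Helper90.SegCM1

/-!
# The action of `R ⊗ S` on `M ⊗ N`: kernels
-/

namespace Groth.Agent.Lib.Helper90.Seg

universe u

open TensorProduct GrSeg

section Act

variable {k : Type u} [Field k] {R : Type u} [CommRing R] [Algebra k R]
  {S : Type u} [CommRing S] [Algebra k S]
  {M : Type u} [AddCommGroup M] [Module R M] [Module k M] [IsScalarTower k R M]
  {N : Type u} [AddCommGroup N] [Module S N] [Module k N] [IsScalarTower k S N]

lemma exact_subtype_mk (I : Ideal R) :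
    Function.Exact (I.restrictScalars k).subtype (Ideal.Quotient.mkₐ k I).toLinearMap := by
  rw [LinearMap.exact_iff, Submodule.range_subtype]
  ext a
  rw [LinearMap.mem_ker, AlgHom.toLinearMap_apply, Ideal.Quotient.mkₐ_eq_mk,
    Ideal.Quotient.eq_zero_iff_mem, Submodule.restrictScalars_mem]

/-- an element of the kernel of `R ⊗ S → R/ann M ⊗ S/ann N` acts as zero on `M ⊗ N`. -/
theorem act_eq_zero_of_map_mk_eq_zero {I : Ideal R} {J : Ideal S}
    (hI : I ≤ Module.annihilator R M) (hJ : J ≤ Module.annihilator S N) {w : R ⊗[k] S}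
    (hw : Algebra.TensorProduct.map (Ideal.Quotient.mkₐ k I) (Ideal.Quotient.mkₐ k J) w = 0) :
    act k R S M N w = 0 := by
  have h1 : ∀ z : R ⊗[k] (J.restrictScalars k),
      act k R S M N (LinearMap.lTensor R (J.restrictScalars k).subtype z) = 0 := by
    intro z
    induction z using TensorProduct.induction_on with
    | zero => rw [map_zero, map_zero]
    | tmul a j =>
      rw [LinearMap.lTensor_tmul]
      apply TensorProduct.ext'
      intro m n
      rw [Submodule.subtype_apply, act_tmul, LinearMap.zero_apply,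
        Module.mem_annihilator.mp (hJ j.2) n, TensorProduct.tmul_zero]
    | add z z' hz hz' => rw [map_add, map_add, hz, hz', add_zero]
  have h2 : ∀ z : (I.restrictScalars k) ⊗[k] S,
      act k R S M N (LinearMap.rTensor S (I.restrictScalars k).subtype z) = 0 := by
    intro z
    induction z using TensorProduct.induction_on with
    | zero => rw [map_zero, map_zero]
    | tmul i b =>
      rw [LinearMap.rTensor_tmul]
      apply TensorProduct.ext'
      intro m n
      rw [Submodule.subtype_apply, act_tmul, LinearMap.zero_apply,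
        Module.mem_annihilator.mp (hI i.2) m, TensorProduct.zero_tmul]
    | add z z' hz hz' => rw [map_add, map_add, hz, hz', add_zero]
  have hw' : w ∈ LinearMap.ker (TensorProduct.map (Ideal.Quotient.mkₐ k I).toLinearMap
      (Ideal.Quotient.mkₐ k J).toLinearMap) := by
    rw [LinearMap.mem_ker]
    exact hw
  rw [TensorProduct.map_ker (exact_subtype_mk I) (Ideal.Quotient.mkₐ_surjective k I)
    (exact_subtype_mk J) (Ideal.Quotient.mkₐ_surjective k J)] at hw'
  obtain ⟨w₁, ⟨z₁, rfl⟩, w₂, ⟨z₂, rfl⟩, rfl⟩ := Submodule.mem_sup.mp hw'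
  rw [map_add, h1, h2, add_zero]

/-- the injection `R / ann x → M`. -/
noncomputable def annElEmb (x : M) : (R ⧸ annEl (R := R) x) →ₗ[k] M :=
  (Submodule.liftQ (annEl (R := R) x) (LinearMap.toSpanSingleton R M x) le_rfl).restrictScalars k

lemma annElEmb_mk (x : M) (a : R) :
    annElEmb (k := k) x (Ideal.Quotient.mk (annEl (R := R) x) a) = a • x := by
  unfold annElEmb
  rw [LinearMap.restrictScalars_apply]
  exact Submodule.liftQ_apply _ _ _

lemma annElEmb_injective (x : M) : Function.Injective (annElEmb (k := k) (R := R) x) := by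
  unfold annElEmb
  rw [LinearMap.coe_restrictScalars, ← LinearMap.ker_eq_bot]
  exact Submodule.ker_liftQ_eq_bot _ _ _ le_rfl

/-- an element of `R ⊗ S` killing `x ⊗ y` lies in the kernel of `R ⊗ S → R/ann x ⊗ S/ann y`. -/
theorem map_mk_eq_zero_of_act_eq_zero (x : M) (y : N) {w : R ⊗[k] S}
    (hw : act k R S M N w (x ⊗ₜ[k] y) = 0) :
    Algebra.TensorProduct.map (Ideal.Quotient.mkₐ k (annEl (R := R) x))
      (Ideal.Quotient.mkₐ k (annEl (R := S) y)) w = 0 := by
  have hinj : Function.Injective
      (TensorProduct.map (annElEmb (k := k) (R := R) x) (annElEmb (k := k) (R := S) y)) :=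
    TensorProduct.map_injective_of_flat_flat _ _ (annElEmb_injective x) (annElEmb_injective y)
  apply hinj
  rw [map_zero, ← hw]
  clear hw
  induction w using TensorProduct.induction_on with
  | zero => rw [map_zero, map_zero, map_zero, LinearMap.zero_apply]
  | tmul a b =>
    rw [Algebra.TensorProduct.map_tmul, TensorProduct.map_tmul, act_tmul, Ideal.Quotient.mkₐ_eq_mk,
      Ideal.Quotient.mkₐ_eq_mk, annElEmb_mk, annElEmb_mk]
  | add w w' hw hw' => rw [map_add, map_add, map_add, LinearMap.add_apply, hw, hw']

end Act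

end Groth.Agent.Lib.Helper90.Seg
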