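import Mathlib
import Groth.Prelude.Def_Magnet4
import Groth.Agent.Lib.Helper5.AMonPts
import Groth.Agent.Lib.Helper18.MonPts
import Groth.Agent.Lib.Helper18.AffLine.Defs
import Groth.Agent.Lib.Helper18.AffLine.Diag

/-!
# helper90 for helper18's S18959: [ET] étaleness of `T₀ ◁ f` from étaleness near the fixed points
-/

set_option autoImplicit false
universe u

open CategoryTheory CategoryTheory.Limits MonoidalCategory CartesianMonoidalCategory MonObj
  AlgebraicGeometry Opposite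
open Magnet Groth.Agent.Lib.Helper18.AffLine

namespace Groth.Agent.Lib.Helper90.ALET

theorem isPullback_whiskerLeft_left {S : Scheme.{u}} (T₀ : Over S) {X Y : Over S} (f : X ⟶ Y) :
    IsPullback (T₀ ◁ f).left (snd T₀ X).left (snd T₀ Y).left f.left := by
  have hbig : IsPullback ((T₀ ◁ f).left ≫ (fst T₀ Y).left) (snd T₀ X).left T₀.hom
      (f.left ≫ Y.hom) := by
    have e1 : (T₀ ◁ f).left ≫ (fst T₀ Y).left = (fst T₀ X).left := by
      rw [← Over.comp_left, whiskerLeft_fst]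
    rw [e1, Over.w f]
    exact IsPullback.of_hasPullback T₀.hom X.hom
  have hright : IsPullback (fst T₀ Y).left (snd T₀ Y).left T₀.hom Y.hom :=
    IsPullback.of_hasPullback T₀.hom Y.hom
  refine IsPullback.of_right hbig ?_ hright
  rw [← Over.comp_left, ← Over.comp_left, whiskerLeft_snd]

theorem etale_whiskerLeft {S : Scheme.{u}} {T₀ X Y : Over S} (a : MonAct (AMonS S ℕ) X)
    (b : MonAct (AMonS S ℕ) Y) (f : X ⟶ Y) (hf : MonAct.IsEquivariant a b f) (V : X.left.Opens)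
    [Etale (V.ι ≫ f.left)] (θ θ' : T₀ ⟶ AMonS S ℕ) (h : θ * θ' = 1) (h' : θ' * θ = 1)
    (hcov : ∀ ξ : (T₀ ⊗ X).left, ∃ n : ℕ, (rho a (θ ^ n)).left ξ ∈ V) :
    Etale (T₀ ◁ f).left := by
  -- the étale piece
  have hVK : Etale (((snd T₀ X).left ⁻¹ᵁ V).ι ≫ (T₀ ◁ f).left) := by
    have h1 := isPullback_morphismRestrict (snd T₀ X).left V
    have h2 := (isPullback_whiskerLeft_left T₀ f).flip
    have h3 := h1.paste_vert h2
    exact MorphismProperty.of_isPullback (P := @Etale) h3 inferInstance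
  -- the translates of the étale piece cover
  let U : ℕ → (T₀ ⊗ X).left.Opens := fun n =>
    (tau a (θ ^ n)).left ⁻¹ᵁ ((snd T₀ X).left ⁻¹ᵁ V)
  have hU : iSup U = ⊤ := by
    rw [eq_top_iff]
    intro ξ _
    obtain ⟨n, hn⟩ := hcov ξ
    rw [TopologicalSpace.Opens.mem_iSup]
    refine ⟨n, ?_⟩
    change (snd T₀ X).left ((tau a (θ ^ n)).left ξ) ∈ V
    have e : (tau a (θ ^ n)).left ≫ (snd T₀ X).left = (rho a (θ ^ n)).left := by
      rw [← Over.comp_left, tau_snd]
    rw [← Scheme.Hom.comp_apply, e]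
    exact hn
  refine IsZariskiLocalAtSource.of_iSup_eq_top (P := @Etale) U hU ?_
  intro n
  -- conjugate by the translations
  haveI i1 : IsIso (tau a (θ ^ n)).left :=
    (Over.forget S).map_isIso (tauIso a θ θ' h h' n).hom
  haveI i2 : IsIso (tau b (θ ^ n)).left :=
    (Over.forget S).map_isIso (tauIso b θ θ' h h' n).hom
  have hcomm : (tau a (θ ^ n)).left ≫ (T₀ ◁ f).left = (T₀ ◁ f).left ≫ (tau b (θ ^ n)).left := by
    rw [← Over.comp_left, ← Over.comp_left, tau_whiskerLeft a b f hf]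
  have hg : (T₀ ◁ f).left = (tau a (θ ^ n)).left ≫ (T₀ ◁ f).left ≫ inv (tau b (θ ^ n)).left := by
    rw [← Category.assoc, hcomm, Category.assoc, IsIso.hom_inv_id, Category.comp_id]
  have hres : (U n).ι ≫ (tau a (θ ^ n)).left =
      ((tau a (θ ^ n)).left ∣_ ((snd T₀ X).left ⁻¹ᵁ V)) ≫ ((snd T₀ X).left ⁻¹ᵁ V).ι :=
    (morphismRestrict_ι _ _).symm
  have hfinal : (U n).ι ≫ (T₀ ◁ f).left =
      ((tau a (θ ^ n)).left ∣_ ((snd T₀ X).left ⁻¹ᵁ V)) ≫
        (((snd T₀ X).left ⁻¹ᵁ V).ι ≫ (T₀ ◁ f).left) ≫ inv (tau b (θ ^ n)).left := by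
    conv_lhs => rw [hg]
    rw [← Category.assoc, hres]
    simp only [Category.assoc]
  rw [hfinal]
  infer_instance

end Groth.Agent.Lib.Helper90.ALET
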