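import Mathlib
import Groth.Agent.Lib.Helper58.HenselPairUniq

/-!
# Lifting a residue-field point of an étale algebra to the completion (helper90; SB of helper77's
S6825 backup call)
-/

set_option autoImplicit false
universe u

namespace Groth.Agent.Lib.Helper90.ArtinSB

open Groth.Agent.Lib.Helper58.HenselPair

theorem exists_lift_to_completion {A : Type u} [CommRing A] [IsLocalRing A] [IsNoetherianRing A]
    {R' : Type u} [CommRing R'] [Algebra A R'] [Algebra.Etale A R']
    (σ' : R' →ₐ[A] IsLocalRing.ResidueField A) :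
    ∃ ψ : R' →ₐ[A] AdicCompletion (IsLocalRing.maximalIdeal A) A,
      ∀ x : R', AdicCompletion.evalOneₐ (IsLocalRing.maximalIdeal A) (ψ x) = σ' x := by
  have fg : (IsLocalRing.maximalIdeal A).FG := IsNoetherian.noetherian _
  haveI : IsAdicComplete ((IsLocalRing.maximalIdeal A).map
      (algebraMap A (AdicCompletion (IsLocalRing.maximalIdeal A) A)))
      (AdicCompletion (IsLocalRing.maximalIdeal A) A) :=
    AdicCompletion.isAdicComplete_self (IsLocalRing.maximalIdeal A) fg
  have hker : RingHom.ker (AdicCompletion.evalOneₐ (IsLocalRing.maximalIdeal A)) =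
      (IsLocalRing.maximalIdeal A).map
        (algebraMap A (AdicCompletion (IsLocalRing.maximalIdeal A) A)) :=
    AdicCompletion.ker_evalOneₐ_eq_map (IsLocalRing.maximalIdeal A) fg
  let e : (AdicCompletion (IsLocalRing.maximalIdeal A) A ⧸
      (IsLocalRing.maximalIdeal A).map
        (algebraMap A (AdicCompletion (IsLocalRing.maximalIdeal A) A))) ≃ₐ[A]
      (A ⧸ IsLocalRing.maximalIdeal A) :=
    (Ideal.quotientEquivAlgOfEq A hker.symm).trans
      (Ideal.quotientKerAlgEquivOfSurjective
        (AdicCompletion.evalOneₐ_surjective (IsLocalRing.maximalIdeal A)))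
  have he : ∀ y : AdicCompletion (IsLocalRing.maximalIdeal A) A,
      e (Ideal.Quotient.mk _ y) = AdicCompletion.evalOneₐ (IsLocalRing.maximalIdeal A) y := by
    intro y
    simp [e]
  let σP : R' →ₐ[A] (AdicCompletion (IsLocalRing.maximalIdeal A) A ⧸
      (IsLocalRing.maximalIdeal A).map
        (algebraMap A (AdicCompletion (IsLocalRing.maximalIdeal A) A))) :=
    (e.symm : (A ⧸ IsLocalRing.maximalIdeal A) →ₐ[A] _).comp σ'
  obtain ⟨τ, hτ⟩ := exists_etale_lift_rel (R := A) (S := R')
    (C := AdicCompletion (IsLocalRing.maximalIdeal A) A)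
    ((IsLocalRing.maximalIdeal A).map
      (algebraMap A (AdicCompletion (IsLocalRing.maximalIdeal A) A))) σP
  refine ⟨τ, fun x => ?_⟩
  have h1 := AlgHom.congr_fun hτ x
  have h2 : Ideal.Quotient.mk _ (τ x) = e.symm (σ' x) := h1
  rw [← he, h2]
  exact e.apply_symm_apply _

end Groth.Agent.Lib.Helper90.ArtinSB
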