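import Mathlib
import Groth.Agent.Lib.Helper90.Bezout2
import Groth.Agent.Lib.Helper96.CartierD

/-!
# The Hilbert polynomial of a homogeneous complete intersection
-/

namespace Groth.Agent.Lib.Helper90.Bezout

open Module MvPolynomial HomogSection IsLocalRing GradedLocal

universe u

attribute [local instance] MvPolynomial.gradedAlgebra

section Main

variable (k : Type u) [Field k] (n : ℕ)

lemma hilb_bot (m : ℕ) :
    hilb (⊥ : Ideal (MvPolynomial (Fin (n + 1)) k)) m = ((m + n).choose n : ℤ) := by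
  have hp : part (⊥ : Ideal (MvPolynomial (Fin (n + 1)) k)) m = ⊥ := by
    unfold part
    rw [eq_bot_iff]
    rintro x ⟨hx, -⟩
    exact hx
  unfold hilb
  rw [hp, finrank_bot, Groth.Agent.Lib.Helper96.Cartier.finrank_homogeneousSubmodule]
  have h1 : n + 1 + m - 1 = m + n := by omega
  rw [h1, Nat.choose_symm_add]
  simp

/-- **Hilbert polynomial of a complete intersection**: degree `n - r` and normalized leading
coefficient `∏ d_i`. -/
theorem exists_hilbPoly_ci : ∀ r : ℕ, r ≤ n →
    ∀ (f : Fin r → MvPolynomial (Fin (n + 1)) k) (d : Fin r → ℕ), (∀ i, 1 ≤ d i) →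
      (∀ i, (f i).IsHomogeneous (d i)) →
      ringKrullDim (MvPolynomial (Fin (n + 1)) k ⧸ Ideal.span (Set.range f)) ≤
        ((n + 1 - r : ℕ) : WithBot ℕ∞) →
      ∃ P : Polynomial ℚ, P.natDegree = n - r ∧
        (P.natDegree.factorial : ℚ) * P.leadingCoeff = ∏ i, (d i : ℚ) ∧
        ∃ m₀ : ℕ, ∀ m : ℕ, m₀ ≤ m →
          P.eval (m : ℚ) = ((hilb (Ideal.span (Set.range f)) m : ℤ) : ℚ) := by
  intro r
  induction r with
  | zero =>
    intro _ f d _ _ _
    refine ⟨Polynomial.preHilbertPoly ℚ n 0, ?_, ?_, 0, fun m _ => ?_⟩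
    · rw [Polynomial.natDegree_preHilbertPoly]
      rfl
    · rw [Polynomial.natDegree_preHilbertPoly, Polynomial.leadingCoeff_preHilbertPoly]
      simp only [Finset.univ_eq_empty, Finset.prod_empty]
      apply mul_inv_cancel₀
      exact_mod_cast (Nat.factorial_pos n).ne'
    · rw [Polynomial.preHilbertPoly_eq_choose_sub_add ℚ n (Nat.zero_le m), Set.range_eq_empty f,
        Ideal.span_empty, hilb_bot]
      simp
  | succ r ih =>
    intro hrn f d hd hf hdim
    set f' : Fin r → MvPolynomial (Fin (n + 1)) k := fun i => f i.castSucc with hf'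
    set g := f (Fin.last r) with hg
    have hspan : Ideal.span (Set.range f) = Ideal.span (Set.range f') ⊔ Ideal.span {g} := by
      apply le_antisymm
      · rw [Ideal.span_le]
        rintro _ ⟨i, rfl⟩
        refine Fin.lastCases ?_ (fun j => ?_) i
        · exact Ideal.mem_sup_right (Ideal.mem_span_singleton_self _)
        · exact Ideal.mem_sup_left (Ideal.subset_span ⟨j, rfl⟩)
      · apply sup_le
        · apply Ideal.span_mono
          rintro _ ⟨j, rfl⟩
          exact ⟨j.castSucc, rfl⟩
        · rw [Ideal.span_singleton_le_iff_mem]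
          exact Ideal.subset_span ⟨Fin.last r, rfl⟩
    have hI'h : (Ideal.span (Set.range f')).IsHomogeneous
        (homogeneousSubmodule (Fin (n + 1)) k) := by
      apply Ideal.homogeneous_span
      rintro _ ⟨j, rfl⟩
      exact ⟨d j.castSucc, hf j.castSucc⟩
    have hgh : g.IsHomogeneous (d (Fin.last r)) := hf (Fin.last r)
    have hgd : 1 ≤ d (Fin.last r) := hd (Fin.last r)
    rw [hspan] at hdim
    have hdim' : ringKrullDim (MvPolynomial (Fin (n + 1)) k ⧸ Ideal.span (Set.range f')) ≤
        ((n + 1 - r : ℕ) : WithBot ℕ∞) := by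
      refine (ringKrullDim_quot_le_sup_span_succ hI'h hgh hgd).trans ?_
      calc ringKrullDim (MvPolynomial (Fin (n + 1)) k ⧸
            (Ideal.span (Set.range f') ⊔ Ideal.span {g})) + 1
          ≤ ((n + 1 - (r + 1) : ℕ) : WithBot ℕ∞) + 1 := by gcongr
        _ = ((n + 1 - r : ℕ) : WithBot ℕ∞) := by
          have : n + 1 - (r + 1) + 1 = n + 1 - r := by omega
          rw [← this]
          push_cast
          rfl
    obtain ⟨P', hdeg', hD', m₀, hm₀⟩ := ih (by omega) f' (fun i => d i.castSucc)
      (fun i => hd i.castSucc) (fun i => hf i.castSucc) hdim'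
    have hr := le_height_of_ringKrullDim_quot_le (Ideal.span (Set.range f')) r (by omega) hdim'
    have hr1 := le_height_of_ringKrullDim_quot_le
      (Ideal.span (Set.range f') ⊔ Ideal.span {g}) (r + 1) (by omega) hdim
    have hreg := nzd_of_height k (Fin (n + 1)) f' g hr hr1
    have hI'm : Ideal.span (Set.range f') ≤ idealOfVars (Fin (n + 1)) k := by
      rw [Ideal.span_le]
      rintro _ ⟨j, rfl⟩
      exact mem_idealOfVars_of_isHomogeneous (hf j.castSucc) (hd j.castSucc)
    have hg0 : g ≠ 0 := by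
      intro h0
      have h1 := hreg 1 (by rw [h0, zero_mul]; exact Ideal.zero_mem _)
      have h2 : (1 : MvPolynomial (Fin (n + 1)) k) ∈ idealOfVars (Fin (n + 1)) k := hI'm h1
      exact (isMaximal_idealOfVars (k := k) (σ := Fin (n + 1))).ne_top
        ((Ideal.eq_top_iff_one _).mpr h2)
    have hd0 : ((d (Fin.last r) : ℕ) : ℚ) ≠ 0 := by
      have : 0 < d (Fin.last r) := hgd
      exact_mod_cast this.ne'
    have hP'1 : 1 ≤ P'.natDegree := by omega
    obtain ⟨h1, h2⟩ := PolyDiff.natDegree_leadingCoeff_sub_comp P' (d (Fin.last r) : ℚ) hd0 hP'1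
    refine ⟨P' - P'.comp (Polynomial.X - Polynomial.C ((d (Fin.last r) : ℕ) : ℚ)), ?_, ?_,
      m₀ + d (Fin.last r), fun m hm => ?_⟩
    · rw [h1, hdeg']
      omega
    · rw [h1, h2, Fin.prod_univ_castSucc, ← hD']
      obtain ⟨t, ht⟩ : ∃ t, P'.natDegree = t + 1 := ⟨P'.natDegree - 1, by omega⟩
      rw [ht, Nat.add_sub_cancel, Nat.factorial_succ]
      push_cast
      ring
    · have hdm : d (Fin.last r) ≤ m := by omega
      rw [hspan, hilb_sup_span' hI'h hgh hg0 hreg hdm, Polynomial.eval_sub,
        HSPoly.eval_comp_X_sub_C, ← Nat.cast_sub hdm, hm₀ m (by omega),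
        hm₀ (m - d (Fin.last r)) (by omega)]
      push_cast
      rfl

end Main

end Groth.Agent.Lib.Helper90.Bezout
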