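import Mathlib
import Groth.Agent.Lib.Helper90.Conic

/-!
# Classification of conic classes of `DP 8` up to permutation
-/

namespace Groth.Agent.Lib.Helper90.Conic

open W4c3severiratdp

def sortedTail (l : List ℤ) : Bool := decide (l.tail.Pairwise (· ≥ ·))

def types15 : List (List ℤ) :=
  [[1, 1, 0, 0, 0, 0, 0, 0, 0],
   [2, 1, 1, 1, 1, 0, 0, 0, 0],
   [3, 2, 1, 1, 1, 1, 1, 0, 0],
   [4, 2, 2, 2, 1, 1, 1, 1, 0],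
   [4, 3, 1, 1, 1, 1, 1, 1, 1],
   [5, 2, 2, 2, 2, 2, 2, 1, 0],
   [5, 3, 2, 2, 2, 1, 1, 1, 1],
   [6, 3, 3, 2, 2, 2, 2, 1, 1],
   [7, 3, 3, 3, 3, 2, 2, 2, 1],
   [7, 4, 3, 2, 2, 2, 2, 2, 2],
   [8, 3, 3, 3, 3, 3, 3, 3, 1],
   [8, 4, 3, 3, 3, 3, 2, 2, 2],
   [9, 4, 4, 3, 3, 3, 3, 3, 2],
   [10, 4, 4, 4, 4, 3, 3, 3, 3],
   [11, 4, 4, 4, 4, 4, 4, 4, 3]]

set_option maxRecDepth 1000000 in
lemma filter_allSols : (allSols 8).filter sortedTail = types15 := by decide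

end Groth.Agent.Lib.Helper90.Conic
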