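import Mathlib
import Groth.Agent.Lib.Helper90.Conic2

namespace Groth.Agent.Lib.Helper90.Conic

open W4c3severiratdp

/-- invariance of conic-ness under permuting the `b`'s -/
lemma isConic_perm {δ : ℕ} (v t : DP δ) (σ : Equiv.Perm (Fin δ)) (h0 : v 0 = t 0)
    (h : ∀ i : Fin δ, v (σ i).succ = t i.succ) : IsConic v ↔ IsConic t := by
  rw [isConic_iff, isConic_iff, h0]
  have h1 : ∑ i : Fin δ, v i.succ * v i.succ = ∑ i : Fin δ, t i.succ * t i.succ := by
    rw [← Equiv.sum_comp σ (fun i => v i.succ * v i.succ)]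
    exact Finset.sum_congr rfl (fun i _ => by rw [h i])
  have h2 : ∑ i : Fin δ, v i.succ = ∑ i : Fin δ, t i.succ := by
    rw [← Equiv.sum_comp σ (fun i => v i.succ)]
    exact Finset.sum_congr rfl (fun i _ => by rw [h i])
  rw [h1, h2]

/-- every conic class of `DP 8` is, after sorting, one of the fifteen types. -/
lemma exists_sorted (v : DP 8) (hv : IsConic v) :
    ∃ (t : DP 8) (σ : Equiv.Perm (Fin 8)), List.ofFn t ∈ types15 ∧ v 0 = t 0 ∧
      ∀ i : Fin 8, v (σ i).succ = t i.succ := by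
  let b : Fin 8 → ℤ := fun i => v i.succ
  let σ : Equiv.Perm (Fin 8) := Fin.revPerm.trans (Tuple.sort b)
  let t : DP 8 := Fin.cons (α := fun _ => ℤ) (v 0) (fun i => b (σ i))
  have ht0 : t 0 = v 0 := rfl
  have hts : ∀ i : Fin 8, t i.succ = v (σ i).succ := fun i => by
    show Fin.cons (α := fun _ => ℤ) (v 0) (fun i => b (σ i)) i.succ = _
    rw [Fin.cons_succ]
  have hanti : ∀ i j : Fin 8, i < j → t i.succ ≥ t j.succ := by
    intro i j hij
    rw [hts, hts]
    show b (Tuple.sort b (Fin.rev j)) ≤ b (Tuple.sort b (Fin.rev i))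
    exact Tuple.monotone_sort b (Fin.rev_le_rev.mpr hij.le)
  have htc : IsConic t := (isConic_perm v t σ ht0.symm (fun i => (hts i).symm)).mp hv
  have hmem : List.ofFn t ∈ allSols 8 := (isConic_iff_mem (le_refl 8) t).mp htc
  have hsorted : sortedTail (List.ofFn t) = true := by
    unfold sortedTail
    rw [decide_eq_true_eq, List.ofFn_succ, List.tail_cons, List.pairwise_ofFn]
    exact hanti
  have hfil : List.ofFn t ∈ (allSols 8).filter sortedTail :=
    List.mem_filter.mpr ⟨hmem, hsorted⟩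
  rw [filter_allSols] at hfil
  exact ⟨t, σ, hfil, ht0.symm, fun i => (hts i).symm⟩

end Groth.Agent.Lib.Helper90.Conic
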