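import Mathlib
import Groth.Prelude.Def_Cyc

/-!
# Proper pushforward of cycles: functoriality (helper90)
-/

set_option autoImplicit false
universe u
open CategoryTheory AlgebraicGeometry Function

namespace Groth.Agent.Lib.Helper90.CycPush

theorem finsum_fiberwise' {X Y Z : Type*} (f : X → Y) (g : Y → Z) (z : Z) (c a : X → ℤ) (b : Y → ℤ)
    (hfin : ((g ∘ f) ⁻¹' {z} ∩ Function.support c).Finite) :
    ∑ᶠ y ∈ g ⁻¹' {z}, (∑ᶠ x ∈ f ⁻¹' {y}, c x * a x) * b y =
      ∑ᶠ x ∈ (g ∘ f) ⁻¹' {z}, c x * (a x * b (f x)) := by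
  classical
  set F := hfin.toFinset with hF
  have hmemF : ∀ x, x ∈ F ↔ g (f x) = z ∧ c x ≠ 0 := by
    intro x
    rw [hF, Set.Finite.mem_toFinset]
    rfl
  -- inner sums
  have hin : ∀ y ∈ g ⁻¹' {z}, ∑ᶠ x ∈ f ⁻¹' {y}, c x * a x = ∑ x ∈ F.filter (fun x => f x = y), c x * a x := by
    intro y hy
    apply finsum_mem_eq_sum_of_inter_support_eq
    ext x
    simp only [Set.mem_inter_iff, Set.mem_preimage, Set.mem_singleton_iff, mem_support,
      Finset.coe_filter, Set.mem_ofPred_eq, hmemF]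
    constructor
    · rintro ⟨rfl, h⟩
      exact ⟨⟨⟨hy, left_ne_zero_of_mul h⟩, rfl⟩, h⟩
    · rintro ⟨⟨-, h1⟩, h⟩
      exact ⟨h1, h⟩
  rw [finsum_mem_congr rfl (fun y hy => by rw [hin y hy])]
  have hout : ∑ᶠ y ∈ g ⁻¹' {z}, (∑ x ∈ F.filter (fun x => f x = y), c x * a x) * b y =
      ∑ y ∈ F.image f, (∑ x ∈ F.filter (fun x => f x = y), c x * a x) * b y := by
    apply finsum_mem_eq_sum_of_inter_support_eq
    ext y
    simp only [Set.mem_inter_iff, Set.mem_preimage, Set.mem_singleton_iff, mem_support,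
      Finset.coe_image, Set.mem_image, Finset.mem_coe]
    constructor
    · rintro ⟨hy, h⟩
      refine ⟨?_, h⟩
      have h1 := left_ne_zero_of_mul h
      obtain ⟨x, hx, -⟩ := Finset.exists_ne_zero_of_sum_ne_zero h1
      rw [Finset.mem_filter] at hx
      exact ⟨x, hx.1, hx.2⟩
    · rintro ⟨⟨x, hx, rfl⟩, h⟩
      exact ⟨((hmemF x).mp hx).1, h⟩
  rw [hout]
  have hrhs : ∑ᶠ x ∈ (g ∘ f) ⁻¹' {z}, c x * (a x * b (f x)) = ∑ x ∈ F, c x * (a x * b (f x)) := by
    apply finsum_mem_eq_sum_of_inter_support_eq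
    ext x
    simp only [Set.mem_inter_iff, Set.mem_preimage, Set.mem_singleton_iff, mem_support,
      Finset.mem_coe, hmemF, Function.comp_apply]
    constructor
    · rintro ⟨h1, h⟩
      exact ⟨⟨h1, left_ne_zero_of_mul h⟩, h⟩
    · rintro ⟨⟨h1, -⟩, h⟩
      exact ⟨h1, h⟩
  rw [hrhs, ← Finset.sum_fiberwise_of_maps_to (s := F) (t := F.image f) (g := f)
    (fun x hx => Finset.mem_image_of_mem f hx)]
  refine Finset.sum_congr rfl fun y _ => ?_
  rw [Finset.sum_mul]
  refine Finset.sum_congr rfl fun x hx => ?_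
  rw [Finset.mem_filter] at hx
  rw [← hx.2, mul_assoc]


variable {X Y Z : Scheme.{u}}

theorem residueDegree_comp (f : X ⟶ Y) (g : Y ⟶ Z) (x : X) :
    (f ≫ g).residueDegree x = g.residueDegree (f x) * f.residueDegree x := by
  let a1 : Algebra (Z.residueField (g (f x))) (Y.residueField (f x)) :=
    (g.residueFieldMap (f x)).hom.toAlgebra
  let a2 : Algebra (Y.residueField (f x)) (X.residueField x) :=
    (f.residueFieldMap x).hom.toAlgebra
  let a3 : Algebra (Z.residueField (g (f x))) (X.residueField x) :=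
    ((f ≫ g).residueFieldMap x).hom.toAlgebra
  haveI : IsScalarTower (Z.residueField (g (f x))) (Y.residueField (f x)) (X.residueField x) := by
    apply IsScalarTower.of_algebraMap_eq'
    change ((f ≫ g).residueFieldMap x).hom =
      (f.residueFieldMap x).hom.comp (g.residueFieldMap (f x)).hom
    rw [Scheme.residueFieldMap_comp]
    rfl
  exact (Module.finrank_mul_finrank (Z.residueField (g (f x))) (Y.residueField (f x))
    (X.residueField x)).symm

theorem mapCoeff_comp (f : X ⟶ Y) (g : Y ⟶ Z) (δX : X → ℤ) (δY : Y → ℤ) (δZ : Z → ℤ)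
    (hf : Cyc.DeltaCompat f δX δY) (hg : Cyc.DeltaCompat g δY δZ) (x : X) :
    AlgebraicCycle.mapCoeff (f ≫ g) δX δZ x =
      AlgebraicCycle.mapCoeff f δX δY x * AlgebraicCycle.mapCoeff g δY δZ (f x) := by
  obtain ⟨n₁, -, h1⟩ := hf x
  obtain ⟨n₂, -, h2⟩ := hg (f x)
  unfold AlgebraicCycle.mapCoeff
  have e : (f ≫ g).base x = g.base (f.base x) := rfl
  rw [e]
  by_cases c1 : δX x = δY (f.base x)
  · by_cases c2 : δY (f.base x) = δZ (g.base (f.base x))
    · rw [if_pos c1, if_pos c2, if_pos (c1.trans c2), residueDegree_comp, mul_comm]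
    · rw [if_neg c2, mul_zero, if_neg]
      intro h
      apply c2
      change δY (f x) = δZ (g (f x))
      change δX x = δY (f x) at c1
      change δX x = δZ (g (f x)) at h
      omega
  · rw [if_neg c1, zero_mul, if_neg]
    intro h
    apply c1
    change δX x = δY (f x)
    change δX x = δZ (g (f x)) at h
    omega


/-- the support of a cycle meets the fibre of a quasi-compact morphism in a finite set -/
theorem finite_fibre_inter_support (h : X ⟶ Z) [QuasiCompact h] (α : AlgebraicCycle X ℤ) (z : Z) :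
    (h ⁻¹' {z} ∩ Function.support α).Finite := by
  obtain ⟨U, hU⟩ := (PrespectralSpace.isTopologicalBasis (X := Z)).exists_subset_of_mem_open
    (by simp : z ∈ (⊤ : Set Z)) (by simp)
  have hc : IsCompact (h ⁻¹' U) := h.isSpectralMap.2 hU.1.1 hU.1.2
  refine (α.locallyFiniteSupport.finite_inter_support_of_isCompact hc).subset ?_
  intro x hx
  refine ⟨?_, hx.2⟩
  have : h x = z := hx.1
  change h x ∈ U
  rw [this]
  exact hU.2.1

/-- `g_* ∘ f_* = (g ∘ f)_*` on cycles -/
theorem map_map (f : X ⟶ Y) (g : Y ⟶ Z) [QuasiCompact f] [QuasiCompact g] (δX : X → ℤ)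
    (δY : Y → ℤ) (δZ : Z → ℤ) (hf : Cyc.DeltaCompat f δX δY) (hg : Cyc.DeltaCompat g δY δZ)
    (α : AlgebraicCycle X ℤ) :
    AlgebraicCycle.map g δY δZ (AlgebraicCycle.map f δX δY α) =
      AlgebraicCycle.map (f ≫ g) δX δZ α := by
  ext z
  have h1 := finsum_fiberwise' f g z α (fun x => (AlgebraicCycle.mapCoeff f δX δY x : ℤ))
    (fun y => (AlgebraicCycle.mapCoeff g δY δZ y : ℤ))
    (finite_fibre_inter_support (f ≫ g) α z)
  change ∑ᶠ y ∈ g ⁻¹' {z}, (∑ᶠ x ∈ f ⁻¹' {y}, α x * (AlgebraicCycle.mapCoeff f δX δY x : ℤ)) *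
      (AlgebraicCycle.mapCoeff g δY δZ y : ℤ) =
    ∑ᶠ x ∈ (f ≫ g) ⁻¹' {z}, α x * (AlgebraicCycle.mapCoeff (f ≫ g) δX δZ x : ℤ)
  rw [h1]
  refine finsum_mem_congr rfl fun x _ => ?_
  rw [mapCoeff_comp f g δX δY δZ hf hg x]
  push_cast
  rfl

end Groth.Agent.Lib.Helper90.CycPush
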