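import Mathlib
import Groth.Prelude.Def_Cyc
import Groth.Agent.Lib.Helper90.CycPull3
import Groth.Agent.Lib.Helper90.CycPush1
import Groth.Agent.Lib.Helper73.DimFormula.ProductDim
import Groth.Agent.Lib.Helper19.Cyc1941GEO
import Groth.Agent.Lib.Helper90.CycBC2
import Groth.Agent.Lib.Helper47.Cyc1941FIN
import Groth.Agent.Lib.Helper85.Cyc1941MULTALG
import Groth.Agent.Lib.Helper80.Cyc1941REGROUP

/-!
# Flat base change commutes with proper pushforward of cycles (helper90)
-/

set_option autoImplicit false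
universe u

open AlgebraicGeometry CategoryTheory CategoryTheory.Limits IsLocalRing

namespace Groth.Agent.Lib.Helper90.CycBC

open Groth.Agent.Lib.Helper90.CycPull

theorem finsum_mem_eq_finsum {A : Type*} (s : Set A) (H : A → ℤ) (h : ∀ a, a ∉ s → H a = 0) :
    ∑ᶠ a ∈ s, H a = ∑ᶠ a, H a := by
  classical
  apply finsum_congr
  intro a
  rw [finsum_eq_if]
  split_ifs with ha
  · rfl
  · exact (h a ha).symm

variable {X X' Y : Scheme.{u}}

/-- a point whose dimension is the expected one is maximal in its fibre -/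
theorem isFibMax_of_delta_eq (p : X' ⟶ X) (δ : X → ℤ) (δ' : X' → ℤ) (c : ℤ)
    (hδ' : Cyc.IsDimFun X' δ') (hc : ∀ y : X', IsFibMax p y → δ' y = δ (p y) + c) (x' : X')
    (h : δ' x' = δ (p x') + c) : IsFibMax p x' := by
  obtain ⟨z, hfz, hz, hmax⟩ := exists_isFibMax_specializes p x'
  by_cases hzx : z = x'
  · rw [← hzx]; exact hmax
  · exfalso
    have h1 := hc z hmax
    rw [hfz] at h1
    have := (hδ' z x' hz hzx).1
    omega

/-- the transcendence degree as a natural number, from `DeltaCompat` -/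
theorem delta_eq_add_resTrdegNat {A B : Scheme.{u}} (g : A ⟶ B) [LocallyOfFiniteType g]
    (δA : A → ℤ) (δB : B → ℤ) (hg : Cyc.DeltaCompat g δA δB) (a : A) :
    δA a = δB (g a) + Groth.Agent.Lib.Helper73.resTrdegNat g a := by
  obtain ⟨n, hn, hx⟩ := hg a
  have h1 : Groth.Agent.Lib.Helper73.resTrdeg g a = (n : Cardinal.{u}) := hn
  rw [Groth.Agent.Lib.Helper73.resTrdeg_eq_resTrdegNat] at h1
  have : Groth.Agent.Lib.Helper73.resTrdegNat g a = n := by exact_mod_cast h1
  rw [hx, this]

/-- the weight of a point of the fibre product in `f'_* q^*` -/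
noncomputable def W (f : Y ⟶ X) (p : X' ⟶ X) (δ' : X' → ℤ) (δY : Y → ℤ)
    (δY' : ↥(pullback f p) → ℤ) (c : ℤ) (y' : ↥(pullback f p)) : ℤ :=
  (if δY' y' = δY (pullback.fst f p y') + c then
    ((Module.length ((pullback f p).presheaf.stalk y')
      ((pullback f p).presheaf.stalk y' ⧸
        Ideal.map ((pullback.fst f p).stalkMap y').hom
          (maximalIdeal (Y.presheaf.stalk (pullback.fst f p y'))))).toNat : ℤ)
  else 0) * (AlgebraicCycle.mapCoeff (pullback.snd f p) δY' δ' y' : ℤ)

theorem pt_condition (f : Y ⟶ X) (p : X' ⟶ X) (y' : ↥(pullback f p)) :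
    f (pullback.fst f p y') = p (pullback.snd f p y') := by
  rw [← Scheme.Hom.comp_apply, ← Scheme.Hom.comp_apply, pullback.condition]

theorem key (f : Y ⟶ X) (p : X' ⟶ X) [LocallyOfFiniteType f] [Flat p] (δ : X → ℤ) (δ' : X' → ℤ)
    (δY : Y → ℤ) (δY' : ↥(pullback f p) → ℤ) (hX' : Cyc.IsSetup X' δ')
    (hf : Cyc.DeltaCompat f δY δ) (hf' : Cyc.DeltaCompat (pullback.snd f p) δY' δ') (c : ℤ)
    (hc : ∀ x' : X', (∀ y, p y = p x' → y ⤳ x' → y = x') → δ' x' = δ (p x') + c)
    (y : Y) (x' : X') (h : f y = p x') :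
    ∑ᶠ y' ∈ (pullback.snd f p) ⁻¹' {x'} ∩ (pullback.fst f p) ⁻¹' {y}, W f p δ' δY δY' c y' =
      if δ' x' = δ (p x') + c then
        (AlgebraicCycle.mapCoeff f δY δ y : ℤ) *
          ((Module.length (X'.presheaf.stalk x') (X'.presheaf.stalk x' ⧸
            Ideal.map (p.stalkMap x').hom (maximalIdeal (X.presheaf.stalk (p x'))))).toNat : ℤ)
      else 0 := by
  haveI : IsLocallyNoetherian X' := hX'.1
  have hle := delta_le p δ δ' c hX'.2.2 hc
  have hY := delta_eq_add_resTrdegNat f δY δ hf y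
  by_cases hmain : δY y = δ (f y) ∧ δ' x' = δ (p x') + c
  · obtain ⟨h1, h2⟩ := hmain
    have hgen : IsFibMax p x' := isFibMax_of_delta_eq p δ δ' c hX'.2.2 hc x' h2
    have ht0 : Groth.Agent.Lib.Helper73.resTrdegNat f y = 0 := by omega
    have hfin := Groth.Agent.Lib.Helper47.Cyc1941FIN.finite_residueField_of_trdeg_eq_zero f y (by
      have e := Groth.Agent.Lib.Helper73.resTrdeg_eq_resTrdegNat f y
      rw [ht0] at e
      exact_mod_cast e)
    rw [if_pos h2]
    have hmc : (AlgebraicCycle.mapCoeff f δY δ y : ℤ) = (f.residueDegree y : ℤ) := by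
      unfold AlgebraicCycle.mapCoeff
      rw [if_pos h1]
    rw [hmc, ← mult_identity_of f p y x'
      (Groth.Agent.Lib.Helper19.Cyc1941GEO.geo f p y x' h hgen hfin)
      (fun {A T} _ _ _ _ _ _ => Groth.Agent.Lib.Helper85.Cyc1941MULTALG.sum_length_localization_eq)]
    apply finsum_mem_congr
    · ext y'
      simp only [Set.mem_inter_iff, Set.mem_preimage, Set.mem_singleton_iff, Set.mem_setOf_eq]
      exact and_comm
    · intro y' hy'
      obtain ⟨hq, hf'y⟩ := hy'
      have hq' : pullback.fst f p y' = y := hq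
      have hf'y' : pullback.snd f p y' = x' := hf'y
      have hY' := delta_eq_add_resTrdegNat (pullback.snd f p) δY' δ' hf' y'
      have hle' := Groth.Agent.Lib.Helper73.resTrdegNat_le_of_isPullback f p (pullback.fst f p)
        (pullback.snd f p) (IsPullback.of_hasPullback f p) y'
      rw [hq', ht0] at hle'
      have hcond2 : δY' y' = δ' (pullback.snd f p y') := by omega
      have hcond1 : δY' y' = δY (pullback.fst f p y') + c := by
        rw [hcond2, hf'y', hq', h2, ← h, h1]
      unfold W AlgebraicCycle.mapCoeff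
      rw [if_pos hcond1, if_pos hcond2]
  · -- all terms vanish
    have hR : (if δ' x' = δ (p x') + c then
        (AlgebraicCycle.mapCoeff f δY δ y : ℤ) *
          ((Module.length (X'.presheaf.stalk x') (X'.presheaf.stalk x' ⧸
            Ideal.map (p.stalkMap x').hom (maximalIdeal (X.presheaf.stalk (p x'))))).toNat : ℤ)
        else 0) = 0 := by
      split_ifs with h2
      · have h1 : ¬ δY y = δ (f y) := fun h1 => hmain ⟨h1, h2⟩
        unfold AlgebraicCycle.mapCoeff
        rw [if_neg h1]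
        simp
      · rfl
    rw [hR]
    apply finsum_mem_eq_zero_of_forall_eq_zero
    intro y' hy'
    obtain ⟨hf'y, hq⟩ := hy'
    have hq' : pullback.fst f p y' = y := hq
    have hf'y' : pullback.snd f p y' = x' := hf'y
    unfold W AlgebraicCycle.mapCoeff
    by_cases hcond1 : δY' y' = δY (pullback.fst f p y') + c
    · by_cases hcond2 : δY' y' = δ' (pullback.snd f p y')
      · exfalso
        apply hmain
        rw [hq'] at hcond1
        rw [hf'y'] at hcond2
        have := hle x'
        rw [← h] at this ⊢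
        constructor <;> omega
      · rw [if_neg hcond2]
        simp
    · rw [if_neg hcond1]
      simp

/-- **flat base change commutes with proper pushforward** -/
theorem main1941 (X X' Y : Scheme.{u}) (f : Y ⟶ X) (p : X' ⟶ X) [IsProper f] [Flat p]
    (δ : X → ℤ) (δ' : X' → ℤ) (δY : Y → ℤ) (δY' : ↥(pullback f p) → ℤ)
    (hX' : Cyc.IsSetup X' δ') (hf : Cyc.DeltaCompat f δY δ)
    (hf' : Cyc.DeltaCompat (pullback.snd f p) δY' δ') (c : ℤ)
    (hc : ∀ x' : X', (∀ y, p y = p x' → y ⤳ x' → y = x') → δ' x' = δ (p x') + c)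
    (α : AlgebraicCycle Y ℤ) (α' : AlgebraicCycle (pullback f p) ℤ)
    (hα' : ⇑α' = Cyc.pullFun (pullback.fst f p) δY' δY c ⇑α) :
    Cyc.pullFun p δ' δ c ⇑(AlgebraicCycle.map f δY δ α) =
      ⇑(AlgebraicCycle.map (pullback.snd f p) δY' δ' α') := by
  funext x'
  -- the right hand side
  have hR : (AlgebraicCycle.map (pullback.snd f p) δY' δ' α') x' =
      ∑ᶠ y' ∈ (pullback.snd f p) ⁻¹' {x'},
        α' y' * (AlgebraicCycle.mapCoeff (pullback.snd f p) δY' δ' y' : ℤ) := rfl
  have hterm : ∀ y', α' y' * (AlgebraicCycle.mapCoeff (pullback.snd f p) δY' δ' y' : ℤ) =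
      α (pullback.fst f p y') * W f p δ' δY δY' c y' := by
    intro y'
    rw [hα']
    unfold Cyc.pullFun W
    split_ifs
    · ring
    · ring
  have hfinR : ((pullback.snd f p) ⁻¹' {x'} ∩ Function.support
      (fun y' => α (pullback.fst f p y') * W f p δ' δY δY' c y')).Finite := by
    refine (CycPush.finite_fibre_inter_support (pullback.snd f p) α' x').subset ?_
    intro y' hy'
    refine ⟨hy'.1, ?_⟩
    have h2 := hy'.2
    rw [Function.mem_support] at h2 ⊢
    intro h0
    apply h2
    rw [← hterm, h0, zero_mul]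
  rw [hR, finsum_mem_congr rfl (fun y' _ => hterm y'),
    Groth.Agent.Lib.Helper80.Cyc1941REGROUP.finsum_mem_fiberwise _ (pullback.fst f p) _ hfinR]
  -- inner sums
  have hin : ∀ y : Y, ∑ᶠ y' ∈ (pullback.snd f p) ⁻¹' {x'} ∩ (pullback.fst f p) ⁻¹' {y},
      α (pullback.fst f p y') * W f p δ' δY δY' c y' =
      α y * ∑ᶠ y' ∈ (pullback.snd f p) ⁻¹' {x'} ∩ (pullback.fst f p) ⁻¹' {y},
        W f p δ' δY δY' c y' := by
    intro y
    rw [mul_finsum_mem]
    apply finsum_mem_congr rfl
    intro y' hy'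
    have : pullback.fst f p y' = y := hy'.2
    rw [this]
  rw [finsum_congr hin]
  -- the left hand side
  have hL : Cyc.pullFun p δ' δ c (⇑(AlgebraicCycle.map f δY δ α)) x' =
      if δ' x' = δ (p x') + c then
        (∑ᶠ y ∈ f ⁻¹' {p x'}, α y * (AlgebraicCycle.mapCoeff f δY δ y : ℤ)) *
          ((Module.length (X'.presheaf.stalk x') (X'.presheaf.stalk x' ⧸
            Ideal.map (p.stalkMap x').hom (maximalIdeal (X.presheaf.stalk (p x'))))).toNat : ℤ)
      else 0 := rfl
  rw [hL]
  have hL2 : (if δ' x' = δ (p x') + c then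
        (∑ᶠ y ∈ f ⁻¹' {p x'}, α y * (AlgebraicCycle.mapCoeff f δY δ y : ℤ)) *
          ((Module.length (X'.presheaf.stalk x') (X'.presheaf.stalk x' ⧸
            Ideal.map (p.stalkMap x').hom (maximalIdeal (X.presheaf.stalk (p x'))))).toNat : ℤ)
      else 0) =
      ∑ᶠ y ∈ f ⁻¹' {p x'}, α y * (if δ' x' = δ (p x') + c then
        (AlgebraicCycle.mapCoeff f δY δ y : ℤ) *
          ((Module.length (X'.presheaf.stalk x') (X'.presheaf.stalk x' ⧸
            Ideal.map (p.stalkMap x').hom (maximalIdeal (X.presheaf.stalk (p x'))))).toNat : ℤ)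
        else 0) := by
    split_ifs with h2
    · rw [finsum_mem_mul]
      apply finsum_mem_congr rfl
      intro y _
      rw [mul_assoc]
    · symm
      apply finsum_mem_eq_zero_of_forall_eq_zero
      intro y _
      rw [mul_zero]
  rw [hL2]
  -- compare
  have hRR : ∑ᶠ y : Y, α y * ∑ᶠ y' ∈ (pullback.snd f p) ⁻¹' {x'} ∩ (pullback.fst f p) ⁻¹' {y},
        W f p δ' δY δY' c y' =
      ∑ᶠ y ∈ f ⁻¹' {p x'}, α y * ∑ᶠ y' ∈ (pullback.snd f p) ⁻¹' {x'} ∩ (pullback.fst f p) ⁻¹' {y},
        W f p δ' δY δY' c y' := by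
    symm
    apply finsum_mem_eq_finsum
    intro y hy
    have hempty : (pullback.snd f p) ⁻¹' {x'} ∩ (pullback.fst f p) ⁻¹' {y} = ∅ := by
      ext y'
      simp only [Set.mem_inter_iff, Set.mem_preimage, Set.mem_singleton_iff, Set.mem_empty_iff_false,
        iff_false, not_and]
      intro h1 h2
      apply hy
      change f y = p x'
      rw [← h1, ← h2]
      exact pt_condition f p y'
    rw [hempty, finsum_mem_empty, mul_zero]
  rw [hRR]
  apply finsum_mem_congr rfl
  intro y hy
  have hy' : f y = p x' := hy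
  rw [key f p δ δ' δY δY' hX' hf hf' c hc y x' hy']

end Groth.Agent.Lib.Helper90.CycBC
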