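import Mathlib
import Groth.Agent.Lib.Helper90.GradedLocal9

/-!
# Ramification and inertia through stalk maps (ring level)

Invariance of the fibre length `ℓ(O₂/𝔪₁O₂)` and of the residue degree under isomorphisms of arrows of
local rings, their identification with `Ideal.ramificationIdx` / `Ideal.inertiaDeg` for
`Localization.localRingHom`, and the sum formula `∑ e f = rank`.
-/

namespace Groth.Agent.Lib.Helper90.CycFin

universe u

open IsLocalRing

section Arrow

variable {O₁ O₂ O₁' O₂' : Type u} [CommRing O₁] [CommRing O₂] [CommRing O₁'] [CommRing O₂']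
  [IsLocalRing O₁] [IsLocalRing O₂] [IsLocalRing O₁'] [IsLocalRing O₂']

lemma map_maximalIdeal_ringEquiv (e : O₁ ≃+* O₁') :
    (maximalIdeal O₁).map (e : O₁ →+* O₁') = maximalIdeal O₁' :=
  map_maximalIdeal_of_surjective (e : O₁ →+* O₁') e.surjective

/-- the fibre length is invariant under isomorphisms of arrows. -/
theorem length_fibre_arrow (ψ : O₁ →+* O₂) (ψ' : O₁' →+* O₂') (e₁ : O₁ ≃+* O₁') (e₂ : O₂ ≃+* O₂')
    (h : ψ'.comp (e₁ : O₁ →+* O₁') = (e₂ : O₂ →+* O₂').comp ψ) :
    Module.length O₂ (O₂ ⧸ (maximalIdeal O₁).map ψ) =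
      Module.length O₂' (O₂' ⧸ (maximalIdeal O₁').map ψ') := by
  apply Groth.Agent.Lib.Helper90.GradedLocal.length_quot_ringEquiv e₂
  rw [Ideal.map_map, ← h, ← Ideal.map_map, map_maximalIdeal_ringEquiv]

/-- the residue degree is invariant under isomorphisms of arrows. -/
theorem finrank_residue_arrow (ψ : O₁ →+* O₂) (ψ' : O₁' →+* O₂') [IsLocalHom ψ] [IsLocalHom ψ']
    (e₁ : O₁ ≃+* O₁') (e₂ : O₂ ≃+* O₂')
    (h : ψ'.comp (e₁ : O₁ →+* O₁') = (e₂ : O₂ →+* O₂').comp ψ) :
    (letI := (ResidueField.map ψ).toAlgebra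
     Module.finrank (ResidueField O₁) (ResidueField O₂)) =
    (letI := (ResidueField.map ψ').toAlgebra
     Module.finrank (ResidueField O₁') (ResidueField O₂')) := by
  letI := (ResidueField.map ψ).toAlgebra
  letI := (ResidueField.map ψ').toAlgebra
  refine Algebra.finrank_eq_of_equiv_equiv (ResidueField.mapEquiv e₁) (ResidueField.mapEquiv e₂) ?_
  apply RingHom.ext
  intro z
  obtain ⟨a, rfl⟩ := residue_surjective z
  simp only [RingHom.coe_comp, Function.comp_apply, RingHom.algebraMap_toAlgebra,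
    RingEquiv.toRingHom_eq_coe, RingHom.coe_coe]
  change ResidueField.map ψ' (ResidueField.map (e₁ : O₁ →+* O₁') (residue O₁ a)) =
    ResidueField.map (e₂ : O₂ →+* O₂') (ResidueField.map ψ (residue O₁ a))
  rw [ResidueField.map_residue, ResidueField.map_residue, ResidueField.map_residue,
    ResidueField.map_residue]
  congr 1
  exact congrArg (fun g : O₁ →+* O₂' => g a) h

end Arrow

section Loc

variable {R S : Type u} [CommRing R] [CommRing S] [Algebra R S]
  (𝔭 : Ideal R) [𝔭.IsPrime] (𝔮 : Ideal S) [𝔮.IsPrime] [𝔮.LiesOver 𝔭]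

lemma map_maximalIdeal_localRingHom :
    (maximalIdeal (Localization.AtPrime 𝔭)).map
      (Localization.localRingHom 𝔭 𝔮 (algebraMap R S) Ideal.LiesOver.over) =
      𝔭.map (algebraMap R (Localization.AtPrime 𝔮)) := by
  rw [← Localization.AtPrime.map_eq_maximalIdeal, Ideal.map_map]
  congr 1
  apply RingHom.ext
  intro a
  rw [RingHom.comp_apply, Localization.localRingHom_to_map,
    IsScalarTower.algebraMap_apply R S (Localization.AtPrime 𝔮)]

theorem length_localRingHom_eq :
    (Module.length (Localization.AtPrime 𝔮) (Localization.AtPrime 𝔮 ⧸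
      (maximalIdeal (Localization.AtPrime 𝔭)).map
        (Localization.localRingHom 𝔭 𝔮 (algebraMap R S) Ideal.LiesOver.over))).toNat =
      𝔮.ramificationIdx R := by
  rw [Ideal.ramificationIdx_eq 𝔭 𝔮, map_maximalIdeal_localRingHom]

theorem finrank_localRingHom_eq :
    (letI := (ResidueField.map
        (Localization.localRingHom 𝔭 𝔮 (algebraMap R S) Ideal.LiesOver.over)).toAlgebra
     Module.finrank (ResidueField (Localization.AtPrime 𝔭))
      (ResidueField (Localization.AtPrime 𝔮))) = 𝔮.inertiaDeg R := by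
  letI := Localization.AtPrime.algebraOfLiesOver 𝔭 𝔮
  rw [Ideal.inertiaDeg_eq 𝔭 𝔮]
  let a2 : Algebra (ResidueField (Localization.AtPrime 𝔭)) (ResidueField (Localization.AtPrime 𝔮)) :=
    inferInstance
  let a1 : Algebra (ResidueField (Localization.AtPrime 𝔭)) (ResidueField (Localization.AtPrime 𝔮)) :=
    (ResidueField.map
      (Localization.localRingHom 𝔭 𝔮 (algebraMap R S) Ideal.LiesOver.over)).toAlgebra
  have key := @Algebra.finrank_eq_of_equiv_equiv (ResidueField (Localization.AtPrime 𝔭))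
    (ResidueField (Localization.AtPrime 𝔮)) _ _ a1 (ResidueField (Localization.AtPrime 𝔭))
    (ResidueField (Localization.AtPrime 𝔮)) _ _ a2
    (RingEquiv.refl _) (RingEquiv.refl _) (by
      apply RingHom.ext
      intro z
      obtain ⟨a, rfl⟩ := residue_surjective z
      rfl)
  exact key

end Loc

section LocHom

variable {R S : Type u} [CommRing R] [CommRing S] (φ : R →+* S)
  (𝔭 : Ideal R) [𝔭.IsPrime] (𝔮 : Ideal S) [𝔮.IsPrime] (h : 𝔭 = 𝔮.comap φ)

theorem length_localRingHom_eq' :
    (Module.length (Localization.AtPrime 𝔮) (Localization.AtPrime 𝔮 ⧸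
      (maximalIdeal (Localization.AtPrime 𝔭)).map
        (Localization.localRingHom 𝔭 𝔮 φ h))).toNat =
      @Ideal.ramificationIdx S _ 𝔮 R _ φ.toAlgebra := by
  letI := φ.toAlgebra
  haveI : 𝔮.LiesOver 𝔭 := ⟨h⟩
  exact length_localRingHom_eq 𝔭 𝔮

theorem finrank_localRingHom_eq' :
    (letI := (ResidueField.map (Localization.localRingHom 𝔭 𝔮 φ h)).toAlgebra
     Module.finrank (ResidueField (Localization.AtPrime 𝔭))
      (ResidueField (Localization.AtPrime 𝔮))) =
      @Ideal.inertiaDeg S _ 𝔮 R _ φ.toAlgebra := by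
  letI := φ.toAlgebra
  haveI : 𝔮.LiesOver 𝔭 := ⟨h⟩
  exact finrank_localRingHom_eq 𝔭 𝔮

end LocHom

section Sum

variable {R S : Type u} [CommRing R] [CommRing S] [Algebra R S] [Module.Finite R S]
  [Module.Flat R S] (𝔭 : Ideal R) [h𝔭 : 𝔭.IsPrime]

theorem sum_ramification_inertia_eq_rankAtStalk [Fintype (𝔭.primesOver S)] :
    ∑ q : 𝔭.primesOver S, q.1.ramificationIdx R * q.1.inertiaDeg R =
      Module.rankAtStalk S ⟨𝔭, h𝔭⟩ := by
  rw [Ideal.sum_ramification_inertia_eq_finrank_fiber, Ideal.finrank_fiber_eq_rankAtStalk]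

end Sum

end Groth.Agent.Lib.Helper90.CycFin
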