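import Mathlib
import Groth.Agent.Lib.Helper90.CycFin1

/-!
# Finite flat morphisms: fibre lengths, residue degrees and the rank

For a finite flat morphism `f : X ⟶ Y` and `y : Y`, the sum over the points `x` of the fibre of
`ℓ(O_x/𝔪_y O_x) · [κ(x) : κ(y)]` is the rank of `f` at `y`.
-/

namespace Groth.Agent.Lib.Helper90.CycFin

universe u

open AlgebraicGeometry CategoryTheory IsLocalRing

variable {X Y : Scheme.{u}} (f : X ⟶ Y)

section Local

variable {V : Y.Opens} (hV : IsAffineOpen V) {U : X.Opens} (hU : IsAffineOpen U)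
  (hUV : U ≤ f ⁻¹ᵁ V)

include hV in
theorem length_fibre_eq_ramificationIdx (x : X) (hx : x ∈ U) :
    (Module.length (X.presheaf.stalk x) (X.presheaf.stalk x ⧸
      (maximalIdeal (Y.presheaf.stalk (f x))).map (f.stalkMap x).hom)).toNat =
      @Ideal.ramificationIdx Γ(X, U) _ (hU.primeIdealOf ⟨x, hx⟩).asIdeal Γ(Y, V) _
        (f.appLE V U hUV).hom.toAlgebra := by
  let iso := IsAffineOpen.arrowStalkMapIso f V hV U hU hUV hx
  let e₁ := (Arrow.leftFunc.mapIso iso).commRingCatIsoToRingEquiv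
  let e₂ := (Arrow.rightFunc.mapIso iso).commRingCatIsoToRingEquiv
  have hw := iso.hom.w
  rw [← length_localRingHom_eq' (f.appLE V U hUV).hom (hV.primeIdealOf ⟨f x, hUV hx⟩).asIdeal
    (hU.primeIdealOf ⟨x, hx⟩).asIdeal
    congr($(IsAffineOpen.comap_primeIdealOf_appLE V hV U hU hUV hx).1).symm]
  congr 1
  refine length_fibre_arrow _ _ e₁ e₂ ?_
  exact congrArg CommRingCat.Hom.hom hw

include hV in
theorem residueDegree_eq_inertiaDeg (x : X) (hx : x ∈ U) :
    f.residueDegree x =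
      @Ideal.inertiaDeg Γ(X, U) _ (hU.primeIdealOf ⟨x, hx⟩).asIdeal Γ(Y, V) _
        (f.appLE V U hUV).hom.toAlgebra := by
  let iso := IsAffineOpen.arrowStalkMapIso f V hV U hU hUV hx
  let e₁ := (Arrow.leftFunc.mapIso iso).commRingCatIsoToRingEquiv
  let e₂ := (Arrow.rightFunc.mapIso iso).commRingCatIsoToRingEquiv
  have hw := iso.hom.w
  rw [← finrank_localRingHom_eq' (f.appLE V U hUV).hom (hV.primeIdealOf ⟨f x, hUV hx⟩).asIdeal
    (hU.primeIdealOf ⟨x, hx⟩).asIdeal
    congr($(IsAffineOpen.comap_primeIdealOf_appLE V hV U hU hUV hx).1).symm]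
  have := Localization.isLocalHom_localRingHom (hV.primeIdealOf ⟨f x, hUV hx⟩).asIdeal
    (hU.primeIdealOf ⟨x, hx⟩).asIdeal (f.appLE V U hUV).hom
    congr($(IsAffineOpen.comap_primeIdealOf_appLE V hV U hU hUV hx).1).symm
  exact finrank_residue_arrow (f.stalkMap x).hom _ e₁ e₂ (congrArg CommRingCat.Hom.hom hw)

end Local

section Pullback

variable {V : Y.Opens} (hV : IsAffineOpen V) [IsAffineHom f]

theorem isPullback_fromSpec :
    IsPullback (hV.preimage f).fromSpec (Spec.map (f.appLE V (f ⁻¹ᵁ V) le_rfl)) f hV.fromSpec := by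
  have h1 : IsPullback (f ⁻¹ᵁ V).ι (f ∣_ V) f V.ι := (isPullback_morphismRestrict f V).flip
  have hcomm : (hV.preimage f).isoSpec.inv ≫ (f ∣_ V) =
      Spec.map (f.appLE V (f ⁻¹ᵁ V) le_rfl) ≫ hV.isoSpec.inv := by
    rw [← cancel_mono V.ι]
    simp only [Category.assoc, morphismRestrict_ι]
    rw [IsAffineOpen.isoSpec_inv_ι, ← Category.assoc, IsAffineOpen.isoSpec_inv_ι]
    exact (IsAffineOpen.SpecMap_appLE_fromSpec f hV (hV.preimage f) le_rfl).symm
  have h2 : IsPullback (hV.preimage f).isoSpec.inv (Spec.map (f.appLE V (f ⁻¹ᵁ V) le_rfl))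
      (f ∣_ V) hV.isoSpec.inv := IsPullback.of_horiz_isIso ⟨hcomm⟩
  exact h2.paste_horiz h1

end Pullback

section Global

variable [IsFinite f] [Flat f]

theorem finrank_eq_of_isAffineOpen {V : Y.Opens} (hV : IsAffineOpen V) (y : Y) (hy : y ∈ V) :
    f.finrank y = (f.appLE V (f ⁻¹ᵁ V) le_rfl).hom.finrank (hV.primeIdealOf ⟨y, hy⟩) := by
  have hfin : (f.appLE V (f ⁻¹ᵁ V) le_rfl).hom.Finite := by
    rw [← Scheme.Hom.app_eq_appLE]
    exact f.finite_app V hV
  have hflat : (f.appLE V (f ⁻¹ᵁ V) le_rfl).hom.Flat := f.flat_appLE hV (hV.preimage f) le_rfl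
  have h := Scheme.Hom.finrank_of_isPullback _ _ _ _ (isPullback_fromSpec f hV)
    (hV.primeIdealOf ⟨y, hy⟩)
  rw [hV.fromSpec_primeIdealOf ⟨y, hy⟩] at h
  rw [← h, Scheme.Hom.finrank_SpecMap_eq_finrank hfin hflat]

end Global

end Groth.Agent.Lib.Helper90.CycFin
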