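import Mathlib
import Groth.Agent.Lib.Helper90.CycFin2

/-!
# The degree formula on fibres of a finite flat morphism
-/

namespace Groth.Agent.Lib.Helper90.CycFin

universe u

open AlgebraicGeometry CategoryTheory IsLocalRing

variable {X Y : Scheme.{u}} (f : X ⟶ Y) [IsFinite f] [Flat f]

/-- the residue field extensions of a finite morphism are finite. -/
theorem residueDegree_pos (x : X) : 0 < f.residueDegree x := by
  obtain ⟨V, hV, hxV, -⟩ := exists_isAffineOpen_mem_and_subset (X := Y) (x := f x) (U := ⊤) trivial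
  have hx : x ∈ f ⁻¹ᵁ V := hxV
  rw [residueDegree_eq_inertiaDeg f hV (hV.preimage f) le_rfl x hx]
  letI : Algebra Γ(Y, V) Γ(X, f ⁻¹ᵁ V) := (f.appLE V (f ⁻¹ᵁ V) le_rfl).hom.toAlgebra
  haveI : Module.Finite Γ(Y, V) Γ(X, f ⁻¹ᵁ V) := by
    have hfin : (f.appLE V (f ⁻¹ᵁ V) le_rfl).hom.Finite := by
      rw [← Scheme.Hom.app_eq_appLE]
      exact f.finite_app V hV
    exact hfin
  exact Ideal.inertiaDeg_pos _ _

/-- the degree formula: `∑_{x ↦ y} ℓ(O_x/𝔪_y O_x) [κ(x):κ(y)] = rank_y f`. -/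
theorem finsum_fibre (y : Y) :
    ∑ᶠ x ∈ f ⁻¹' {y}, ((Module.length (X.presheaf.stalk x) (X.presheaf.stalk x ⧸
      (maximalIdeal (Y.presheaf.stalk (f x))).map (f.stalkMap x).hom)).toNat *
        f.residueDegree x) = f.finrank y := by
  classical
  obtain ⟨V, hV, hyV, -⟩ := exists_isAffineOpen_mem_and_subset (X := Y) (x := y) (U := ⊤) trivial
  have hU := hV.preimage f
  letI : Algebra Γ(Y, V) Γ(X, f ⁻¹ᵁ V) := (f.appLE V (f ⁻¹ᵁ V) le_rfl).hom.toAlgebra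
  have hfin : (f.appLE V (f ⁻¹ᵁ V) le_rfl).hom.Finite := by
    rw [← Scheme.Hom.app_eq_appLE]
    exact f.finite_app V hV
  have hflat : (f.appLE V (f ⁻¹ᵁ V) le_rfl).hom.Flat := f.flat_appLE hV hU le_rfl
  haveI : Module.Finite Γ(Y, V) Γ(X, f ⁻¹ᵁ V) := hfin
  haveI : Module.Flat Γ(Y, V) Γ(X, f ⁻¹ᵁ V) := hflat
  set P := hV.primeIdealOf ⟨y, hyV⟩ with hP
  haveI : Fintype (P.asIdeal.primesOver Γ(X, f ⁻¹ᵁ V)) :=
    (Algebra.QuasiFinite.finite_primesOver P.asIdeal).fintype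
  let σ : P.asIdeal.primesOver Γ(X, f ⁻¹ᵁ V) → X :=
    fun 𝔮 => hU.fromSpec (⟨𝔮.1, 𝔮.2.1⟩ : PrimeSpectrum Γ(X, f ⁻¹ᵁ V))
  have hσ_inj : Function.Injective σ := by
    intro 𝔮 𝔮' h
    have h1 := hU.fromSpec.isOpenEmbedding.injective h
    apply Subtype.ext
    exact congrArg PrimeSpectrum.asIdeal h1
  have hσ_mem : ∀ 𝔮, σ 𝔮 ∈ f ⁻¹ᵁ V := fun 𝔮 => by
    have : σ 𝔮 ∈ Set.range hU.fromSpec := ⟨_, rfl⟩
    rw [hU.range_fromSpec] at this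
    exact this
  have hσ_prime : ∀ 𝔮, hU.primeIdealOf ⟨σ 𝔮, hσ_mem 𝔮⟩ =
      (⟨𝔮.1, 𝔮.2.1⟩ : PrimeSpectrum Γ(X, f ⁻¹ᵁ V)) := fun 𝔮 => by
    apply hU.fromSpec.isOpenEmbedding.injective
    exact hU.fromSpec_primeIdealOf ⟨σ 𝔮, hσ_mem 𝔮⟩
  have hσ_range : Set.range σ = f ⁻¹' {y} := by
    ext x
    constructor
    · rintro ⟨𝔮, rfl⟩
      have h1 := IsAffineOpen.comap_primeIdealOf_appLE V hV (f ⁻¹ᵁ V) hU le_rfl (hσ_mem 𝔮)
      rw [hσ_prime 𝔮] at h1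
      have h2 : (⟨𝔮.1, 𝔮.2.1⟩ : PrimeSpectrum Γ(X, f ⁻¹ᵁ V)).comap
          (f.appLE V (f ⁻¹ᵁ V) le_rfl).hom = P := by
        apply PrimeSpectrum.ext
        exact (𝔮.2.2.over).symm
      rw [h2] at h1
      have h3 := hV.fromSpec_primeIdealOf ⟨f (σ 𝔮), hσ_mem 𝔮⟩
      rw [← h1, hP, hV.fromSpec_primeIdealOf ⟨y, hyV⟩] at h3
      exact h3.symm
    · intro hx
      have hxy : f x = y := hx
      have hxU : x ∈ f ⁻¹ᵁ V := by
        change f x ∈ V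
        rw [hxy]
        exact hyV
      have h1 := IsAffineOpen.comap_primeIdealOf_appLE V hV (f ⁻¹ᵁ V) hU le_rfl hxU
      have h2 : hV.primeIdealOf ⟨f x, hxU⟩ = P := by
        rw [hP]
        congr 1
        exact Subtype.ext hxy
      rw [h2] at h1
      refine ⟨⟨(hU.primeIdealOf ⟨x, hxU⟩).asIdeal, (hU.primeIdealOf ⟨x, hxU⟩).isPrime, ⟨?_⟩⟩, ?_⟩
      · exact (congrArg PrimeSpectrum.asIdeal h1).symm
      · exact hU.fromSpec_primeIdealOf ⟨x, hxU⟩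
  rw [← hσ_range, finsum_mem_range hσ_inj, finsum_eq_sum_of_fintype]
  have hterm : ∀ 𝔮 : P.asIdeal.primesOver Γ(X, f ⁻¹ᵁ V),
      (Module.length (X.presheaf.stalk (σ 𝔮)) (X.presheaf.stalk (σ 𝔮) ⧸
        (maximalIdeal (Y.presheaf.stalk (f (σ 𝔮)))).map (f.stalkMap (σ 𝔮)).hom)).toNat *
        f.residueDegree (σ 𝔮) = 𝔮.1.ramificationIdx Γ(Y, V) * 𝔮.1.inertiaDeg Γ(Y, V) := by
    intro 𝔮
    rw [length_fibre_eq_ramificationIdx f hV hU le_rfl (σ 𝔮) (hσ_mem 𝔮),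
      residueDegree_eq_inertiaDeg f hV hU le_rfl (σ 𝔮) (hσ_mem 𝔮), hσ_prime 𝔮]
  rw [Finset.sum_congr rfl (fun 𝔮 _ => hterm 𝔮), sum_ramification_inertia_eq_rankAtStalk,
    finrank_eq_of_isAffineOpen f hV y hyV]
  rfl

end Groth.Agent.Lib.Helper90.CycFin
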