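import Mathlib
import Groth.Prelude.Def_Cyc
import Groth.Agent.Lib.Helper90.CycFin3

/-!
# Finite flat morphisms and cycles: relative dimension zero, dimension functions, `f_* f^* = d`
-/

namespace Groth.Agent.Lib.Helper90.CycFin

universe u

open AlgebraicGeometry CategoryTheory IsLocalRing

variable {X Y : Scheme.{u}} (f : X ⟶ Y) [IsFinite f] [Flat f]

/-- the dimension function is preserved by a finite morphism. -/
theorem delta_eq (δX : X → ℤ) (δY : Y → ℤ) (hδ : Cyc.DeltaCompat f δX δY) (x : X) :
    δX x = δY (f x) := by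
  obtain ⟨n, hn, hx⟩ := hδ x
  letI := (f.residueFieldMap x).hom.toAlgebra
  have hpos : 0 < Module.finrank (Y.residueField (f x)) (X.residueField x) := residueDegree_pos f x
  haveI : Module.Finite (Y.residueField (f x)) (X.residueField x) := Module.finite_of_finrank_pos hpos
  have h0 : Algebra.trdeg (Y.residueField (f x)) (X.residueField x) = 0 :=
    _root_.trdeg_eq_zero
  rw [h0] at hn
  have : n = 0 := by exact_mod_cast hn.symm
  rw [hx, this]
  simp

/-- a finite morphism has relative dimension zero. -/
theorem hasRelDim_zero : Cyc.HasRelDim f 0 := by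
  intro y T hT
  have hirr : IsIrreducible T := hT.1
  apply le_antisymm
  · refine (topologicalKrullDim_subspace_le _ T).trans ?_
    haveI : IsFinite (f.fiberToSpecResidueField y) := MorphismProperty.pullback_snd _ _ inferInstance
    have hfin := (f.fiberToSpecResidueField y).finite_appTop
    letI : Algebra Γ(Spec (Y.residueField y), ⊤) Γ(f.fiber y, ⊤) :=
      (f.fiberToSpecResidueField y).appTop.hom.toAlgebra
    haveI : Module.Finite Γ(Spec (Y.residueField y), ⊤) Γ(f.fiber y, ⊤) := hfin
    haveI : IsArtinianRing Γ(Spec (Y.residueField y), ⊤) :=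
      (Scheme.ΓSpecIso (Y.residueField y)).symm.commRingCatIsoToRingEquiv.isArtinianRing
    haveI : IsArtinianRing Γ(f.fiber y, ⊤) :=
      IsArtinianRing.of_finite Γ(Spec (Y.residueField y), ⊤) Γ(f.fiber y, ⊤)
    rw [IsHomeomorph.topologicalKrullDim_eq _ (f.fiber y).isoSpec.hom.homeomorph.isHomeomorph]
    change topologicalKrullDim (PrimeSpectrum Γ(f.fiber y, ⊤)) ≤ 0
    rw [PrimeSpectrum.topologicalKrullDim_eq_ringKrullDim]
    exact Ring.krullDimLE_iff.mp inferInstance
  · haveI : IrreducibleSpace T := Subtype.irreducibleSpace hirr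
    haveI : Nonempty (TopologicalSpace.IrreducibleCloseds T) :=
      ⟨⟨Set.univ, IrreducibleSpace.isIrreducible_univ T, isClosed_univ⟩⟩
    exact Order.krullDim_nonneg

end Groth.Agent.Lib.Helper90.CycFin
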