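import Mathlib
import Groth.Prelude.Def_IntMult
import Groth.Agent.Lib.Helper90.IntMultGeom
import Groth.Agent.Lib.Helper82.EffCartier
import Groth.Agent.Lib.Helper94.RegImmPt

/-!
# Stalks of ideal sheaves: pullbacks, sums, kernels of closed immersions (helper90)
-/

set_option autoImplicit false
universe u

open AlgebraicGeometry CategoryTheory Limits

namespace Groth.Agent.Lib.Helper90.DiagSch

variable {X Y : Scheme.{u}}

/-- the stalk of the pullback ideal sheaf is the extension of the stalk -/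
theorem stalkIdeal_comap (g : Y ⟶ X) (I : X.IdealSheafData) (y : Y) :
    IntMult.stalkIdeal (I.comap g) y = (IntMult.stalkIdeal I (g y)).map (g.stalkMap y).hom := by
  obtain ⟨W, hW⟩ := Groth.Agent.Lib.Helper64.StalkIdeal.exists_affine_nhd (g y)
  obtain ⟨_, ⟨U, hU, rfl⟩, hyU, hUW⟩ := Y.isBasis_affineOpens.exists_subset_of_mem_open
    (show y ∈ ((g ⁻¹ᵁ W.1 : Y.Opens) : Set Y) from hW) (g ⁻¹ᵁ W.1).isOpen
  have e : U ≤ g ⁻¹ᵁ W.1 := hUW
  rw [IntMultGeom.stalkIdeal_eq, IntMultGeom.stalkIdeal_eq,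
    Groth.Agent.Lib.Helper64.StalkIdeal.stalkIdeal_eq (I.comap g) ⟨U, hU⟩ y hyU,
    Groth.Agent.Lib.Helper64.StalkIdeal.stalkIdeal_eq I W (g y) hW,
    Groth.Agent.Lib.Helper82.ideal_comap_of_le g I U hU W.1 W.2 e, Ideal.map_map, Ideal.map_map]
  congr 1
  rw [← CommRingCat.hom_comp, ← CommRingCat.hom_comp]
  congr 1
  rw [Scheme.Hom.germ_stalkMap, Scheme.Hom.appLE, Category.assoc]
  congr 1
  exact Y.presheaf.germ_res (homOfLE e) y hyU

/-- the stalk of a sum of ideal sheaves is the sum of the stalks -/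
theorem stalkIdeal_sup (I J : X.IdealSheafData) (x : X) :
    IntMult.stalkIdeal (I ⊔ J) x = IntMult.stalkIdeal I x ⊔ IntMult.stalkIdeal J x := by
  obtain ⟨U, hU⟩ := Groth.Agent.Lib.Helper64.StalkIdeal.exists_affine_nhd x
  rw [IntMultGeom.stalkIdeal_eq, IntMultGeom.stalkIdeal_eq, IntMultGeom.stalkIdeal_eq,
    Groth.Agent.Lib.Helper64.StalkIdeal.stalkIdeal_eq _ U x hU,
    Groth.Agent.Lib.Helper64.StalkIdeal.stalkIdeal_eq _ U x hU,
    Groth.Agent.Lib.Helper64.StalkIdeal.stalkIdeal_eq _ U x hU,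
    Scheme.IdealSheafData.ideal_sup, Pi.sup_apply, Ideal.map_sup]

/-- the stalk of the kernel of a closed immersion is the kernel of the stalk map -/
theorem stalkIdeal_ker (i : Y ⟶ X) [IsClosedImmersion i] (z : Y) :
    IntMult.stalkIdeal i.ker (i z) = RingHom.ker (i.stalkMap z).hom := by
  obtain ⟨U, hU⟩ := Groth.Agent.Lib.Helper64.StalkIdeal.exists_affine_nhd (i z)
  rw [IntMultGeom.stalkIdeal_eq, Groth.Agent.Lib.Helper64.StalkIdeal.stalkIdeal_eq _ U (i z) hU,
    Groth.Agent.Lib.Helper94.RegImmPt.ker_stalkMap i z U.1 U.2 hU, Scheme.Hom.ker_apply]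

/-- transport of stalk ideals along equality of points -/
theorem stalkIdeal_map_stalkCongr (I : X.IdealSheafData) {x x' : X} (h : x = x') :
    (IntMult.stalkIdeal I x).map (X.presheaf.stalkCongr (.of_eq h)).hom.hom =
      IntMult.stalkIdeal I x' := by
  subst h
  have : (X.presheaf.stalkCongr (Inseparable.of_eq (rfl : x = x))).hom = 𝟙 _ := by
    simp [TopCat.Presheaf.stalkCongr]
  rw [this]
  exact Ideal.map_id _

end Groth.Agent.Lib.Helper90.DiagSch
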