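import Mathlib
import Groth.Prelude.Def_IntMult
import Groth.Prelude.Def_Cyc
import Groth.Agent.Lib.Helper90.DiagSch1

/-!
# Closed immersions: stalks as quotients, the ideal of `Y ×_X Z`, and the cycle of a closed subscheme
(helper90)
-/

set_option autoImplicit false
universe u

open AlgebraicGeometry CategoryTheory Limits

namespace Groth.Agent.Lib.Helper90.CycOne

variable {X Y Z : Scheme.{u}}

/-- the local ring of a closed subscheme is the quotient of the ambient local ring by the stalk of
the ideal sheaf -/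
noncomputable def stalkRingEquiv (i : Y ⟶ X) [IsClosedImmersion i] (y : Y) :
    (X.presheaf.stalk (i y) ⧸ IntMult.stalkIdeal i.ker (i y)) ≃+* Y.presheaf.stalk y :=
  (Ideal.quotEquivOfEq (DiagSch.stalkIdeal_ker i y)).trans
    (RingHom.quotientKerEquivOfSurjective (f := (i.stalkMap y).hom) (i.stalkMap_surjective y))

theorem nonempty_stalkRingEquiv (i : Y ⟶ X) [IsClosedImmersion i] (y : Y) (τ : X) (hy : i y = τ) :
    Nonempty ((X.presheaf.stalk τ ⧸ IntMult.stalkIdeal i.ker τ) ≃+* Y.presheaf.stalk y) := by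
  subst hy
  exact ⟨stalkRingEquiv i y⟩

/-- the ideal sheaf of the scheme-theoretic intersection `Y ×_X Z` of two closed subschemes -/
theorem ker_pullback_fst_comp (ιY : Y ⟶ X) (ιZ : Z ⟶ X) [IsClosedImmersion ιY]
    [IsClosedImmersion ιZ] : (pullback.fst ιY ιZ ≫ ιY).ker = ιY.ker ⊔ ιZ.ker := by
  apply le_antisymm
  · set t := (ιY.ker ⊔ ιZ.ker).subschemeι with ht
    have hY : ιY.ker ≤ t.ker := by
      rw [ht, Scheme.IdealSheafData.ker_subschemeι]; exact le_sup_left
    have hZ : ιZ.ker ≤ t.ker := by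
      rw [ht, Scheme.IdealSheafData.ker_subschemeι]; exact le_sup_right
    let a := IsClosedImmersion.lift ιY t hY
    let b := IsClosedImmersion.lift ιZ t hZ
    have hab : a ≫ ιY = b ≫ ιZ := by
      rw [IsClosedImmersion.lift_fac, IsClosedImmersion.lift_fac]
    let c := pullback.lift a b hab
    have hc : c ≫ (pullback.fst ιY ιZ ≫ ιY) = t := by
      rw [← Category.assoc, pullback.lift_fst, IsClosedImmersion.lift_fac]
    calc (pullback.fst ιY ιZ ≫ ιY).ker ≤ (c ≫ (pullback.fst ιY ιZ ≫ ιY)).ker :=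
          Scheme.Hom.le_ker_comp _ _
      _ = ιY.ker ⊔ ιZ.ker := by rw [hc, ht, Scheme.IdealSheafData.ker_subschemeι]
  · apply sup_le
    · exact Scheme.Hom.le_ker_comp _ _
    · rw [pullback.condition]; exact Scheme.Hom.le_ker_comp _ _

/-- fibres of a closed immersion are singletons -/
theorem fibre_eq_singleton (i : Y ⟶ X) [IsClosedImmersion i] (y : Y) :
    {y' : Y | i y' = i y} = {y} := by
  ext y'
  simp only [Set.mem_setOf_eq, Set.mem_singleton_iff]
  exact ⟨fun h => i.isClosedEmbedding.injective h, fun h => by rw [h]⟩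

/-- the coefficient of `[Y]_k` at the image of a point -/
theorem subschemeFun_apply (δ : X → ℤ) (k : ℤ) (i : Y ⟶ X) [IsClosedImmersion i] (y : Y) :
    Cyc.subschemeFun δ k i (i y) = if δ (i y) = k then
      ((Module.length (Y.presheaf.stalk y) (Y.presheaf.stalk y)).toNat : ℤ) else 0 := by
  unfold Cyc.subschemeFun
  split_ifs with h
  · rw [fibre_eq_singleton i y, finsum_mem_singleton]
  · rfl

/-- the coefficient of `[Y]_k` vanishes off the image -/
theorem subschemeFun_eq_zero_of_notMem (δ : X → ℤ) (k : ℤ) (i : Y ⟶ X) (x : X)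
    (hx : x ∉ Set.range i) : Cyc.subschemeFun δ k i x = 0 := by
  unfold Cyc.subschemeFun
  split_ifs with h
  · have : {z : Y | i z = x} = ∅ := by
      ext z
      simp only [Set.mem_setOf_eq, Set.mem_empty_iff_false, iff_false]
      exact fun hz => hx ⟨z, hz⟩
    rw [this, finsum_mem_empty]
  · rfl

theorem subschemeFun_eq_zero_of_ne (δ : X → ℤ) (k : ℤ) (i : Y ⟶ X) (x : X)
    (hx : δ x ≠ k) : Cyc.subschemeFun δ k i x = 0 := by
  unfold Cyc.subschemeFun
  rw [if_neg hx]

end Groth.Agent.Lib.Helper90.CycOne
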