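import Mathlib
import Groth.Agent.Lib.Helper90.RegSplit2

/-!
# Ring lemmas for transversal intersections at a point (helper90)
-/

set_option autoImplicit false
universe u

open IsLocalRing RingTheory.Sequence

namespace Groth.Agent.Lib.Helper90.CycOne

section Basic

lemma exists_nat_of_le_of_le (x : WithBot ℕ∞) (a N : ℕ) (h1 : (a : WithBot ℕ∞) ≤ x)
    (h2 : x ≤ (N : WithBot ℕ∞)) : ∃ b : ℕ, x = (b : WithBot ℕ∞) ∧ a ≤ b ∧ b ≤ N := by
  induction x using WithBot.recBotCoe with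
  | bot => exact absurd h1 (not_le_of_gt (WithBot.bot_lt_coe _))
  | coe y =>
    have hy : y ≤ (N : ℕ∞) := by exact_mod_cast h2
    have hyt : y ≠ ⊤ := ne_top_of_le_ne_top (ENat.coe_ne_top N) hy
    obtain ⟨b, rfl⟩ := ENat.ne_top_iff_exists.mp hyt
    refine ⟨b, rfl, ?_, ?_⟩
    · exact_mod_cast h1
    · exact_mod_cast hy

variable {A : Type u} [CommRing A]

theorem isField_of_length_self_eq_one (h : Module.length A A = 1) : IsField A := by
  have hs : IsSimpleModule A A := Module.length_eq_one_iff.mp h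
  obtain ⟨hnt, hu⟩ := isSimpleModule_self_iff_isUnit.mp hs
  exact
    { exists_pair_ne := hnt.exists_pair_ne
      mul_comm := mul_comm
      mul_inv_cancel := fun {a} ha => by
        obtain ⟨u, rfl⟩ := hu a ha
        exact ⟨↑u⁻¹, by simp⟩ }

theorem length_self_eq_one_of_isField (h : IsField A) : Module.length A A = 1 := by
  rw [Module.length_eq_one_iff, isSimpleModule_self_iff_isUnit]
  refine ⟨⟨h.exists_pair_ne⟩, fun x hx => ?_⟩
  obtain ⟨y, hy⟩ := h.mul_inv_cancel hx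
  exact IsUnit.of_mul_eq_one y hy

theorem length_quotient_maximalIdeal [IsLocalRing A] :
    Module.length A (A ⧸ maximalIdeal A) = 1 := by
  rw [Module.length_eq_one_iff, isSimpleModule_iff_isCoatom, ← Ideal.isMaximal_def]
  exact maximalIdeal.isMaximal A

/-- a prime `𝔭` containing a prime `𝔞` with `dim A/𝔭 = dim A/𝔞` finite equals `𝔞` -/
theorem eq_of_le_of_ringKrullDim_eq (𝔞 𝔭 : Ideal A) [IsDomain (A ⧸ 𝔞)] (hle : 𝔞 ≤ 𝔭) (a : ℕ)
    (h1 : ringKrullDim (A ⧸ 𝔞) = (a : WithBot ℕ∞)) (h2 : ringKrullDim (A ⧸ 𝔭) = (a : WithBot ℕ∞)) :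
    𝔭 = 𝔞 := by
  apply le_antisymm _ hle
  intro x hx
  by_contra hxa
  have hr0 : Ideal.Quotient.mk 𝔞 x ≠ 0 := by
    rwa [Ne, Ideal.Quotient.eq_zero_iff_mem]
  have hnzd : Ideal.Quotient.mk 𝔞 x ∈ nonZeroDivisors (A ⧸ 𝔞) := mem_nonZeroDivisors_of_ne_zero hr0
  have h3 := ringKrullDim_succ_le_of_surjective (Ideal.Quotient.factor hle)
    (Ideal.Quotient.factor_surjective hle) hnzd (by
      rw [Ideal.Quotient.factor_mk, Ideal.Quotient.eq_zero_iff_mem]; exact hx)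
  rw [h1, h2] at h3
  have h4 : ((a + 1 : ℕ) : WithBot ℕ∞) ≤ (a : WithBot ℕ∞) := by
    push_cast
    exact h3
  have h5 : a + 1 ≤ a := by exact_mod_cast h4
  omega

end Basic

/-- `RegSplit.split_regular` with the dimension count `aP + aQ = N` made explicit -/
theorem split_regular' (O : Type u) [CommRing O] [IsRegularLocalRing O] (N : ℕ)
    (hN : ringKrullDim O = N) (P Q : Ideal O) (hPQ : P ⊔ Q = maximalIdeal O) (aP aQ : ℕ)
    (hP : ringKrullDim (O ⧸ P) = aP) (hQ : ringKrullDim (O ⧸ Q) = aQ) (hle : N ≤ aP + aQ) :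
    IsRegularLocalRing (O ⧸ P) ∧ IsRegularLocalRing (O ⧸ Q) ∧ aP + aQ = N ∧
      ∃ (c : ℕ) (g : Fin c → O), P = Ideal.span (Set.range g) ∧ IsRegular O (List.ofFn g) ∧
        c = aQ := by
  obtain ⟨h1, h2, c, g, hg, hreg, hc⟩ :=
    RegSplit.split_regular O N hN P Q hPQ aP aQ hP hQ hle
  refine ⟨h1, h2, ?_, c, g, hg, hreg, hc⟩
  have hofList : Ideal.ofList (List.ofFn g) = P := by
    rw [hg]
    unfold Ideal.ofList
    congr 1
    ext y
    simp [List.mem_ofFn]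
  have h3 := ringKrullDim_add_length_eq_ringKrullDim_of_isRegular (List.ofFn g) hreg
  rw [hofList, List.length_ofFn, hN, hP, hc] at h3
  exact_mod_cast h3

/-- the same with lower bounds for the dimensions of the two quotients -/
theorem split_regular_of_le (O : Type u) [CommRing O] [IsRegularLocalRing O] (N : ℕ)
    (hN : ringKrullDim O = N) (P Q : Ideal O) (hPQ : P ⊔ Q = maximalIdeal O) (a₀ b₀ : ℕ)
    (ha : (a₀ : WithBot ℕ∞) ≤ ringKrullDim (O ⧸ P))
    (hb : (b₀ : WithBot ℕ∞) ≤ ringKrullDim (O ⧸ Q)) (hle : N ≤ a₀ + b₀) :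
    IsRegularLocalRing (O ⧸ P) ∧ IsRegularLocalRing (O ⧸ Q) ∧
      ringKrullDim (O ⧸ P) = a₀ ∧ ringKrullDim (O ⧸ Q) = b₀ ∧
      ∃ (c : ℕ) (g : Fin c → O), P = Ideal.span (Set.range g) ∧ IsRegular O (List.ofFn g) ∧
        c = b₀ := by
  obtain ⟨aP, hP, haP, -⟩ := exists_nat_of_le_of_le _ a₀ N ha
    (hN ▸ ringKrullDim_quotient_le P)
  obtain ⟨aQ, hQ, haQ, -⟩ := exists_nat_of_le_of_le _ b₀ N hb
    (hN ▸ ringKrullDim_quotient_le Q)
  obtain ⟨h1, h2, hsum, c, g, hg, hreg, hc⟩ :=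
    split_regular' O N hN P Q hPQ aP aQ hP hQ (by omega)
  have e1 : aP = a₀ := by omega
  have e2 : aQ = b₀ := by omega
  subst e1 e2
  exact ⟨h1, h2, hP, hQ, c, g, hg, hreg, hc⟩

end Groth.Agent.Lib.Helper90.CycOne
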