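import Mathlib
import Groth.Agent.Lib.Helper90.CycOne1
import Groth.Agent.Lib.Helper90.CycOne2
import Groth.Agent.Lib.Helper90.CycOne3

/-!
# Cycles of closed subschemes near a point where the local ring is a domain (helper90)
-/

set_option autoImplicit false
universe u

open AlgebraicGeometry CategoryTheory Limits IsLocalRing
open Groth.Agent.Lib.Helper64.StalkSpec Groth.Agent.Lib.Helper64.StalkIdeal

namespace Groth.Agent.Lib.Helper90.CycOne

variable {X Y : Scheme.{u}}

theorem facts_of_subschemeFun_ne_zero (δ : X → ℤ) (k : ℤ) (i : Y ⟶ X) (ξ : X)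
    (h : Cyc.subschemeFun δ k i ξ ≠ 0) : δ ξ = k ∧ ξ ∈ Set.range i := by
  constructor
  · by_contra h'
    exact h (subschemeFun_eq_zero_of_ne δ k i ξ h')
  · by_contra h'
    exact h (subschemeFun_eq_zero_of_notMem δ k i ξ h')

theorem stalkIdeal_ker_le_primeOf (i : Y ⟶ X) [IsClosedImmersion i] {ξ τ : X} (h : ξ ⤳ τ)
    (hξ : ξ ∈ Set.range i) : IntMult.stalkIdeal i.ker τ ≤ primeOf h := by
  rw [IntMultGeom.stalkIdeal_eq, stalkIdeal_le_primeOf_iff, ← SetLike.mem_coe,
    Scheme.Hom.support_ker]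
  exact subset_closure hξ

theorem map_primeOf_eq_maximalIdeal {ξ τ : X} (h : ξ ⤳ τ) :
    (primeOf h).map (X.presheaf.stalkSpecializes h).hom = maximalIdeal (X.presheaf.stalk ξ) := by
  letI : Algebra (X.presheaf.stalk τ) (X.presheaf.stalk ξ) :=
    (X.presheaf.stalkSpecializes h).hom.toAlgebra
  haveI := isLocalization_stalkSpecializes h
  exact IsLocalization.AtPrime.map_eq_maximalIdeal (primeOf h) (X.presheaf.stalk ξ)

theorem stalkIdeal_eq_maximalIdeal_of_eq_primeOf (I : X.IdealSheafData) {ξ τ : X} (h : ξ ⤳ τ)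
    (hI : IntMult.stalkIdeal I τ = primeOf h) :
    IntMult.stalkIdeal I ξ = maximalIdeal (X.presheaf.stalk ξ) := by
  rw [IntMultGeom.stalkIdeal_eq] at hI ⊢
  rw [← stalkIdeal_map_stalkSpecializes I h, hI, map_primeOf_eq_maximalIdeal]

theorem length_stalk_eq_one_of_stalkIdeal_eq (i : Y ⟶ X) [IsClosedImmersion i] (y : Y)
    (h : IntMult.stalkIdeal i.ker (i y) = maximalIdeal (X.presheaf.stalk (i y))) :
    Module.length (Y.presheaf.stalk y) (Y.presheaf.stalk y) = 1 := by
  have e := stalkRingEquiv i y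
  have hf : IsField (X.presheaf.stalk (i y) ⧸ IntMult.stalkIdeal i.ker (i y)) := by
    rw [h]
    exact (Ideal.Quotient.maximal_ideal_iff_isField_quotient _).mp (maximalIdeal.isMaximal _)
  exact length_self_eq_one_of_isField (e.symm.toMulEquiv.isField hf)

/-- if `[W]_k` has coefficient one at `τ`, the stalk of the ideal of `W` at `τ` is maximal -/
theorem isMaximal_of_subschemeFun_eq_one (δ : X → ℤ) (k : ℤ) (j : Y ⟶ X) [IsClosedImmersion j]
    (τ : X) (h : Cyc.subschemeFun δ k j τ = 1) : (IntMult.stalkIdeal j.ker τ).IsMaximal := by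
  have hne : Cyc.subschemeFun δ k j τ ≠ 0 := by rw [h]; exact one_ne_zero
  obtain ⟨hδ, w₀, hw₀⟩ := facts_of_subschemeFun_ne_zero δ k j τ hne
  have h1 := subschemeFun_apply δ k j w₀
  rw [hw₀, if_pos hδ, h] at h1
  have h2 : (Module.length (Y.presheaf.stalk w₀) (Y.presheaf.stalk w₀)).toNat = 1 := by
    exact_mod_cast h1.symm
  have hlen : Module.length (Y.presheaf.stalk w₀) (Y.presheaf.stalk w₀) = 1 := by
    have := (ENat.toNat_eq_iff (one_ne_zero)).mp h2
    exact_mod_cast this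
  have hfield : IsField (Y.presheaf.stalk w₀) := isField_of_length_self_eq_one hlen
  obtain ⟨e⟩ := nonempty_stalkRingEquiv j w₀ τ hw₀
  exact Ideal.Quotient.maximal_of_isField _ (e.toMulEquiv.isField hfield)

/-- at a point `τ` where the local ring of the closed subscheme `Y` is a domain of the expected
dimension, the only point of `[Y]_k` specializing to `τ` is the one given by the stalk ideal -/
theorem stalkIdeal_ker_eq_primeOf (δ : X → ℤ) (hδ : Cyc.IsDimFun X δ) (k : ℤ) (i : Y ⟶ X)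
    [IsClosedImmersion i] (τ : X) [IsDomain (X.presheaf.stalk τ ⧸ IntMult.stalkIdeal i.ker τ)]
    (hd : ringKrullDim (X.presheaf.stalk τ ⧸ IntMult.stalkIdeal i.ker τ) =
      (((k - δ τ).toNat : ℕ) : WithBot ℕ∞))
    {ξ : X} (h : ξ ⤳ τ) (hα : Cyc.subschemeFun δ k i ξ ≠ 0) :
    IntMult.stalkIdeal i.ker τ = primeOf h := by
  obtain ⟨hδξ, hξ⟩ := facts_of_subschemeFun_ne_zero δ k i ξ hα
  have hle := stalkIdeal_ker_le_primeOf i h hξ
  have h2 := ringKrullDim_quot_primeOf δ hδ h
  rw [hδξ] at h2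
  exact (eq_of_le_of_ringKrullDim_eq _ _ hle _ hd h2).symm

/-- the coefficient of `[Y]_k` at such a point is one -/
theorem subschemeFun_eq_one (δ : X → ℤ) (k : ℤ) (i : Y ⟶ X) [IsClosedImmersion i] {ξ τ : X}
    (h : ξ ⤳ τ) (hI : IntMult.stalkIdeal i.ker τ = primeOf h)
    (hα : Cyc.subschemeFun δ k i ξ ≠ 0) : Cyc.subschemeFun δ k i ξ = 1 := by
  obtain ⟨hδξ, y, rfl⟩ := facts_of_subschemeFun_ne_zero δ k i ξ hα
  rw [subschemeFun_apply, if_pos hδξ,
    length_stalk_eq_one_of_stalkIdeal_eq i y (stalkIdeal_eq_maximalIdeal_of_eq_primeOf i.ker h hI)]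
  rfl

end Groth.Agent.Lib.Helper90.CycOne
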