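import Mathlib

/-!
# Abstract diagonal situation: `ι₁ ι₂ : O → B'` with common retraction `μ` (helper90)
-/

set_option autoImplicit false
universe u

namespace Groth.Agent.Lib.Helper90.DiagAbs

variable {O B' : Type u} [CommRing O] [CommRing B'] (ι₁ ι₂ : O →+* B') (μ : B' →+* O)
  (h₁ : μ.comp ι₁ = RingHom.id O) (h₂ : μ.comp ι₂ = RingHom.id O) (𝔭 𝔮 : Ideal O)

include h₁ h₂ in
lemma comap_eq_sup_ker :
    (𝔭 ⊔ 𝔮).comap μ = (𝔭.map ι₁ ⊔ 𝔮.map ι₂) ⊔ RingHom.ker μ := by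
  have hμ₁ : ∀ o : O, μ (ι₁ o) = o := fun o => RingHom.congr_fun h₁ o
  have hμ₂ : ∀ o : O, μ (ι₂ o) = o := fun o => RingHom.congr_fun h₂ o
  apply le_antisymm
  · intro b hb
    rw [Ideal.mem_comap] at hb
    obtain ⟨p, hp, q, hq, hpq⟩ := Submodule.mem_sup.mp hb
    have h1 : b - (ι₁ p + ι₂ q) ∈ RingHom.ker μ := by
      rw [RingHom.mem_ker, map_sub, map_add, hμ₁, hμ₂, hpq, sub_self]
    have h2 : ι₁ p + ι₂ q ∈ 𝔭.map ι₁ ⊔ 𝔮.map ι₂ :=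
      Submodule.add_mem_sup (Ideal.mem_map_of_mem _ hp) (Ideal.mem_map_of_mem _ hq)
    have := Submodule.add_mem_sup h2 h1
    rwa [add_sub_cancel] at this
  · refine sup_le (sup_le ?_ ?_) ?_
    · rw [Ideal.map_le_iff_le_comap]
      intro p hp
      rw [Ideal.mem_comap, Ideal.mem_comap, hμ₁]
      exact Ideal.mem_sup_left hp
    · rw [Ideal.map_le_iff_le_comap]
      intro q hq
      rw [Ideal.mem_comap, Ideal.mem_comap, hμ₂]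
      exact Ideal.mem_sup_right hq
    · intro x hx
      rw [Ideal.mem_comap, RingHom.mem_ker.mp hx]
      exact Ideal.zero_mem _

include h₁ in
lemma μ_surjective : Function.Surjective μ := fun o => ⟨ι₁ o, RingHom.congr_fun h₁ o⟩

include h₁ h₂ in
theorem isFiniteLength_quot (hfl : IsFiniteLength O (O ⧸ (𝔭 ⊔ 𝔮))) :
    IsFiniteLength B' (B' ⧸ ((𝔭.map ι₁ ⊔ 𝔮.map ι₂) ⊔ RingHom.ker μ)) := by
  letI : Algebra B' O := μ.toAlgebra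
  have hsurj : Function.Surjective (algebraMap B' O) := μ_surjective ι₁ μ h₁
  let ψ : B' →ₗ[B'] O ⧸ (𝔭 ⊔ 𝔮) := Algebra.linearMap B' (O ⧸ (𝔭 ⊔ 𝔮))
  have hψ : ∀ b, ψ b = Ideal.Quotient.mk (𝔭 ⊔ 𝔮) (μ b) := fun b => rfl
  have hψs : Function.Surjective ψ := by
    intro x
    obtain ⟨o, rfl⟩ := Ideal.Quotient.mk_surjective x
    obtain ⟨b, rfl⟩ := hsurj o
    exact ⟨b, rfl⟩
  have hker : LinearMap.ker ψ = (𝔭.map ι₁ ⊔ 𝔮.map ι₂) ⊔ RingHom.ker μ := by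
    rw [← comap_eq_sup_ker ι₁ ι₂ μ h₁ h₂]
    ext b
    rw [LinearMap.mem_ker, hψ, Ideal.Quotient.eq_zero_iff_mem, Ideal.mem_comap]
  let e : (B' ⧸ ((𝔭.map ι₁ ⊔ 𝔮.map ι₂) ⊔ RingHom.ker μ)) ≃ₗ[B'] O ⧸ (𝔭 ⊔ 𝔮) :=
    (Submodule.quotEquivOfEq _ _ hker.symm).trans (ψ.quotKerEquivOfSurjective hψs)
  rw [← Module.length_ne_top_iff, e.length_eq,
    Module.length_eq_of_surjective (S := B') (R := O) hsurj, Module.length_ne_top_iff]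
  exact hfl

include h₁ h₂ in
lemma sup_ne_top (h : 𝔭 ⊔ 𝔮 ≠ ⊤) : 𝔭.map ι₁ ⊔ 𝔮.map ι₂ ≠ ⊤ := by
  intro htop
  have := comap_eq_sup_ker ι₁ ι₂ μ h₁ h₂ 𝔭 𝔮
  rw [htop, top_sup_eq, Ideal.comap_eq_top_iff] at this
  exact h this

end Groth.Agent.Lib.Helper90.DiagAbs
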