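import Mathlib
import Groth.Agent.Lib.Helper73.DimFT.Catenary

/-!
# Dimension of a quotient of a localization of a finite type algebra over a field (helper90)
-/

set_option autoImplicit false
universe u

namespace Groth.Agent.Lib.Helper90.DiagDim

theorem isLocalization_atPrime_quotient {R : Type*} [CommRing R] (Q I : Ideal R) [Q.IsPrime]
    (hIQ : I ≤ Q) (L : Type*) [CommRing L] [Algebra R L] [IsLocalization.AtPrime L Q]
    [hQ' : (Q.map (Ideal.Quotient.mk I)).IsPrime] :
    IsLocalization.AtPrime (L ⧸ I.map (algebraMap R L)) (Q.map (Ideal.Quotient.mk I)) := by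
  have h : Algebra.algebraMapSubmonoid (R ⧸ I) Q.primeCompl =
      (Q.map (Ideal.Quotient.mk I)).primeCompl := by
    ext x
    constructor
    · rintro ⟨r, hr, rfl⟩
      intro hx
      exact hr ((Ideal.mem_quotient_iff_mem hIQ).mp hx)
    · intro hx
      obtain ⟨r, rfl⟩ := Ideal.Quotient.mk_surjective x
      refine ⟨r, ?_, rfl⟩
      intro hr
      exact hx (Ideal.mem_map_of_mem _ hr)
  have inst : IsLocalization (Algebra.algebraMapSubmonoid (R ⧸ I) Q.primeCompl)
      (L ⧸ I.map (algebraMap R L)) := inferInstance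
  rw [h] at inst
  exact inst

theorem dim_loc_quot (k : Type*) [Field k] (R : Type*) [CommRing R] [Algebra k R]
    [Algebra.FiniteType k R] (Q I : Ideal R) [Q.IsPrime] [I.IsPrime] (hIQ : I ≤ Q)
    (L : Type*) [CommRing L] [Algebra R L] [IsLocalization.AtPrime L Q] :
    ringKrullDim (L ⧸ I.map (algebraMap R L)) + ringKrullDim (R ⧸ Q) = ringKrullDim (R ⧸ I) := by
  haveI hQ' : (Q.map (Ideal.Quotient.mk I)).IsPrime :=
    Ideal.map_isPrime_of_surjective Ideal.Quotient.mk_surjective (by rwa [Ideal.mk_ker])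
  haveI := isLocalization_atPrime_quotient Q I hIQ L
  haveI : Algebra.FiniteType k (R ⧸ I) :=
    Algebra.FiniteType.of_surjective (Ideal.Quotient.mkₐ k I) (Ideal.Quotient.mkₐ_surjective k I)
  rw [IsLocalization.AtPrime.ringKrullDim_eq_height (Q.map (Ideal.Quotient.mk I))
    (L ⧸ I.map (algebraMap R L)),
    ← ringKrullDim_eq_of_ringEquiv (DoubleQuot.quotQuotEquivQuotOfLE hIQ)]
  exact Groth.Agent.Lib.Helper73.height_add_ringKrullDim_quotient k (A := R ⧸ I)
    (Q.map (Ideal.Quotient.mk I))

end Groth.Agent.Lib.Helper90.DiagDim
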