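import Mathlib
import Groth.Agent.Lib.Helper73.DimFormula.ProductDim

/-!
# Dimension of the local ring of `X ×_K X` at a diagonal point (helper90)
-/

set_option autoImplicit false
universe u

open AlgebraicGeometry CategoryTheory Limits Topology Groth.Agent.Lib.Helper73

namespace Groth.Agent.Lib.Helper90.DiagDimSch

variable {K : Type u} [Field K]

/-- If all generizations `η` of `y` have `δ η ≤ N` and some generization has `δ η = N`, then
`dim O_{Y,y} + δ y = N`. -/
theorem coheight_add_eq {Y : Scheme.{u}} (g : Y ⟶ Spec (CommRingCat.of K)) [LocallyOfFiniteType g]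
    (y : Y) (N : ℕ) (hle : ∀ η : Y, η ⤳ y → trdegNat g η ≤ N)
    (hex : ∃ η : Y, η ⤳ y ∧ trdegNat g η = N) :
    ∃ a : ℕ, ringKrullDim (Y.presheaf.stalk y) = (a : WithBot ℕ∞) ∧ a + trdegNat g y = N := by
  have hδ := isDimFun_trdegNat g
  have h1 : Order.coheight y + (trdegNat g y : ℕ∞) ≤ (N : ℕ∞) :=
    hδ.coheight_add_le (fun η hη => by exact_mod_cast hle η hη)
  have h2 : (N : ℕ∞) ≤ Order.coheight y + (trdegNat g y : ℕ∞) := by
    obtain ⟨η, hη, rfl⟩ := hex
    exact hδ.le_coheight_add hη
  have h3 : Order.coheight y + (trdegNat g y : ℕ∞) = (N : ℕ∞) := le_antisymm h1 h2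
  have hfin : Order.coheight y ≠ ⊤ := by
    intro h
    rw [h, top_add] at h3
    exact ENat.top_ne_coe _ h3
  obtain ⟨a, ha⟩ := ENat.ne_top_iff_exists.mp hfin
  refine ⟨a, ?_, ?_⟩
  · rw [ringKrullDim_stalk_eq_coheight, ← ha]
    rfl
  · rw [← ha] at h3
    exact_mod_cast h3

variable {X : Scheme.{u}} (f : X ⟶ Spec (CommRingCat.of K)) [LocallyOfFiniteType f]

/-- `dim O_{X,z} + δ z = dim X` on an irreducible scheme locally of finite type over a field. -/
theorem dim_stalk_add [IrreducibleSpace X] (n : ℕ) (hn : topologicalKrullDim X = n) (z : X) :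
    ∃ a : ℕ, ringKrullDim (X.presheaf.stalk z) = (a : WithBot ℕ∞) ∧ a + trdegNat f z = n := by
  have hgen := topologicalKrullDim_eq_trdegNat_genericPoint f
  rw [hn] at hgen
  have hgen' : trdegNat f (genericPoint X) = n := by exact_mod_cast hgen.symm
  refine coheight_add_eq f z n (fun η _ => ?_) ⟨genericPoint X, genericPoint_specializes z, hgen'⟩
  rw [← hgen']
  exact (isDimFun_trdegNat f).le_of_specializes (genericPoint_specializes η)

/-- `dim O_{X×X,w} + δ w = 2 dim X` on the product of an integral scheme locally of finite type over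
a field with itself. -/
theorem dim_stalk_pullback_add [IsIntegral X] (n : ℕ) (hn : topologicalKrullDim X = n)
    (w : ↥(pullback f f)) :
    ∃ a : ℕ, ringKrullDim ((pullback f f).presheaf.stalk w) = (a : WithBot ℕ∞) ∧
      a + trdegNat (pullback.snd f f ≫ f) w = n + n := by
  have hgen := topologicalKrullDim_eq_trdegNat_genericPoint f
  rw [hn] at hgen
  have hgen' : trdegNat f (genericPoint X) = n := by exact_mod_cast hgen.symm
  have hleX : ∀ x : X, trdegNat f x ≤ n := by
    intro x
    rw [← hgen']
    exact (isDimFun_trdegNat f).le_of_specializes (genericPoint_specializes x)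
  refine coheight_add_eq (pullback.snd f f ≫ f) w (n + n) (fun η _ => ?_) ?_
  · have := trdegNat_pullback_le f f η
    have h1 := hleX (pullback.snd f f η)
    have h2 := hleX (pullback.fst f f η)
    omega
  · have hC := irreducibleComponent_mem_irreducibleComponents w
    obtain ⟨ζ, hζC, -⟩ := exists_maximal_of_mem_irreducibleComponents (irreducibleComponent w) hC
    refine ⟨ζ, ?_, ?_⟩
    · rw [specializes_iff_mem_closure, hζC]
      exact mem_irreducibleComponent
    · have h1 := topologicalKrullDim_irreducibleComponent_pullback_eq_add f f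
        (irreducibleComponent w) hC
      rw [← hζC, (isDimFun_trdegNat (pullback.snd f f ≫ f)).topologicalKrullDim_closure_singleton ζ,
        hn] at h1
      have h2 : ((trdegNat (pullback.snd f f ≫ f) ζ : ℕ) : WithBot ℕ∞) = ((n + n : ℕ) : WithBot ℕ∞) := by
        rw [Nat.cast_add]
        exact h1
      exact_mod_cast h2

/-- a closed embedding preserves the dimension of the closure of a point -/
lemma topologicalKrullDim_closure_singleton_of_isClosedEmbedding {S T : Type*} [TopologicalSpace S]
    [TopologicalSpace T] (φ : S → T) (hφ : IsClosedEmbedding φ) (z : S) :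
    topologicalKrullDim ↥(closure ({φ z} : Set T)) = topologicalKrullDim ↥(closure ({z} : Set S)) := by
  have h1 : closure ({φ z} : Set T) = φ '' closure ({z} : Set S) := by
    rw [← hφ.closure_image_eq, Set.image_singleton]
  let e1 : ↥(closure ({z} : Set S)) ≃ₜ ↥(φ '' closure ({z} : Set S)) :=
    hφ.isEmbedding.homeomorphImage _
  let e2 : ↥(φ '' closure ({z} : Set S)) ≃ₜ ↥(closure ({φ z} : Set T)) := Homeomorph.setCongr h1.symm
  exact (IsHomeomorph.topologicalKrullDim_eq _ (e1.trans e2).isHomeomorph).symm

/-- the local ring of `X ×_K X` at a diagonal point has dimension `dim O_{X,z} + dim X`. -/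
theorem ringKrullDim_stalk_diagonal [IsIntegral X] [IsSeparated f] (n : ℕ)
    (hn : topologicalKrullDim X = n) (z : X) :
    ringKrullDim ((pullback f f).presheaf.stalk (pullback.diagonal f z)) =
      ringKrullDim (X.presheaf.stalk z) + n := by
  obtain ⟨a, ha, haz⟩ := dim_stalk_add f n hn z
  obtain ⟨b, hb, hbw⟩ := dim_stalk_pullback_add f n hn (pullback.diagonal f z)
  have hδ : trdegNat (pullback.snd f f ≫ f) (pullback.diagonal f z) = trdegNat f z := by
    have h1 := (isDimFun_trdegNat (pullback.snd f f ≫ f)).topologicalKrullDim_closure_singleton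
      (pullback.diagonal f z)
    have h2 := (isDimFun_trdegNat f).topologicalKrullDim_closure_singleton z
    have h3 := topologicalKrullDim_closure_singleton_of_isClosedEmbedding (pullback.diagonal f)
      (pullback.diagonal f).isClosedEmbedding z
    rw [h1, h2] at h3
    exact_mod_cast h3
  rw [ha, hb]
  have : b = a + n := by omega
  rw [this]
  push_cast
  rfl

end Groth.Agent.Lib.Helper90.DiagDimSch
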