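import Mathlib

/-!
# Flatness of maps induced on localizations, and on their quotients (helper90)
-/

set_option autoImplicit false
universe u

namespace Groth.Agent.Lib.Helper90.DiagFlat

variable {A B O B' : Type u} [CommRing A] [CommRing B] [CommRing O] [CommRing B']
  [Algebra A O] [Algebra B B'] (M : Submonoid A) (T : Submonoid B) [IsLocalization M O]
  [IsLocalization T B'] (g : A →+* B)

theorem flat_localization_map (hg : g.Flat) (hy : M ≤ T.comap g) :
    (IsLocalization.map B' g hy : O →+* B').Flat := by
  letI : Algebra A B := g.toAlgebra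
  letI : Algebra O B' := (IsLocalization.map B' g hy : O →+* B').toAlgebra
  letI : Algebra A B' := ((algebraMap B B').comp g).toAlgebra
  haveI : IsScalarTower A B B' := IsScalarTower.of_algebraMap_eq (fun x => rfl)
  haveI : IsScalarTower A O B' :=
    IsScalarTower.of_algebraMap_eq (fun x => (IsLocalization.map_eq hy x).symm)
  haveI : Module.Flat A B := hg
  haveI : Module.Flat B B' := IsLocalization.flat B' T
  change Module.Flat O B'
  rw [Module.flat_iff_of_isLocalization O M]
  exact Module.Flat.trans A B B'

theorem flat_localization_map_quotient (k : Ideal B) (hg : ((Ideal.Quotient.mk k).comp g).Flat)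
    (hy : M ≤ T.comap g) :
    ((Ideal.Quotient.mk (k.map (algebraMap B B'))).comp
      (IsLocalization.map B' g hy : O →+* B')).Flat := by
  have hy₂ : M ≤ (Algebra.algebraMapSubmonoid (B ⧸ k) T).comap ((Ideal.Quotient.mk k).comp g) := by
    intro a ha
    exact ⟨g a, hy ha, rfl⟩
  have key := flat_localization_map (O := O) (B' := B' ⧸ k.map (algebraMap B B')) M
    (Algebra.algebraMapSubmonoid (B ⧸ k) T) ((Ideal.Quotient.mk k).comp g) hg hy₂
  have heq : (IsLocalization.map (B' ⧸ k.map (algebraMap B B')) ((Ideal.Quotient.mk k).comp g) hy₂ :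
      O →+* B' ⧸ k.map (algebraMap B B')) =
      (Ideal.Quotient.mk (k.map (algebraMap B B'))).comp
        (IsLocalization.map B' g hy : O →+* B') := by
    apply IsLocalization.ringHom_ext M
    ext a
    simp only [RingHom.comp_apply]
    rw [IsLocalization.map_eq, IsLocalization.map_eq]
    rfl
  rw [← heq]
  exact key

end Groth.Agent.Lib.Helper90.DiagFlat
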