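import Mathlib
import Groth.Agent.Lib.Helper52.RegularQuot
import Groth.Agent.Lib.Helper67.Depth

/-!
# Kernel of a surjection of regular local rings is generated by a regular sequence (helper90)
-/

set_option autoImplicit false
universe u

open RingTheory.Sequence IsLocalRing

namespace Groth.Agent.Lib.Helper90.DiagReg

lemma ofFn_castLE_eq_take {α : Type*} {d c : ℕ} (hc : c ≤ d) (x : Fin d → α) :
    List.ofFn (fun i : Fin c => x (Fin.castLE hc i)) = (List.ofFn x).take c := by
  apply List.ext_getElem
  · simp [hc]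
  · intro i h1 h2
    simp

theorem exists_regular_generators (R : Type u) [CommRing R] [IsRegularLocalRing R] (I : Ideal R)
    [IsRegularLocalRing (R ⧸ I)] :
    ∃ (c : ℕ) (g : Fin c → R), I = Ideal.span (Set.range g) ∧ IsRegular R (List.ofFn g) ∧
      ringKrullDim (R ⧸ I) + c = ringKrullDim R := by
  obtain ⟨d, hd⟩ := Groth.Agent.Lib.Helper52.exists_nat_ringKrullDim R
  obtain ⟨x, c, hc, hx, hI⟩ :=
    Groth.Agent.Lib.Helper52.exists_generators_of_regular_quotient_regular d R hd I
  have hreg := Groth.Agent.Lib.Helper76.isRegular_of_span_range_eq_maximalIdeal R d hd x hx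
  set g : Fin c → R := fun i => x (Fin.castLE hc i) with hg
  have hmem : ∀ r ∈ List.ofFn g, r ∈ maximalIdeal R := by
    intro r hr
    rw [List.mem_ofFn] at hr
    obtain ⟨i, rfl⟩ := hr
    rw [← hx]
    exact Ideal.subset_span ⟨_, rfl⟩
  have hreg' : IsRegular R (List.ofFn g) := by
    refine IsRegular.of_isWeaklyRegular_of_mem_maximalIdeal R hmem ?_
    rw [hg, ofFn_castLE_eq_take hc x]
    exact Groth.Agent.Lib.Helper67.isWeaklyRegular_take hreg.toIsWeaklyRegular c
  have hset : {a : R | a ∈ List.ofFn g} = Set.range g := by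
    ext a
    simp [List.mem_ofFn]
  have hI' : Ideal.ofList (List.ofFn g) = I := by
    change Ideal.span {a : R | a ∈ List.ofFn g} = _
    rw [hset, hI]
  refine ⟨c, g, hI, hreg', ?_⟩
  have := ringKrullDim_add_length_eq_ringKrullDim_of_isRegular (List.ofFn g) hreg'
  rw [List.length_ofFn, hI'] at this
  exact this

end Groth.Agent.Lib.Helper90.DiagReg
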