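import Mathlib
import Groth.Agent.Lib.Helper90.DiagFlat1

/-!
# The diagonal of `A ⊗[K] A` localized: maps and flatness (helper90)
-/

set_option autoImplicit false
universe u

open TensorProduct

namespace Groth.Agent.Lib.Helper90.DiagRing

variable (K : Type u) [Field K] (A : Type u) [CommRing A] [Algebra K A]

/-- `a ↦ a ⊗ 1` -/
noncomputable def g₁ : A →+* A ⊗[K] A := algebraMap A (A ⊗[K] A)

/-- `a ↦ 1 ⊗ a` -/
noncomputable def g₂ : A →+* A ⊗[K] A :=
  (Algebra.TensorProduct.includeRight : A →ₐ[K] A ⊗[K] A).toRingHom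

/-- multiplication `A ⊗ A → A` -/
noncomputable def mul : A ⊗[K] A →+* A := (Algebra.TensorProduct.lmul' K : A ⊗[K] A →ₐ[K] A).toRingHom

lemma g₁_apply (a : A) : g₁ K A a = a ⊗ₜ[K] 1 := rfl
lemma g₂_apply (a : A) : g₂ K A a = 1 ⊗ₜ[K] a := rfl
lemma mul_tmul (a b : A) : mul K A (a ⊗ₜ[K] b) = a * b := rfl

lemma mul_g₁ (a : A) : mul K A (g₁ K A a) = a := by rw [g₁_apply, mul_tmul, mul_one]
lemma mul_g₂ (a : A) : mul K A (g₂ K A a) = a := by rw [g₂_apply, mul_tmul, one_mul]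

lemma flat_g₁ : (g₁ K A).Flat := RingHom.flat_algebraMap_iff.mpr inferInstance

lemma flat_g₂ : (g₂ K A).Flat := by
  have h : g₂ K A = ((Algebra.TensorProduct.comm K A A : A ⊗[K] A ≃ₐ[K] A ⊗[K] A) :
      A ⊗[K] A →+* A ⊗[K] A).comp (g₁ K A) := by
    ext a
    rfl
  rw [h]
  exact (flat_g₁ K A).comp (RingHom.Flat.of_bijective (AlgEquiv.bijective _))

lemma flat_g₁_quot (𝔮 : Ideal A) :
    ((Ideal.Quotient.mk (𝔮.map (g₂ K A))).comp (g₁ K A)).Flat := by
  let e := Algebra.TensorProduct.tensorQuotientEquiv (R := K) A A A 𝔮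
  haveI : Module.Flat A ((A ⊗[K] A) ⧸ 𝔮.map (g₂ K A)) :=
    Module.Flat.of_linearEquiv e.symm.toLinearEquiv
  exact RingHom.flat_algebraMap_iff.mpr this

variable (P : Ideal A) [P.IsPrime]

/-- the prime of `A ⊗ A` over `P` on the diagonal -/
noncomputable def P' : Ideal (A ⊗[K] A) := P.comap (mul K A)

instance : (P' K A P).IsPrime := Ideal.comap_isPrime _ _

lemma hle₁ : P.primeCompl ≤ (P' K A P).primeCompl.comap (g₁ K A) := by
  intro a ha h
  apply ha
  have : mul K A (g₁ K A a) ∈ P := h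
  rwa [mul_g₁] at this

lemma hle₂ : P.primeCompl ≤ (P' K A P).primeCompl.comap (g₂ K A) := by
  intro a ha h
  apply ha
  have : mul K A (g₂ K A a) ∈ P := h
  rwa [mul_g₂] at this

lemma hleμ : (P' K A P).primeCompl ≤ P.primeCompl.comap (mul K A) := fun _ hx => hx

variable (O : Type u) [CommRing O] [Algebra A O] [IsLocalization.AtPrime O P]

/-- the local ring of `A ⊗ A` at the diagonal point -/
abbrev B' : Type u := Localization.AtPrime (P' K A P)

noncomputable def ι₁ : O →+* B' K A P := IsLocalization.map _ (g₁ K A) (hle₁ K A P)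
noncomputable def ι₂ : O →+* B' K A P := IsLocalization.map _ (g₂ K A) (hle₂ K A P)
noncomputable def μ' : B' K A P →+* O := IsLocalization.map O (mul K A) (hleμ K A P)

lemma ι₁_algebraMap (a : A) :
    ι₁ K A P O (algebraMap A O a) = algebraMap (A ⊗[K] A) (B' K A P) (g₁ K A a) :=
  IsLocalization.map_eq _ a

lemma ι₂_algebraMap (a : A) :
    ι₂ K A P O (algebraMap A O a) = algebraMap (A ⊗[K] A) (B' K A P) (g₂ K A a) :=
  IsLocalization.map_eq _ a

lemma μ'_algebraMap (b : A ⊗[K] A) :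
    μ' K A P O (algebraMap (A ⊗[K] A) (B' K A P) b) = algebraMap A O (mul K A b) :=
  IsLocalization.map_eq _ b

lemma μ'_ι₁ : (μ' K A P O).comp (ι₁ K A P O) = RingHom.id O := by
  apply IsLocalization.ringHom_ext P.primeCompl
  ext a
  simp only [RingHom.comp_apply, RingHom.id_apply]
  rw [ι₁_algebraMap, μ'_algebraMap, mul_g₁]

lemma μ'_ι₂ : (μ' K A P O).comp (ι₂ K A P O) = RingHom.id O := by
  apply IsLocalization.ringHom_ext P.primeCompl
  ext a
  simp only [RingHom.comp_apply, RingHom.id_apply]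
  rw [ι₂_algebraMap, μ'_algebraMap, mul_g₂]

lemma flat_ι₂ : (ι₂ K A P O).Flat :=
  DiagFlat.flat_localization_map _ _ _ (flat_g₂ K A) _

lemma map_ι₁ (𝔭 : Ideal A) : (𝔭.map (algebraMap A O)).map (ι₁ K A P O) =
    (𝔭.map (g₁ K A)).map (algebraMap (A ⊗[K] A) (B' K A P)) := by
  rw [Ideal.map_map, Ideal.map_map]
  congr 1
  ext a
  exact ι₁_algebraMap K A P O a

lemma map_ι₂ (𝔮 : Ideal A) : (𝔮.map (algebraMap A O)).map (ι₂ K A P O) =
    (𝔮.map (g₂ K A)).map (algebraMap (A ⊗[K] A) (B' K A P)) := by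
  rw [Ideal.map_map, Ideal.map_map]
  congr 1
  ext a
  exact ι₂_algebraMap K A P O a

lemma flat_ι₁_quot (𝔮 : Ideal A) :
    RingHom.Flat (R := O) (S := B' K A P ⧸ (𝔮.map (algebraMap A O)).map (ι₂ K A P O))
      ((Ideal.Quotient.mk ((𝔮.map (algebraMap A O)).map (ι₂ K A P O))).comp (ι₁ K A P O)) := by
  rw [map_ι₂]
  exact DiagFlat.flat_localization_map_quotient _ _ _ _ (flat_g₁_quot K A 𝔮) _

end Groth.Agent.Lib.Helper90.DiagRing
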