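import Mathlib

/-!
# Tensor products of domains over an algebraically closed field are domains (helper90)
-/

set_option autoImplicit false
universe u

open TensorProduct

namespace Groth.Agent.Lib.Helper90.TensorDomain

variable (K : Type u) [Field K] [IsAlgClosed K] (A₁ A₂ : Type u) [CommRing A₁] [CommRing A₂]
  [Algebra K A₁] [Algebra K A₂]

/-- evaluation at a maximal ideal of a finitely generated algebra over an algebraically closed
field -/
theorem exists_eval [Algebra.FiniteType K A₁] (m : Ideal A₁) [hm : m.IsMaximal] :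
    ∃ ev : A₁ →ₐ[K] K, ∀ a, ev a = 0 ↔ a ∈ m := by
  letI : Field (A₁ ⧸ m) := Ideal.Quotient.field m
  haveI : Algebra.FiniteType K (A₁ ⧸ m) :=
    Algebra.FiniteType.of_surjective (Ideal.Quotient.mkₐ K m) (Ideal.Quotient.mkₐ_surjective K m)
  haveI : Module.Finite K (A₁ ⧸ m) := finite_of_finite_type_of_isJacobsonRing K (A₁ ⧸ m)
  haveI : Algebra.IsIntegral K (A₁ ⧸ m) := Algebra.IsIntegral.of_finite K (A₁ ⧸ m)
  have hbij : Function.Bijective (algebraMap K (A₁ ⧸ m)) :=
    IsAlgClosed.algebraMap_bijective_of_isIntegral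
  let e : K ≃ₐ[K] (A₁ ⧸ m) := AlgEquiv.ofBijective (Algebra.ofId K (A₁ ⧸ m)) hbij
  refine ⟨(e.symm : (A₁ ⧸ m) →ₐ[K] K).comp (Ideal.Quotient.mkₐ K m), fun a => ?_⟩
  rw [AlgHom.comp_apply]
  change e.symm _ = 0 ↔ _
  rw [map_eq_zero_iff _ e.symm.injective, Ideal.Quotient.mkₐ_eq_mk, Ideal.Quotient.eq_zero_iff_mem]

variable {K A₁ A₂}

lemma eval_coord {κ : Type*} [DecidableEq κ] (b : Module.Basis κ K A₂) (ev : A₁ →ₐ[K] K)
    (x : A₁ ⊗[K] A₂) (i : κ) :
    ev (TensorProduct.equivFinsuppOfBasisRight b x i) =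
      b.repr ((Algebra.TensorProduct.lid K A₂)
        (Algebra.TensorProduct.map ev (AlgHom.id K A₂) x)) i := by
  induction x using TensorProduct.induction_on with
  | zero => simp
  | tmul a b' =>
    rw [TensorProduct.equivFinsuppOfBasisRight_apply_tmul_apply, map_smul,
      Algebra.TensorProduct.map_tmul, Algebra.TensorProduct.lid_tmul, map_smul,
      Finsupp.smul_apply, smul_eq_mul, smul_eq_mul, AlgHom.coe_id, id_eq, mul_comm]
  | add x y hx hy =>
    rw [map_add, Finsupp.add_apply, map_add, hx, hy, map_add, map_add, map_add, Finsupp.add_apply]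

variable (K A₁ A₂)

theorem isDomain_tensorProduct [Algebra.FiniteType K A₁] [IsDomain A₁] [IsDomain A₂] :
    IsDomain (A₁ ⊗[K] A₂) := by
  classical
  haveI : Nontrivial (A₁ ⊗[K] A₂) :=
    (Algebra.TensorProduct.includeLeft_injective (R := K) (S := K) (A := A₁) (B := A₂)
      (FaithfulSMul.algebraMap_injective K A₂)).nontrivial
  haveI : NoZeroDivisors (A₁ ⊗[K] A₂) := by
    refine ⟨fun {x y} hxy => ?_⟩
    by_contra hne
    rw [not_or] at hne
    obtain ⟨hx, hy⟩ := hne
    let b := Module.Basis.ofVectorSpace K A₂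
    let E := TensorProduct.equivFinsuppOfBasisRight (R := K) (M := A₁) b
    have hEx : E x ≠ 0 := fun h => hx (by simpa using h)
    have hEy : E y ≠ 0 := fun h => hy (by simpa using h)
    obtain ⟨i₀, hi₀⟩ := DFunLike.ne_iff.mp hEx
    obtain ⟨j₀, hj₀⟩ := DFunLike.ne_iff.mp hEy
    rw [Finsupp.zero_apply] at hi₀ hj₀
    have ha : E x i₀ * E y j₀ ≠ 0 := mul_ne_zero hi₀ hj₀
    have hjac : (⊥ : Ideal A₁).jacobson = ⊥ :=
      IsJacobsonRing.out (isJacobsonRing_of_finiteType (A := K)) (Ideal.bot_prime).isRadical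
    have hnot : E x i₀ * E y j₀ ∉ (⊥ : Ideal A₁).jacobson := by
      rw [hjac]
      exact ha
    rw [Ideal.jacobson, Submodule.mem_sInf] at hnot
    push_neg at hnot
    obtain ⟨m, ⟨-, hm⟩, ham⟩ := hnot
    obtain ⟨ev, hev⟩ := exists_eval K A₁ m
    let Ψ : A₁ ⊗[K] A₂ →ₐ[K] A₂ :=
      (Algebra.TensorProduct.lid K A₂ : K ⊗[K] A₂ →ₐ[K] A₂).comp
        (Algebra.TensorProduct.map ev (AlgHom.id K A₂))
    have hΨ : Ψ x * Ψ y = 0 := by rw [← map_mul, hxy, map_zero]
    rcases mul_eq_zero.mp hΨ with h | h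
    · have h1 := eval_coord b ev x i₀
      change ev (E x i₀) = b.repr (Ψ x) i₀ at h1
      rw [h, map_zero, Finsupp.zero_apply, hev] at h1
      exact ham (Ideal.mul_mem_right _ m h1)
    · have h1 := eval_coord b ev y j₀
      change ev (E y j₀) = b.repr (Ψ y) j₀ at h1
      rw [h, map_zero, Finsupp.zero_apply, hev] at h1
      exact ham (Ideal.mul_mem_left m _ h1)
  exact ⟨⟩

end Groth.Agent.Lib.Helper90.TensorDomain
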