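import Mathlib
import Groth.Agent.Lib.Helper90.DiagRing1
import Groth.Agent.Lib.Helper90.DiagDim1
import Groth.Agent.Lib.Helper90.TensorDomain
import Groth.Agent.Lib.Helper14.DimAlg

/-!
# The diagonal of `A ⊗[K] A` localized: dimensions (helper90)
-/

set_option autoImplicit false
universe u

open TensorProduct

namespace Groth.Agent.Lib.Helper90.DiagRing

lemma exists_nat_of_add_eq (x : WithBot ℕ∞) (z n : ℕ)
    (h : x + (z : WithBot ℕ∞) = (n : WithBot ℕ∞)) :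
    ∃ m : ℕ, x = (m : WithBot ℕ∞) ∧ m + z = n := by
  induction x using WithBot.recBotCoe with
  | bot =>
    rw [WithBot.bot_add] at h
    exact absurd h (WithBot.bot_ne_coe)
  | coe x =>
    induction x using ENat.recTopCoe with
    | top =>
      exfalso
      have h' : ((⊤ + (z : ℕ∞) : ℕ∞) : WithBot ℕ∞) = ((n : ℕ∞) : WithBot ℕ∞) := h
      rw [WithBot.coe_inj, top_add] at h'
      exact ENat.top_ne_coe n h'
    | coe m =>
      refine ⟨m, rfl, ?_⟩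
      have h' : (((m + z : ℕ) : ℕ∞) : WithBot ℕ∞) = ((n : ℕ∞) : WithBot ℕ∞) := by
        push_cast
        exact h
      exact_mod_cast h'

variable (K : Type u) [Field K] [IsAlgClosed K] (A : Type u) [CommRing A] [IsDomain A]
  [Algebra K A] [Algebra.FiniteType K A]

instance : IsDomain (A ⊗[K] A) := TensorDomain.isDomain_tensorProduct K A A

variable (P 𝔭 𝔮 : Ideal A) [P.IsPrime] [𝔭.IsPrime] [𝔮.IsPrime]

/-- the ideal of `V × W` in `A ⊗ A` -/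
noncomputable def J₀ : Ideal (A ⊗[K] A) := 𝔭.map (g₁ K A) ⊔ 𝔮.map (g₂ K A)

lemma J₀_eq_ker : J₀ K A 𝔭 𝔮 = RingHom.ker
    (Algebra.TensorProduct.map (Ideal.Quotient.mkₐ K 𝔭) (Ideal.Quotient.mkₐ K 𝔮)) := by
  have h1 : ∀ I : Ideal A, RingHom.ker (Ideal.Quotient.mkₐ K I) = I := by
    intro I
    ext a
    rw [RingHom.mem_ker, Ideal.Quotient.mkₐ_eq_mk, Ideal.Quotient.eq_zero_iff_mem]
  rw [Algebra.TensorProduct.map_ker _ _ (Ideal.Quotient.mkₐ_surjective K 𝔭)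
    (Ideal.Quotient.mkₐ_surjective K 𝔮), h1, h1]
  rfl

instance : IsDomain ((A ⧸ 𝔭) ⊗[K] (A ⧸ 𝔮)) :=
  haveI : Algebra.FiniteType K (A ⧸ 𝔭) :=
    Algebra.FiniteType.of_surjective (Ideal.Quotient.mkₐ K 𝔭) (Ideal.Quotient.mkₐ_surjective K 𝔭)
  TensorDomain.isDomain_tensorProduct K (A ⧸ 𝔭) (A ⧸ 𝔮)

instance : (J₀ K A 𝔭 𝔮).IsPrime := by
  rw [J₀_eq_ker]
  exact RingHom.ker_isPrime _

lemma J₀_le (h𝔭 : 𝔭 ≤ P) (h𝔮 : 𝔮 ≤ P) : J₀ K A 𝔭 𝔮 ≤ P' K A P := by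
  refine sup_le ?_ ?_
  · rw [Ideal.map_le_iff_le_comap]
    intro a ha
    change mul K A (g₁ K A a) ∈ P
    rw [mul_g₁]
    exact h𝔭 ha
  · rw [Ideal.map_le_iff_le_comap]
    intro a ha
    change mul K A (g₂ K A a) ∈ P
    rw [mul_g₂]
    exact h𝔮 ha

lemma mul_surjective : Function.Surjective (mul K A) := fun a => ⟨g₁ K A a, mul_g₁ K A a⟩

lemma dim_quot_P' : ringKrullDim ((A ⊗[K] A) ⧸ P' K A P) = ringKrullDim (A ⧸ P) := by
  have hker : RingHom.ker ((Ideal.Quotient.mk P).comp (mul K A)) = P' K A P := by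
    rw [← RingHom.comap_ker, Ideal.mk_ker]
    rfl
  have hsurj : Function.Surjective ((Ideal.Quotient.mk P).comp (mul K A)) :=
    Ideal.Quotient.mk_surjective.comp (mul_surjective K A)
  rw [← ringKrullDim_eq_of_ringEquiv (RingHom.quotientKerEquivOfSurjective hsurj),
    ringKrullDim_eq_of_ringEquiv (Ideal.quotEquivOfEq hker)]

lemma dim_quot_J₀ (r s : ℕ) (hr : ringKrullDim (A ⧸ 𝔭) = r) (hs : ringKrullDim (A ⧸ 𝔮) = s) :
    ringKrullDim ((A ⊗[K] A) ⧸ J₀ K A 𝔭 𝔮) = ((r + s : ℕ) : WithBot ℕ∞) := by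
  haveI : Algebra.FiniteType K (A ⧸ 𝔭) :=
    Algebra.FiniteType.of_surjective (Ideal.Quotient.mkₐ K 𝔭) (Ideal.Quotient.mkₐ_surjective K 𝔭)
  haveI : Algebra.FiniteType K (A ⧸ 𝔮) :=
    Algebra.FiniteType.of_surjective (Ideal.Quotient.mkₐ K 𝔮) (Ideal.Quotient.mkₐ_surjective K 𝔮)
  have hsurj : Function.Surjective
      (Algebra.TensorProduct.map (Ideal.Quotient.mkₐ K 𝔭) (Ideal.Quotient.mkₐ K 𝔮)) :=
    Algebra.TensorProduct.map_surjective _ _ (Ideal.Quotient.mkₐ_surjective K 𝔭)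
      (Ideal.Quotient.mkₐ_surjective K 𝔮)
  rw [← Groth.Agent.Lib.Helper14.ringKrullDim_tensorProduct K (A ⧸ 𝔭) (A ⧸ 𝔮) r s hr hs,
    ringKrullDim_eq_of_ringEquiv (Ideal.quotEquivOfEq (J₀_eq_ker K A 𝔭 𝔮))]
  exact ringKrullDim_eq_of_ringEquiv (Ideal.quotientKerAlgEquivOfSurjective hsurj).toRingEquiv

end Groth.Agent.Lib.Helper90.DiagRing
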