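import Mathlib

/-!
# Frobenius (bracket) powers of ideals versus ordinary powers, and length estimates
-/

namespace Groth.Agent.Lib.Helper90.FrobPow

section Pow

variable {A : Type*} [CommRing A]

/-- `(S)^{|S| q + 1} ⊆ (s^q : s ∈ S)`. -/
lemma span_pow_card_mul_le (S : Finset A) (q : ℕ) :
    Ideal.span (S : Set A) ^ (S.card * q + 1) ≤ Ideal.span ((fun s => s ^ q) '' (S : Set A)) := by
  classical
  induction S using Finset.induction_on with
  | empty =>
    simp
  | insert y S hy ih =>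
    rw [Finset.card_insert_of_notMem hy, Finset.coe_insert, Ideal.span_insert, Set.image_insert_eq,
      Ideal.span_insert, show (S.card + 1) * q + 1 = q + (S.card * q + 1) by ring]
    refine (Ideal.sup_pow_add_le_pow_sup_pow).trans (sup_le_sup ?_ ih)
    rw [Ideal.span_singleton_pow]

variable (p : ℕ) [ExpChar A p]

lemma map_iterateFrobenius_span (S : Set A) (e : ℕ) :
    Ideal.map (iterateFrobenius A p e) (Ideal.span S) =
      Ideal.span ((fun s => s ^ (p ^ e)) '' S) := by
  rw [Ideal.map_span]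
  congr 1

/-- if `𝔪` is finitely generated by `μ` elements, `𝔪^{μ q} ⊆ 𝔪^{[q]}`. -/
lemma pow_le_map_iterateFrobenius (S : Finset A) (e : ℕ) :
    Ideal.span (S : Set A) ^ (S.card * p ^ e + 1) ≤
      Ideal.map (iterateFrobenius A p e) (Ideal.span (S : Set A)) := by
  rw [map_iterateFrobenius_span]
  exact span_pow_card_mul_le S (p ^ e)

/-- if `𝔪^N ⊆ 𝔞` with `𝔪` finitely generated, then `𝔪^{K q} ⊆ 𝔞^{[q]}` for a uniform `K ≥ 1`. -/
lemma exists_pow_le_map_iterateFrobenius {m a : Ideal A} (hm : m.FG) {N : ℕ} (hN : m ^ N ≤ a) :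
    ∃ K : ℕ, 0 < K ∧ ∀ e : ℕ, m ^ (K * p ^ e) ≤ Ideal.map (iterateFrobenius A p e) a := by
  obtain ⟨S, rfl⟩ := hm
  refine ⟨(S.card + 1) * N + 1, Nat.succ_pos _, fun e => ?_⟩
  have h1 : Ideal.map (iterateFrobenius A p e) (Ideal.span (S : Set A) ^ N) ≤
      Ideal.map (iterateFrobenius A p e) a := Ideal.map_mono hN
  refine le_trans ?_ h1
  rw [Ideal.map_pow]
  refine le_trans ?_ (Ideal.pow_right_mono (pow_le_map_iterateFrobenius p S e) N)
  rw [← pow_mul]
  apply Ideal.pow_le_pow_right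
  have hq : 1 ≤ p ^ e := Nat.one_le_pow _ _ (expChar_pos A p)
  nlinarith [Nat.zero_le (S.card * N), Nat.zero_le N, Nat.zero_le (S.card * N * p ^ e)]

end Pow

end Groth.Agent.Lib.Helper90.FrobPow
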