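import Mathlib
import Groth.Agent.Lib.Helper90.FrobPow1
import Groth.Agent.Lib.Helper90.Samuel

/-!
# Length estimates for quotients by ideals
-/

namespace Groth.Agent.Lib.Helper90.FrobPow

section Len

variable {A : Type*} [CommRing A]

lemma length_quot_mono {J K : Ideal A} (h : J ≤ K) :
    Module.length A (A ⧸ K) ≤ Module.length A (A ⧸ J) :=
  Module.length_le_of_surjective (Submodule.factor h) (Submodule.factor_surjective h)

/-- `ℓ(A/J) ≤ ℓ(A/(J + (z))) + ℓ(A/K)` when `K z ⊆ J`. -/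
lemma length_quot_le_add (J K : Ideal A) (z : A) (hK : ∀ k ∈ K, k * z ∈ J) :
    Module.length A (A ⧸ J) ≤
      Module.length A (A ⧸ (J ⊔ Ideal.span {z})) + Module.length A (A ⧸ K) := by
  have hle : J ≤ J ⊔ Ideal.span {z} := le_sup_left
  set g : (A ⧸ J) →ₗ[A] (A ⧸ (J ⊔ Ideal.span {z})) := Submodule.factor hle with hg
  have hgs : Function.Surjective g := Submodule.factor_surjective hle
  rw [Module.length_eq_add_of_exact (LinearMap.ker g).subtype g (Submodule.subtype_injective _) hgs
    (LinearMap.exact_subtype_ker_map g), add_comm]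
  gcongr
  -- the map `A/K → ker g`, `r ↦ r z`
  let φ₀ : A →ₗ[A] (A ⧸ J) := LinearMap.toSpanSingleton A (A ⧸ J) (Ideal.Quotient.mk J z)
  have hφ₀ : ∀ r, φ₀ r = Ideal.Quotient.mk J (r * z) := by
    intro r
    simp [φ₀, LinearMap.toSpanSingleton_apply, Algebra.smul_def]
  have hφK : K ≤ LinearMap.ker φ₀ := by
    intro k hk
    rw [LinearMap.mem_ker, hφ₀]
    exact Ideal.Quotient.eq_zero_iff_mem.mpr (hK k hk)
  let φ : (A ⧸ K) →ₗ[A] (A ⧸ J) := Submodule.liftQ K φ₀ hφK
  have hφ : ∀ r : A, φ (Submodule.Quotient.mk r) = Ideal.Quotient.mk J (r * z) := by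
    intro r
    rw [← hφ₀]
    rfl
  have hrange : LinearMap.ker g ≤ LinearMap.range φ := by
    intro x hx
    obtain ⟨a, rfl⟩ := Submodule.Quotient.mk_surjective _ x
    rw [LinearMap.mem_ker] at hx
    have h1 : g (Submodule.Quotient.mk a) = Submodule.Quotient.mk a := rfl
    rw [h1, Submodule.Quotient.mk_eq_zero] at hx
    obtain ⟨j, hj, w, hw, rfl⟩ := Submodule.mem_sup.mp hx
    obtain ⟨r, rfl⟩ := Ideal.mem_span_singleton'.mp hw
    refine ⟨Submodule.Quotient.mk r, ?_⟩
    rw [hφ]
    symm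
    change Ideal.Quotient.mk J (j + r * z) = _
    rw [map_add, Ideal.Quotient.eq_zero_iff_mem.mpr hj, zero_add]
  have hφg : ∀ x, g (φ x) = 0 := by
    intro x
    obtain ⟨r, rfl⟩ := Submodule.Quotient.mk_surjective _ x
    rw [hφ]
    change (Submodule.Quotient.mk (r * z) : A ⧸ (J ⊔ Ideal.span {z})) = 0
    rw [Submodule.Quotient.mk_eq_zero]
    exact Ideal.mem_sup_right (Ideal.mul_mem_left _ _ (Ideal.mem_span_singleton_self z))
  let ψ : (A ⧸ K) →ₗ[A] LinearMap.ker g := φ.codRestrict _ (fun x => hφg x)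
  refine Module.length_le_of_surjective ψ ?_
  rintro ⟨x, hx⟩
  obtain ⟨y, hy⟩ := hrange hx
  exact ⟨y, Subtype.ext hy⟩

/-- iterating over a finite set of generators. -/
lemma length_quot_le_add_card (J K : Ideal A) (T : Finset A)
    (hK : ∀ t ∈ T, ∀ k ∈ K, k * t ∈ J) :
    Module.length A (A ⧸ J) ≤
      Module.length A (A ⧸ (J ⊔ Ideal.span (T : Set A))) + T.card * Module.length A (A ⧸ K) := by
  classical
  induction T using Finset.induction_on with
  | empty =>
    have e0 : J ⊔ Ideal.span ((∅ : Finset A) : Set A) = J := by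
      rw [Finset.coe_empty, Ideal.span_empty, sup_bot_eq]
    rw [e0]
    exact le_self_add
  | insert y T hy ih =>
    have h1 := ih (fun t ht => hK t (Finset.mem_insert_of_mem ht))
    have h2 := length_quot_le_add (J ⊔ Ideal.span (T : Set A)) K y
      (fun k hk => Ideal.mem_sup_left (hK y (Finset.mem_insert_self y T) k hk))
    have e1 : J ⊔ Ideal.span ((insert y T : Finset A) : Set A) =
        J ⊔ Ideal.span (T : Set A) ⊔ Ideal.span {y} := by
      rw [Finset.coe_insert, Ideal.span_insert, sup_assoc, sup_comm (Ideal.span {y})]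
    rw [e1, Finset.card_insert_of_notMem hy]
    push_cast
    calc Module.length A (A ⧸ J)
        ≤ Module.length A (A ⧸ (J ⊔ Ideal.span (T : Set A))) + T.card * Module.length A (A ⧸ K) :=
          h1
      _ ≤ (Module.length A (A ⧸ (J ⊔ Ideal.span (T : Set A) ⊔ Ideal.span {y})) +
            Module.length A (A ⧸ K)) + T.card * Module.length A (A ⧸ K) := by gcongr
      _ = _ := by ring

/-- `ℓ(A/(I + L)) = ℓ((A/L)/I(A/L))`. -/
lemma length_quot_sup_eq (I L : Ideal A) :
    Module.length A (A ⧸ (I ⊔ L)) =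
      Module.length A ((A ⧸ L) ⧸ (I • (⊤ : Submodule A (A ⧸ L)))) := by
  refine Samuel.length_eq_of_surjective_of_ker_eq (Submodule.mkQ (I ⊔ L))
    ((Submodule.mkQ (I • (⊤ : Submodule A (A ⧸ L)))).comp (Submodule.mkQ L))
    (Submodule.mkQ_surjective _)
    ((Submodule.mkQ_surjective _).comp (Submodule.mkQ_surjective _)) ?_
  rw [Submodule.ker_mkQ, LinearMap.ker_comp, Submodule.ker_mkQ]
  have h1 : (I • (⊤ : Submodule A (A ⧸ L))) = Submodule.map (Submodule.mkQ L) I := by
    have : (⊤ : Submodule A (A ⧸ L)) = Submodule.map (Submodule.mkQ L) ⊤ := by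
      rw [Submodule.map_top, Submodule.range_mkQ]
    rw [this, ← Submodule.map_smul'', smul_eq_mul, Ideal.mul_top]
  rw [h1, Submodule.comap_map_mkQ, sup_comm]

end Len

end Groth.Agent.Lib.Helper90.FrobPow
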