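import Mathlib
import Groth.Agent.Lib.Helper90.SamuelPrimary
import Groth.Agent.Lib.Helper90.PolyLim
import Groth.Agent.Lib.Helper90.FrobPow2

/-!
# Positivity of Samuel-type limits when `c ≤ dim`

For a Noetherian local ring `A`, ideals `J ≠ ⊤` and `I ≤ 𝔪`, and `c ≤ dim A/J`:
if `c! · ℓ(A/(J + I^t)) / t^c → L` (all lengths finite) then `0 < L`.
-/

namespace Groth.Agent.Lib.Helper90.IntMultPos

open Module HilbPoly GrMod HSPoly Samuel SamuelDim Polynomial Filter Topology IsLocalRing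

universe u

variable {A : Type u} [CommRing A] [IsNoetherianRing A] [IsLocalRing A]

theorem pos_of_tendsto (J I : Ideal A) (hJ : J ≠ ⊤) (hI : I ≤ maximalIdeal A) (c : ℕ)
    (hc : (c : WithBot ℕ∞) ≤ ringKrullDim (A ⧸ J))
    (hfin : ∀ t : ℕ, Module.length A (A ⧸ (J ⊔ I ^ t)) ≠ ⊤) (L : ℝ)
    (hL : Tendsto (fun t : ℕ => (c.factorial : ℝ) *
      ((Module.length A (A ⧸ (J ⊔ I ^ t))).toNat : ℝ) / (t : ℝ) ^ c) atTop (𝓝 L)) :
    0 < L := by
  haveI : Nontrivial (A ⧸ J) := Ideal.Quotient.nontrivial_iff.mpr hJ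
  obtain ⟨P, ⟨N, hN⟩, hdeg⟩ := exists_hilbertSamuel (A := A) (A ⧸ J)
  rw [Module.supportDim_quotient_eq_ringKrullDim] at hdeg
  set d := P.natDegree with hd
  have hcd : c ≤ d := by
    rw [← hdeg] at hc
    exact_mod_cast hc
  -- the comparison function
  set a : ℕ → ℕ := fun t => (Module.length A (A ⧸ (J ⊔ maximalIdeal A ^ t))).toNat with ha
  have hlen : ∀ I' : Ideal A, Module.length A (A ⧸ (J ⊔ I')) =
      Module.length A ((A ⧸ J) ⧸ (I' • (⊤ : Submodule A (A ⧸ J)))) := by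
    intro I'
    rw [sup_comm]
    exact FrobPow.length_quot_sup_eq I' J
  have haP : ∀ t, N ≤ t → ((a t : ℕ) : ℚ) = P.eval (t : ℚ) := by
    intro t ht
    rw [← hN t ht]
    simp only [samuelFn, ha]
    rw [IsLocalRing.ringJacobson_eq_maximalIdeal, hlen]
    push_cast
    rfl
  have hle : ∀ t, a t ≤ (Module.length A (A ⧸ (J ⊔ I ^ t))).toNat := by
    intro t
    refine ENat.toNat_le_toNat ?_ (hfin t)
    exact FrobPow.length_quot_mono (sup_le_sup_left (Ideal.pow_right_mono hI t) J)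
  have hapos : ∀ t, 1 ≤ t → 1 ≤ a t := by
    intro t ht
    have hle' : J ⊔ maximalIdeal A ^ t ≤ maximalIdeal A := by
      refine sup_le (IsLocalRing.le_maximalIdeal hJ) ?_
      exact (Ideal.pow_le_pow_right ht).trans (by rw [pow_one])
    have hne : J ⊔ maximalIdeal A ^ t ≠ ⊤ := by
      intro h
      rw [h, top_le_iff] at hle'
      exact (IsLocalRing.maximalIdeal.isMaximal A).ne_top hle'
    haveI : Nontrivial (A ⧸ (J ⊔ maximalIdeal A ^ t)) := Ideal.Quotient.nontrivial_iff.mpr hne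
    have h0 : Module.length A (A ⧸ (J ⊔ maximalIdeal A ^ t)) ≠ 0 := by
      rw [Ne, Module.length_eq_zero_iff]
      exact not_subsingleton _
    have htop : Module.length A (A ⧸ (J ⊔ maximalIdeal A ^ t)) ≠ ⊤ := by
      intro h
      have := FrobPow.length_quot_mono (A := A)
        (sup_le_sup_left (Ideal.pow_right_mono hI t) J)
      rw [h, top_le_iff] at this
      exact hfin t this
    have : (Module.length A (A ⧸ (J ⊔ maximalIdeal A ^ t))).toNat ≠ 0 := by
      rw [Ne, ENat.toNat_eq_zero]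
      push Not
      exact ⟨h0, htop⟩
    exact Nat.one_le_iff_ne_zero.mpr this
  have hPpos : ∀ t, max N 1 ≤ t → (1 : ℚ) ≤ P.eval (t : ℚ) := by
    intro t ht
    rw [← haP t (le_trans (le_max_left _ _) ht)]
    exact_mod_cast hapos t (le_trans (le_max_right _ _) ht)
  have hP0 : P ≠ 0 := by
    intro h0
    have := hPpos (max N 1) le_rfl
    rw [h0, eval_zero] at this
    linarith
  have hdegP : P.degree = (d : WithBot ℕ) := Polynomial.degree_eq_natDegree hP0
  have hlim := PolyLim.tendsto_eval_div_pow_leadingCoeff P d hdegP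
  set lam : ℝ := ((P.leadingCoeff : ℚ) : ℝ) with hlam
  have hlam0 : lam ≠ 0 := by
    rw [hlam]
    exact_mod_cast (Polynomial.leadingCoeff_ne_zero.mpr hP0)
  have hlamnn : 0 ≤ lam := by
    refine ge_of_tendsto hlim ?_
    filter_upwards [eventually_ge_atTop (max N 1)] with t ht
    have h1 : (0 : ℝ) ≤ ((P.eval (t : ℚ) : ℚ) : ℝ) := by
      have := hPpos t ht
      exact_mod_cast (by linarith : (0 : ℚ) ≤ P.eval (t : ℚ))
    positivity
  have hlampos : 0 < lam := lt_of_le_of_ne hlamnn (Ne.symm hlam0)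
  have hev : ∀ᶠ t : ℕ in atTop, lam / 2 ≤ ((P.eval (t : ℚ) : ℚ) : ℝ) / (t : ℝ) ^ d :=
    hlim.eventually_const_le (by linarith)
  have hfinal : ∀ᶠ t : ℕ in atTop, lam / 2 ≤ (c.factorial : ℝ) *
      ((Module.length A (A ⧸ (J ⊔ I ^ t))).toNat : ℝ) / (t : ℝ) ^ c := by
    filter_upwards [hev, eventually_ge_atTop (max N 1)] with t ht1 ht2
    have htN : N ≤ t := le_trans (le_max_left _ _) ht2
    have ht1' : 1 ≤ t := le_trans (le_max_right _ _) ht2
    have htR : (1 : ℝ) ≤ (t : ℝ) := by exact_mod_cast ht1'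
    have hPe : ((P.eval (t : ℚ) : ℚ) : ℝ) = (a t : ℝ) := by
      rw [← haP t htN]
      norm_cast
    have hpowle : (t : ℝ) ^ c ≤ (t : ℝ) ^ d := pow_le_pow_right₀ htR hcd
    have hpc : (0 : ℝ) < (t : ℝ) ^ c := by positivity
    have hpd : (0 : ℝ) < (t : ℝ) ^ d := by positivity
    have ha0 : (0 : ℝ) ≤ (a t : ℝ) := by positivity
    have hfac : (1 : ℝ) ≤ (c.factorial : ℝ) := by
      exact_mod_cast Nat.one_le_iff_ne_zero.mpr (Nat.factorial_ne_zero c)
    have hle1 : (a t : ℝ) ≤ ((Module.length A (A ⧸ (J ⊔ I ^ t))).toNat : ℝ) := by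
      exact_mod_cast hle t
    calc lam / 2 ≤ (a t : ℝ) / (t : ℝ) ^ d := by rw [← hPe]; exact ht1
      _ ≤ (a t : ℝ) / (t : ℝ) ^ c := div_le_div_of_nonneg_left ha0 hpc hpowle
      _ ≤ ((Module.length A (A ⧸ (J ⊔ I ^ t))).toNat : ℝ) / (t : ℝ) ^ c := by gcongr
      _ ≤ (c.factorial : ℝ) * ((Module.length A (A ⧸ (J ⊔ I ^ t))).toNat : ℝ) / (t : ℝ) ^ c := by
        rw [mul_div_assoc]
        have : (0 : ℝ) ≤ ((Module.length A (A ⧸ (J ⊔ I ^ t))).toNat : ℝ) / (t : ℝ) ^ c := by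
          positivity
        nlinarith
  have := ge_of_tendsto hL hfinal
  linarith

end Groth.Agent.Lib.Helper90.IntMultPos
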