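import Mathlib
import Groth.Prelude.Def_IntMult
import Groth.Agent.Lib.Helper90.TorSymm
import Groth.Agent.Lib.Helper98.KoszulRes
import Groth.Agent.Lib.Helper98.KoszulFilt2
import Groth.Agent.Lib.Helper90.FrobPow2

/-!
# Serre's Tor-formula for a Cartier divisor: ring-level computation
-/

namespace Groth.Agent.Lib.Helper90.IntMultAlg

open Groth.Agent.Lib.Helper98.KoszulEuler Filter Topology Pointwise

universe u

section Symm

variable {A : Type u} [CommRing A]

theorem chi_symm (M N : Type u) [AddCommGroup M] [Module A M] [AddCommGroup N] [Module A N] :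
    IntMult.chi A M N = IntMult.chi A N M := by
  unfold IntMult.chi
  refine finsum_congr (fun i => ?_)
  have : Module.length A (DRing.Tor A i M N) = Module.length A (DRing.Tor A i N M) :=
    TorSymm.length_tor_symm _ _ i
  rw [this]

end Symm

section Regular

variable {A : Type u} [CommRing A] {M : Type u} [AddCommGroup M] [Module A M]

lemma span_singleton_pow_smul_top (g : A) (n : ℕ) :
    (Ideal.span {g} ^ n • (⊤ : Submodule A M)) = (g ^ n) • (⊤ : Submodule A M) := by
  rw [Ideal.span_singleton_pow, Submodule.ideal_span_singleton_smul]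

lemma mem_pow_smul_top_iff (g : A) (n : ℕ) (m : M) :
    m ∈ (Ideal.span {g} ^ n • (⊤ : Submodule A M)) ↔ ∃ m' : M, g ^ n • m' = m := by
  rw [span_singleton_pow_smul_top, Submodule.mem_smul_pointwise_iff_exists]
  simp

/-- for `g` regular on `M`: `ℓ(M/g^{n+1}M) = ℓ(M/g^n M) + ℓ(M/gM)`. -/
lemma length_quot_pow_succ (g : A) (hg : IsSMulRegular M g) (n : ℕ) :
    Module.length A (M ⧸ (Ideal.span {g} ^ (n + 1) • (⊤ : Submodule A M))) =
      Module.length A (M ⧸ (Ideal.span {g} • (⊤ : Submodule A M))) +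
        Module.length A (M ⧸ (Ideal.span {g} ^ n • (⊤ : Submodule A M))) := by
  set P1 := (Ideal.span {g} • (⊤ : Submodule A M)) with hP1
  set Pn := (Ideal.span {g} ^ n • (⊤ : Submodule A M)) with hPn
  set Pn1 := (Ideal.span {g} ^ (n + 1) • (⊤ : Submodule A M)) with hPn1
  have hle : Pn1 ≤ Pn := Submodule.smul_mono_left (Ideal.pow_le_pow_right (Nat.le_succ n))
  have hmem1 : ∀ m : M, m ∈ P1 ↔ ∃ m' : M, g • m' = m := by
    intro m
    have := mem_pow_smul_top_iff (M := M) g 1 m
    rwa [pow_one, pow_one] at this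
  -- multiplication by g^n : M/gM → M/g^{n+1}M
  let φ₀ : M →ₗ[A] (M ⧸ Pn1) := Pn1.mkQ.comp (LinearMap.lsmul A M (g ^ n))
  have hφ₀ : P1 ≤ LinearMap.ker φ₀ := by
    intro m hm
    obtain ⟨m', rfl⟩ := (hmem1 m).mp hm
    rw [LinearMap.mem_ker]
    change Pn1.mkQ ((g ^ n) • (g • m')) = 0
    rw [Submodule.mkQ_apply, Submodule.Quotient.mk_eq_zero, hPn1, mem_pow_smul_top_iff]
    exact ⟨m', by rw [pow_succ, mul_smul]⟩
  let φ : (M ⧸ P1) →ₗ[A] (M ⧸ Pn1) := P1.liftQ φ₀ hφ₀
  have hφ : ∀ m : M, φ (Submodule.Quotient.mk m) = Submodule.Quotient.mk ((g ^ n) • m) := fun m => rfl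
  let ψ : (M ⧸ Pn1) →ₗ[A] (M ⧸ Pn) := Submodule.factor hle
  have hψ : ∀ m : M, ψ (Submodule.Quotient.mk m) = Submodule.Quotient.mk m := fun m => rfl
  have hinj : Function.Injective φ := by
    rw [← LinearMap.ker_eq_bot, LinearMap.ker_eq_bot']
    intro x hx
    obtain ⟨m, rfl⟩ := Submodule.Quotient.mk_surjective _ x
    rw [hφ, Submodule.Quotient.mk_eq_zero, hPn1, mem_pow_smul_top_iff] at hx
    obtain ⟨m', hm'⟩ := hx
    rw [pow_succ, mul_smul] at hm'
    have := (hg.pow n) hm'
    rw [Submodule.Quotient.mk_eq_zero, hmem1]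
    exact ⟨m', this⟩
  have hsurj : Function.Surjective ψ := Submodule.factor_surjective hle
  have hex : Function.Exact φ ψ := by
    intro y
    constructor
    · intro hy
      obtain ⟨m, rfl⟩ := Submodule.Quotient.mk_surjective _ y
      rw [hψ, Submodule.Quotient.mk_eq_zero, hPn, mem_pow_smul_top_iff] at hy
      obtain ⟨m', rfl⟩ := hy
      exact ⟨Submodule.Quotient.mk m', hφ m'⟩
    · rintro ⟨x, rfl⟩
      obtain ⟨m, rfl⟩ := Submodule.Quotient.mk_surjective _ x
      rw [hφ, hψ, Submodule.Quotient.mk_eq_zero, hPn, mem_pow_smul_top_iff]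
      exact ⟨m, rfl⟩
  exact Module.length_eq_add_of_exact φ ψ hinj hsurj hex

lemma length_quot_pow_eq (g : A) (hg : IsSMulRegular M g) (n : ℕ) :
    Module.length A (M ⧸ (Ideal.span {g} ^ n • (⊤ : Submodule A M))) =
      n * Module.length A (M ⧸ (Ideal.span {g} • (⊤ : Submodule A M))) := by
  induction n with
  | zero =>
    rw [pow_zero, Ideal.one_eq_top, Submodule.top_smul]
    have : Subsingleton (M ⧸ (⊤ : Submodule A M)) := Submodule.Quotient.subsingleton_iff.mpr rfl
    rw [Module.length_eq_zero]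
    simp
  | succ n ih =>
    rw [length_quot_pow_succ g hg n, ih]
    push_cast
    ring

end Regular

section Chi

variable {A : Type u} [CommRing A] [IsNoetherianRing A]

/-- `χ(g; M) = ℓ(M/gM)` for `g` regular on `M`. -/
theorem chi_singleton (M : Type u) [AddCommGroup M] [Module A M] [Module.Finite A M] (g : A)
    (hg : IsSMulRegular M g)
    (hfl : IsFiniteLength A (M ⧸ (Ideal.span {g} • (⊤ : Submodule A M)))) :
    chi [g] (ModuleCat.of A M) =
      ((Module.length A (M ⧸ (Ideal.span {g} • (⊤ : Submodule A M)))).toNat : ℤ) := by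
  have hset : {a : A | a ∈ [g]} = {g} := by
    ext a
    simp
  have h := tendsto_samuel_chi [g] M (by rw [hset]; exact hfl)
  rw [hset] at h
  have hfin : Module.length A (M ⧸ (Ideal.span {g} • (⊤ : Submodule A M))) ≠ ⊤ :=
    Module.length_ne_top_iff.mpr hfl
  obtain ⟨ℓ, hℓ⟩ := ENat.ne_top_iff_exists.mp hfin
  have h2 : Tendsto (fun n : ℕ => (([g].length.factorial : ℕ) : ℝ) *
      ((Module.length A (M ⧸ (Ideal.span {g}) ^ n • (⊤ : Submodule A M))).toNat : ℝ) /
        (n : ℝ) ^ [g].length) atTop (𝓝 (ℓ : ℝ)) := by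
    refine tendsto_const_nhds.congr' ?_
    filter_upwards [eventually_gt_atTop 0] with n hn
    rw [length_quot_pow_eq g hg n, ← hℓ]
    have : ((n : ℕ∞) * (ℓ : ℕ∞)).toNat = n * ℓ := by
      rw [← Nat.cast_mul, ENat.toNat_coe]
    rw [this]
    simp only [List.length_singleton, Nat.factorial_one, Nat.cast_one, one_mul, pow_one]
    push_cast
    field_simp
  have h3 := tendsto_nhds_unique h h2
  rw [← hℓ, ENat.toNat_coe]
  exact_mod_cast h3

/-- **Tor formula for a principal regular ideal.** -/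
theorem chi_quot_singleton (I : Ideal A) (g : A) (hgA : IsSMulRegular A g)
    (hgM : IsSMulRegular (A ⧸ I) g) (hfl : IsFiniteLength A (A ⧸ (I ⊔ Ideal.span {g}))) :
    IntMult.chi A (A ⧸ I) (A ⧸ Ideal.span {g}) =
      ((Module.length A (A ⧸ (I ⊔ Ideal.span {g}))).toNat : ℤ) := by
  rw [chi_symm]
  have hw : RingTheory.Sequence.IsWeaklyRegular A [g] :=
    (RingTheory.Sequence.isWeaklyRegular_singleton_iff A g).mpr hgA
  have h1 := tor_chi_eq_chi [g] hw (A ⧸ I)
  have hI : Ideal.ofList [g] = Ideal.span {g} := Ideal.ofList_singleton g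
  rw [hI] at h1
  have hlen : Module.length A (A ⧸ (I ⊔ Ideal.span {g})) =
      Module.length A ((A ⧸ I) ⧸ (Ideal.span {g} • (⊤ : Submodule A (A ⧸ I)))) := by
    rw [sup_comm]
    exact FrobPow.length_quot_sup_eq (Ideal.span {g}) I
  have hfl' : IsFiniteLength A ((A ⧸ I) ⧸ (Ideal.span {g} • (⊤ : Submodule A (A ⧸ I)))) := by
    rw [← Module.length_ne_top_iff, ← hlen, Module.length_ne_top_iff]
    exact hfl
  unfold IntMult.chi
  rw [h1, chi_singleton (A ⧸ I) g hgM hfl', hlen]

end Chi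

end Groth.Agent.Lib.Helper90.IntMultAlg
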