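import Mathlib
import Groth.Agent.Lib.Helper90.IntMultAlg

/-!
# Serre's Tor formula against a complete intersection: the Samuel limit (ring level)

For a Noetherian ring `A`, an ideal `J` and a weakly regular sequence `g₁, …, g_c` with
`A/(J + (g))` of finite length,
`c! · ℓ(A/(J + (g)^t)) / t^c → χ^A(A/J, A/(g))`.
-/

namespace Groth.Agent.Lib.Helper90.IntMultReg

open Groth.Agent.Lib.Helper98.KoszulEuler Filter Topology

universe u

variable {A : Type u} [CommRing A] [IsNoetherianRing A]

theorem tendsto_length_chi (J : Ideal A) (c : ℕ) (g : Fin c → A)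
    (hreg : RingTheory.Sequence.IsWeaklyRegular A (List.ofFn g))
    (hfl : IsFiniteLength A (A ⧸ (J ⊔ Ideal.span (Set.range g)))) :
    Tendsto (fun t : ℕ => (c.factorial : ℝ) *
      ((Module.length A (A ⧸ (J ⊔ Ideal.span (Set.range g) ^ t))).toNat : ℝ) / (t : ℝ) ^ c) atTop
      (𝓝 (IntMult.chi A (A ⧸ J) (A ⧸ Ideal.span (Set.range g)) : ℝ)) := by
  have hset : {a : A | a ∈ List.ofFn g} = Set.range g := by
    ext a
    simp [List.mem_ofFn]
  have hlen : ∀ I : Ideal A, Module.length A (A ⧸ (J ⊔ I)) =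
      Module.length A ((A ⧸ J) ⧸ (I • (⊤ : Submodule A (A ⧸ J)))) := by
    intro I
    rw [sup_comm]
    exact FrobPow.length_quot_sup_eq I J
  have hfl' : IsFiniteLength A ((A ⧸ J) ⧸
      (Ideal.span (Set.range g) • (⊤ : Submodule A (A ⧸ J)))) := by
    rw [← Module.length_ne_top_iff, ← hlen, Module.length_ne_top_iff]
    exact hfl
  have h := tendsto_samuel_chi (List.ofFn g) (A ⧸ J) (by rw [hset]; exact hfl')
  rw [hset, List.length_ofFn] at h
  have hchi : IntMult.chi A (A ⧸ J) (A ⧸ Ideal.span (Set.range g)) =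
      chi (List.ofFn g) (ModuleCat.of A (A ⧸ J)) := by
    rw [IntMultAlg.chi_symm]
    have := tor_chi_eq_chi (List.ofFn g) hreg (A ⧸ J)
    unfold IntMult.chi
    have hI : Ideal.ofList (List.ofFn g) = Ideal.span (Set.range g) := by
      change Ideal.span {a : A | a ∈ List.ofFn g} = _
      rw [hset]
    rw [hI] at this
    exact this
  rw [hchi]
  refine h.congr (fun t => ?_)
  rw [hlen]

end Groth.Agent.Lib.Helper90.IntMultReg
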