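import Mathlib
import Groth.Agent.Lib.Helper90.IntMultReg
import Groth.Agent.Lib.Helper90.IntMultPos

/-!
# Samuel limit and positivity of `χ(A/J, A/(g))` for a regular sequence `g` of length `c ≤ dim A/J`
-/

namespace Groth.Agent.Lib.Helper90.IntMultReg

open Groth.Agent.Lib.Helper98.KoszulEuler Filter Topology IsLocalRing

universe u

variable {A : Type u} [CommRing A] [IsNoetherianRing A] [IsLocalRing A]

theorem tendsto_and_pos (J : Ideal A) (hJ : J ≠ ⊤) (c : ℕ) (g : Fin c → A)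
    (hreg : RingTheory.Sequence.IsRegular A (List.ofFn g))
    (hfl : IsFiniteLength A (A ⧸ (J ⊔ Ideal.span (Set.range g))))
    (hc : (c : WithBot ℕ∞) ≤ ringKrullDim (A ⧸ J)) :
    Tendsto (fun t : ℕ => (c.factorial : ℝ) *
      ((Module.length A (A ⧸ (J ⊔ Ideal.span (Set.range g) ^ t))).toNat : ℝ) / (t : ℝ) ^ c) atTop
      (𝓝 (IntMult.chi A (A ⧸ J) (A ⧸ Ideal.span (Set.range g)) : ℝ)) ∧
    0 < IntMult.chi A (A ⧸ J) (A ⧸ Ideal.span (Set.range g)) := by
  have hset : {a : A | a ∈ List.ofFn g} = Set.range g := by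
    ext a
    simp [List.mem_ofFn]
  have hI : Ideal.ofList (List.ofFn g) = Ideal.span (Set.range g) := by
    change Ideal.span {a : A | a ∈ List.ofFn g} = _
    rw [hset]
  have hlen : ∀ I : Ideal A, Module.length A (A ⧸ (J ⊔ I)) =
      Module.length A ((A ⧸ J) ⧸ (I • (⊤ : Submodule A (A ⧸ J)))) := by
    intro I
    rw [sup_comm]
    exact FrobPow.length_quot_sup_eq I J
  have hfl' : IsFiniteLength A ((A ⧸ J) ⧸
      (Ideal.span {a : A | a ∈ List.ofFn g} • (⊤ : Submodule A (A ⧸ J)))) := by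
    rw [hset, ← Module.length_ne_top_iff, ← hlen, Module.length_ne_top_iff]
    exact hfl
  have hfin : ∀ t : ℕ, Module.length A (A ⧸ (J ⊔ Ideal.span (Set.range g) ^ t)) ≠ ⊤ := by
    intro t
    rw [hlen, Module.length_ne_top_iff, ← hset]
    exact isFiniteLength_quot_pow (List.ofFn g) (A ⧸ J) hfl' t
  have hne : Ideal.span (Set.range g) ≠ ⊤ := by
    intro h
    have h2 := hreg.2
    rw [hI, h] at h2
    exact h2 (by simp)
  have h1 := tendsto_length_chi J c g hreg.toIsWeaklyRegular hfl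
  refine ⟨h1, ?_⟩
  have h2 := IntMultPos.pos_of_tendsto J (Ideal.span (Set.range g)) hJ
    (IsLocalRing.le_maximalIdeal hne) c hc hfin _ h1
  exact_mod_cast h2

end Groth.Agent.Lib.Helper90.IntMultReg
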