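import Mathlib
import Groth.Agent.Lib.Helper90.TorLin1

/-!
# Base change for Tor, part 1: explicit resolution data, length under change of rings (helper90)
-/

set_option autoImplicit false
universe u

open CategoryTheory CategoryTheory.Limits MonoidalCategory TensorProduct

namespace Groth.Agent.Lib.Helper90.TorBC

variable {R : Type u} [CommRing R]

/-- Every module has an explicit projective resolution (in linear-algebra terms). -/
theorem exists_resData (Z : Type u) [AddCommGroup Z] [Module R Z] :
    ∃ (X : ℕ → ModuleCat.{u} R) (d : ∀ n, X (n + 1) →ₗ[R] X n) (ε : X 0 →ₗ[R] Z),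
      (∀ n, Module.Projective R (X n)) ∧ (∀ n, (d n).comp (d (n + 1)) = 0) ∧
      ε.comp (d 0) = 0 ∧ Function.Surjective ε ∧
      LinearMap.ker ε = LinearMap.range (d 0) ∧
      ∀ n, LinearMap.ker (d n) = LinearMap.range (d (n + 1)) := by
  let P : ProjectiveResolution (ModuleCat.of R Z) := ProjectiveResolution.of _
  have hproj : ∀ n, Module.Projective R (P.complex.X n) := by
    intro n
    have := P.projective n
    exact (IsProjective.iff_projective (R := R) (P := P.complex.X n)).mpr this
  have hdd : ∀ n, (P.complex.d (n + 1) n).hom.comp (P.complex.d (n + 1 + 1) (n + 1)).hom = 0 := by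
    intro n
    have := P.complex.d_comp_d (n + 1 + 1) (n + 1) n
    rw [← ModuleCat.hom_comp, this]
    rfl
  let ε : P.complex.X 0 →ₗ[R] Z := (P.π.f 0).hom
  refine ⟨fun n => P.complex.X n, fun n => (P.complex.d (n + 1) n).hom, ε, hproj, hdd, ?_, ?_, ?_, ?_⟩
  · have := P.complex_d_comp_π_f_zero
    change (P.π.f 0).hom.comp (P.complex.d 1 0).hom = 0
    rw [← ModuleCat.hom_comp, this]
    rfl
  · have : Epi (P.π.f 0) := inferInstance
    exact (ModuleCat.epi_iff_surjective _).mp this
  · have := P.exact₀
    rw [ShortComplex.moduleCat_exact_iff_range_eq_ker] at this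
    exact this.symm
  · intro n
    have := P.complex_exactAt_succ n
    rw [HomologicalComplex.exactAt_iff' _ (n + 1 + 1) (n + 1) n (by simp) (by simp),
      ShortComplex.moduleCat_exact_iff_range_eq_ker] at this
    exact this.symm

end Groth.Agent.Lib.Helper90.TorBC
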