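import Mathlib
import Groth.Agent.Lib.Helper90.TorBC1
import Groth.Agent.Lib.Helper90.TorBC2

/-!
# Base change for Tor, part 3: the length comparison `Tor^R(M, R/I)` vs `Tor^S(M, S/IS)` (helper90)
-/

set_option autoImplicit false
universe u

open TensorProduct

namespace Groth.Agent.Lib.Helper90.TorBC

open Groth.Agent.Lib.Helper90.TorLin

variable {R S : Type u} [CommRing R] [CommRing S] [Algebra R S]

lemma ker_eq_range_of_subsingleton_Hm {Y₂ Y₁ Y₀ : Type u} [AddCommGroup Y₂] [Module R Y₂]
    [AddCommGroup Y₁] [Module R Y₁] [AddCommGroup Y₀] [Module R Y₀] (f : Y₂ →ₗ[R] Y₁)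
    (g : Y₁ →ₗ[R] Y₀) (h : g ∘ₗ f = 0) (hs : Subsingleton (Hm f g h)) :
    ∀ y, g y = 0 → ∃ x, f x = y := by
  intro y hy
  have h1 := Submodule.Quotient.subsingleton_iff.mp hs
  have h2 : (⟨y, hy⟩ : LinearMap.ker g) ∈ LinearMap.range (f.codRestrict (LinearMap.ker g)
      (fun x => LinearMap.congr_fun h x)) := by
    rw [h1]
    trivial
  obtain ⟨x, hx⟩ := h2
  exact ⟨x, congrArg Subtype.val hx⟩

section phi

variable (M : Type u) [AddCommGroup M] [Module R M] [Module S M] [IsScalarTower R S M]
  (X : Type u) [AddCommGroup X] [Module R X]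

/-- the semilinear comparison map `M ⊗[R] X → M ⊗[S] (S ⊗[R] X)` -/
noncomputable def phi : M ⊗[R] X →ₛₗ[algebraMap R S] M ⊗[S] (S ⊗[R] X) where
  toFun := (AlgebraTensorModule.cancelBaseChange R S S M X).symm
  map_add' := map_add _
  map_smul' := fun r y => by
    rw [← algebraMap_smul S r y, map_smul]

lemma phi_tmul (m : M) (x : X) :
    phi (R := R) (S := S) M X (m ⊗ₜ[R] x) = m ⊗ₜ[S] ((1 : S) ⊗ₜ[R] x) := rfl

lemma phi_bijective : Function.Bijective (phi (R := R) (S := S) M X) :=
  (AlgebraTensorModule.cancelBaseChange R S S M X).symm.bijective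

variable {X} {X₂ : Type u} [AddCommGroup X₂] [Module R X₂]

lemma phi_lTensor (f : X →ₗ[R] X₂) (y : M ⊗[R] X) :
    phi (R := R) (S := S) M X₂ (f.lTensor M y) =
      (f.baseChange S).lTensor M (phi (R := R) (S := S) M X y) := by
  induction y using TensorProduct.induction_on with
  | zero => simp
  | tmul m x =>
    rw [LinearMap.lTensor_tmul, phi_tmul, phi_tmul, LinearMap.lTensor_tmul,
      LinearMap.baseChange_tmul]
  | add a b ha hb => rw [map_add, map_add, ha, hb, map_add, map_add]

variable (X)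

lemma smul_surj (hsurj : ∀ s : S, ∃ r : R, ∀ m : M, s • m = r • m) (s : S) :
    ∃ r : R, ∀ y : M ⊗[S] (S ⊗[R] X), s • y = algebraMap R S r • y := by
  obtain ⟨r, hr⟩ := hsurj s
  refine ⟨r, fun y => ?_⟩
  induction y using TensorProduct.induction_on with
  | zero => simp
  | tmul m x =>
    rw [TensorProduct.smul_tmul', TensorProduct.smul_tmul', hr m, algebraMap_smul]
  | add a b ha hb => rw [smul_add, smul_add, ha, hb]

end phi

/-- **Base change for Tor** (length version). If `Tor^R_n(S, R/I) = 0` for `n > 0`, `M` is an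
`S`-module on which `S` acts through `R`, then `Tor^R_n(M, R/I)` and `Tor^S_n(M, S/IS)` have the
same length (over `R`, resp. `S`). -/
theorem length_tor_baseChange (I : Ideal R) (M : Type u) [AddCommGroup M] [Module R M]
    [Module S M] [IsScalarTower R S M]
    (hTor : ∀ n, 0 < n → Subsingleton (DRing.Tor R n S (R ⧸ I)))
    (hsurj : ∀ s : S, ∃ r : R, ∀ m : M, s • m = r • m) (n : ℕ) :
    Module.length R (DRing.Tor R n M (R ⧸ I)) =
      Module.length S (DRing.Tor S n M (S ⧸ I.map (algebraMap R S))) := by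
  obtain ⟨X, d, ε, hproj, hd, hε, hεs, h0, hex⟩ := exists_resData (R := R) (R ⧸ I)
  haveI := hproj
  let X' : ℕ → Type u := fun k => S ⊗[R] X k
  let d' : ∀ k, X' (k + 1) →ₗ[S] X' k := fun k => (d k).baseChange S
  let e : S ⊗[R] (R ⧸ I) ≃ₗ[S] S ⧸ I.map (algebraMap R S) :=
    (Algebra.TensorProduct.quotIdealMapEquivTensorQuot S I).symm.toLinearEquiv
  let ε' : X' 0 →ₗ[S] S ⧸ I.map (algebraMap R S) := e.toLinearMap ∘ₗ ε.baseChange S
  have hd' : ∀ k, (d' k).comp (d' (k + 1)) = 0 := by
    intro k
    change ((d k).baseChange S).comp ((d (k + 1)).baseChange S) = 0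
    rw [← LinearMap.baseChange_comp, hd k, LinearMap.baseChange_zero]
  have hε' : ε'.comp (d' 0) = 0 := by
    change (e.toLinearMap ∘ₗ ε.baseChange S).comp ((d 0).baseChange S) = 0
    rw [LinearMap.comp_assoc, ← LinearMap.baseChange_comp, hε, LinearMap.baseChange_zero,
      LinearMap.comp_zero]
  have hεs' : Function.Surjective ε' := by
    change Function.Surjective (e ∘ ε.baseChange S)
    refine e.surjective.comp ?_
    rw [LinearMap.baseChange_eq_ltensor]
    exact LinearMap.lTensor_surjective S hεs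
  have h0' : LinearMap.ker ε' = LinearMap.range (d' 0) := by
    have hexact : Function.Exact (d 0) ε := LinearMap.exact_iff.mpr h0
    have h2 := lTensor_exact S hexact hεs
    ext y
    rw [LinearMap.mem_ker, LinearMap.mem_range]
    change e (ε.baseChange S y) = 0 ↔ ∃ x, (d 0).baseChange S x = y
    rw [LinearEquiv.map_eq_zero_iff, LinearMap.baseChange_eq_ltensor,
      LinearMap.baseChange_eq_ltensor, h2 y]
    rfl
  have hex' : ∀ k, LinearMap.ker (d' k) = LinearMap.range (d' (k + 1)) := by
    intro k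
    obtain ⟨t⟩ := tor_succ S (fun k => X k) d hd ε hε hεs h0 hex k
    have hsub : Subsingleton (Hm ((d (k + 1)).lTensor S) ((d k).lTensor S)
        (lTensor_comp_eq_zero S (fun k => X k) d hd k)) := by
      haveI := hTor (k + 1) (Nat.succ_pos k)
      exact t.symm.toEquiv.subsingleton
    have key := ker_eq_range_of_subsingleton_Hm _ _ _ hsub
    apply le_antisymm
    · intro y hy
      rw [LinearMap.mem_ker] at hy
      change (d k).baseChange S y = 0 at hy
      rw [LinearMap.baseChange_eq_ltensor] at hy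
      obtain ⟨x, hx⟩ := key y hy
      refine ⟨x, ?_⟩
      change (d (k + 1)).baseChange S x = y
      rw [LinearMap.baseChange_eq_ltensor]
      exact hx
    · rintro _ ⟨x, rfl⟩
      exact LinearMap.congr_fun (hd' k) x
  haveI : ∀ k, Module.Projective S (X' k) := fun k =>
    inferInstanceAs (Module.Projective S (S ⊗[R] X k))
  cases n with
  | zero =>
    obtain ⟨t⟩ := tor_zero M (fun k => X k) d hd ε hε hεs h0 hex
    obtain ⟨t'⟩ := tor_zero (R := S) M X' d' hd' ε' hε' hεs' h0' hex'
    rw [t.length_eq, t'.length_eq]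
    refine length_Hm_eq _ _ _ _ _ _ (phi (S := S) M (X 1)) (phi (S := S) M (X 0))
      (phi (S := S) M (X 0)) (phi_bijective M (X 1)).2 (phi_bijective M (X 0))
      (phi_bijective M (X 0)).1 (map_zero _) ?_ ?_ (smul_surj M (X 0) hsurj)
    · intro x
      exact phi_lTensor M (d 0) x
    · intro y
      simp
  | succ n =>
    obtain ⟨t⟩ := tor_succ M (fun k => X k) d hd ε hε hεs h0 hex n
    obtain ⟨t'⟩ := tor_succ (R := S) M X' d' hd' ε' hε' hεs' h0' hex' n
    rw [t.length_eq, t'.length_eq]
    refine length_Hm_eq _ _ _ _ _ _ (phi (S := S) M (X (n + 1 + 1))) (phi (S := S) M (X (n + 1)))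
      (phi (S := S) M (X n)) (phi_bijective M (X (n + 1 + 1))).2 (phi_bijective M (X (n + 1)))
      (phi_bijective M (X n)).1 (map_zero _) ?_ ?_ (smul_surj M (X (n + 1)) hsurj)
    · intro x
      exact phi_lTensor M (d (n + 1)) x
    · intro y
      exact phi_lTensor M (d n) y

end Groth.Agent.Lib.Helper90.TorBC
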