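import Mathlib
import Groth.Agent.Lib.Helper90.TorBC3
import Groth.Agent.Lib.Helper90.TorSymm
import Groth.Agent.S8710

/-!
# Base change for Tor, part 4: the reduction-to-the-diagonal chain (helper90)
-/

set_option autoImplicit false
universe u

open TensorProduct CategoryTheory

namespace Groth.Agent.Lib.Helper90.TorBC

section congr

variable {R : Type u} [CommRing R]

lemma length_tor_congr_left {M M' : Type u} [AddCommGroup M] [Module R M] [AddCommGroup M']
    [Module R M'] (e : M ≃ₗ[R] M') (Z : Type u) [AddCommGroup Z] [Module R Z] (n : ℕ) :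
    Module.length R (DRing.Tor R n M Z) = Module.length R (DRing.Tor R n M' Z) :=
  (((CategoryTheory.Tor (ModuleCat.{u} R) n).mapIso e.toModuleIso).app
    (ModuleCat.of R Z)).toLinearEquiv.length_eq

lemma length_tor_symm' (M Z : Type u) [AddCommGroup M] [Module R M] [AddCommGroup Z] [Module R Z]
    (n : ℕ) : Module.length R (DRing.Tor R n M Z) = Module.length R (DRing.Tor R n Z M) :=
  Groth.Agent.Lib.Helper90.TorSymm.length_tor_symm (ModuleCat.of R M) (ModuleCat.of R Z) n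

lemma subsingleton_tor_of_flat (M Z : Type u) [AddCommGroup M] [Module R M] [AddCommGroup Z]
    [Module R Z] [Module.Flat R M] (n : ℕ) (hn : 0 < n) : Subsingleton (DRing.Tor R n M Z) := by
  obtain ⟨i, rfl⟩ := Nat.exists_eq_succ_of_ne_zero hn.ne'
  haveI : Module.Flat R (ModuleCat.of R M) := inferInstanceAs (Module.Flat R M)
  exact ModuleCat.subsingleton_of_isZero
    (Groth.Agent.S8710.tor_flat (ModuleCat.of R Z) (ModuleCat.of R M) i)

end congr

section steps

/-- Step (i): if `ι₂ : O → B'` is flat with retraction `μ`, then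
`Tor^{B'}_{n+1}(B'/𝔮B', B'/ker μ) = 0`. -/
theorem step_i {O B' : Type u} [CommRing O] [CommRing B'] (ι₂ : O →+* B') (μ : B' →+* O)
    (h₂ : μ.comp ι₂ = RingHom.id O) (hf₂ : ι₂.Flat) (𝔮 : Ideal O) (n : ℕ) :
    Subsingleton (DRing.Tor B' (n + 1) (B' ⧸ 𝔮.map ι₂) (B' ⧸ RingHom.ker μ)) := by
  letI : Algebra O B' := ι₂.toAlgebra
  haveI : Module.Flat O B' := hf₂
  have hμι : ∀ o : O, μ (ι₂ o) = o := fun o => RingHom.congr_fun h₂ o
  -- `B' ⧸ ker μ ≃ O` as `O`-modules
  let lam : O →ₗ[O] B' ⧸ RingHom.ker μ := LinearMap.toSpanSingleton O _ 1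
  have hlam : ∀ o : O, lam o = Ideal.Quotient.mk (RingHom.ker μ) (ι₂ o) := by
    intro o
    change o • (1 : B' ⧸ RingHom.ker μ) = _
    rw [Algebra.smul_def, mul_one]
    rfl
  have hlam_bij : Function.Bijective lam := by
    constructor
    · rw [injective_iff_map_eq_zero]
      intro o ho
      rw [hlam, Ideal.Quotient.eq_zero_iff_mem, RingHom.mem_ker, hμι] at ho
      exact ho
    · intro x
      obtain ⟨b, rfl⟩ := Ideal.Quotient.mk_surjective x
      refine ⟨μ b, ?_⟩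
      rw [hlam, Ideal.Quotient.eq, RingHom.mem_ker, map_sub, hμι, sub_self]
  haveI : Module.Flat O (B' ⧸ RingHom.ker μ) :=
    Module.Flat.of_linearEquiv (LinearEquiv.ofBijective lam hlam_bij).symm
  have hTor : ∀ k, 0 < k → Subsingleton (DRing.Tor O k B' (O ⧸ 𝔮)) :=
    fun k hk => subsingleton_tor_of_flat B' (O ⧸ 𝔮) k hk
  have hsurj : ∀ s : B', ∃ o : O, ∀ m : B' ⧸ RingHom.ker μ, s • m = o • m := by
    intro s
    refine ⟨μ s, fun m => ?_⟩
    obtain ⟨b, rfl⟩ := Ideal.Quotient.mk_surjective m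
    rw [Algebra.smul_def, Algebra.smul_def]
    change Ideal.Quotient.mk _ s * _ = Ideal.Quotient.mk _ (ι₂ (μ s)) * _
    congr 1
    rw [Ideal.Quotient.eq, RingHom.mem_ker, map_sub, hμι, sub_self]
  have key := length_tor_baseChange (R := O) (S := B') 𝔮 (B' ⧸ RingHom.ker μ) hTor hsurj (n + 1)
  haveI := subsingleton_tor_of_flat (R := O) (B' ⧸ RingHom.ker μ) (O ⧸ 𝔮) (n + 1) (Nat.succ_pos n)
  rw [Module.length_eq_zero, eq_comm, length_tor_symm'] at key
  exact Module.length_eq_zero_iff.mp key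

/-- Step 2: passing to a quotient ring `R ⧸ I` when `Tor^R_{>0}(R/I, R/J) = 0`. -/
theorem step_2 {R : Type u} [CommRing R] (I J : Ideal R)
    (hTor : ∀ n, Subsingleton (DRing.Tor R (n + 1) (R ⧸ I) (R ⧸ J)))
    (M : Type u) [AddCommGroup M] [Module R M] [Module (R ⧸ I) M] [IsScalarTower R (R ⧸ I) M]
    (n : ℕ) :
    Module.length R (DRing.Tor R n M (R ⧸ J)) =
      Module.length (R ⧸ I) (DRing.Tor (R ⧸ I) n M ((R ⧸ I) ⧸ J.map (algebraMap R (R ⧸ I)))) := by
  refine length_tor_baseChange (R := R) (S := R ⧸ I) J M ?_ ?_ n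
  · intro k hk
    obtain ⟨i, rfl⟩ := Nat.exists_eq_succ_of_ne_zero hk.ne'
    exact hTor i
  · intro s
    obtain ⟨b, rfl⟩ := Ideal.Quotient.mk_surjective s
    exact ⟨b, fun m => by rw [← Ideal.Quotient.algebraMap_eq, algebraMap_smul]⟩

/-- Step 1: flat base change along `φ : O → S` where `S ⧸ D ≅ O ⧸ 𝔮`. -/
theorem step_1 {O S : Type u} [CommRing O] [CommRing S] (φ : O →+* S) (hφ : φ.Flat)
    (𝔭 𝔮 : Ideal O) (D : Ideal S) (hsurj : ∀ s : S, ∃ o : O, s - φ o ∈ D)
    (hker : ∀ o : O, φ o ∈ D ↔ o ∈ 𝔮) (n : ℕ) :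
    Module.length O (DRing.Tor O n (O ⧸ 𝔮) (O ⧸ 𝔭)) =
      Module.length S (DRing.Tor S n (S ⧸ D) (S ⧸ 𝔭.map φ)) := by
  letI : Algebra O S := φ.toAlgebra
  haveI : Module.Flat O S := hφ
  let lam : O →ₗ[O] S ⧸ D := LinearMap.toSpanSingleton O _ 1
  have hlam : ∀ o : O, lam o = Ideal.Quotient.mk D (φ o) := by
    intro o
    change o • (1 : S ⧸ D) = _
    rw [Algebra.smul_def, mul_one]
    rfl
  have hlam_surj : Function.Surjective lam := by
    intro x
    obtain ⟨b, rfl⟩ := Ideal.Quotient.mk_surjective x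
    obtain ⟨o, ho⟩ := hsurj b
    refine ⟨o, ?_⟩
    rw [hlam, eq_comm, Ideal.Quotient.eq]
    exact ho
  have hlam_ker : LinearMap.ker lam = 𝔮 := by
    ext o
    rw [LinearMap.mem_ker, hlam, Ideal.Quotient.eq_zero_iff_mem, hker]
  let e : (O ⧸ 𝔮) ≃ₗ[O] S ⧸ D :=
    (Submodule.quotEquivOfEq _ _ hlam_ker.symm).trans (lam.quotKerEquivOfSurjective hlam_surj)
  rw [length_tor_congr_left e (O ⧸ 𝔭) n]
  refine length_tor_baseChange (R := O) (S := S) 𝔭 (S ⧸ D)
    (fun k hk => subsingleton_tor_of_flat S (O ⧸ 𝔭) k hk) ?_ n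
  intro s
  obtain ⟨o, ho⟩ := hsurj s
  refine ⟨o, fun m => ?_⟩
  obtain ⟨b, rfl⟩ := Ideal.Quotient.mk_surjective m
  rw [Algebra.smul_def, Algebra.smul_def]
  change Ideal.Quotient.mk _ s * _ = Ideal.Quotient.mk _ (φ o) * _
  congr 1
  rw [Ideal.Quotient.eq]
  exact ho

end steps

end Groth.Agent.Lib.Helper90.TorBC
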