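import Mathlib
import Groth.Agent.Lib.Helper90.TorBC4

/-!
# Base change for Tor, part 5: reduction to the diagonal, abstract form (helper90)

Given ring maps `ι₁ ι₂ : O → B'` with a common retraction `μ : B' → O`, `ι₂` flat and
`O → B'/ι₂(𝔮)B'` (via `ι₁`) flat, the lengths of `Tor^O_n(O/𝔮, O/𝔭)` and
`Tor^{B'}_n(B'/(ι₁𝔭 + ι₂𝔮), B'/ker μ)` agree.
-/

set_option autoImplicit false
universe u

open TensorProduct CategoryTheory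

namespace Groth.Agent.Lib.Helper90.TorBC

theorem tor_diagonal {O B' : Type u} [CommRing O] [CommRing B'] (ι₁ ι₂ : O →+* B') (μ : B' →+* O)
    (h₁ : μ.comp ι₁ = RingHom.id O) (h₂ : μ.comp ι₂ = RingHom.id O) (𝔭 𝔮 : Ideal O)
    (hf₂ : ι₂.Flat) (hf₁ : ((Ideal.Quotient.mk (𝔮.map ι₂)).comp ι₁).Flat) (n : ℕ) :
    Module.length O (DRing.Tor O n (O ⧸ 𝔮) (O ⧸ 𝔭)) =
      Module.length B' (DRing.Tor B' n (B' ⧸ (𝔭.map ι₁ ⊔ 𝔮.map ι₂)) (B' ⧸ RingHom.ker μ)) := by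
  have hμ₁ : ∀ o : O, μ (ι₁ o) = o := fun o => RingHom.congr_fun h₁ o
  have hμ₂ : ∀ o : O, μ (ι₂ o) = o := fun o => RingHom.congr_fun h₂ o
  have hle : RingHom.ker μ ⊔ 𝔮.map ι₂ ≤ 𝔮.comap μ := by
    refine sup_le ?_ ?_
    · intro x hx
      rw [Ideal.mem_comap, RingHom.mem_ker.mp hx]
      exact 𝔮.zero_mem
    · rw [Ideal.map_le_iff_le_comap]
      intro q hq
      rw [Ideal.mem_comap, Ideal.mem_comap, hμ₂]
      exact hq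
  have hsurj : ∀ s : B' ⧸ 𝔮.map ι₂, ∃ o : O,
      s - ((Ideal.Quotient.mk (𝔮.map ι₂)).comp ι₁) o ∈
        (RingHom.ker μ).map (algebraMap B' (B' ⧸ 𝔮.map ι₂)) := by
    intro s
    obtain ⟨b, rfl⟩ := Ideal.Quotient.mk_surjective s
    refine ⟨μ b, ?_⟩
    rw [RingHom.comp_apply, ← map_sub]
    refine Ideal.mem_map_of_mem _ ?_
    rw [RingHom.mem_ker, map_sub, hμ₁, sub_self]
  have hker : ∀ o : O, ((Ideal.Quotient.mk (𝔮.map ι₂)).comp ι₁) o ∈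
      (RingHom.ker μ).map (algebraMap B' (B' ⧸ 𝔮.map ι₂)) ↔ o ∈ 𝔮 := by
    intro o
    rw [RingHom.comp_apply, ← Ideal.mem_comap, Ideal.Quotient.algebraMap_eq,
      Ideal.comap_map_of_surjective _ Ideal.Quotient.mk_surjective, ← RingHom.ker_eq_comap_bot,
      Ideal.mk_ker]
    constructor
    · intro ho
      have := hle ho
      rwa [Ideal.mem_comap, hμ₁] at this
    · intro ho
      have h1 : ι₁ o - ι₂ o ∈ RingHom.ker μ := by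
        rw [RingHom.mem_ker, map_sub, hμ₁, hμ₂, sub_self]
      have h2 : ι₂ o ∈ 𝔮.map ι₂ := Ideal.mem_map_of_mem _ ho
      have := Submodule.add_mem_sup h1 h2
      rwa [sub_add_cancel] at this
  have s1 := step_1 ((Ideal.Quotient.mk (𝔮.map ι₂)).comp ι₁) hf₁ 𝔭 𝔮
    ((RingHom.ker μ).map (algebraMap B' (B' ⧸ 𝔮.map ι₂))) hsurj hker n
  rw [s1, length_tor_symm']
  have s2 := step_2 (𝔮.map ι₂) (RingHom.ker μ) (step_i ι₂ μ h₂ hf₂ 𝔮)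
    ((B' ⧸ 𝔮.map ι₂) ⧸ 𝔭.map ((Ideal.Quotient.mk (𝔮.map ι₂)).comp ι₁)) n
  rw [← s2]
  have hmap : 𝔭.map ((Ideal.Quotient.mk (𝔮.map ι₂)).comp ι₁) =
      (𝔭.map ι₁).map (Ideal.Quotient.mkₐ B' (𝔮.map ι₂)) := by
    rw [← Ideal.map_map]
    rfl
  rw [hmap]
  let e : ((B' ⧸ 𝔮.map ι₂) ⧸ (𝔭.map ι₁).map (Ideal.Quotient.mkₐ B' (𝔮.map ι₂))) ≃ₗ[B']
      B' ⧸ (𝔭.map ι₁ ⊔ 𝔮.map ι₂) :=
    (DoubleQuot.quotQuotEquivQuotSupₐ B' (𝔮.map ι₂) (𝔭.map ι₁)).toLinearEquiv.trans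
      (Submodule.quotEquivOfEq _ _ (sup_comm _ _))
  exact length_tor_congr_left e _ n

end Groth.Agent.Lib.Helper90.TorBC
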