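import Mathlib
import Groth.Agent.Lib.Helper90.DiagRing2
import Groth.Agent.Lib.Helper90.DiagReg1
import Groth.Agent.Lib.Helper90.DiagAbs1
import Groth.Agent.Lib.Helper90.TorBC5
import Groth.Agent.Lib.Helper90.IntMultReg2
import Groth.Agent.Lib.Helper30.SmoothRegular

/-!
# Positivity of Serre's intersection multiplicity at a localization of a smooth algebra over an
algebraically closed field (ring level, reduction to the diagonal) (helper90)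
-/

set_option autoImplicit false
universe u

open TensorProduct

namespace Groth.Agent.Lib.Helper90.DiagRing

variable (K : Type u) [Field K] [IsAlgClosed K] (A : Type u) [CommRing A] [IsDomain A]
  [Algebra K A] [Algebra.FiniteType K A]
  (P 𝔭 𝔮 : Ideal A) [P.IsPrime] [𝔭.IsPrime] [𝔮.IsPrime]
  (O : Type u) [CommRing O] [Algebra A O] [IsLocalization.AtPrime O P]

instance : Algebra.FiniteType K (A ⊗[K] A) :=
  Algebra.FiniteType.trans (inferInstance : Algebra.FiniteType K A)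
    (inferInstance : Algebra.FiniteType A (A ⊗[K] A))

lemma finiteType_quot (I : Ideal A) : Algebra.FiniteType K (A ⧸ I) :=
  Algebra.FiniteType.of_surjective (Ideal.Quotient.mkₐ K I) (Ideal.Quotient.mkₐ_surjective K I)

theorem dims (h𝔭 : 𝔭 ≤ P) (h𝔮 : 𝔮 ≤ P) :
    ∃ (a a𝔭 a𝔮 b j z n r s : ℕ), ringKrullDim O = a ∧
      ringKrullDim (O ⧸ 𝔭.map (algebraMap A O)) = a𝔭 ∧
      ringKrullDim (O ⧸ 𝔮.map (algebraMap A O)) = a𝔮 ∧
      ringKrullDim (B' K A P) = b ∧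
      ringKrullDim (B' K A P ⧸ ((𝔭.map (algebraMap A O)).map (ι₁ K A P O) ⊔
        (𝔮.map (algebraMap A O)).map (ι₂ K A P O))) = j ∧
      a + z = n ∧ a𝔭 + z = r ∧ a𝔮 + z = s ∧ b + z = n + n ∧ j + z = r + s := by
  haveI := finiteType_quot K A P
  haveI := finiteType_quot K A 𝔭
  haveI := finiteType_quot K A 𝔮
  obtain ⟨z, hz⟩ := Groth.Agent.Lib.Helper73.exists_nat_ringKrullDim_eq K (A ⧸ P)
  obtain ⟨n, hn⟩ := Groth.Agent.Lib.Helper73.exists_nat_ringKrullDim_eq K A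
  obtain ⟨r, hr⟩ := Groth.Agent.Lib.Helper73.exists_nat_ringKrullDim_eq K (A ⧸ 𝔭)
  obtain ⟨s, hs⟩ := Groth.Agent.Lib.Helper73.exists_nat_ringKrullDim_eq K (A ⧸ 𝔮)
  -- `O`
  have hα := DiagDim.dim_loc_quot K A P ⊥ bot_le O
  rw [Ideal.map_bot, ringKrullDim_eq_of_ringEquiv (RingEquiv.quotientBot O),
    ringKrullDim_eq_of_ringEquiv (RingEquiv.quotientBot A), hz, hn] at hα
  obtain ⟨a, ha, haz⟩ := exists_nat_of_add_eq _ z n hα
  have hβ := DiagDim.dim_loc_quot K A P 𝔭 h𝔭 O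
  rw [hz, hr] at hβ
  obtain ⟨a𝔭, ha𝔭, ha𝔭z⟩ := exists_nat_of_add_eq _ z r hβ
  have hγ := DiagDim.dim_loc_quot K A P 𝔮 h𝔮 O
  rw [hz, hs] at hγ
  obtain ⟨a𝔮, ha𝔮, ha𝔮z⟩ := exists_nat_of_add_eq _ z s hγ
  -- `B'`
  have hδ := DiagDim.dim_loc_quot K (A ⊗[K] A) (P' K A P) ⊥ bot_le (B' K A P)
  rw [Ideal.map_bot, ringKrullDim_eq_of_ringEquiv (RingEquiv.quotientBot (B' K A P)),
    ringKrullDim_eq_of_ringEquiv (RingEquiv.quotientBot (A ⊗[K] A)), dim_quot_P', hz,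
    Groth.Agent.Lib.Helper14.ringKrullDim_tensorProduct K A A n n hn hn] at hδ
  obtain ⟨b, hb, hbz⟩ := exists_nat_of_add_eq _ z (n + n) hδ
  have hε := DiagDim.dim_loc_quot K (A ⊗[K] A) (P' K A P) (J₀ K A 𝔭 𝔮) (J₀_le K A P 𝔭 𝔮 h𝔭 h𝔮)
    (B' K A P)
  rw [dim_quot_P', hz, dim_quot_J₀ K A 𝔭 𝔮 r s hr hs] at hε
  obtain ⟨j, hj, hjz⟩ := exists_nat_of_add_eq _ z (r + s) hε
  have hJ : (𝔭.map (algebraMap A O)).map (ι₁ K A P O) ⊔ (𝔮.map (algebraMap A O)).map (ι₂ K A P O) =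
      (J₀ K A 𝔭 𝔮).map (algebraMap (A ⊗[K] A) (B' K A P)) := by
    rw [map_ι₁, map_ι₂, J₀, Ideal.map_sup]
  refine ⟨a, a𝔭, a𝔮, b, j, z, n, r, s, ha, ha𝔭, ha𝔮, hb, ?_, haz, ha𝔭z, ha𝔮z, hbz, hjz⟩
  rw [hJ]
  exact hj

end Groth.Agent.Lib.Helper90.DiagRing
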