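import Mathlib
import Groth.Agent.Lib.Helper90.DiagRing3

/-!
# Positivity of Serre's intersection multiplicity, ring level (helper90)
-/

set_option autoImplicit false
universe u

open TensorProduct

namespace Groth.Agent.Lib.Helper90.DiagRing

variable (K : Type u) [Field K] [IsAlgClosed K] (A : Type u) [CommRing A] [IsDomain A]
  [Algebra K A] [Algebra.FiniteType K A]
  (P 𝔭 𝔮 : Ideal A) [P.IsPrime] [𝔭.IsPrime] [𝔮.IsPrime]
  (O : Type u) [CommRing O] [Algebra A O] [IsLocalization.AtPrime O P]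

theorem chi_pos [Algebra.Smooth K A] (h𝔭 : 𝔭 ≤ P) (h𝔮 : 𝔮 ≤ P)
    (hfl : IsFiniteLength O (O ⧸ (𝔭.map (algebraMap A O) ⊔ 𝔮.map (algebraMap A O))))
    (hdim : ringKrullDim O ≤ ringKrullDim (O ⧸ 𝔭.map (algebraMap A O)) +
      ringKrullDim (O ⧸ 𝔮.map (algebraMap A O))) :
    0 < IntMult.chi O (O ⧸ 𝔮.map (algebraMap A O)) (O ⧸ 𝔭.map (algebraMap A O)) := by
  have hchi : IntMult.chi O (O ⧸ 𝔮.map (algebraMap A O)) (O ⧸ 𝔭.map (algebraMap A O)) =
      IntMult.chi (B' K A P)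
        (B' K A P ⧸ ((𝔭.map (algebraMap A O)).map (ι₁ K A P O) ⊔
          (𝔮.map (algebraMap A O)).map (ι₂ K A P O)))
        (B' K A P ⧸ RingHom.ker (μ' K A P O)) := by
    unfold IntMult.chi
    refine finsum_congr (fun i => ?_)
    rw [TorBC.tor_diagonal (ι₁ K A P O) (ι₂ K A P O) (μ' K A P O) (μ'_ι₁ K A P O) (μ'_ι₂ K A P O)
      (𝔭.map (algebraMap A O)) (𝔮.map (algebraMap A O)) (flat_ι₂ K A P O)
      (flat_ι₁_quot K A P O 𝔮) i]
  rw [hchi]
  haveI : IsLocalRing O := IsLocalization.AtPrime.isLocalRing O P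
  haveI : Algebra.Smooth K (A ⊗[K] A) := Algebra.Smooth.comp K A (A ⊗[K] A)
  haveI hB'reg : IsRegularLocalRing (B' K A P) :=
    Groth.Agent.Lib.Helper30.SmoothRegular.regular_of_smooth K (A ⊗[K] A) (P' K A P) inferInstance
  haveI hOreg : IsRegularLocalRing O :=
    haveI : IsRegularLocalRing (Localization.AtPrime P) :=
      Groth.Agent.Lib.Helper30.SmoothRegular.regular_of_smooth K A P inferInstance
    IsRegularLocalRing.of_ringEquiv
      (IsLocalization.algEquiv P.primeCompl (Localization.AtPrime P) O).toRingEquiv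
  have hμsurj : Function.Surjective (μ' K A P O) :=
    DiagAbs.μ_surjective (ι₁ K A P O) (μ' K A P O) (μ'_ι₁ K A P O)
  haveI : IsRegularLocalRing (B' K A P ⧸ RingHom.ker (μ' K A P O)) :=
    IsRegularLocalRing.of_ringEquiv (RingHom.quotientKerEquivOfSurjective hμsurj).symm
  obtain ⟨c, g, hD, hreg, hcdim⟩ :=
    DiagReg.exists_regular_generators (B' K A P) (RingHom.ker (μ' K A P O))
  obtain ⟨a, a𝔭, a𝔮, b, j, z, n, r, s, ha, ha𝔭, ha𝔮, hb, hj, h1, h2, h3, h4, h5⟩ :=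
    dims K A P 𝔭 𝔮 O h𝔭 h𝔮
  have hdimO : ringKrullDim (B' K A P ⧸ RingHom.ker (μ' K A P O)) = ringKrullDim O :=
    ringKrullDim_eq_of_ringEquiv (RingHom.quotientKerEquivOfSurjective hμsurj)
  rw [hdimO, ha, hb] at hcdim
  have hac : a + c = b := by exact_mod_cast hcdim
  rw [ha, ha𝔭, ha𝔮] at hdim
  have hdim' : a ≤ a𝔭 + a𝔮 := by exact_mod_cast hdim
  have hcj : c ≤ j := by omega
  have hne : 𝔭.map (algebraMap A O) ⊔ 𝔮.map (algebraMap A O) ≠ ⊤ := by
    have hle : 𝔭.map (algebraMap A O) ⊔ 𝔮.map (algebraMap A O) ≤ IsLocalRing.maximalIdeal O := by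
      rw [← IsLocalization.AtPrime.map_eq_maximalIdeal P O]
      exact sup_le (Ideal.map_mono h𝔭) (Ideal.map_mono h𝔮)
    intro h
    rw [h, top_le_iff] at hle
    exact (IsLocalRing.maximalIdeal.isMaximal O).ne_top hle
  have hJtop := DiagAbs.sup_ne_top (ι₁ K A P O) (ι₂ K A P O) (μ' K A P O) (μ'_ι₁ K A P O)
    (μ'_ι₂ K A P O) _ _ hne
  have hfl' := DiagAbs.isFiniteLength_quot (ι₁ K A P O) (ι₂ K A P O) (μ' K A P O) (μ'_ι₁ K A P O)
    (μ'_ι₂ K A P O) _ _ hfl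
  rw [hD] at hfl' ⊢
  refine (Groth.Agent.Lib.Helper90.IntMultReg.tendsto_and_pos _ hJtop c g hreg hfl' ?_).2
  rw [hj]
  exact_mod_cast hcj

end Groth.Agent.Lib.Helper90.DiagRing
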