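import Mathlib

/-!
# The ideal sheaf of a product of closed subschemes (helper90)

`ker (V ×_S W ⟶ X ×_S X') = pr₁^* I_V + pr₂^* I_W`.
-/

set_option autoImplicit false
universe u

open AlgebraicGeometry CategoryTheory Limits

namespace Groth.Agent.Lib.Helper90.DiagSch

variable {X X' S : Scheme.{u}}

lemma comap_subschemeι_self (I : X.IdealSheafData) : I.comap I.subschemeι = ⊥ := by
  rw [eq_bot_iff, ← Scheme.IdealSheafData.le_map_iff_comap_le, Scheme.IdealSheafData.map_bot,
    Scheme.IdealSheafData.ker_subschemeι]

/-- The ideal sheaf of `V ×_S W` in `X ×_S X'` is `pr₁^* I_V + pr₂^* I_W`. -/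
theorem ker_pullback_map (f : X ⟶ S) (f' : X' ⟶ S) (IV : X.IdealSheafData)
    (IW : X'.IdealSheafData) :
    (pullback.map (IV.subschemeι ≫ f) (IW.subschemeι ≫ f') f f' IV.subschemeι IW.subschemeι (𝟙 _)
      (Category.comp_id _) (Category.comp_id _)).ker =
      IV.comap (pullback.fst f f') ⊔ IW.comap (pullback.snd f f') := by
  set m := pullback.map (IV.subschemeι ≫ f) (IW.subschemeι ≫ f') f f' IV.subschemeι IW.subschemeι
    (𝟙 _) (Category.comp_id _) (Category.comp_id _) with hm
  apply le_antisymm
  · -- `m.ker ≤ T`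
    set T := IV.comap (pullback.fst f f') ⊔ IW.comap (pullback.snd f f') with hT
    have H₁ : IV ≤ T.map (pullback.fst f f') :=
      Scheme.IdealSheafData.le_map_iff_comap_le.mpr le_sup_left
    have H₂ : IW ≤ T.map (pullback.snd f f') :=
      Scheme.IdealSheafData.le_map_iff_comap_le.mpr le_sup_right
    let a := Scheme.IdealSheafData.subschemeMap T IV (pullback.fst f f') H₁
    let b := Scheme.IdealSheafData.subschemeMap T IW (pullback.snd f f') H₂
    have ha : a ≫ IV.subschemeι = T.subschemeι ≫ pullback.fst f f' :=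
      Scheme.IdealSheafData.subschemeMap_subschemeι _ _ _ _
    have hb : b ≫ IW.subschemeι = T.subschemeι ≫ pullback.snd f f' :=
      Scheme.IdealSheafData.subschemeMap_subschemeι _ _ _ _
    have hab : a ≫ IV.subschemeι ≫ f = b ≫ IW.subschemeι ≫ f' := by
      rw [← Category.assoc, ha, ← Category.assoc b, hb, Category.assoc, Category.assoc,
        pullback.condition]
    let h : T.subscheme ⟶ pullback (IV.subschemeι ≫ f) (IW.subschemeι ≫ f') :=
      pullback.lift a b hab
    have hh : h ≫ m = T.subschemeι := by
      apply pullback.hom_ext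
      · rw [Category.assoc, hm, pullback.lift_fst, ← Category.assoc, pullback.lift_fst, ha]
      · rw [Category.assoc, hm, pullback.lift_snd, ← Category.assoc, pullback.lift_snd, hb]
    calc m.ker ≤ (h ≫ m).ker := Scheme.Hom.le_ker_comp h m
      _ = T := by rw [hh, Scheme.IdealSheafData.ker_subschemeι]
  · rw [← Scheme.IdealSheafData.map_bot]
    refine sup_le ?_ ?_
    · rw [Scheme.IdealSheafData.le_map_iff_comap_le, ← Scheme.IdealSheafData.comap_comp, hm,
        pullback.lift_fst, Scheme.IdealSheafData.comap_comp, comap_subschemeι_self,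
        Scheme.IdealSheafData.comap_bot]
    · rw [Scheme.IdealSheafData.le_map_iff_comap_le, ← Scheme.IdealSheafData.comap_comp, hm,
        pullback.lift_snd, Scheme.IdealSheafData.comap_comp, comap_subschemeι_self,
        Scheme.IdealSheafData.comap_bot]

end Groth.Agent.Lib.Helper90.DiagSch
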