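import Mathlib
import Groth.Agent.Lib.Helper90.DiagSch1
import Groth.Agent.Lib.Helper90.DiagSch2
import Groth.Agent.Lib.Helper90.TorBC5
import Groth.Agent.Lib.Helper64.SubschemeStalk

/-!
# Reduction to the diagonal for intersection multiplicities, scheme level (helper90)
-/

set_option autoImplicit false
universe u

open AlgebraicGeometry CategoryTheory Limits

namespace Groth.Agent.Lib.Helper90.DiagSch

variable {X Y : Scheme.{u}}

lemma apply_section (p : Y ⟶ X) (s : X ⟶ Y) (hsp : s ≫ p = 𝟙 X) (x : X) : x = p (s x) := by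
  have := congrArg (fun φ : X ⟶ X => φ x) hsp
  simpa using this.symm

/-- for a section `s` of `p`, the ring map `O_{X,x} → O_{Y, s x}` induced by `p` -/
noncomputable def ιOf (p : Y ⟶ X) (s : X ⟶ Y) (hsp : s ≫ p = 𝟙 X) (x : X) :
    X.presheaf.stalk x →+* Y.presheaf.stalk (s x) :=
  (p.stalkMap (s x)).hom.comp
    (X.presheaf.stalkCongr (.of_eq (apply_section p s hsp x))).hom.hom

lemma stalkMap_comp_eq (p : Y ⟶ X) (s : X ⟶ Y) (hsp : s ≫ p = 𝟙 X) (x : X) :
    p.stalkMap (s x) ≫ s.stalkMap x =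
      (X.presheaf.stalkCongr (.of_eq (apply_section p s hsp x).symm)).hom := by
  rw [← Scheme.Hom.stalkMap_comp, Scheme.Hom.stalkMap_congr_hom (s ≫ p) (𝟙 X) hsp x]
  erw [Scheme.Hom.stalkMap_id, Category.comp_id]
  rfl

lemma stalkMap_comp_ιOf (p : Y ⟶ X) (s : X ⟶ Y) (hsp : s ≫ p = 𝟙 X) (x : X) :
    (s.stalkMap x).hom.comp (ιOf p s hsp x) = RingHom.id _ := by
  unfold ιOf
  rw [← RingHom.comp_assoc, ← CommRingCat.hom_comp, stalkMap_comp_eq p s hsp x,
    ← CommRingCat.hom_comp]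
  have : (X.presheaf.stalkCongr (Inseparable.of_eq (apply_section p s hsp x))).hom ≫
      (X.presheaf.stalkCongr (Inseparable.of_eq (apply_section p s hsp x).symm)).hom = 𝟙 _ := by
    simp [TopCat.Presheaf.stalkCongr]
  rw [this]
  rfl

lemma map_ιOf (p : Y ⟶ X) (s : X ⟶ Y) (hsp : s ≫ p = 𝟙 X) (x : X) (I : X.IdealSheafData) :
    (IntMult.stalkIdeal I x).map (ιOf p s hsp x) = IntMult.stalkIdeal (I.comap p) (s x) := by
  unfold ιOf
  rw [← Ideal.map_map, stalkIdeal_map_stalkCongr I (apply_section p s hsp x), stalkIdeal_comap]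

lemma flat_ιOf (p : Y ⟶ X) [Flat p] (s : X ⟶ Y) (hsp : s ≫ p = 𝟙 X) (x : X) :
    (ιOf p s hsp x).Flat := by
  unfold ιOf
  refine RingHom.Flat.comp (RingHom.Flat.of_bijective ?_) (Flat.stalkMap p (s x))
  exact ConcreteCategory.bijective_of_isIso
    (X.presheaf.stalkCongr (.of_eq (apply_section p s hsp x))).hom

/-- If the closed subscheme `V(T) ⟶ Y ⟶ X` is flat over `X`, then `O_{X, g y} → O_{Y,y}/T_y` is
flat. -/
theorem flat_quot_of_flat (g : Y ⟶ X) (T : Y.IdealSheafData) [Flat (T.subschemeι ≫ g)] (y : Y)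
    (hy : y ∈ T.support) :
    RingHom.Flat (R := X.presheaf.stalk (g y)) (S := Y.presheaf.stalk y ⧸ IntMult.stalkIdeal T y)
      ((Ideal.Quotient.mk (IntMult.stalkIdeal T y)).comp (g.stalkMap y).hom) := by
  have hr : y ∈ Set.range T.subschemeι := by rw [T.range_subschemeι]; exact hy
  obtain ⟨t, rfl⟩ := hr
  obtain ⟨U, hU⟩ := Groth.Agent.Lib.Helper64.StalkIdeal.exists_affine_nhd (T.subschemeι t)
  rw [IntMultGeom.stalkIdeal_eq, Groth.Agent.Lib.Helper64.StalkIdeal.stalkIdeal_eq T U _ hU]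
  let e := Groth.Agent.Lib.Helper64.SubschemeStalk.stalkEquiv T U t hU
  have h2 : ((T.subschemeι.stalkMap t).hom.comp (g.stalkMap (T.subschemeι t)).hom).Flat := by
    have := Flat.stalkMap (T.subschemeι ≫ g) t
    rw [Scheme.Hom.stalkMap_comp] at this
    exact this
  have h3 : (Ideal.Quotient.mk _).comp (g.stalkMap (T.subschemeι t)).hom =
      e.symm.toRingHom.comp
        ((T.subschemeι.stalkMap t).hom.comp (g.stalkMap (T.subschemeι t)).hom) := by
    ext a
    simp only [RingHom.comp_apply, RingEquiv.toRingHom_eq_coe, RingEquiv.coe_toRingHom]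
    rw [RingEquiv.eq_symm_apply, Groth.Agent.Lib.Helper64.SubschemeStalk.stalkEquiv_mk]
  rw [h3]
  exact h2.comp (RingHom.Flat.of_bijective e.symm.bijective)

end Groth.Agent.Lib.Helper90.DiagSch
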