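import Mathlib
import Groth.Agent.Lib.Helper90.FlatDim1
import Groth.Agent.Lib.Helper90.DiagAbs1

/-!
# Serre's dimension inequality in the abstract diagonal situation (helper90)

`ι₁ ι₂ : O → B'` local flat with common retraction `μ`, `ker μ` generated by `c = dim B' - dim O`
elements, suitable flatness of quotients; then `dim O/𝔭 + dim O/𝔮 ≤ dim O` whenever `O/(𝔭 + 𝔮)`
has finite length.
-/

set_option autoImplicit false
universe u

open IsLocalRing

namespace Groth.Agent.Lib.Helper90.DiagSerre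

lemma exists_nat_dim (R : Type*) [CommRing R] [IsNoetherianRing R] [IsLocalRing R] :
    ∃ m : ℕ, ringKrullDim R = (m : WithBot ℕ∞) := by
  have h1 : ringKrullDim R ≠ ⊥ := ringKrullDim_ne_bot
  have h2 : ringKrullDim R ≠ ⊤ := ringKrullDim_ne_top
  obtain ⟨x, hx⟩ := WithBot.ne_bot_iff_exists.mp h1
  have hx' : x ≠ ⊤ := by
    intro h
    rw [h] at hx
    exact h2 hx.symm
  obtain ⟨m, hm⟩ := ENat.ne_top_iff_exists.mp hx'
  exact ⟨m, by rw [← hx, ← hm]; rfl⟩

section ringhom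

variable {O S : Type u} [CommRing O] [CommRing S] [IsLocalRing O] [IsLocalRing S]
  [IsNoetherianRing O] [IsNoetherianRing S]

theorem dim_of_flat (φ : O →+* S) (hφ : φ.Flat) [hl : IsLocalHom φ] :
    ringKrullDim S = ringKrullDim O + ringKrullDim (S ⧸ (maximalIdeal O).map φ) := by
  letI := φ.toAlgebra
  haveI : Module.Flat O S := hφ
  haveI : IsLocalHom (algebraMap O S) := hl
  exact FlatDim.ringKrullDim_eq_add_of_flat

theorem dim_quot_of_flat (φ : O →+* S) (hφ : φ.Flat) [hl : IsLocalHom φ] (I : Ideal O)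
    (hI : I ≠ ⊤) :
    ringKrullDim (S ⧸ I.map φ) = ringKrullDim (O ⧸ I) +
      ringKrullDim (S ⧸ (maximalIdeal O).map φ) := by
  letI := φ.toAlgebra
  haveI : Module.Flat O S := hφ
  haveI : IsLocalHom (algebraMap O S) := hl
  exact FlatDim.ringKrullDim_quotient_eq_add_of_flat I hI

end ringhom

section quot

variable {B' : Type u} [CommRing B']

lemma dim_quot_quot (𝔞 𝔟 : Ideal B') :
    ringKrullDim ((B' ⧸ 𝔞) ⧸ 𝔟.map (Ideal.Quotient.mk 𝔞)) = ringKrullDim (B' ⧸ (𝔞 ⊔ 𝔟)) :=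
  ringKrullDim_eq_of_ringEquiv (DoubleQuot.quotQuotEquivQuotSup 𝔞 𝔟)

variable [IsLocalRing B']

lemma isLocalRing_quot (𝔞 : Ideal B') (h : 𝔞 ≠ ⊤) : IsLocalRing (B' ⧸ 𝔞) := by
  haveI : Nontrivial (B' ⧸ 𝔞) := Ideal.Quotient.nontrivial_iff.mpr h
  exact IsLocalRing.of_surjective' (Ideal.Quotient.mk _) Ideal.Quotient.mk_surjective

lemma isLocalHom_mk (𝔞 : Ideal B') (h : 𝔞 ≠ ⊤) : IsLocalHom (Ideal.Quotient.mk 𝔞) := by
  haveI := isLocalRing_quot 𝔞 h
  exact Ideal.Quotient.mk_surjective.isLocalHom _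

end quot

end Groth.Agent.Lib.Helper90.DiagSerre
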