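import Mathlib
import Groth.Agent.Lib.Helper90.DiagSerre1

/-!
# Serre's dimension inequality in the abstract diagonal situation, main theorem (helper90)
-/

set_option autoImplicit false
universe u

open IsLocalRing

namespace Groth.Agent.Lib.Helper90.DiagSerre

variable {O B' : Type u} [CommRing O] [CommRing B'] [IsLocalRing O] [IsLocalRing B']
  [IsNoetherianRing O] [IsNoetherianRing B']

lemma map_le_maximalIdeal (ι : O →+* B') [hl : IsLocalHom ι] (I : Ideal O) (hI : I ≠ ⊤) :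
    I.map ι ≤ maximalIdeal B' :=
  (Ideal.map_mono (IsLocalRing.le_maximalIdeal hI)).trans
    (((IsLocalRing.local_hom_TFAE ι).out 0 2).mp hl)

lemma ne_top_of_le_maximalIdeal {𝔞 : Ideal B'} (h : 𝔞 ≤ maximalIdeal B') : 𝔞 ≠ ⊤ := by
  intro h'
  rw [h', top_le_iff] at h
  exact (maximalIdeal.isMaximal B').ne_top h

lemma dim_le_zero_of_isFiniteLength (K : Ideal B') (h : IsFiniteLength B' (B' ⧸ K)) :
    ringKrullDim (B' ⧸ K) ≤ 0 := by
  have h1 : IsArtinian B' (B' ⧸ K) := (isFiniteLength_iff_isNoetherian_isArtinian.mp h).2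
  haveI : IsArtinianRing (B' ⧸ K) := isArtinian_of_tower B' h1
  have := (isArtinianRing_iff_krullDimLE_zero (R := B' ⧸ K)).mp inferInstance
  exact_mod_cast Ring.krullDimLE_iff.mp this

theorem serre_dim_le (ι₁ ι₂ : O →+* B') (μ : B' →+* O)
    (h₁ : μ.comp ι₁ = RingHom.id O) (h₂ : μ.comp ι₂ = RingHom.id O) (𝔭 𝔮 : Ideal O)
    (h𝔭 : 𝔭 ≠ ⊤) (h𝔮 : 𝔮 ≠ ⊤) (hf₁ : ι₁.Flat)
    (hf₁q : RingHom.Flat (R := O) (S := B' ⧸ 𝔮.map ι₂)
      ((Ideal.Quotient.mk (𝔮.map ι₂)).comp ι₁))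
    (hf₂m : RingHom.Flat (R := O) (S := B' ⧸ (maximalIdeal O).map ι₁)
      ((Ideal.Quotient.mk ((maximalIdeal O).map ι₁)).comp ι₂))
    (c : ℕ) (g : Fin c → B') (hD : RingHom.ker μ = Ideal.span (Set.range g))
    (hc : ringKrullDim O + c = ringKrullDim B')
    (hfl : IsFiniteLength O (O ⧸ (𝔭 ⊔ 𝔮))) :
    ringKrullDim (O ⧸ 𝔭) + ringKrullDim (O ⧸ 𝔮) ≤ ringKrullDim O := by
  classical
  have hμ₁ : ∀ o : O, μ (ι₁ o) = o := fun o => RingHom.congr_fun h₁ o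
  have hμ₂ : ∀ o : O, μ (ι₂ o) = o := fun o => RingHom.congr_fun h₂ o
  haveI hl₁ : IsLocalHom ι₁ := ⟨fun x hx => by have := hx.map μ; rwa [hμ₁] at this⟩
  haveI hl₂ : IsLocalHom ι₂ := ⟨fun x hx => by have := hx.map μ; rwa [hμ₂] at this⟩
  have hm : maximalIdeal O ≠ ⊤ := (maximalIdeal.isMaximal O).ne_top
  -- the relevant ideals are proper
  have hq₂ := map_le_maximalIdeal ι₂ 𝔮 h𝔮
  have hp₁ := map_le_maximalIdeal ι₁ 𝔭 h𝔭
  have hm₁ := map_le_maximalIdeal ι₁ (maximalIdeal O) hm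
  have hm₂ := map_le_maximalIdeal ι₂ (maximalIdeal O) hm
  have hq₂t := ne_top_of_le_maximalIdeal hq₂
  have hm₁t := ne_top_of_le_maximalIdeal hm₁
  haveI := isLocalRing_quot _ hq₂t
  haveI := isLocalRing_quot _ hm₁t
  haveI := isLocalRing_quot _ (ne_top_of_le_maximalIdeal (sup_le hq₂ hp₁))
  haveI := isLocalRing_quot _ (ne_top_of_le_maximalIdeal (sup_le hq₂ hm₁))
  haveI := isLocalRing_quot _ (ne_top_of_le_maximalIdeal (sup_le hm₁ hm₂))
  haveI := isLocalRing_quot _ h𝔭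
  haveI := isLocalRing_quot _ h𝔮
  haveI := isLocalHom_mk _ hq₂t
  haveI := isLocalHom_mk _ hm₁t
  -- the four dimension identities
  have e1 := dim_quot_of_flat ((Ideal.Quotient.mk (𝔮.map ι₂)).comp ι₁) hf₁q 𝔭 h𝔭
  rw [← Ideal.map_map, ← Ideal.map_map, dim_quot_quot, dim_quot_quot] at e1
  have e2 := dim_quot_of_flat ((Ideal.Quotient.mk ((maximalIdeal O).map ι₁)).comp ι₂) hf₂m 𝔮 h𝔮
  rw [← Ideal.map_map, ← Ideal.map_map, dim_quot_quot, dim_quot_quot] at e2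
  have e3 := dim_of_flat ((Ideal.Quotient.mk ((maximalIdeal O).map ι₁)).comp ι₂) hf₂m
  rw [← Ideal.map_map, dim_quot_quot] at e3
  have e4 := dim_of_flat ι₁ hf₁
  -- Krull
  have hne : 𝔭 ⊔ 𝔮 ≠ ⊤ := by
    intro h
    have hle : 𝔭 ⊔ 𝔮 ≤ maximalIdeal O :=
      sup_le (IsLocalRing.le_maximalIdeal h𝔭) (IsLocalRing.le_maximalIdeal h𝔮)
    rw [h, top_le_iff] at hle
    exact hm hle
  have hJt := DiagAbs.sup_ne_top ι₁ ι₂ μ h₁ h₂ 𝔭 𝔮 hne
  haveI := isLocalRing_quot _ hJt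
  have hfl' := DiagAbs.isFiniteLength_quot ι₁ ι₂ μ h₁ h₂ 𝔭 𝔮 hfl
  have e5 : ringKrullDim (B' ⧸ (𝔭.map ι₁ ⊔ 𝔮.map ι₂)) ≤ (c : WithBot ℕ∞) := by
    set J := 𝔭.map ι₁ ⊔ 𝔮.map ι₂ with hJ
    set I : Ideal (B' ⧸ J) := (RingHom.ker μ).map (Ideal.Quotient.mk J) with hI
    have hkerle : RingHom.ker μ ≤ maximalIdeal B' := by
      apply IsLocalRing.le_maximalIdeal
      intro h
      have : (1 : B') ∈ RingHom.ker μ := by rw [h]; trivial
      rw [RingHom.mem_ker, map_one] at this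
      exact one_ne_zero this
    have hIjac : I ≤ Ring.jacobson (B' ⧸ J) := by
      rw [IsLocalRing.ringJacobson_eq_maximalIdeal,
        Groth.Agent.Lib.Helper90.RegSplit.maximalIdeal_quotient_eq]
      exact Ideal.map_mono hkerle
    have h1 := ringKrullDim_le_ringKrullDim_quotient_add_spanFinrank I hIjac
    have h2 : ringKrullDim ((B' ⧸ J) ⧸ I) ≤ 0 := by
      rw [hI, dim_quot_quot]
      exact dim_le_zero_of_isFiniteLength _ hfl'
    have h3 : I.spanFinrank ≤ c := by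
      let s : Finset (B' ⧸ J) := Finset.univ.image (fun i => Ideal.Quotient.mk J (g i))
      have hs : I = Ideal.span (s : Set (B' ⧸ J)) := by
        rw [hI, hD, Ideal.map_span]
        have hset : (Ideal.Quotient.mk J) '' Set.range g = (s : Set (B' ⧸ J)) := by
          ext y
          simp [s]
        rw [hset]
      rw [hs]
      calc (Ideal.span (s : Set (B' ⧸ J))).spanFinrank ≤ (s : Set (B' ⧸ J)).ncard :=
            Submodule.spanFinrank_span_le_ncard_of_finite s.finite_toSet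
        _ = s.card := Set.ncard_coe_finset s
        _ ≤ (Finset.univ : Finset (Fin c)).card := Finset.card_image_le
        _ = c := by simp
    calc ringKrullDim (B' ⧸ J) ≤ ringKrullDim ((B' ⧸ J) ⧸ I) + I.spanFinrank := h1
      _ ≤ 0 + (c : WithBot ℕ∞) := by
        gcongr
      _ = c := zero_add _
  -- extract natural numbers
  obtain ⟨a, ha⟩ := exists_nat_dim O
  obtain ⟨a𝔭, ha𝔭⟩ := exists_nat_dim (O ⧸ 𝔭)
  obtain ⟨a𝔮, ha𝔮⟩ := exists_nat_dim (O ⧸ 𝔮)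
  obtain ⟨b, hb⟩ := exists_nat_dim B'
  obtain ⟨j, hj⟩ := exists_nat_dim (B' ⧸ (𝔮.map ι₂ ⊔ 𝔭.map ι₁))
  obtain ⟨d1, hd1⟩ := exists_nat_dim (B' ⧸ (𝔮.map ι₂ ⊔ (maximalIdeal O).map ι₁))
  obtain ⟨d2, hd2⟩ := exists_nat_dim (B' ⧸ (maximalIdeal O).map ι₁)
  obtain ⟨h, hh⟩ := exists_nat_dim (B' ⧸ ((maximalIdeal O).map ι₁ ⊔ (maximalIdeal O).map ι₂))
  rw [sup_comm] at e5
  rw [sup_comm ((maximalIdeal O).map ι₁) (𝔮.map ι₂)] at e2
  rw [hj, ha𝔭, hd1] at e1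
  rw [hd1, ha𝔮, hh] at e2
  rw [hd2, ha, hh] at e3
  rw [hb, ha, hd2] at e4
  rw [ha, hb] at hc
  rw [hj] at e5
  rw [ha, ha𝔭, ha𝔮]
  have E1 : j = a𝔭 + d1 := by exact_mod_cast e1
  have E2 : d1 = a𝔮 + h := by exact_mod_cast e2
  have E3 : d2 = a + h := by exact_mod_cast e3
  have E4 : b = a + d2 := by exact_mod_cast e4
  have E5 : j ≤ c := by exact_mod_cast e5
  have Ec : a + c = b := by exact_mod_cast hc
  have : a𝔭 + a𝔮 ≤ a := by omega
  exact_mod_cast this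

end Groth.Agent.Lib.Helper90.DiagSerre
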