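import Mathlib
import Groth.Agent.Lib.Helper90.DiagSerre2
import Groth.Agent.Lib.Helper90.DiagRing1
import Groth.Agent.Lib.Helper90.DiagReg1
import Groth.Agent.Lib.Helper30.SmoothRegular

/-!
# Serre's dimension inequality for local rings of smooth algebras over a field (helper90)

`A` smooth over a field `K`, `O = A_P`; if `O/(𝔭O + 𝔮O)` has finite length then
`dim O/𝔭O + dim O/𝔮O ≤ dim O`.
-/

set_option autoImplicit false
universe u

open TensorProduct

namespace Groth.Agent.Lib.Helper90.DiagRing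

variable (K : Type u) [Field K] (A : Type u) [CommRing A] [Algebra K A]

lemma flat_g₂_quot (𝔮 : Ideal A) :
    ((Ideal.Quotient.mk (𝔮.map (g₁ K A))).comp (g₂ K A)).Flat := by
  let c : A ⊗[K] A ≃+* A ⊗[K] A := (Algebra.TensorProduct.comm K A A).toRingEquiv
  have hc : (c : A ⊗[K] A →+* A ⊗[K] A).comp (g₂ K A) = g₁ K A := by
    ext a
    rfl
  have hIJ : 𝔮.map (g₁ K A) = (𝔮.map (g₂ K A)).map (c : A ⊗[K] A →+* A ⊗[K] A) := by
    rw [Ideal.map_map, hc]
  have h : (Ideal.Quotient.mk (𝔮.map (g₁ K A))).comp (g₂ K A) =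
      ((Ideal.quotientEquiv _ _ c hIJ : _ ≃+* _) : _ →+* _).comp
        ((Ideal.Quotient.mk (𝔮.map (g₂ K A))).comp (g₁ K A)) := by
    ext a
    rfl
  rw [h]
  exact (flat_g₁_quot K A 𝔮).comp (RingHom.Flat.of_bijective (RingEquiv.bijective _))

variable (P : Ideal A) [P.IsPrime]
  (O : Type u) [CommRing O] [Algebra A O] [IsLocalization.AtPrime O P]

lemma flat_ι₁ : (ι₁ K A P O).Flat :=
  DiagFlat.flat_localization_map _ _ _ (flat_g₁ K A) _

lemma flat_ι₂_quot (𝔮 : Ideal A) :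
    RingHom.Flat (R := O) (S := B' K A P ⧸ (𝔮.map (algebraMap A O)).map (ι₁ K A P O))
      ((Ideal.Quotient.mk ((𝔮.map (algebraMap A O)).map (ι₁ K A P O))).comp (ι₂ K A P O)) := by
  rw [map_ι₁]
  exact DiagFlat.flat_localization_map_quotient _ _ _ _ (flat_g₂_quot K A 𝔮) _

/-- **Serre's dimension inequality** for the local ring `O = A_P` of a smooth algebra `A` over a
field `K`: if `O/(𝔭O + 𝔮O)` has finite length then `dim O/𝔭O + dim O/𝔮O ≤ dim O`. -/
theorem serre_dim_le_smooth [Algebra.Smooth K A] (𝔭 𝔮 : Ideal A) (h𝔭 : 𝔭 ≤ P) (h𝔮 : 𝔮 ≤ P)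
    (hfl : IsFiniteLength O (O ⧸ (𝔭.map (algebraMap A O) ⊔ 𝔮.map (algebraMap A O)))) :
    ringKrullDim (O ⧸ 𝔭.map (algebraMap A O)) + ringKrullDim (O ⧸ 𝔮.map (algebraMap A O)) ≤
      ringKrullDim O := by
  haveI : IsLocalRing O := IsLocalization.AtPrime.isLocalRing O P
  haveI : Algebra.Smooth K (A ⊗[K] A) := Algebra.Smooth.comp K A (A ⊗[K] A)
  haveI hB'reg : IsRegularLocalRing (B' K A P) :=
    Groth.Agent.Lib.Helper30.SmoothRegular.regular_of_smooth K (A ⊗[K] A) (P' K A P) inferInstance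
  haveI hOreg : IsRegularLocalRing O :=
    haveI : IsRegularLocalRing (Localization.AtPrime P) :=
      Groth.Agent.Lib.Helper30.SmoothRegular.regular_of_smooth K A P inferInstance
    IsRegularLocalRing.of_ringEquiv
      (IsLocalization.algEquiv P.primeCompl (Localization.AtPrime P) O).toRingEquiv
  have hμsurj : Function.Surjective (μ' K A P O) :=
    DiagAbs.μ_surjective (ι₁ K A P O) (μ' K A P O) (μ'_ι₁ K A P O)
  haveI : IsRegularLocalRing (B' K A P ⧸ RingHom.ker (μ' K A P O)) :=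
    IsRegularLocalRing.of_ringEquiv (RingHom.quotientKerEquivOfSurjective hμsurj).symm
  obtain ⟨c, g, hD, -, hcdim⟩ :=
    DiagReg.exists_regular_generators (B' K A P) (RingHom.ker (μ' K A P O))
  have hdimO : ringKrullDim (B' K A P ⧸ RingHom.ker (μ' K A P O)) = ringKrullDim O :=
    ringKrullDim_eq_of_ringEquiv (RingHom.quotientKerEquivOfSurjective hμsurj)
  rw [hdimO] at hcdim
  have hmax : P.map (algebraMap A O) = IsLocalRing.maximalIdeal O :=
    IsLocalization.AtPrime.map_eq_maximalIdeal P O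
  have hne : ∀ 𝔞 : Ideal A, 𝔞 ≤ P → 𝔞.map (algebraMap A O) ≠ ⊤ := by
    intro 𝔞 h𝔞 h
    have hle : 𝔞.map (algebraMap A O) ≤ IsLocalRing.maximalIdeal O := by
      rw [← hmax]
      exact Ideal.map_mono h𝔞
    rw [h, top_le_iff] at hle
    exact (IsLocalRing.maximalIdeal.isMaximal O).ne_top hle
  have hf₂m : ∀ 𝔪 : Ideal O, 𝔪 = P.map (algebraMap A O) →
      RingHom.Flat (R := O) (S := B' K A P ⧸ 𝔪.map (ι₁ K A P O))
        ((Ideal.Quotient.mk (𝔪.map (ι₁ K A P O))).comp (ι₂ K A P O)) := by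
    rintro _ rfl
    exact flat_ι₂_quot K A P O P
  exact DiagSerre.serre_dim_le (ι₁ K A P O) (ι₂ K A P O) (μ' K A P O) (μ'_ι₁ K A P O)
    (μ'_ι₂ K A P O) _ _ (hne 𝔭 h𝔭) (hne 𝔮 h𝔮) (flat_ι₁ K A P O) (flat_ι₁_quot K A P O 𝔮)
    (hf₂m _ hmax.symm) c g hD hcdim hfl

end Groth.Agent.Lib.Helper90.DiagRing
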