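import Mathlib
import Groth.Agent.Lib.Helper73.DimFormula.LocalGDF

/-!
# Dimension formula from a given presentation with catenary lower set (helper90)

* `dimFormula_aux_pres`: variant of helper73's `dimFormula_aux'` for a *given* surjection
  `f : R[X₁..Xₙ] → S`.
* `dimFormula_eq_of_pres`: equality in the dimension formula as soon as the poset of primes below
  `q.comap f` is catenary.
* `posetCat_Iic_of_atPrime`, `posetCat_Iic_of_ringEquiv`: transport of catenarity of lower sets.
-/

set_option autoImplicit false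
universe u

namespace Groth.Agent.Lib.Helper90.DimCat

open Groth.Agent.Lib.Helper73 Groth.Agent.Lib.Helper70

/-- Variant of `dimFormula_aux'` for a given presentation. -/
theorem dimFormula_aux_pres (R : Type u) [CommRing R] [IsDomain R]
    [IsNoetherianRing R] (S : Type u) [CommRing S] [IsDomain S] [Algebra R S]
    [FaithfulSMul R S] (n : ℕ) (f : MvPolynomial (Fin n) R →ₐ[R] S)
    (hf : Function.Surjective f) (p : Ideal R) [p.IsPrime] (q : Ideal S) [q.IsPrime]
    [q.LiesOver p] :
    ∃ (Q q' : Ideal (MvPolynomial (Fin n) R)) (_ : Q.IsPrime) (_ : q'.IsPrime)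
      (_ : Q ≤ q'), q' = q.comap f.toRingHom ∧ q'.LiesOver p ∧
      (Q.height : Cardinal.{u}) + Algebra.trdeg R S = n ∧
      (q'.height : Cardinal.{u}) + Algebra.trdeg (R ⧸ p) (S ⧸ q) = p.height + n ∧
      (q'.map (Ideal.Quotient.mk Q)).height = q.height := by
  let A := MvPolynomial (Fin n) R
  let Q : Ideal A := RingHom.ker f.toRingHom
  let q' : Ideal A := q.comap f.toRingHom
  have hQ : Q.IsPrime := RingHom.ker_isPrime f.toRingHom
  have hq' : q'.IsPrime := Ideal.comap_isPrime _ _
  have hQq' : Q ≤ q' := Ideal.ker_le_comap _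
  have hQbot : Q.LiesOver (⊥ : Ideal R) := ⟨by
    ext r
    simp only [Ideal.under, Ideal.mem_comap, Ideal.mem_bot, Q, RingHom.mem_ker]
    change r = 0 ↔ f (algebraMap R A r) = 0
    rw [AlgHom.commutes]
    constructor
    · rintro rfl; simp
    · intro h
      exact (FaithfulSMul.algebraMap_injective R S) (by rw [h, map_zero])⟩
  have hq'p : q'.LiesOver p := ⟨by
    rw [q.over_def p]
    ext r
    simp only [Ideal.under, Ideal.mem_comap, q']
    change _ ↔ f (algebraMap R A r) ∈ q
    rw [AlgHom.commutes]⟩
  have hbot : (⊥ : Ideal R).IsPrime := Ideal.isPrime_bot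
  refine ⟨Q, q', hQ, hq', hQq', rfl, hq'p, ?_, ?_, ?_⟩
  · have h1 := mvPolynomial_height_add_trdeg R n ⊥ Q
    rw [Ideal.height_bot] at h1
    have h2 : Algebra.trdeg (R ⧸ (⊥ : Ideal R)) (A ⧸ Q) = Algebra.trdeg R S := by
      refine trdeg_eq_of_ringEquiv_square (RingEquiv.quotientBot R)
        (RingHom.quotientKerEquivOfSurjective (f := f.toRingHom) hf) ?_
      rintro ⟨r⟩
      change f (algebraMap R A r) = algebraMap R S r
      rw [AlgHom.commutes]
    rw [h2] at h1
    simpa using h1
  · have h1 := mvPolynomial_height_add_trdeg R n p q'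
    have h2 : Algebra.trdeg (R ⧸ p) (A ⧸ q') = Algebra.trdeg (R ⧸ p) (S ⧸ q) := by
      let g : A →+* S ⧸ q := (Ideal.Quotient.mk q).comp f.toRingHom
      have hg : Function.Surjective g := Ideal.Quotient.mk_surjective.comp hf
      have hker : RingHom.ker g = q' := by
        rw [RingHom.ker_eq_comap_bot, ← Ideal.comap_comap, ← RingHom.ker_eq_comap_bot,
          Ideal.mk_ker]
      refine trdeg_eq_of_ringEquiv_square (RingEquiv.refl _)
        ((Ideal.quotEquivOfEq hker.symm).trans (RingHom.quotientKerEquivOfSurjective hg)) ?_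
      rintro ⟨r⟩
      change Ideal.Quotient.mk q (f (algebraMap R A r)) = Ideal.Quotient.mk q (algebraMap R S r)
      rw [AlgHom.commutes]
    rw [h2] at h1
    exact h1
  · let e : (A ⧸ Q) ≃+* S := RingHom.quotientKerEquivOfSurjective (f := f.toRingHom) hf
    have : q'.map (Ideal.Quotient.mk Q) = q.comap (e : (A ⧸ Q) →+* S) := by
      ext x
      obtain ⟨a, rfl⟩ := Ideal.Quotient.mk_surjective x
      rw [Ideal.mem_comap]
      change _ ↔ f a ∈ q
      rw [Ideal.mem_map_iff_of_surjective _ Ideal.Quotient.mk_surjective]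
      constructor
      · rintro ⟨b, hb, hba⟩
        have : b - a ∈ Q := by
          rw [← Ideal.Quotient.eq]; exact hba
        have hfab : f b = f a := by
          have : f (b - a) = 0 := this
          rwa [map_sub, sub_eq_zero] at this
        rw [← hfab]; exact hb
      · intro ha
        exact ⟨a, ha, rfl⟩
    rw [this]
    exact RingEquiv.height_comap e q

/-- The dimension formula with equality, for a given presentation `f`, as soon as the poset of
primes below `q.comap f` is catenary. -/
theorem dimFormula_eq_of_pres (R : Type u) [CommRing R] [IsDomain R] [IsNoetherianRing R]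
    (S : Type u) [CommRing S] [IsDomain S] [Algebra R S]
    [FaithfulSMul R S] (n : ℕ) (f : MvPolynomial (Fin n) R →ₐ[R] S)
    (hf : Function.Surjective f) (p : Ideal R) [p.IsPrime] (q : Ideal S) [hq : q.IsPrime]
    [q.LiesOver p]
    (hcat : PosetCat (Set.Iic (⟨q.comap f.toRingHom, Ideal.comap_isPrime _ _⟩ :
      PrimeSpectrum (MvPolynomial (Fin n) R)))) :
    (q.height : Cardinal.{u}) + Algebra.trdeg (R ⧸ p) (S ⧸ q) =
      (p.height : Cardinal.{u}) + Algebra.trdeg R S := by
  obtain ⟨Q, q', hQ, hq', hQq', hq'eq, hq'p, h1, h2, h3⟩ := dimFormula_aux_pres R S n f hf p q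
  subst hq'eq
  have h4 := height_map_quotientMk_add_height_eq_of_posetCat_Iic Q _ hQq' hcat
  rw [h3] at h4
  have h5 : (q.height : Cardinal.{u}) + Q.height = (q.comap f.toRingHom).height := by
    have := congrArg (fun x : ℕ∞ => (x : Cardinal.{u})) h4
    simpa using this
  have hn : (n : Cardinal.{u}) < Cardinal.aleph0 := Cardinal.natCast_lt_aleph0
  have key : (q.height : Cardinal.{u}) + Algebra.trdeg (R ⧸ p) (S ⧸ q) + n =
      (p.height : Cardinal.{u}) + Algebra.trdeg R S + n := by
    calc (q.height : Cardinal.{u}) + Algebra.trdeg (R ⧸ p) (S ⧸ q) + n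
        = ((q.height : Cardinal.{u}) + Q.height) + Algebra.trdeg (R ⧸ p) (S ⧸ q) +
            Algebra.trdeg R S := by rw [← h1]; ring
      _ = ((q.comap f.toRingHom).height : Cardinal.{u}) + Algebra.trdeg (R ⧸ p) (S ⧸ q) +
            Algebra.trdeg R S := by rw [h5]
      _ = (p.height : Cardinal.{u}) + Algebra.trdeg R S + n := by rw [h2]; ring
  exact le_antisymm ((Cardinal.add_le_add_iff_of_lt_aleph0 hn).mp key.le)
    ((Cardinal.add_le_add_iff_of_lt_aleph0 hn).mp key.ge)

/-- If the localization of `A` at a prime `M` is catenary, then every prime below `M` has a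
catenary lower set. -/
theorem posetCat_Iic_of_atPrime {A : Type u} [CommRing A] (M : Ideal A) [M.IsPrime]
    (L : Type u) [CommRing L] [Algebra A L] [IsLocalization.AtPrime L M]
    (hL : CAlg.IsCatenary L) (q : PrimeSpectrum A) (hq : q.asIdeal ≤ M) :
    PosetCat (Set.Iic q) := by
  have hcat : PosetCat (PrimeSpectrum L) := hL
  let e := IsLocalization.primeSpectrumOrderIso M.primeCompl L
  have hdisj : ∀ t : Set.Iic q, Disjoint ((M.primeCompl : Submonoid A) : Set A) t.1.asIdeal := by
    intro t
    rw [Set.disjoint_left]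
    intro x hx hxt
    exact hx (hq (t.2 hxt))
  let φ : Set.Iic q ↪o PrimeSpectrum L :=
    { toFun := fun t => e.symm ⟨t.1, hdisj t⟩
      inj' := by
        intro s t hst
        have := e.symm.injective hst
        exact Subtype.ext (congrArg (fun w => w.1) this)
      map_rel_iff' := by
        intro s t
        change e.symm _ ≤ e.symm _ ↔ s ≤ t
        rw [e.symm.le_iff_le]
        rfl }
  refine PosetCat.of_embedding φ ?_ hcat
  intro a b r _ hrb
  have h1 : e r ≤ e (φ b) := e.monotone hrb
  have h2 : e (φ b) = ⟨b.1, hdisj b⟩ := e.apply_symm_apply _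
  rw [h2] at h1
  have h3 : (e r).1 ≤ b.1 := h1
  refine ⟨⟨(e r).1, le_trans h3 b.2⟩, ?_⟩
  change e.symm ⟨(e r).1, _⟩ = r
  exact e.symm_apply_apply r

/-- Catenarity of lower sets of the spectrum is invariant under ring isomorphisms. -/
theorem posetCat_Iic_of_ringEquiv {A B : Type u} [CommRing A] [CommRing B] (e : B ≃+* A)
    (q : PrimeSpectrum B)
    (h : PosetCat (Set.Iic (PrimeSpectrum.comap (e.symm : A →+* B) q))) :
    PosetCat (Set.Iic q) := by
  let E : PrimeSpectrum B ≃o PrimeSpectrum A := PrimeSpectrum.comapEquiv e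
  have hE : ∀ t, E t = PrimeSpectrum.comap (e.symm : A →+* B) t := fun t => rfl
  let φ : Set.Iic q ↪o Set.Iic (PrimeSpectrum.comap (e.symm : A →+* B) q) :=
    { toFun := fun t => ⟨E t.1, by
        have : E t.1 ≤ E q := E.monotone t.2
        exact this⟩
      inj' := by
        intro s t hst
        have : E s.1 = E t.1 := congrArg Subtype.val hst
        exact Subtype.ext (E.injective this)
      map_rel_iff' := by
        intro s t
        change E s.1 ≤ E t.1 ↔ s ≤ t
        rw [E.le_iff_le]
        rfl }
  refine PosetCat.of_embedding φ ?_ h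
  intro a b r _ hrb
  have h3 : E.symm r.1 ≤ b.1 := by
    have : r.1 ≤ E b.1 := hrb
    have := E.symm.monotone this
    rwa [E.symm_apply_apply] at this
  refine ⟨⟨E.symm r.1, le_trans h3 b.2⟩, ?_⟩
  apply Subtype.ext
  change E (E.symm r.1) = r.1
  exact E.apply_symm_apply _

end Groth.Agent.Lib.Helper90.DimCat
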