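import Mathlib
import Groth.Agent.Lib.Helper90.DimCat1

/-!
# Dimension formula under a catenarity hypothesis on subalgebras of `S[T]` (helper90)

EGA IV 5.6-type statement: `R` Noetherian local domain, `S` a domain of finite type over `R`
containing `R`; if the localizations at maximal ideals over `m` of finite type subalgebras of
`S[T]` are catenary, the dimension formula holds with equality at primes over `m`.
-/

set_option autoImplicit false
universe u

open Polynomial

namespace Groth.Agent.Lib.Helper90.DimCat

open Groth.Agent.Lib.Helper73 Groth.Agent.Lib.Helper70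

/-- Catenarity hypothesis in flexible form: every finite type `R`-algebra embedding into `S[T]`
has catenary lower sets at the primes over the maximal ideal of `R`. -/
def HC (R S : Type u) [CommRing R] [IsLocalRing R] [CommRing S] [Algebra R S] : Prop :=
  ∀ (B : Type u) [CommRing B] [Algebra R B] [Algebra.FiniteType R B] (φ : B →ₐ[R] S[X]),
    Function.Injective φ → ∀ 𝔮 : PrimeSpectrum B,
      𝔮.asIdeal.comap (algebraMap R B) = IsLocalRing.maximalIdeal R → PosetCat (Set.Iic 𝔮)

theorem hc_of_hcat (R S : Type u) [CommRing R] [IsLocalRing R] [CommRing S] [Algebra R S]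
    (hcat : ∀ A' : Subalgebra R S[X], A'.FG →
      ∀ (m' : Ideal A') [m'.IsMaximal], m'.LiesOver (IsLocalRing.maximalIdeal R) →
        CAlg.IsCatenary (Localization.AtPrime m')) : HC R S := by
  intro B _ _ _ φ hφ 𝔮 h𝔮
  let A' : Subalgebra R S[X] := φ.range
  have hFG : A'.FG := by
    have h1 : (⊤ : Subalgebra R B).FG := Algebra.FiniteType.out
    have h2 := h1.map φ
    rwa [Algebra.map_top] at h2
  let e : B ≃ₐ[R] A' := AlgEquiv.ofInjective φ hφ
  obtain ⟨M, hM, h𝔮M⟩ := Ideal.exists_le_maximal 𝔮.asIdeal 𝔮.2.ne_top
  let M' : Ideal A' := M.comap (e.symm : A' →+* B)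
  have hM' : M'.IsMaximal := Ideal.comap_isMaximal_of_surjective _ e.symm.surjective
  have hover : M'.LiesOver (IsLocalRing.maximalIdeal R) := ⟨by
    have hN : M'.under R = M.comap (algebraMap R B) := by
      ext r
      simp only [Ideal.under, Ideal.mem_comap, M']
      have : (e.symm : A' →+* B) (algebraMap R A' r) = algebraMap R B r := by
        change e.symm (algebraMap R A' r) = algebraMap R B r
        exact e.symm.commutes r
      rw [this]
    rw [hN]
    apply le_antisymm
    · rw [← h𝔮]
      exact Ideal.comap_mono h𝔮M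
    · apply IsLocalRing.le_maximalIdeal
      intro htop
      have h1 : (1 : R) ∈ M.comap (algebraMap R B) := by rw [htop]; trivial
      rw [Ideal.mem_comap, map_one] at h1
      exact hM.ne_top ((Ideal.eq_top_iff_one _).mpr h1)⟩
  have hcatL := hcat A' hFG M' hover
  have hle : (PrimeSpectrum.comap (e.symm : A' →+* B) 𝔮).asIdeal ≤ M' := Ideal.comap_mono h𝔮M
  have h3 := posetCat_Iic_of_atPrime M' (Localization.AtPrime M') hcatL
    (PrimeSpectrum.comap (e.symm : A' →+* B) 𝔮) hle
  exact posetCat_Iic_of_ringEquiv e.toRingEquiv 𝔮 h3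

/-- The hypothesis `HC` passes to subalgebras. -/
theorem HC.subalgebra {R S : Type u} [CommRing R] [IsLocalRing R] [CommRing S] [Algebra R S]
    (h : HC R S) (S' : Subalgebra R S) : HC R S' := by
  intro B _ _ _ φ hφ 𝔮 h𝔮
  refine h B ((Polynomial.mapAlgHom S'.val).comp φ) ?_ 𝔮 h𝔮
  have hinj : Function.Injective (Polynomial.mapAlgHom S'.val) := by
    intro a b hab
    exact Polynomial.map_injective (S'.val : S' →+* S) Subtype.val_injective hab
  exact hinj.comp hφ

end Groth.Agent.Lib.Helper90.DimCat
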