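import Mathlib
import Groth.Agent.Lib.Helper90.DimCat2

/-!
# Dimension formula under `HC`: induction on the number of generators (helper90)
-/

set_option autoImplicit false
universe u

open Polynomial

namespace Groth.Agent.Lib.Helper90.DimCat

open Groth.Agent.Lib.Helper73 Groth.Agent.Lib.Helper70

/-- The embedding `S'[X₀] → S[T]` for a subalgebra `S'` of `S`. -/
noncomputable def embPoly {R S : Type u} [CommRing R] [CommRing S] [Algebra R S]
    (S' : Subalgebra R S) : MvPolynomial (Fin 1) S' →ₐ[R] S[X] :=
  ((MvPolynomial.aeval (fun _ : Fin 1 => (Polynomial.X : S[X])) :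
      MvPolynomial (Fin 1) S →ₐ[S] S[X]).restrictScalars R).comp
    (MvPolynomial.mapAlgHom (S'.val))

theorem embPoly_injective {R S : Type u} [CommRing R] [CommRing S] [Algebra R S]
    (S' : Subalgebra R S) : Function.Injective (embPoly S') := by
  have h1 : Function.Injective (MvPolynomial.mapAlgHom (σ := Fin 1) (S'.val)) := by
    intro a b hab
    exact MvPolynomial.map_injective (S'.val : S' →+* S) Subtype.val_injective hab
  have h2 : Function.Injective (MvPolynomial.aeval (fun _ : Fin 1 => (Polynomial.X : S[X])) :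
      MvPolynomial (Fin 1) S →ₐ[S] S[X]) := by
    have : AlgebraicIndependent S (fun _ : Fin 1 => (Polynomial.X : S[X])) := by
      rw [algebraicIndependent_unique_type_iff]
      exact Polynomial.transcendental_X S
    exact this
  exact h2.comp h1

end Groth.Agent.Lib.Helper90.DimCat

namespace Groth.Agent.Lib.Helper90.DimCat

open Groth.Agent.Lib.Helper73 Groth.Agent.Lib.Helper70

/-- One step: `S` generated over the subalgebra `S'` by one element `y`. -/
theorem step_formula (R : Type u) [CommRing R] [IsDomain R] [IsNoetherianRing R] [IsLocalRing R]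
    (S : Type u) [CommRing S] [IsDomain S] [Algebra R S] (S' : Subalgebra R S)
    [Algebra.FiniteType R S'] (y : S)
    (hy : Algebra.adjoin S' {y} = ⊤) (hHC : HC R S) (q : Ideal S) [q.IsPrime]
    [q.LiesOver (IsLocalRing.maximalIdeal R)] :
    (q.height : Cardinal.{u}) + Algebra.trdeg (S' ⧸ q.under S') (S ⧸ q) =
      ((q.under S').height : Cardinal.{u}) + Algebra.trdeg S' S := by
  have : IsNoetherianRing S' := Algebra.FiniteType.isNoetherianRing R S'
  let f : MvPolynomial (Fin 1) S' →ₐ[S'] S := MvPolynomial.aeval (fun _ : Fin 1 => y)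
  have hf : Function.Surjective f := by
    rw [← AlgHom.range_eq_top, ← Algebra.adjoin_range_eq_range_aeval]
    have : Set.range (fun _ : Fin 1 => y) = {y} := by
      ext z; simp
    rw [this, hy]
  have hcat : PosetCat (Set.Iic (⟨q.comap f.toRingHom, Ideal.comap_isPrime _ _⟩ :
      PrimeSpectrum (MvPolynomial (Fin 1) S'))) := by
    refine hHC (MvPolynomial (Fin 1) S') (embPoly S') (embPoly_injective S') _ ?_
    ext r
    simp only [Ideal.mem_comap]
    have h1 : f.toRingHom (algebraMap R (MvPolynomial (Fin 1) S') r) = algebraMap R S r := by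
      rw [IsScalarTower.algebraMap_apply R S' (MvPolynomial (Fin 1) S')]
      change f (algebraMap S' _ _) = _
      rw [AlgHom.commutes, ← IsScalarTower.algebraMap_apply]
    rw [h1, ← Ideal.mem_comap, ← Ideal.under_def, ← Ideal.over_def q (IsLocalRing.maximalIdeal R)]
  exact dimFormula_eq_of_pres S' S 1 f hf (q.under S') q hcat

end Groth.Agent.Lib.Helper90.DimCat

namespace Groth.Agent.Lib.Helper90.DimCat

open Groth.Agent.Lib.Helper73 Groth.Agent.Lib.Helper70

/-- Base case: `S` generated by no elements. -/
theorem base_formula (R : Type u) [CommRing R] [IsDomain R] [IsNoetherianRing R] [IsLocalRing R]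
    (S : Type u) [CommRing S] [IsDomain S] [Algebra R S] [FaithfulSMul R S]
    (x : Fin 0 → S) (hx : Algebra.adjoin R (Set.range x) = ⊤) (hHC : HC R S)
    (q : Ideal S) [q.IsPrime] [q.LiesOver (IsLocalRing.maximalIdeal R)] :
    (q.height : Cardinal.{u}) + Algebra.trdeg (R ⧸ IsLocalRing.maximalIdeal R) (S ⧸ q) =
      ((IsLocalRing.maximalIdeal R).height : Cardinal.{u}) + Algebra.trdeg R S := by
  let f : MvPolynomial (Fin 0) R →ₐ[R] S := MvPolynomial.aeval x
  have hf : Function.Surjective f := by
    rw [← AlgHom.range_eq_top, ← Algebra.adjoin_range_eq_range_aeval, hx]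
  have hfinj : Function.Injective f := by
    intro a b hab
    rw [MvPolynomial.eq_C_of_isEmpty a, MvPolynomial.eq_C_of_isEmpty b] at hab ⊢
    change MvPolynomial.aeval x (MvPolynomial.C _) = MvPolynomial.aeval x (MvPolynomial.C _) at hab
    rw [MvPolynomial.aeval_C, MvPolynomial.aeval_C] at hab
    rw [FaithfulSMul.algebraMap_injective R S hab]
  let φ : MvPolynomial (Fin 0) R →ₐ[R] S[X] := (Algebra.ofId S S[X] |>.restrictScalars R).comp f
  have hφ : Function.Injective φ := by
    have : Function.Injective (Algebra.ofId S S[X]) := by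
      intro a b hab
      exact Polynomial.C_injective hab
    exact this.comp hfinj
  have hcat : PosetCat (Set.Iic (⟨q.comap f.toRingHom, Ideal.comap_isPrime _ _⟩ :
      PrimeSpectrum (MvPolynomial (Fin 0) R))) := by
    refine hHC (MvPolynomial (Fin 0) R) φ hφ _ ?_
    ext r
    simp only [Ideal.mem_comap]
    have h1 : f.toRingHom (algebraMap R (MvPolynomial (Fin 0) R) r) = algebraMap R S r := by
      change f (algebraMap R _ r) = _
      rw [AlgHom.commutes]
    rw [h1, ← Ideal.mem_comap, ← Ideal.under_def, ← Ideal.over_def q (IsLocalRing.maximalIdeal R)]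
  exact dimFormula_eq_of_pres R S 0 f hf (IsLocalRing.maximalIdeal R) q hcat

end Groth.Agent.Lib.Helper90.DimCat

namespace Groth.Agent.Lib.Helper90.DimCat

open Groth.Agent.Lib.Helper73 Groth.Agent.Lib.Helper70

/-- The dimension formula with equality under `HC`, by induction on the number of generators. -/
theorem formula_of_HC (R : Type u) [CommRing R] [IsDomain R] [IsNoetherianRing R] [IsLocalRing R]
    (n : ℕ) : ∀ (S : Type u) [CommRing S] [IsDomain S] [Algebra R S] [FaithfulSMul R S]
    (x : Fin n → S) (_ : Algebra.adjoin R (Set.range x) = ⊤) (_ : HC R S)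
    (q : Ideal S) [q.IsPrime] [q.LiesOver (IsLocalRing.maximalIdeal R)],
    (q.height : Cardinal.{u}) + Algebra.trdeg (R ⧸ IsLocalRing.maximalIdeal R) (S ⧸ q) =
      ((IsLocalRing.maximalIdeal R).height : Cardinal.{u}) + Algebra.trdeg R S := by
  induction n with
  | zero =>
    intro S _ _ _ _ x hx hHC q _ _
    exact base_formula R S x hx hHC q
  | succ n ih =>
    intro S _ _ _ _ x hx hHC q _ _
    let S' : Subalgebra R S := Algebra.adjoin R (Set.range (fun i : Fin n => x i.castSucc))
    let y : S := x (Fin.last n)
    have hFT : Algebra.FiniteType R S' := by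
      rw [← Subalgebra.fg_iff_finiteType]
      exact Subalgebra.fg_def.mpr ⟨_, Set.finite_range _, rfl⟩
    have hfaith : FaithfulSMul R S' := by
      rw [faithfulSMul_iff_algebraMap_injective]
      intro a b hab
      apply FaithfulSMul.algebraMap_injective R S
      have := congrArg (algebraMap S' S) hab
      rwa [← IsScalarTower.algebraMap_apply, ← IsScalarTower.algebraMap_apply] at this
    let x' : Fin n → S' := fun i => ⟨x i.castSucc, Algebra.subset_adjoin ⟨i, rfl⟩⟩
    have hx' : Algebra.adjoin R (Set.range x') = ⊤ := by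
      apply Subalgebra.map_injective (f := S'.val) Subtype.val_injective
      rw [Algebra.map_top, Subalgebra.range_val, AlgHom.map_adjoin]
      congr 1
      ext z
      constructor
      · rintro ⟨_, ⟨i, rfl⟩, rfl⟩
        exact ⟨i, rfl⟩
      · rintro ⟨i, rfl⟩
        exact ⟨x' i, ⟨i, rfl⟩, rfl⟩
    have hy : Algebra.adjoin S' {y} = ⊤ := by
      apply Subalgebra.restrictScalars_injective R
      rw [Subalgebra.restrictScalars_top, ← Algebra.adjoin_union_eq_adjoin_adjoin, ← hx]
      congr 1
      ext z
      constructor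
      · rintro (⟨i, rfl⟩ | rfl)
        · exact ⟨i.castSucc, rfl⟩
        · exact ⟨Fin.last n, rfl⟩
      · rintro ⟨i, rfl⟩
        induction i using Fin.lastCases with
        | last => right; rfl
        | cast i => left; exact ⟨i, rfl⟩
    have hHC' : HC R S' := hHC.subalgebra S'
    have hover' : (q.under S').LiesOver (IsLocalRing.maximalIdeal R) :=
      Ideal.LiesOver.tower_bot q (q.under S') (IsLocalRing.maximalIdeal R)
    have h1 := ih S' x' hx' hHC' (q.under S')
    have h2 := step_formula R S S' y hy hHC q
    have h3 := trdeg_quotient_add (IsLocalRing.maximalIdeal R) (q.under S') q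
    have h4 := trdeg_add_eq R S' (A := S)
    rw [← h3, ← h4]
    calc (q.height : Cardinal.{u}) + (Algebra.trdeg (R ⧸ IsLocalRing.maximalIdeal R) (S' ⧸ q.under S') +
          Algebra.trdeg (S' ⧸ q.under S') (S ⧸ q))
        = ((q.height : Cardinal.{u}) + Algebra.trdeg (S' ⧸ q.under S') (S ⧸ q)) +
          Algebra.trdeg (R ⧸ IsLocalRing.maximalIdeal R) (S' ⧸ q.under S') := by ring
      _ = (((q.under S').height : Cardinal.{u}) +
          Algebra.trdeg (R ⧸ IsLocalRing.maximalIdeal R) (S' ⧸ q.under S')) +
            Algebra.trdeg S' S := by rw [h2]; ring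
      _ = _ := by rw [h1]; ring

end Groth.Agent.Lib.Helper90.DimCat
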