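import Mathlib
import Groth.Agent.Lib.Helper99.BEI

/-!
# Complexes of matrices whose determinantal ideals contain non-zero-divisors (helper90)

* `minorIdeal_eq_bot_of_split`: over a local ring, if `A * B = 0` and the range of `B` is a direct
  summand of rank `s`, then the minors of `A` of size `> b - s` vanish.
* `split_of_unit_minors`: a complex of matrices over a local ring all of whose expected-rank
  determinantal ideals are the unit ideal splits.
* `minorIdeal_eq_bot_of_nonZeroDivisors`: over a Noetherian ring, if the expected-rank determinantal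
  ideals all contain a non-zero-divisor, the minors of size one more vanish.
-/

set_option autoImplicit false
set_option linter.style.haveILetI false

namespace Groth.Agent.Lib.Helper90.ExLoc

open Matrix Groth.Agent.Lib.Helper99.BE

universe u

section local_part

variable {S : Type u} [CommRing S]

theorem minorIdeal_eq_bot_of_split [IsLocalRing S] {a b c : ℕ} (A : Matrix (Fin a) (Fin b) S)
    (B : Matrix (Fin b) (Fin c) S) (hAB : A * B = 0) {r s : ℕ} (hB : Split B s)
    (hrs : r + s = b) : CAlgX.minorIdeal A (r + 1) = ⊥ := by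
  classical
  obtain ⟨N', hc, hs⟩ := hB
  set P := LinearMap.range B.mulVecLin with hP
  have hprojP : Module.Projective S P := projective_of_isCompl P N' hc
  have hprojN : Module.Projective S N' := projective_of_isCompl N' P hc.symm
  haveI : Module.Finite S N' :=
    Module.Finite.of_surjective (Submodule.projectionOnto N' P hc.symm)
      (Submodule.projectionOnto_surjective hc.symm)
  haveI : Module.Finite S P :=
    Module.Finite.of_surjective (Submodule.projectionOnto P N' hc)
      (Submodule.projectionOnto_surjective hc)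
  have hfreeP : Module.Free S P := Module.free_of_flat_of_isLocalRing
  have hfreeN : Module.Free S N' := Module.free_of_flat_of_isLocalRing
  have hfrN : Module.finrank S N' = r := by
    have h1 := (Submodule.prodEquivOfIsCompl P N' hc).finrank_eq
    rw [Module.finrank_prod, Module.finrank_fin_fun, hs] at h1
    omega
  have hAP : ∀ x : P, A.mulVecLin (x : Fin b → S) = 0 := by
    rintro ⟨_, u, rfl⟩
    simp only [Matrix.mulVecLin_apply, Matrix.mulVec_mulVec, hAB, Matrix.zero_mulVec]
  let bN : Module.Basis (Fin r) S N' := Module.finBasisOfFinrankEq S N' hfrN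
  let Clin : (Fin b → S) →ₗ[S] (Fin r → S) :=
    (bN.equivFun : _ →ₗ[S] (Fin r → S)) ∘ₗ (Submodule.projectionOnto N' P hc.symm)
  let Alin : (Fin r → S) →ₗ[S] (Fin a → S) :=
    A.mulVecLin ∘ₗ N'.subtype ∘ₗ (bN.equivFun.symm : (Fin r → S) →ₗ[S] _)
  have hAC : Alin ∘ₗ Clin = A.mulVecLin := by
    refine LinearMap.ext fun x => ?_
    change A.mulVecLin ((bN.equivFun.symm (bN.equivFun (Submodule.projectionOnto N' P hc.symm x)) :
      N') : Fin b → S) = A.mulVecLin x
    rw [LinearEquiv.symm_apply_apply]
    have hx := Submodule.projection_add_projection_eq_self hc x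
    conv_rhs => rw [← hx]
    rw [map_add]
    have h0 : A.mulVecLin ((P.projection N' hc) x) = 0 := hAP (Submodule.projectionOnto P N' hc x)
    rw [h0, zero_add]
    rfl
  have hA' : LinearMap.toMatrix' (Matrix.mulVecLin A) = A := LinearMap.toMatrix'_toLin' A
  have mAC : LinearMap.toMatrix' Alin * LinearMap.toMatrix' Clin = A := by
    rw [← LinearMap.toMatrix'_comp, hAC, hA']
  obtain ⟨X, hX⟩ : ∃ X, X = LinearMap.toMatrix' Alin := ⟨_, rfl⟩
  obtain ⟨C, hC⟩ : ∃ C, C = LinearMap.toMatrix' Clin := ⟨_, rfl⟩
  rw [← hX, ← hC] at mAC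
  unfold CAlgX.minorIdeal
  rw [Ideal.span_eq_bot]
  rintro _ ⟨⟨g, h⟩, rfl⟩
  change det (A.submatrix g h) = 0
  rw [← mAC, Matrix.submatrix_mul X C g id h Function.bijective_id,
    Groth.Agent.S10890.det_mul_rows]
  refine Finset.sum_eq_zero fun f _ => ?_
  have hni : ¬ Function.Injective f := by
    intro hinj
    have := Fintype.card_le_of_injective f hinj
    simp at this
  rw [Function.Injective] at hni
  push Not at hni
  obtain ⟨i, j, hij, hne⟩ := hni
  rw [Matrix.det_zero_of_row_eq hne (by
    funext l
    simp [hij]), mul_zero]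

/-- A complex of matrices over a local ring whose expected-rank determinantal ideals are all the
unit ideal splits with the expected ranks. -/
theorem split_of_unit_minors [IsLocalRing S] (e : ℕ) (n : ℕ → ℕ)
    (B : ∀ i, Matrix (Fin (n i)) (Fin (n (i + 1))) S)
    (hB : ∀ i, B i * B (i + 1) = 0) (hz : ∀ i, e ≤ i → B i = 0)
    (ρ : ℕ → ℕ) (hρ : ∀ i, i < e → ρ i + ρ (i + 1) = n (i + 1)) (hρe : ρ e = 0)
    (h2 : ∀ i, i < e → CAlgX.minorIdeal (B i) (ρ i) = ⊤) :
    ∀ d i, i + d = e → Split (B i) (ρ i) := by
  intro d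
  induction d with
  | zero =>
    intro i hi
    have : i = e := by omega
    subst this
    rw [hz i le_rfl, hρe]
    exact split_zero
  | succ d ih =>
    intro i hi
    have hsp := ih (i + 1) (by omega)
    have h1 : CAlgX.minorIdeal (B i) (ρ i + 1) = ⊥ :=
      minorIdeal_eq_bot_of_split (B i) (B (i + 1)) (hB i) hsp (hρ i (by omega))
    exact Groth.Agent.S10890.bwd (B i) h1 (h2 i (by omega))

theorem minorIdeal_eq_bot_of_unit_minors [IsLocalRing S] (e : ℕ) (n : ℕ → ℕ)
    (B : ∀ i, Matrix (Fin (n i)) (Fin (n (i + 1))) S)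
    (hB : ∀ i, B i * B (i + 1) = 0) (hz : ∀ i, e ≤ i → B i = 0)
    (ρ : ℕ → ℕ) (hρ : ∀ i, i < e → ρ i + ρ (i + 1) = n (i + 1)) (hρe : ρ e = 0)
    (h2 : ∀ i, i < e → CAlgX.minorIdeal (B i) (ρ i) = ⊤) (i : ℕ) (hi : i < e) :
    CAlgX.minorIdeal (B i) (ρ i + 1) = ⊥ := by
  have hsp := split_of_unit_minors e n B hB hz ρ hρ hρe h2 (e - (i + 1)) (i + 1) (by omega)
  exact minorIdeal_eq_bot_of_split (B i) (B (i + 1)) (hB i) hsp (hρ i hi)

end local_part

section global_part

variable {R : Type u} [CommRing R]

/-- Over a Noetherian ring: if the determinantal ideals of expected rank of a complex of matrices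
all contain a non-zero-divisor, then the minors of size one more all vanish. -/
theorem minorIdeal_eq_bot_of_nonZeroDivisors [IsNoetherianRing R] (e : ℕ) (n : ℕ → ℕ)
    (A : ∀ i, Matrix (Fin (n i)) (Fin (n (i + 1))) R)
    (hA : ∀ i, A i * A (i + 1) = 0) (hz : ∀ i, e ≤ i → A i = 0)
    (ρ : ℕ → ℕ) (hρ : ∀ i, i < e → ρ i + ρ (i + 1) = n (i + 1)) (hρe : ρ e = 0)
    (h2 : ∀ i, i < e → ∃ x ∈ CAlgX.minorIdeal (A i) (ρ i), x ∈ nonZeroDivisors R)
    (i : ℕ) (hi : i < e) :
    CAlgX.minorIdeal (A i) (ρ i + 1) = ⊥ := by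
  classical
  rw [eq_bot_iff]
  intro x hx
  rw [Submodule.mem_bot]
  by_contra hx0
  obtain ⟨p, hp, hle⟩ := exists_le_isAssociatedPrime_of_isNoetherianRing R x hx0
  haveI hpp : p.IsPrime := hp.isPrime
  -- elements of `p` are zero divisors
  have hpz : ∀ y ∈ p, y ∉ nonZeroDivisors R := by
    intro y hy hy'
    rw [isAssociatedPrime_iff] at hp
    obtain ⟨-, a, ha⟩ := hp
    have hya : y * a = 0 := by
      have : y ∈ (⊥ : Submodule R R).colon {a} := ha ▸ hy
      rwa [Submodule.mem_colon_singleton, Submodule.mem_bot, smul_eq_mul] at this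
    have ha0 : a = 0 := by
      exact (mem_nonZeroDivisors_iff.1 hy').1 a hya
    have : p = ⊤ := by
      rw [ha, ha0]
      rw [eq_top_iff]
      intro z _
      rw [Submodule.mem_colon_singleton, smul_zero]
      exact zero_mem _
    exact hpp.ne_top this
  have hloc : (CAlgX.minorIdeal (A i) (ρ i + 1)).map (algebraMap R (Localization.AtPrime p)) = ⊥ := by
    have h2' : ∀ j, j < e → CAlgX.minorIdeal
        ((A j).map (algebraMap R (Localization.AtPrime p))) (ρ j) = ⊤ := by
      intro j hj
      obtain ⟨y, hyI, hynzd⟩ := h2 j hj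
      rw [minorIdeal_map_ringHom]
      apply Ideal.eq_top_of_isUnit_mem _
        (Ideal.mem_map_of_mem (algebraMap R (Localization.AtPrime p)) hyI)
      apply IsLocalization.map_units (Localization.AtPrime p) (⟨y, ?_⟩ : p.primeCompl)
      intro hyp
      exact hpz y hyp hynzd
    have := minorIdeal_eq_bot_of_unit_minors e n
      (fun j => (A j).map (algebraMap R (Localization.AtPrime p)))
      (fun j => by
        rw [← Matrix.map_mul, hA j]
        ext a b; simp)
      (fun j hj => by rw [hz j hj]; ext a b; simp) ρ hρ hρe h2' i hi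
    rwa [minorIdeal_map_ringHom] at this
  have hx1 : algebraMap R (Localization.AtPrime p) x = 0 := by
    have := Ideal.mem_map_of_mem (algebraMap R (Localization.AtPrime p)) hx
    rwa [hloc, Submodule.mem_bot] at this
  obtain ⟨t, ht⟩ := (IsLocalization.map_eq_zero_iff p.primeCompl _ x).1 hx1
  have : (t : R) ∈ p := hle (by
    rw [Submodule.mem_colon_singleton, Submodule.mem_bot, smul_eq_mul]; exact ht)
  exact t.2 this

end global_part

end Groth.Agent.Lib.Helper90.ExLoc
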