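import Mathlib
import Groth.Agent.Lib.Helper99.BEI
import Groth.Agent.Lib.Helper77.CMQuot
import Groth.Agent.Lib.Helper22.CMEquidim
import Groth.Agent.Lib.Helper11.CMUnmixed
import Groth.Agent.Lib.Helper11.CMLocalize

/-!
# Regular sequences inside an ideal of a Cohen–Macaulay local ring (helper90)

In a Cohen–Macaulay local ring `Λ`, a proper ideal `J` contains a regular sequence of length `m`
iff `dim Λ/J + m ≤ dim Λ`.
-/

set_option autoImplicit false
set_option linter.style.haveILetI false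

namespace Groth.Agent.Lib.Helper90.ExLoc

open RingTheory.Sequence IsLocalRing

universe u

theorem isCohenMacaulayRing_of_local (Λ : Type u) [CommRing Λ]
    [LocCoh.IsCohenMacaulayLocalRing Λ] : LocCoh.IsCohenMacaulayRing Λ :=
  { isCohenMacaulayLocalRing_localization := fun p _ =>
      Groth.Agent.Lib.Helper11.CMLocalize.localization_CM Λ p }

/-- easy direction -/
theorem dim_le_of_isRegular (Λ : Type u) [CommRing Λ] [IsLocalRing Λ] [IsNoetherianRing Λ]
    (J : Ideal Λ) (rs : List Λ) (hmem : ∀ r ∈ rs, r ∈ J) (hreg : IsRegular Λ rs) :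
    ringKrullDim (Λ ⧸ J) + (rs.length : WithBot ℕ∞) ≤ ringKrullDim Λ := by
  have h1 := ringKrullDim_add_length_eq_ringKrullDim_of_isRegular rs hreg
  rw [← h1]
  have hle : Ideal.ofList rs ≤ J := by
    unfold Ideal.ofList
    rw [Ideal.span_le]
    intro r hr
    exact hmem r hr
  have h2 : ringKrullDim (Λ ⧸ J) ≤ ringKrullDim (Λ ⧸ Ideal.ofList rs) :=
    ringKrullDim_le_of_surjective (Ideal.Quotient.factor hle) (Ideal.Quotient.factor_surjective hle)
  gcongr

/-- In a Cohen–Macaulay local ring, a proper ideal which is not too big contains a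
non-zero-divisor. -/
theorem exists_isSMulRegular_mem (Λ : Type u) [CommRing Λ] [LocCoh.IsCohenMacaulayLocalRing Λ]
    (J : Ideal Λ) (hJ : J ≠ ⊤)
    (hdim : ringKrullDim (Λ ⧸ J) + 1 ≤ ringKrullDim Λ) :
    ∃ x ∈ J, IsSMulRegular Λ x := by
  classical
  by_contra hno
  push Not at hno
  have hdisj : Disjoint (J : Set Λ) (nonZeroDivisors Λ : Set Λ) :=
    Set.disjoint_left.2 fun x hx hx' =>
      hno x hx (Groth.Agent.Lib.Helper99.BE.isSMulRegular_of_mem_nonZeroDivisors hx')
  obtain ⟨p, hp, hle⟩ : ∃ P ∈ associatedPrimes Λ Λ, J ≤ P :=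
    (J.subset_union_prime_finite (associatedPrimes.finite ..)
      (f := id) 0 0 fun _ h _ _ ↦ h.1).1 <|
    biUnion_associatedPrimes_eq_compl_nonZeroDivisors Λ ▸ hdisj.subset_compl_right
  haveI := isCohenMacaulayRing_of_local Λ
  have hmin : p ∈ minimalPrimes Λ :=
    Groth.Agent.Lib.Helper11.CMUnmixed.mem_minimalPrimes_of_mem_associatedPrimes Λ hp
  have heq : ringKrullDim (Λ ⧸ p) = ringKrullDim Λ :=
    Groth.Agent.Lib.Helper22.CMEquidim.isEquidim_of_isCohenMacaulayLocalRing Λ p hmin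
  have h2 : ringKrullDim (Λ ⧸ p) ≤ ringKrullDim (Λ ⧸ J) :=
    ringKrullDim_le_of_surjective (Ideal.Quotient.factor hle) (Ideal.Quotient.factor_surjective hle)
  obtain ⟨k, hk⟩ := Groth.Agent.Lib.Helper77.FlatDepth.exists_nat_dim Λ
  rw [heq] at h2
  have h3 : ringKrullDim Λ + 1 ≤ ringKrullDim Λ := le_trans (by gcongr) hdim
  rw [hk] at h3
  have : (k : WithBot ℕ∞) + 1 = ((k + 1 : ℕ) : WithBot ℕ∞) := by push_cast; rfl
  rw [this] at h3
  have h4 : k + 1 ≤ k := by exact_mod_cast h3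
  omega

theorem exists_isRegular_of_dim_le : ∀ (m : ℕ) (Λ : Type u) [CommRing Λ]
    [LocCoh.IsCohenMacaulayLocalRing Λ] (J : Ideal Λ) (_ : J ≠ ⊤)
    (_ : ringKrullDim (Λ ⧸ J) + (m : WithBot ℕ∞) ≤ ringKrullDim Λ),
    ∃ rs : List Λ, rs.length = m ∧ (∀ r ∈ rs, r ∈ J) ∧ IsRegular Λ rs := by
  intro m
  induction m with
  | zero =>
    intro Λ _ _ J hJ _
    exact ⟨[], rfl, by simp, IsRegular.nil Λ Λ⟩
  | succ m ih =>
    intro Λ _ _ J hJ hdim
    classical
    have hJm : J ≤ maximalIdeal Λ := le_maximalIdeal hJ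
    haveI : Nontrivial (Λ ⧸ J) := Ideal.Quotient.nontrivial_iff.2 hJ
    haveI : IsLocalRing (Λ ⧸ J) := .of_surjective' _ Ideal.Quotient.mk_surjective
    obtain ⟨a, ha⟩ := Groth.Agent.Lib.Helper77.FlatDepth.exists_nat_dim (Λ ⧸ J)
    obtain ⟨b, hb⟩ := Groth.Agent.Lib.Helper77.FlatDepth.exists_nat_dim Λ
    have hab : a + (m + 1) ≤ b := by
      rw [ha, hb] at hdim
      exact_mod_cast hdim
    obtain ⟨x, hxJ, hxreg⟩ := exists_isSMulRegular_mem Λ J hJ (by
      rw [ha, hb]
      exact_mod_cast (by omega : a + 1 ≤ b))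
    have hxm : x ∈ maximalIdeal Λ := hJm hxJ
    have hCM' : LocCoh.IsCohenMacaulayLocalRing (Λ ⧸ Ideal.span {x}) :=
      Groth.Agent.Lib.Helper77.CMQuot.isCM_quot_of_regular Λ x hxm hxreg _ rfl
    have hd1 := ringKrullDim_quotient_span_singleton_succ_eq_ringKrullDim hxreg hxm
    set mk := Ideal.Quotient.mk (Ideal.span {x}) with hmk
    have hspan : Ideal.span {x} ≤ J := (Ideal.span_singleton_le_iff_mem _).2 hxJ
    have hJ' : J.map mk ≠ ⊤ := by
      intro h
      apply hJ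
      have h2 := congrArg (Ideal.comap mk) h
      rw [Ideal.comap_map_of_surjective mk Ideal.Quotient.mk_surjective, Ideal.comap_top,
        ← RingHom.ker_eq_comap_bot, hmk, Ideal.mk_ker] at h2
      rwa [sup_eq_left.2 hspan] at h2
    let eq1 : ((Λ ⧸ Ideal.span {x}) ⧸ J.map mk) ≃+* Λ ⧸ J :=
      (DoubleQuot.quotQuotEquivQuotSup (Ideal.span {x}) J).trans
        (Ideal.quotEquivOfEq (sup_eq_right.2 hspan))
    have hdimq : ringKrullDim ((Λ ⧸ Ideal.span {x}) ⧸ J.map mk) = a := by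
      rw [ringKrullDim_eq_of_ringEquiv eq1, ha]
    obtain ⟨b', hb'⟩ := Groth.Agent.Lib.Helper77.FlatDepth.exists_nat_dim (Λ ⧸ Ideal.span {x})
    have hbb : b' + 1 = b := by
      rw [hb', hb] at hd1
      exact_mod_cast hd1
    obtain ⟨rsb, hlen, hmem, hreg⟩ := ih (Λ ⧸ Ideal.span {x}) (J.map mk) hJ' (by
      rw [hdimq, hb']
      exact_mod_cast (by omega : a + m ≤ b'))
    -- lift the sequence
    have hl : ∀ rb : Λ ⧸ Ideal.span {x}, ∃ r : Λ, mk r = rb ∧ (rb ∈ J.map mk → r ∈ J) := by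
      intro rb
      by_cases h : rb ∈ J.map mk
      · obtain ⟨r, hr, hr'⟩ :=
          (Ideal.mem_map_iff_of_surjective mk Ideal.Quotient.mk_surjective).1 h
        exact ⟨r, hr', fun _ => hr⟩
      · obtain ⟨r, hr⟩ := Ideal.Quotient.mk_surjective rb
        exact ⟨r, hr, fun h' => absurd h' h⟩
    choose lift hlift1 hlift2 using hl
    have hmap : (rsb.map lift).map mk = rsb := by
      rw [List.map_map]
      conv_rhs => rw [← List.map_id rsb]
      exact List.map_congr_left fun rb _ => hlift1 rb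
    have hmemI : ∀ r ∈ x :: rsb.map lift, r ∈ J := by
      intro r hr
      rcases List.mem_cons.1 hr with rfl | hr
      · exact hxJ
      · obtain ⟨rb, hrb, rfl⟩ := List.mem_map.1 hr
        exact hlift2 rb (hmem rb hrb)
    refine ⟨x :: rsb.map lift, by simp [hlen], hmemI, ?_⟩
    rw [IsLocalRing.isRegular_iff_isWeaklyRegular_of_subset_maximalIdeal
      (fun r hr => hJm (hmemI r hr))]
    apply Groth.Agent.Lib.Helper99.BE.isWeaklyRegular_cons_of_quotient hxreg
    rw [hmap]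
    exact hreg.toIsWeaklyRegular

end Groth.Agent.Lib.Helper90.ExLoc
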