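import Mathlib
import Groth.Agent.Lib.Helper90.ExLoc1
import Groth.Agent.Lib.Helper90.ExLoc2

/-!
# Buchsbaum–Eisenbud over a Cohen–Macaulay local ring, in terms of dimensions (helper90)
-/

set_option autoImplicit false

namespace Groth.Agent.Lib.Helper90.ExLoc

open Matrix RingTheory.Sequence IsLocalRing Groth.Agent.Lib.Helper99.BE

universe u

theorem exists_rank_of_exact (Λ : Type u) [CommRing Λ] [IsNoetherianRing Λ] [Nontrivial Λ]
    (e : ℕ) (n : ℕ → ℕ) (A : ∀ i, Matrix (Fin (n i)) (Fin (n (i + 1))) Λ)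
    (hz : ∀ i, e ≤ i → A i = 0) (hex : Exact e n A) :
    ∃ k : ℕ → ℕ, ∀ i, i ≤ e → (k i : ℤ) = sig n e i := by
  have h : ∀ i, ∃ k : ℕ, i ≤ e → (k : ℤ) = sig n e i := by
    intro i
    by_cases hi : i ≤ e
    · obtain ⟨k, hk, -⟩ := minors_of_exact e n A hz hex i hi
      exact ⟨k, fun _ => hk⟩
    · exact ⟨0, fun h => absurd h hi⟩
  choose k hk using h
  exact ⟨k, hk⟩

theorem exact_iff_dim (Λ : Type u) [CommRing Λ] [LocCoh.IsCohenMacaulayLocalRing Λ]
    (e : ℕ) (n : ℕ → ℕ) (A : ∀ i, Matrix (Fin (n i)) (Fin (n (i + 1))) Λ)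
    (hA : ∀ i, A i * A (i + 1) = 0) (hz : ∀ i, e ≤ i → A i = 0)
    (k : ℕ → ℕ) (hk : ∀ i, i ≤ e → (k i : ℤ) = sig n e i) :
    Exact e n A ↔ ∀ i, i < e → (CAlgX.minorIdeal (A i) (k i) = ⊤ ∨
      ringKrullDim (Λ ⧸ CAlgX.minorIdeal (A i) (k i)) + ((i + 1 : ℕ) : WithBot ℕ∞) ≤
        ringKrullDim Λ) := by
  classical
  constructor
  · intro hex i hi
    rcases grade_of_exact e n A hz hex i hi (k i) (hk i hi.le) with h | ⟨rs, hlen, hmem, hreg⟩
    · exact Or.inl h
    · right
      have := dim_le_of_isRegular Λ _ rs hmem hreg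
      rwa [hlen] at this
  · intro h
    have hρ : ∀ i, i < e → k i + k (i + 1) = n (i + 1) := by
      intro i hi
      have h1 := hk i hi.le
      have h2 := hk (i + 1) (by omega)
      rw [sig_succ n hi, ← h2] at h1
      omega
    have hρe : k e = 0 := by
      have := hk e le_rfl
      rw [sig_self] at this
      exact_mod_cast this
    have hreg : ∀ i, i < e → (CAlgX.minorIdeal (A i) (k i) = ⊤ ∨
        ∃ rs : List Λ, rs.length = i + 1 ∧ (∀ r ∈ rs, r ∈ CAlgX.minorIdeal (A i) (k i)) ∧
          IsRegular Λ rs) := by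
      intro i hi
      rcases h i hi with h1 | h1
      · exact Or.inl h1
      · by_cases htop : CAlgX.minorIdeal (A i) (k i) = ⊤
        · exact Or.inl htop
        · exact Or.inr (exists_isRegular_of_dim_le (i + 1) Λ _ htop h1)
    have hnzd : ∀ i, i < e → ∃ x ∈ CAlgX.minorIdeal (A i) (k i), x ∈ nonZeroDivisors Λ := by
      intro i hi
      rcases hreg i hi with h1 | ⟨rs, hlen, hmem, hr⟩
      · exact ⟨1, by rw [h1]; trivial, one_mem _⟩
      · match rs, hlen, hmem, hr with
        | [], hlen, _, _ => simp at hlen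
        | x :: rs', _, hmem, hr =>
          refine ⟨x, hmem x (List.mem_cons_self), ?_⟩
          have hx : IsSMulRegular Λ x :=
            ((isWeaklyRegular_cons_iff Λ x rs').1 hr.toIsWeaklyRegular).1
          rw [mem_nonZeroDivisors_iff]
          constructor
          · intro z hz0
            apply hx
            simpa using hz0
          · intro z hz0
            apply hx
            rw [mul_comm] at hz0
            simpa using hz0
    apply global_suff e n A hA hz k hρ hρe
    · intro i hi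
      exact minorIdeal_eq_bot_of_nonZeroDivisors e n A hA hz k hρ hρe hnzd i hi
    · intro i hi
      rcases hreg i hi with h1 | ⟨rs, hlen, hmem, hr⟩
      · exact Or.inl h1
      · exact Or.inr ⟨rs, hlen, hmem, hr.toIsWeaklyRegular⟩

end Groth.Agent.Lib.Helper90.ExLoc
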