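import Mathlib
import Groth.Agent.Lib.Helper73.CMFib.RegLocus

/-!
# The locus where an ideal has big codimension in the fibre local rings (helper90)

For `R → S` of finite type with Cohen–Macaulay equidimensional fibres of dimension `d`, an ideal
`J` of `S` and `m : ℕ`, the set of primes `q` of `S` such that `J Λ_q = Λ_q` or
`dim Λ_q / J Λ_q + m ≤ dim Λ_q` (`Λ_q` the fibre local ring at `q`) is open.
-/

set_option autoImplicit false
set_option linter.style.haveILetI false

namespace Groth.Agent.Lib.Helper90.ExLoc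

open CategoryTheory AlgebraicGeometry TopologicalSpace Topology Limits TensorProduct LocCoh
open Groth.Agent.Lib.Helper73

universe u

section

variable (R S : Type u) [CommRing R] [CommRing S] [Algebra R S] [Algebra.FiniteType R S]

/-- the (open) locus -/
def dimLocus (d : ℕ) (J : Ideal S) (m : ℕ) : Set (PrimeSpectrum S) :=
  (PrimeSpectrum.comap (Ideal.Quotient.mk J) ''
    {q' : PrimeSpectrum (S ⧸ J) |
      FlatMor.fibreDimAt (specAlg R (S ⧸ J)) q' + ((m : ℕ) : WithBot ℕ∞) ≤
        ((d : ℕ) : WithBot ℕ∞)}ᶜ)ᶜ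

theorem isOpen_dimLocus (d : ℕ) (J : Ideal S) (m : ℕ) : IsOpen (dimLocus R S d J m) := by
  have hsurj : Function.Surjective (Ideal.Quotient.mk J) := Ideal.Quotient.mk_surjective
  have hemb := PrimeSpectrum.isClosedEmbedding_comap_of_surjective (S ⧸ J)
    (Ideal.Quotient.mk J) hsurj
  have hV : IsOpen {q' : PrimeSpectrum (S ⧸ J) |
      FlatMor.fibreDimAt (specAlg R (S ⧸ J)) q' + ((m : ℕ) : WithBot ℕ∞) ≤
        ((d : ℕ) : WithBot ℕ∞)} := by
    by_cases hmd : m ≤ d
    · have : {q' : PrimeSpectrum (S ⧸ J) |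
          FlatMor.fibreDimAt (specAlg R (S ⧸ J)) q' + ((m : ℕ) : WithBot ℕ∞) ≤
            ((d : ℕ) : WithBot ℕ∞)} =
          {q' : PrimeSpectrum (S ⧸ J) |
            FlatMor.fibreDimAt (specAlg R (S ⧸ J)) q' ≤ ((d - m : ℕ) : WithBot ℕ∞)} := by
        ext q'
        simp only [Set.mem_setOf_eq]
        obtain ⟨k, hk⟩ := exists_nat_fibreDimAt (specAlg R (S ⧸ J)) q'
        rw [hk]
        constructor
        · intro h
          have h' : k + m ≤ d := by exact_mod_cast h
          exact_mod_cast (by omega : k ≤ d - m)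
        · intro h
          have h' : k ≤ d - m := by exact_mod_cast h
          exact_mod_cast (by omega : k + m ≤ d)
      rw [this]
      exact isOpen_fibreDimAt_le (d - m) _ _ (specAlg R (S ⧸ J))
    · have : {q' : PrimeSpectrum (S ⧸ J) |
          FlatMor.fibreDimAt (specAlg R (S ⧸ J)) q' + ((m : ℕ) : WithBot ℕ∞) ≤
            ((d : ℕ) : WithBot ℕ∞)} = ∅ := by
        ext q'
        simp only [Set.mem_setOf_eq, Set.mem_empty_iff_false, iff_false]
        obtain ⟨k, hk⟩ := exists_nat_fibreDimAt (specAlg R (S ⧸ J)) q'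
        rw [hk]
        intro h
        have h' : k + m ≤ d := by exact_mod_cast h
        omega
      rw [this]
      exact isOpen_empty
  exact (hemb.isClosedMap _ hV.isClosed_compl).isOpen_compl

/-- The core computation at a prime of `S ⧸ J`. -/
theorem dim_quot_fibLoc_core (d : ℕ)
    (hCM : ∀ p : PrimeSpectrum R, IsCohenMacaulayRing (p.asIdeal.Fiber S))
    (heq : ∀ p : PrimeSpectrum R, ∀ P ∈ minimalPrimes (p.asIdeal.Fiber S),
      ringKrullDim (p.asIdeal.Fiber S ⧸ P) = (d : WithBot ℕ∞))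
    (J : Ideal S) (m : ℕ) (q' : PrimeSpectrum (S ⧸ J)) :
    J.map (algebraMap S (EGA4.FibLocRing R S (q'.asIdeal.comap (Ideal.Quotient.mk J)))) ≠ ⊤ ∧
    (ringKrullDim (EGA4.FibLocRing R S (q'.asIdeal.comap (Ideal.Quotient.mk J)) ⧸
        J.map (algebraMap S (EGA4.FibLocRing R S (q'.asIdeal.comap (Ideal.Quotient.mk J))))) +
        ((m : ℕ) : WithBot ℕ∞) ≤
        ringKrullDim (EGA4.FibLocRing R S (q'.asIdeal.comap (Ideal.Quotient.mk J))) ↔
      FlatMor.fibreDimAt (specAlg R (S ⧸ J)) q' + ((m : ℕ) : WithBot ℕ∞) ≤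
        ((d : ℕ) : WithBot ℕ∞)) := by
  haveI hCMΛ : IsCohenMacaulayLocalRing (EGA4.FibLocRing R S (q'.asIdeal.comap
      (Ideal.Quotient.mk J))) :=
    isCM_fibLocRing_of_fiber' R S (q'.asIdeal.comap (Ideal.Quotient.mk J))
      (hCM ⟨(q'.asIdeal.comap (Ideal.Quotient.mk J)).comap (algebraMap R S), inferInstance⟩)
  let e : (EGA4.FibLocRing R S (q'.asIdeal.comap (Ideal.Quotient.mk J)) ⧸
      J.map (algebraMap S (EGA4.FibLocRing R S (q'.asIdeal.comap (Ideal.Quotient.mk J))))) ≃+*
        EGA4.FibLocRing R (S ⧸ J) q'.asIdeal :=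
    (Ideal.quotEquivOfEq (ker_fibLocQuotMap R J q'.asIdeal).symm).trans
      (RingHom.quotientKerEquivOfSurjective (fibLocQuotMap_surjective R J q'.asIdeal))
  haveI : IsLocalRing (EGA4.FibLocRing R (S ⧸ J) q'.asIdeal) :=
    Groth.Agent.Lib.Helper77.FlatDepth.fibLoc_isLocalRing R _ q'.asIdeal
  haveI : IsNoetherianRing (EGA4.FibLocRing R (S ⧸ J) q'.asIdeal) :=
    isNoetherianRing_of_surjective _ _ (fibLocQuotMap R J q'.asIdeal)
      (fibLocQuotMap_surjective R J q'.asIdeal)
  constructor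
  · rw [← Ideal.Quotient.nontrivial_iff]
    exact e.symm.injective.nontrivial
  · rw [ringKrullDim_eq_of_ringEquiv e]
    have hD := fibreDimAt_eq_of_equidim R S d heq (PrimeSpectrum.comap (Ideal.Quotient.mk J) q')
    rw [fibreDimAt_eq (specAlg R S) (PrimeSpectrum.comap (Ideal.Quotient.mk J) q'),
      ringKrullDim_eq_of_ringEquiv
        (fiberStalkSpecEquiv R (PrimeSpectrum.comap (Ideal.Quotient.mk J) q'))] at hD
    have hD' := fibreDimAt_specAlg_quot' R S J q'
    obtain ⟨a, ha⟩ := Groth.Agent.Lib.Helper77.FlatDepth.exists_nat_dim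
      (EGA4.FibLocRing R S (q'.asIdeal.comap (Ideal.Quotient.mk J)))
    obtain ⟨a', ha'⟩ := Groth.Agent.Lib.Helper77.FlatDepth.exists_nat_dim
      (EGA4.FibLocRing R (S ⧸ J) q'.asIdeal)
    have ha2 : ringKrullDim (EGA4.FibLocRing R S
        (PrimeSpectrum.comap (Ideal.Quotient.mk J) q').asIdeal) = a := ha
    rw [ha2] at hD
    rw [hD', ha', ha]
    have hD2 : a + resTrdegNat (specAlg R S) (PrimeSpectrum.comap (Ideal.Quotient.mk J) q') = d := by
      exact_mod_cast hD
    constructor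
    · intro h
      have h' : a' + m ≤ a := by exact_mod_cast h
      exact_mod_cast (by omega : a' +
        resTrdegNat (specAlg R S) (PrimeSpectrum.comap (Ideal.Quotient.mk J) q') + m ≤ d)
    · intro h
      have h' : a' + resTrdegNat (specAlg R S) (PrimeSpectrum.comap (Ideal.Quotient.mk J) q') +
          m ≤ d := by exact_mod_cast h
      exact_mod_cast (by omega : a' + m ≤ a)

theorem mem_dimLocus_iff (d : ℕ)
    (hCM : ∀ p : PrimeSpectrum R, IsCohenMacaulayRing (p.asIdeal.Fiber S))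
    (heq : ∀ p : PrimeSpectrum R, ∀ P ∈ minimalPrimes (p.asIdeal.Fiber S),
      ringKrullDim (p.asIdeal.Fiber S ⧸ P) = (d : WithBot ℕ∞))
    (J : Ideal S) (m : ℕ) (q : PrimeSpectrum S) :
    q ∈ dimLocus R S d J m ↔
      (J.map (algebraMap S (EGA4.FibLocRing R S q.asIdeal)) = ⊤ ∨
        ringKrullDim (EGA4.FibLocRing R S q.asIdeal ⧸
          J.map (algebraMap S (EGA4.FibLocRing R S q.asIdeal))) + ((m : ℕ) : WithBot ℕ∞) ≤
          ringKrullDim (EGA4.FibLocRing R S q.asIdeal)) := by
  have hsurj : Function.Surjective (Ideal.Quotient.mk J) := Ideal.Quotient.mk_surjective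
  have hemb := PrimeSpectrum.isClosedEmbedding_comap_of_surjective (S ⧸ J)
    (Ideal.Quotient.mk J) hsurj
  by_cases hJq : J ≤ q.asIdeal
  · have : q ∈ Set.range (PrimeSpectrum.comap (Ideal.Quotient.mk J)) := by
      rw [range_comap_of_surjective _ _ hsurj, Ideal.mk_ker]
      exact hJq
    obtain ⟨q', rfl⟩ := this
    obtain ⟨h1, h2⟩ := dim_quot_fibLoc_core R S d hCM heq J m q'
    unfold dimLocus
    rw [Set.mem_compl_iff, hemb.injective.mem_set_image, Set.mem_compl_iff, not_not,
      Set.mem_setOf_eq]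
    constructor
    · intro h
      exact Or.inr (h2.2 h)
    · rintro (h | h)
      · exact absurd h h1
      · exact h2.1 h
  · have hl : q ∈ dimLocus R S d J m := by
      unfold dimLocus
      rw [Set.mem_compl_iff]
      rintro ⟨q', -, rfl⟩
      apply hJq
      intro x hx
      change Ideal.Quotient.mk J x ∈ q'.asIdeal
      rw [Ideal.Quotient.eq_zero_iff_mem.mpr hx]
      exact zero_mem _
    have hr : J.map (algebraMap S (EGA4.FibLocRing R S q.asIdeal)) = ⊤ := by
      obtain ⟨x, hxJ, hxq⟩ := Set.not_subset.1 hJq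
      apply Ideal.eq_top_of_isUnit_mem _
        (Ideal.mem_map_of_mem (algebraMap S (EGA4.FibLocRing R S q.asIdeal)) hxJ)
      have hu : IsUnit (algebraMap S (Localization.AtPrime q.asIdeal) x) :=
        IsLocalization.map_units (Localization.AtPrime q.asIdeal) (⟨x, hxq⟩ : q.asIdeal.primeCompl)
      have := hu.map (Ideal.Quotient.mk ((q.asIdeal.comap (algebraMap R S)).map
        (algebraMap R (Localization.AtPrime q.asIdeal))))
      exact this
    exact ⟨fun _ => Or.inl hr, fun _ => hl⟩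

end

end Groth.Agent.Lib.Helper90.ExLoc
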