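import Mathlib
import Groth.Prelude.Def_IntMult
import Groth.Agent.Lib.Helper90.CycOne2
import Groth.Agent.Lib.Helper90.CycOne3
import Groth.Agent.Lib.Helper90.InterDim1
import Groth.Agent.Lib.Helper64.StalkIdeal

/-!
# Lengths of local rings under flat base change; base change of a closed immersion (helper90)
-/

set_option autoImplicit false
universe u

open AlgebraicGeometry CategoryTheory Limits IsLocalRing TensorProduct
open Groth.Agent.Lib.Helper64.StalkSpec Groth.Agent.Lib.Helper64.StalkIdeal

namespace Groth.Agent.Lib.Helper90.FBaseLen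

section Ring

variable {A C : Type u} [CommRing A] [CommRing C] [IsLocalRing A] [IsLocalRing C] [Algebra A C]
  [IsLocalHom (algebraMap A C)] [Module.Flat A C]

/-- `ℓ_C(C) = ℓ_A(A) · ℓ_C(C/𝔪_A C)` for a flat local homomorphism `A → C` -/
theorem length_self_eq_mul :
    Module.length C C = Module.length A A *
      Module.length C (C ⧸ (maximalIdeal A).map (algebraMap A C)) := by
  rw [← IsLocalRing.length_baseChange A C A]
  exact (TensorProduct.AlgebraTensorModule.rid A C C).symm.length_eq

end Ring

section Sch

variable {X Y Z S T W : Scheme.{u}}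

/-- the length of the local ring of a closed subscheme, computed in the ambient local ring -/
theorem length_stalk_eq (j : Z ⟶ Y) [IsClosedImmersion j] (z : Z) :
    Module.length (Z.presheaf.stalk z) (Z.presheaf.stalk z) =
      Module.length (Y.presheaf.stalk (j z))
        (Y.presheaf.stalk (j z) ⧸ IntMult.stalkIdeal j.ker (j z)) := by
  letI : Algebra (Y.presheaf.stalk (j z)) (Z.presheaf.stalk z) := (j.stalkMap z).hom.toAlgebra
  have hsurj : Function.Surjective (algebraMap (Y.presheaf.stalk (j z)) (Z.presheaf.stalk z)) :=
    j.stalkMap_surjective z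
  rw [← Module.length_eq_of_surjective hsurj, DiagSch.stalkIdeal_ker]
  have hs' : Function.Surjective (Algebra.linearMap (Y.presheaf.stalk (j z)) (Z.presheaf.stalk z)) :=
    hsurj
  exact ((Algebra.linearMap (Y.presheaf.stalk (j z))
    (Z.presheaf.stalk z)).quotKerEquivOfSurjective hs').symm.length_eq

theorem length_stalk_eq' (j : Z ⟶ Y) [IsClosedImmersion j] (z : Z) (y : Y) (h : j z = y) :
    Module.length (Z.presheaf.stalk z) (Z.presheaf.stalk z) =
      Module.length (Y.presheaf.stalk y) (Y.presheaf.stalk y ⧸ IntMult.stalkIdeal j.ker y) := by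
  subst h
  exact length_stalk_eq j z

/-- the base change of a closed immersion `i : W → X'` along `X' ×_S T → X'`, written as a map of
fibre products over `S` -/
theorem ker_pullback_map (g' : X ⟶ S) (s : T ⟶ S) (i : W ⟶ X) [IsClosedImmersion i] :
    IsClosedImmersion (pullback.map (i ≫ g') s g' s i (𝟙 _) (𝟙 _) (Category.comp_id _)
      ((Category.comp_id _).trans (Category.id_comp _).symm)) ∧
    (pullback.map (i ≫ g') s g' s i (𝟙 _) (𝟙 _) (Category.comp_id _)
      ((Category.comp_id _).trans (Category.id_comp _).symm)).ker =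
      i.ker.comap (pullback.fst g' s) := by
  set j := pullback.map (i ≫ g') s g' s i (𝟙 _) (𝟙 _) (Category.comp_id _)
      ((Category.comp_id _).trans (Category.id_comp _).symm) with hj
  let e : pullback (i ≫ g') s ≅ pullback (pullback.fst g' s) i :=
    (pullbackRightPullbackFstIso g' s i).symm ≪≫ pullbackSymmetry _ _
  have he : j = e.hom ≫ pullback.fst (pullback.fst g' s) i := by
    apply pullback.hom_ext
    · simp only [e, j, Iso.trans_hom, Iso.symm_hom, Category.assoc, pullbackSymmetry_hom_comp_fst,
        pullbackRightPullbackFstIso_inv_snd_fst]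
      exact pullback.lift_fst _ _ _
    · simp only [e, j, Iso.trans_hom, Iso.symm_hom, Category.assoc, pullbackSymmetry_hom_comp_fst,
        pullbackRightPullbackFstIso_inv_snd_snd]
      exact (pullback.lift_snd _ _ _).trans (Category.comp_id _)
  constructor
  · rw [he]
    infer_instance
  · rw [he, Scheme.Hom.ker_comp_of_isIso, Scheme.IdealSheafData.ker_fst_of_isClosedImmersion]

/-- at a point without proper generizations the stalk of the nilradical is the maximal ideal -/
theorem stalkIdeal_nilradical (x : X) (hx : ∀ z : X, z ⤳ x → z = x) :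
    IntMult.stalkIdeal X.nilradical x = maximalIdeal (X.presheaf.stalk x) := by
  set N := X.nilradical with hN
  have hNv : N = Scheme.IdealSheafData.vanishingIdeal ⊤ :=
    Scheme.IdealSheafData.vanishingIdeal_top.symm
  haveI : IsReduced N.subscheme := by
    rw [hNv]; exact InterDim.isReduced_subscheme_vanishingIdeal ⊤
  have hxs : x ∈ Set.range N.subschemeι := by
    rw [N.range_subschemeι, hNv, Scheme.IdealSheafData.coe_support_vanishingIdeal]
    trivial
  obtain ⟨y, hy⟩ := hxs
  obtain ⟨e₀⟩ := CycOne.nonempty_stalkRingEquiv N.subschemeι y x hy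
  have hker : IntMult.stalkIdeal N.subschemeι.ker x = IntMult.stalkIdeal N x := by
    rw [Scheme.IdealSheafData.ker_subschemeι]
  set J := IntMult.stalkIdeal N x with hJ
  let e : (X.presheaf.stalk x ⧸ J) ≃+* N.subscheme.presheaf.stalk y :=
    (Ideal.quotEquivOfEq hker.symm).trans e₀
  haveI : _root_.IsReduced (X.presheaf.stalk x ⧸ J) :=
    isReduced_of_injective e.toRingHom e.injective
  have hrad : J.IsRadical := (Ideal.isRadical_iff_quotient_reduced J).mpr inferInstance
  have hJtop : J ≠ ⊤ := by
    intro h
    have : Subsingleton (X.presheaf.stalk x ⧸ J) := by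
      rw [h]; exact Ideal.Quotient.subsingleton_iff.mpr rfl
    have : Subsingleton (N.subscheme.presheaf.stalk y) := e.symm.injective.subsingleton
    exact not_subsingleton _ this
  have hJle : J ≤ maximalIdeal (X.presheaf.stalk x) := le_maximalIdeal hJtop
  apply le_antisymm hJle
  rw [← hrad.radical, Ideal.radical_eq_sInf]
  apply le_sInf
  rintro P ⟨-, hP⟩
  haveI := hP
  obtain ⟨ζ, hζ, hζe⟩ := exists_specializes_primeOf_eq x P
  have := hx ζ hζ
  subst this
  rw [← hζe, primeOf_refl]

end Sch

end Groth.Agent.Lib.Helper90.FBaseLen
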