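import Mathlib
import Groth.Agent.Lib.Helper90.FBaseLen1
import Groth.Agent.Lib.Helper90.DiagSch1

/-!
# Length of the local ring at a maximal point of a flat base change (helper90)
-/

set_option autoImplicit false
universe u

open AlgebraicGeometry CategoryTheory Limits IsLocalRing

namespace Groth.Agent.Lib.Helper90.FBaseLen

variable {X' S T : Scheme.{u}}

theorem flat_spec_field {k' k'' : Type u} [Field k'] [Field k''] [Algebra k' k''] :
    Flat (Spec.map (CommRingCat.ofHom (algebraMap k' k''))) := by
  have : Subsingleton ↥(Spec (CommRingCat.of k')) :=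
    inferInstanceAs (Subsingleton (PrimeSpectrum k'))
  infer_instance

theorem maximal_fst (g' : X' ⟶ S) (s : T ⟶ S) [Flat s] (x'' : ↥(pullback g' s))
    (hx'' : ∀ z, z ⤳ x'' → z = x'') :
    ∀ t : X', t ⤳ pullback.fst g' s x'' → t = pullback.fst g' s x'' := by
  intro t ht
  obtain ⟨t', ht', hπ⟩ := Flat.generalizingMap (pullback.fst g' s) ht
  rw [← hπ, hx'' t' ht']

theorem length_bc_eq_mul (g' : X' ⟶ S) (s : T ⟶ S) [Flat s] (x'' : ↥(pullback g' s))
    (hx'' : ∀ z, z ⤳ x'' → z = x'')
    (z'' : ↥(pullback (X'.nilradical.subschemeι ≫ g') s))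
    (hz'' : pullback.map (X'.nilradical.subschemeι ≫ g') s g' s X'.nilradical.subschemeι (𝟙 _) (𝟙 _)
        (Category.comp_id _) ((Category.comp_id _).trans (Category.id_comp _).symm) z'' = x'') :
    Module.length ((pullback g' s).presheaf.stalk x'') ((pullback g' s).presheaf.stalk x'') =
      Module.length (X'.presheaf.stalk (pullback.fst g' s x''))
        (X'.presheaf.stalk (pullback.fst g' s x'')) *
      Module.length ((pullback (X'.nilradical.subschemeι ≫ g') s).presheaf.stalk z'')
        ((pullback (X'.nilradical.subschemeι ≫ g') s).presheaf.stalk z'') := by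
  obtain ⟨hjci, hjker⟩ := ker_pullback_map g' s X'.nilradical.subschemeι
  haveI := hjci
  have hmax := maximal_fst g' s x'' hx''
  rw [length_stalk_eq' _ z'' x'' hz'', hjker, Scheme.IdealSheafData.ker_subschemeι,
    DiagSch.stalkIdeal_comap, stalkIdeal_nilradical _ hmax]
  letI : Algebra (X'.presheaf.stalk (pullback.fst g' s x'')) ((pullback g' s).presheaf.stalk x'') :=
    ((pullback.fst g' s).stalkMap x'').hom.toAlgebra
  haveI : IsLocalHom (algebraMap (X'.presheaf.stalk (pullback.fst g' s x''))
      ((pullback g' s).presheaf.stalk x'')) := by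
    change IsLocalHom ((pullback.fst g' s).stalkMap x'').hom
    infer_instance
  haveI : Module.Flat (X'.presheaf.stalk (pullback.fst g' s x''))
      ((pullback g' s).presheaf.stalk x'') :=
    Flat.stalkMap (pullback.fst g' s) x''
  exact length_self_eq_mul

end Groth.Agent.Lib.Helper90.FBaseLen
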