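import Mathlib
import Groth.Agent.Lib.Helper90.FBaseLen2

/-!
# Length of the local ring at a maximal point under a geometrically reduced flat base change
(helper90)
-/

set_option autoImplicit false
universe u

open AlgebraicGeometry CategoryTheory Limits IsLocalRing
open Groth.Agent.Lib.Helper64.StalkSpec Groth.Agent.Lib.Helper64.StalkIdeal

namespace Groth.Agent.Lib.Helper90.FBaseLen

variable {X' S T Y : Scheme.{u}}

/-- a reduced local ring at a point without proper generizations is a field -/
theorem length_stalk_eq_one_of_isReduced (y : Y) (hy : ∀ z : Y, z ⤳ y → z = y)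
    [_root_.IsReduced (Y.presheaf.stalk y)] :
    Module.length (Y.presheaf.stalk y) (Y.presheaf.stalk y) = 1 := by
  apply CycOne.length_self_eq_one_of_isField
  rw [IsLocalRing.isField_iff_maximalIdeal_eq]
  have h1 : nilradical (Y.presheaf.stalk y) = maximalIdeal (Y.presheaf.stalk y) := by
    apply le_antisymm
    · exact (nilradical_le_prime (maximalIdeal (Y.presheaf.stalk y)))
    · rw [nilradical_eq_sInf]
      apply le_sInf
      intro P hP
      haveI : P.IsPrime := hP
      obtain ⟨ζ, hζ, hζe⟩ := exists_specializes_primeOf_eq y P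
      have := hy ζ hζ
      subst this
      rw [← hζe, primeOf_refl]
  rw [← h1]
  exact nilradical_eq_zero _

theorem length_bc_eq (g' : X' ⟶ S) (s : T ⟶ S) [Flat s] [GeometricallyReduced s]
    [IsLocallyNoetherian X'] (x'' : ↥(pullback g' s)) (hx'' : ∀ z, z ⤳ x'' → z = x'') :
    Module.length ((pullback g' s).presheaf.stalk x'') ((pullback g' s).presheaf.stalk x'') =
      Module.length (X'.presheaf.stalk (pullback.fst g' s x''))
        (X'.presheaf.stalk (pullback.fst g' s x'')) := by
  obtain ⟨hjci, hjker⟩ := ker_pullback_map g' s X'.nilradical.subschemeι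
  haveI := hjci
  set j := pullback.map (X'.nilradical.subschemeι ≫ g') s g' s X'.nilradical.subschemeι (𝟙 _) (𝟙 _)
        (Category.comp_id _) ((Category.comp_id _).trans (Category.id_comp _).symm) with hj
  -- `j` is surjective
  have hx : x'' ∈ Set.range j := by
    have h1 : Set.range j = (j.ker.support : Set ↥(pullback g' s)) := by
      rw [Scheme.Hom.support_ker]
      exact (j.isClosedEmbedding.isClosed_range.closure_eq).symm
    rw [h1, hjker, Scheme.IdealSheafData.ker_subschemeι, Scheme.IdealSheafData.support_comap,
      Scheme.support_nilradical]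
    trivial
  obtain ⟨z'', hz''⟩ := hx
  have hzmax : ∀ z, z ⤳ z'' → z = z'' := by
    intro z hz
    have h2 : j z ⤳ j z'' := hz.map j.continuous
    rw [hz''] at h2
    have h3 := hx'' _ h2
    exact j.isClosedEmbedding.injective (h3.trans hz''.symm)
  haveI : IsReduced X'.nilradical.subscheme := by
    have hNv : X'.nilradical = Scheme.IdealSheafData.vanishingIdeal ⊤ :=
      Scheme.IdealSheafData.vanishingIdeal_top.symm
    rw [hNv]; exact InterDim.isReduced_subscheme_vanishingIdeal ⊤
  haveI : IsLocallyNoetherian X'.nilradical.subscheme :=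
    LocallyOfFiniteType.isLocallyNoetherian X'.nilradical.subschemeι
  haveI : IsReduced (pullback (X'.nilradical.subschemeι ≫ g') s) := inferInstance
  rw [length_bc_eq_mul g' s x'' hx'' z'' hz'', length_stalk_eq_one_of_isReduced z'' hzmax, mul_one]

end Groth.Agent.Lib.Helper90.FBaseLen
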