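import Mathlib

set_option autoImplicit false
set_option linter.style.haveILetI false
universe u

namespace Groth.Agent.Lib.Helper90.FibInj

open TensorProduct

section principle

variable {A T : Type*} [CommRing A] [CommRing T] [Algebra A T]
  {M₁ N₁ P Q : Type*} [AddCommGroup M₁] [Module A M₁] [AddCommGroup N₁] [Module A N₁]
  [AddCommGroup P] [Module A P] [Module T P] [IsScalarTower A T P]
  [AddCommGroup Q] [Module A Q] [Module T Q] [IsScalarTower A T Q]

/-- A `T`-linear map between two base changes, compatible with `w₁`, is injective iff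
`w₁.baseChange T` is. -/
theorem injective_iff_baseChange {j : M₁ →ₗ[A] P} (hj : IsBaseChange T j)
    {j' : N₁ →ₗ[A] Q} (hj' : IsBaseChange T j') (w₁ : M₁ →ₗ[A] N₁) (φ : P →ₗ[T] Q)
    (hφ : ∀ x, φ (j x) = j' (w₁ x)) :
    Function.Injective φ ↔ Function.Injective (w₁.baseChange T) := by
  have key : φ ∘ₗ hj.equiv.toLinearMap = hj'.equiv.toLinearMap ∘ₗ (w₁.baseChange T) := by
    apply TensorProduct.AlgebraTensorModule.curry_injective
    ext x
    simp [IsBaseChange.equiv_tmul, hφ]
  have key' : ∀ z, φ (hj.equiv z) = hj'.equiv (w₁.baseChange T z) := fun z =>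
    LinearMap.congr_fun key z
  constructor
  · intro h a b hab
    apply hj.equiv.injective
    apply h
    rw [key', key', hab]
  · intro h a b hab
    obtain ⟨a', rfl⟩ := hj.equiv.surjective a
    obtain ⟨b', rfl⟩ := hj.equiv.surjective b
    rw [key', key'] at hab
    rw [h (hj'.equiv.injective hab)]

end principle

section pushout

variable {k₁ R S₁ S : Type*} [CommRing k₁] [CommRing R] [CommRing S₁] [CommRing S]
  [Algebra k₁ R] [Algebra R S] [Algebra k₁ S₁] [Algebra S₁ S] [Algebra k₁ S]
  [IsScalarTower k₁ R S] [IsScalarTower k₁ S₁ S] [Algebra.IsPushout k₁ R S₁ S]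
  {M₁ M : Type*} [AddCommGroup M₁] [Module S₁ M₁] [Module k₁ M₁] [IsScalarTower k₁ S₁ M₁]
  [AddCommGroup M] [Module S M] [Module R M] [IsScalarTower R S M]
  [Module S₁ M] [IsScalarTower S₁ S M] [Module k₁ M] [IsScalarTower k₁ R M]
  [IsScalarTower k₁ S₁ M]

/-- Over a pushout square, a base change of modules along `S₁ → S` is a base change along
`k₁ → R`. -/
theorem isBaseChange_restrictScalars (fM : M₁ →ₗ[S₁] M) (hfM : IsBaseChange S fM) :
    IsBaseChange R (fM.restrictScalars k₁) := by
  let e : R ⊗[k₁] M₁ ≃ₗ[R] M :=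
    (Algebra.IsPushout.cancelBaseChange k₁ R S₁ S M₁).symm.trans (hfM.equiv.restrictScalars R)
  refine IsBaseChange.of_equiv e fun x => ?_
  show hfM.equiv ((Algebra.IsPushout.cancelBaseChange k₁ R S₁ S M₁).symm ((1 : R) ⊗ₜ[k₁] x)) = _
  rw [Algebra.IsPushout.cancelBaseChange_symm_tmul, map_one, IsBaseChange.equiv_tmul, one_smul]
  rfl

end pushout

section tower

/-- the `k₁`-structure through `R` is compatible with the `S₁`-structure. -/
theorem isScalarTower_compHom (k₁ R S₁ S : Type*) [CommRing k₁] [CommRing R] [CommRing S₁]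
    [CommRing S] [Algebra k₁ R] [Algebra R S] [Algebra k₁ S₁] [Algebra S₁ S] [Algebra k₁ S]
    [IsScalarTower k₁ R S] [IsScalarTower k₁ S₁ S]
    (M : Type*) [AddCommGroup M] [Module S M] [Module R M] [IsScalarTower R S M]
    [Module S₁ M] [IsScalarTower S₁ S M] :
    letI : Module k₁ M := Module.compHom M (algebraMap k₁ R)
    IsScalarTower k₁ S₁ M := by
  letI : Module k₁ M := Module.compHom M (algebraMap k₁ R)
  refine ⟨fun a s m => ?_⟩
  show (a • s) • m = algebraMap k₁ R a • (s • m)
  rw [← algebraMap_smul S (a • s) m, ← algebraMap_smul S (algebraMap k₁ R a) (s • m),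
    ← algebraMap_smul S s m, Algebra.smul_def, map_mul, mul_smul,
    ← IsScalarTower.algebraMap_apply k₁ S₁ S, ← IsScalarTower.algebraMap_apply k₁ R S]

end tower

section fibre

variable {k₁ R S₁ S : Type u} [CommRing k₁] [CommRing R] [CommRing S₁] [CommRing S]
  [Algebra k₁ R] [Algebra R S] [Algebra k₁ S₁] [Algebra S₁ S] [Algebra k₁ S]
  [IsScalarTower k₁ R S] [IsScalarTower k₁ S₁ S] [Algebra.IsPushout k₁ R S₁ S]
  {M₁ M N₁ N : Type u}
  [AddCommGroup M₁] [Module S₁ M₁] [Module k₁ M₁] [IsScalarTower k₁ S₁ M₁]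
  [AddCommGroup N₁] [Module S₁ N₁] [Module k₁ N₁] [IsScalarTower k₁ S₁ N₁]
  [AddCommGroup M] [Module S M] [Module R M] [IsScalarTower R S M]
  [Module S₁ M] [IsScalarTower S₁ S M]
  [AddCommGroup N] [Module S N] [Module R N] [IsScalarTower R S N]
  [Module S₁ N] [IsScalarTower S₁ S N]

/-- **Fibre comparison.** If `w` is the base change of `w₁` along a pushout square, then the
fibre of `w` at a prime `p` of `R` is injective iff the fibre of `w₁` at the contraction of `p`
is. -/
theorem fibre_injective_iff (fM : M₁ →ₗ[S₁] M) (hfM : IsBaseChange S fM)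
    (fN : N₁ →ₗ[S₁] N) (hfN : IsBaseChange S fN) (w : M →ₗ[S] N) (w₁ : M₁ →ₗ[S₁] N₁)
    (hw : ∀ x, w (fM x) = fN (w₁ x)) (p : Ideal R) [p.IsPrime] (q : Ideal k₁) [q.IsPrime]
    (hq : q = p.comap (algebraMap k₁ R)) :
    Function.Injective ((w.restrictScalars R).baseChange p.ResidueField) ↔
      Function.Injective ((w₁.restrictScalars k₁).baseChange q.ResidueField) := by
  letI : Module k₁ M := Module.compHom M (algebraMap k₁ R)
  haveI : IsScalarTower k₁ R M := IsScalarTower.of_algebraMap_smul fun _ _ => rfl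
  haveI : IsScalarTower k₁ S₁ M := isScalarTower_compHom k₁ R S₁ S _
  letI : Module k₁ N := Module.compHom N (algebraMap k₁ R)
  haveI : IsScalarTower k₁ R N := IsScalarTower.of_algebraMap_smul fun _ _ => rfl
  haveI : IsScalarTower k₁ S₁ N := isScalarTower_compHom k₁ R S₁ S _
  letI : Algebra q.ResidueField p.ResidueField :=
    (Ideal.ResidueField.map q p (algebraMap k₁ R) hq).toAlgebra
  haveI : IsScalarTower k₁ q.ResidueField p.ResidueField :=
    IsScalarTower.of_algebraMap_eq fun a => by
      show algebraMap k₁ p.ResidueField a =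
        Ideal.ResidueField.map q p (algebraMap k₁ R) hq (algebraMap k₁ q.ResidueField a)
      rw [Ideal.ResidueField.map_algebraMap, ← IsScalarTower.algebraMap_apply]
  have hM : IsBaseChange R (fM.restrictScalars k₁) := isBaseChange_restrictScalars fM hfM
  have hN : IsBaseChange R (fN.restrictScalars k₁) := isBaseChange_restrictScalars fN hfN
  -- step 1
  have h1M := hM.comp (TensorProduct.isBaseChange R M p.ResidueField)
  have h1N := hN.comp (TensorProduct.isBaseChange R N p.ResidueField)
  have e1 := injective_iff_baseChange h1M h1N (w₁.restrictScalars k₁)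
    ((w.restrictScalars R).baseChange p.ResidueField) (fun x => by
      simp [hw])
  -- step 2
  have h2M := (TensorProduct.isBaseChange k₁ M₁ q.ResidueField).comp
    (TensorProduct.isBaseChange q.ResidueField (q.ResidueField ⊗[k₁] M₁) p.ResidueField)
  have h2N := (TensorProduct.isBaseChange k₁ N₁ q.ResidueField).comp
    (TensorProduct.isBaseChange q.ResidueField (q.ResidueField ⊗[k₁] N₁) p.ResidueField)
  have e2 := injective_iff_baseChange h2M h2N (w₁.restrictScalars k₁)
    (((w₁.restrictScalars k₁).baseChange q.ResidueField).baseChange p.ResidueField) (fun x => by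
      simp)
  rw [e1, ← e2]
  exact Module.FaithfullyFlat.lTensor_injective_iff_injective q.ResidueField p.ResidueField _

end fibre

end Groth.Agent.Lib.Helper90.FibInj
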