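import Mathlib
import Groth.Agent.S4801

/-!
# Generic dichotomy for fibrewise injectivity over a Noetherian domain
-/

set_option autoImplicit false
set_option linter.style.haveILetI false
set_option linter.unusedSectionVars false
universe u

namespace Groth.Agent.Lib.Helper90.FibInj

open TensorProduct Groth.Agent.Lib.Helper18

section genbasis

variable {D : Type u} [CommRing D] {Q : Type u} [AddCommGroup Q] [Module D Q]

/-- An element of a generic basis stays nonzero in every fibre where `f` is invertible. -/
theorem one_tmul_ne_zero_of_isGenBasis {f : D} {ι : Type*} {m : ι → Q} (hm : IsGenBasis f m)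
    (i₀ : ι) (κ : Type u) [CommRing κ] [Nontrivial κ] [Algebra D κ]
    (hf : IsUnit (algebraMap D κ f)) : (1 : κ) ⊗ₜ[D] m i₀ ≠ 0 := by
  classical
  letI : Algebra (Localization.Away f) κ := (IsLocalization.Away.lift f hf).toAlgebra
  haveI : IsScalarTower D (Localization.Away f) κ :=
    IsScalarTower.of_algebraMap_eq (fun r => (IsLocalization.Away.lift_eq f hf r).symm)
  let g := LocalizedModule.mkLinearMap (Submonoid.powers f) Q
  let b : Module.Basis ι (Localization.Away f) (LocalizedModule (Submonoid.powers f) Q) :=
    Module.Basis.mk (hm.linearIndependent_localized (Localization.Away f) g)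
      (hm.span_localized (Localization.Away f) g)
  have hb : b i₀ = g (m i₀) := by
    simp [b]
  let ψ : Q →ₗ[D] κ :=
    ((Algebra.linearMap (Localization.Away f) κ).restrictScalars D) ∘ₗ
      ((b.coord i₀).restrictScalars D) ∘ₗ g
  have hψ : ψ (m i₀) = 1 := by
    show algebraMap (Localization.Away f) κ (b.coord i₀ (g (m i₀))) = 1
    rw [← hb, Module.Basis.coord_apply, Module.Basis.repr_self, Finsupp.single_eq_same, map_one]
  intro h0
  have := congrArg (LinearMap.liftBaseChange κ ψ) h0
  rw [LinearMap.liftBaseChange_tmul, hψ, one_smul, map_zero] at this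
  exact one_ne_zero this

end genbasis

section dich

variable {D S : Type u} [CommRing D] [IsDomain D] [IsNoetherianRing D] [CommRing S] [Algebra D S]
  [Algebra.FiniteType D S]
  {M N : Type u} [AddCommGroup M] [Module S M] [Module D M] [IsScalarTower D S M]
  [Module.Finite S M]
  [AddCommGroup N] [Module S N] [Module D N] [IsScalarTower D S N] [Module.Finite S N]

/-- generic injectivity spreads out. -/
theorem exists_injective_of_generic (w : M →ₗ[S] N)
    (h : Function.Injective ((w.restrictScalars D).baseChange (FractionRing D))) :
    ∃ f : D, f ≠ 0 ∧ ∀ p : PrimeSpectrum D, f ∉ p.asIdeal →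
      Function.Injective ((w.restrictScalars D).baseChange p.asIdeal.ResidueField) := by
  haveI : IsNoetherianRing S := Algebra.FiniteType.isNoetherianRing D S
  haveI : Algebra.FinitePresentation D S := Algebra.FinitePresentation.of_finiteType.mp inferInstance
  haveI : Module.FinitePresentation S M := Module.finitePresentation_of_finite S M
  haveI : Module.FinitePresentation S N := Module.finitePresentation_of_finite S N
  haveI : Module.FinitePresentation S PUnit.{u+1} := Module.finitePresentation_of_finite S _
  obtain ⟨f, hf, H⟩ := Groth.Agent.S4801.result (R := D) (B := S) (F := PUnit.{u+1})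
    (0 : PUnit.{u+1} →ₗ[S] M) w (by
      have : ((0 : PUnit.{u+1} →ₗ[S] M).restrictScalars D).baseChange (FractionRing D) = 0 := by
        ext x
        simp
      rw [this]
      exact (LinearMap.exact_zero_iff_injective _ _).2 h)
  refine ⟨f, hf, fun p hp => ?_⟩
  have h1 := H p hp
  have : ((0 : PUnit.{u+1} →ₗ[S] M).restrictScalars D).baseChange p.asIdeal.ResidueField = 0 := by
    ext x
    simp
  rw [this] at h1
  exact (LinearMap.exact_zero_iff_injective _ _).1 h1

/-- generic non-injectivity spreads out. -/
theorem exists_not_injective_of_generic (w : M →ₗ[S] N)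
    (h : ¬ Function.Injective ((w.restrictScalars D).baseChange (FractionRing D))) :
    ∃ f : D, f ≠ 0 ∧ ∀ p : PrimeSpectrum D, f ∉ p.asIdeal →
      ¬ Function.Injective ((w.restrictScalars D).baseChange p.asIdeal.ResidueField) := by
  classical
  haveI : IsNoetherianRing S := Algebra.FiniteType.isNoetherianRing D S
  haveI : IsNoetherian S M := isNoetherian_of_isNoetherianRing_of_finite S M
  let K₀ : Submodule S M := LinearMap.ker w
  let I : Submodule S N := LinearMap.range w
  haveI : Module.Finite S K₀ := inferInstance
  haveI : Module.Finite S I := inferInstance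
  obtain ⟨f₂, hf₂, ι, m, hm⟩ := genFree_finiteType (R := D) S K₀
  obtain ⟨f₃, hf₃, hfree⟩ := exists_free_tensor_dvd (R := D) S I
  let wR : M →ₗ[D] N := w.restrictScalars D
  let j : K₀ →ₗ[D] M := K₀.subtype.restrictScalars D
  let pr : M →ₗ[D] I := w.rangeRestrict.restrictScalars D
  let incl : I →ₗ[D] N := I.subtype.restrictScalars D
  have hj : Function.Injective j := K₀.injective_subtype
  have hpr : Function.Surjective pr := w.surjective_rangeRestrict
  have hex : Function.Exact j pr := by
    intro y
    constructor
    · intro hy
      have hy' : w y = 0 := congrArg Subtype.val hy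
      exact ⟨⟨y, hy'⟩, rfl⟩
    · rintro ⟨⟨y, hy⟩, rfl⟩
      exact Subtype.ext hy
  have hwR : wR = incl ∘ₗ pr := by
    ext x
    rfl
  -- the index set is nonempty
  have hne : Nonempty ι := by
    by_contra hemp
    rw [not_nonempty_iff] at hemp
    apply h
    have hu : IsUnit (algebraMap D (FractionRing D) f₂) := by
      apply IsUnit.mk0
      simpa using hf₂
    have h1 : Function.Injective (pr.baseChange (FractionRing D)) := by
      refine Groth.Agent.S4801.baseChange_injective_of_pow_torsion_ker f₂ _ hu pr hpr ?_
      intro z hz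
      have hz' : w z = 0 := congrArg Subtype.val hz
      obtain ⟨k, hk⟩ := hm.2 ⟨z, hz'⟩
      have : Set.range m = ∅ := Set.range_eq_empty m
      rw [this, Submodule.span_empty, Submodule.mem_bot] at hk
      exact ⟨k, congrArg Subtype.val hk⟩
    have h2 : Function.Injective (incl.baseChange (FractionRing D)) :=
      Module.Flat.lTensor_preserves_injective_linearMap incl I.injective_subtype
    show Function.Injective (wR.baseChange (FractionRing D))
    rw [hwR, LinearMap.baseChange_comp]
    exact h2.comp h1
  obtain ⟨i₀⟩ := hne
  have hfne : f₂ * f₃ ≠ 0 := mul_ne_zero hf₂ hf₃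
  refine ⟨f₂ * f₃, hfne, fun p hp hinj => ?_⟩
  set f := f₂ * f₃ with hfdef
  have hfu : IsUnit (algebraMap D p.asIdeal.ResidueField f) := by
    apply IsUnit.mk0
    rwa [Ne, Ideal.algebraMap_residueField_eq_zero]
  have hmf : IsGenBasis f m := hm.of_dvd ⟨f₃, rfl⟩ hfne
  haveI : Module.Free (Localization.Away f) (Localization.Away f ⊗[D] I) :=
    hfree f ⟨f₂, by rw [hfdef]; ring⟩ hfne (Localization.Away f)
  have hjinj : Function.Injective (j.baseChange p.asIdeal.ResidueField) :=
    Groth.Agent.S4801.baseChange_injective_of_flat_localized f _ hfu j hj pr hpr hex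
  have hx₀ : (1 : p.asIdeal.ResidueField) ⊗ₜ[D] m i₀ ≠ 0 :=
    one_tmul_ne_zero_of_isGenBasis hmf i₀ _ hfu
  apply hx₀
  apply hjinj
  apply hinj
  rw [map_zero, map_zero, LinearMap.baseChange_tmul, LinearMap.baseChange_tmul]
  have : w (m i₀ : M) = 0 := (m i₀).2
  show (1 : p.asIdeal.ResidueField) ⊗ₜ[D] w (m i₀ : M) = 0
  rw [this, tmul_zero]

/-- **Generic dichotomy**: over a Noetherian domain, the fibres of a map of finite modules over a
finite type algebra are either all injective or all non-injective on a nonempty open set. -/
theorem exists_injective_dichotomy (w : M →ₗ[S] N) :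
    ∃ f : D, f ≠ 0 ∧ ((∀ p : PrimeSpectrum D, f ∉ p.asIdeal →
        Function.Injective ((w.restrictScalars D).baseChange p.asIdeal.ResidueField)) ∨
      (∀ p : PrimeSpectrum D, f ∉ p.asIdeal →
        ¬ Function.Injective ((w.restrictScalars D).baseChange p.asIdeal.ResidueField))) := by
  by_cases h : Function.Injective ((w.restrictScalars D).baseChange (FractionRing D))
  · obtain ⟨f, hf, H⟩ := exists_injective_of_generic w h
    exact ⟨f, hf, Or.inl H⟩
  · obtain ⟨f, hf, H⟩ := exists_not_injective_of_generic w h
    exact ⟨f, hf, Or.inr H⟩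

end dich

end Groth.Agent.Lib.Helper90.FibInj
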