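import Mathlib
import Groth.Agent.Lib.Helper90.FibInj1
import Groth.Agent.Lib.Helper90.FibInj2
import Groth.Agent.S2396

set_option autoImplicit false
set_option linter.style.haveILetI false
set_option linter.unusedSectionVars false
universe u

namespace Groth.Agent.Lib.Helper90.FibInj

open TensorProduct

attribute [local instance] Algebra.TensorProduct.rightAlgebra

section noeth

variable {k₁ S₁ : Type u} [CommRing k₁] [CommRing S₁] [Algebra k₁ S₁]
  {M₁ N₁ : Type u} [AddCommGroup M₁] [Module S₁ M₁] [Module k₁ M₁] [IsScalarTower k₁ S₁ M₁]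
  [AddCommGroup N₁] [Module S₁ N₁] [Module k₁ N₁] [IsScalarTower k₁ S₁ N₁]

/-- fibres of the base change of `w₁` to `D`. -/
theorem fibre_injective_iff_tensor (w₁ : M₁ →ₗ[S₁] N₁) (D : Type u) [CommRing D] [Algebra k₁ D]
    (p' : Ideal D) [p'.IsPrime] (p : Ideal k₁) [p.IsPrime]
    (hpp' : p = p'.comap (algebraMap k₁ D)) :
    Function.Injective (((w₁.baseChange (D ⊗[k₁] S₁)).restrictScalars D).baseChange
        p'.ResidueField) ↔
      Function.Injective ((w₁.restrictScalars k₁).baseChange p.ResidueField) :=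
  fibre_injective_iff (TensorProduct.mk S₁ (D ⊗[k₁] S₁) M₁ 1)
    (TensorProduct.isBaseChange S₁ M₁ (D ⊗[k₁] S₁))
    (TensorProduct.mk S₁ (D ⊗[k₁] S₁) N₁ 1) (TensorProduct.isBaseChange S₁ N₁ (D ⊗[k₁] S₁))
    (w₁.baseChange (D ⊗[k₁] S₁)) w₁ (fun x => by simp) p' p hpp'

variable [Algebra.FiniteType k₁ S₁] [Module.Finite S₁ M₁] [Module.Finite S₁ N₁]

/-- dichotomy over a Noetherian domain quotient `D` of `k₁`. -/
theorem exists_dichotomy_of_surjective (w₁ : M₁ →ₗ[S₁] N₁) (D : Type u) [CommRing D] [IsDomain D]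
    [IsNoetherianRing D] [Algebra k₁ D] (hsurj : Function.Surjective (algebraMap k₁ D)) :
    ∃ f : k₁, f ∉ RingHom.ker (algebraMap k₁ D) ∧
      ((∀ p : PrimeSpectrum k₁, RingHom.ker (algebraMap k₁ D) ≤ p.asIdeal → f ∉ p.asIdeal →
        Function.Injective ((w₁.restrictScalars k₁).baseChange p.asIdeal.ResidueField)) ∨
      (∀ p : PrimeSpectrum k₁, RingHom.ker (algebraMap k₁ D) ≤ p.asIdeal → f ∉ p.asIdeal →
        ¬ Function.Injective ((w₁.restrictScalars k₁).baseChange p.asIdeal.ResidueField))) := by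
  obtain ⟨f', hf', H⟩ := exists_injective_dichotomy (D := D) (S := D ⊗[k₁] S₁)
    (w₁.baseChange (D ⊗[k₁] S₁))
  obtain ⟨f, rfl⟩ := hsurj f'
  have hfq : f ∉ RingHom.ker (algebraMap k₁ D) := fun h => hf' h
  have lift : ∀ p : PrimeSpectrum k₁, RingHom.ker (algebraMap k₁ D) ≤ p.asIdeal → f ∉ p.asIdeal →
      ∃ p' : PrimeSpectrum D, p.asIdeal = p'.asIdeal.comap (algebraMap k₁ D) ∧
        algebraMap k₁ D f ∉ p'.asIdeal := by
    intro p hqp hfp
    have hmem : p ∈ Set.range (PrimeSpectrum.comap (algebraMap k₁ D)) := by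
      rw [_root_.range_comap_of_surjective _ _ hsurj]
      exact hqp
    obtain ⟨p', rfl⟩ := hmem
    exact ⟨p', rfl, fun h => hfp h⟩
  refine ⟨f, hfq, ?_⟩
  rcases H with H | H
  · left
    intro p hqp hfp
    obtain ⟨p', hpp', hfp'⟩ := lift p hqp hfp
    exact (fibre_injective_iff_tensor w₁ D p'.asIdeal p.asIdeal hpp').1 (H p' hfp')
  · right
    intro p hqp hfp
    obtain ⟨p', hpp', hfp'⟩ := lift p hqp hfp
    exact fun h => H p' hfp' ((fibre_injective_iff_tensor w₁ D p'.asIdeal p.asIdeal hpp').2 h)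

/-- **Constructibility of the fibrewise injectivity locus, Noetherian case.** -/
theorem isConstructible_injective_noeth [IsNoetherianRing k₁] (w₁ : M₁ →ₗ[S₁] N₁) :
    Topology.IsConstructible {p : PrimeSpectrum k₁ |
      Function.Injective ((w₁.restrictScalars k₁).baseChange p.asIdeal.ResidueField)} := by
  rw [Groth.Agent.S2396.result]
  intro Y hYc hYirr
  obtain ⟨𝔮, h𝔮⟩ := QuasiSober.sober hYirr hYc
  have hY : Y = PrimeSpectrum.zeroLocus (𝔮.asIdeal : Set k₁) := by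
    rw [← h𝔮.def, PrimeSpectrum.closure_singleton]
  have hmemY : ∀ p : PrimeSpectrum k₁, p ∈ Y ↔ 𝔮.asIdeal ≤ p.asIdeal := by
    intro p
    rw [hY, PrimeSpectrum.mem_zeroLocus]
    rfl
  obtain ⟨f, hf, H⟩ := exists_dichotomy_of_surjective w₁ (k₁ ⧸ 𝔮.asIdeal)
    Ideal.Quotient.mk_surjective
  have hker : RingHom.ker (algebraMap k₁ (k₁ ⧸ 𝔮.asIdeal)) = 𝔮.asIdeal := Ideal.mk_ker
  rw [hker] at hf H
  have h𝔮Y : 𝔮 ∈ Y := (hmemY 𝔮).2 le_rfl
  have h𝔮U : 𝔮 ∈ (PrimeSpectrum.basicOpen f : Set (PrimeSpectrum k₁)) := hf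
  rcases H with H | H
  · right
    refine ⟨PrimeSpectrum.basicOpen f, (PrimeSpectrum.basicOpen f).2, ⟨𝔮, h𝔮U, h𝔮Y⟩, ?_⟩
    rintro p ⟨hpU, hpY⟩
    exact H p ((hmemY p).1 hpY) hpU
  · left
    rw [Groth.Agent.S2396.nowhereDense_iff _ Y hYirr]
    intro hsub
    have hcl : closure ({p : PrimeSpectrum k₁ | Function.Injective
        ((w₁.restrictScalars k₁).baseChange p.asIdeal.ResidueField)} ∩ Y) ⊆
        Y \ (PrimeSpectrum.basicOpen f : Set (PrimeSpectrum k₁)) := by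
      refine closure_minimal ?_ (hYc.sdiff (PrimeSpectrum.basicOpen f).2)
      rintro p ⟨hpE, hpY⟩
      exact ⟨hpY, fun hpU => H p ((hmemY p).1 hpY) hpU hpE⟩
    exact (hcl (hsub h𝔮Y)).2 h𝔮U

end noeth

end Groth.Agent.Lib.Helper90.FibInj
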