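import Mathlib
import Groth.Agent.Lib.Helper90.FibInj3
import Groth.Agent.Lib.Helper55.FL.PairModel

set_option autoImplicit false
set_option linter.style.haveILetI false
set_option linter.unusedSectionVars false
universe u

namespace Groth.Agent.Lib.Helper90.FibInj

open TensorProduct

/-- preimages of constructible sets under maps of prime spectra are constructible. -/
theorem isConstructible_preimage_comap {R S : Type*} [CommRing R] [CommRing S] (f : R →+* S)
    {E : Set (PrimeSpectrum R)} (hE : Topology.IsConstructible E) :
    Topology.IsConstructible (PrimeSpectrum.comap f ⁻¹' E) := by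
  refine hE.preimage (PrimeSpectrum.continuous_comap f) ?_
  intro U hU hUr
  have hUc : IsCompact U := (QuasiSeparatedSpace.isRetrocompact_iff_isCompact hU).1 hUr
  obtain ⟨t, rfl⟩ := PrimeSpectrum.isCompact_isOpen_iff.1 ⟨hUc, hU⟩
  rw [Set.preimage_compl, PrimeSpectrum.preimage_comap_zeroLocus]
  exact PrimeSpectrum.isRetrocompact_zeroLocus_compl (t.finite_toSet.image f)

/-- **Constructibility of the fibrewise injectivity locus** of a map of finitely presented modules
over a finitely presented algebra. -/
theorem isConstructible_injective {R B : Type u} [CommRing R] [CommRing B] [Algebra R B]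
    [Algebra.FinitePresentation R B]
    {M N : Type u} [AddCommGroup M] [Module B M] [Module R M] [IsScalarTower R B M]
    [Module.FinitePresentation B M]
    [AddCommGroup N] [Module B N] [Module R N] [IsScalarTower R B N]
    [Module.FinitePresentation B N] (w : M →ₗ[B] N) :
    Topology.IsConstructible {p : PrimeSpectrum R |
      Function.Injective ((w.restrictScalars R).baseChange p.asIdeal.ResidueField)} := by
  obtain ⟨k₁, _, _, S₁, _, _, _, _, _, _, M₁, _, _, _, _, N₁, _, _, _, _, _, _, _, _, fM, fN, w₁,
    hk₁, hS₁, hM₁, hN₁, hpo, hfM, hfN, hu⟩ :=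
    Groth.Agent.Lib.Helper55.FL.exists_pair_model_pre (R := R) w
  haveI : IsNoetherianRing k₁ := Algebra.FiniteType.isNoetherianRing ℤ k₁
  have hE := isConstructible_injective_noeth (k₁ := k₁) (S₁ := S₁) w₁
  have heq : {p : PrimeSpectrum R |
      Function.Injective ((w.restrictScalars R).baseChange p.asIdeal.ResidueField)} =
      PrimeSpectrum.comap (algebraMap k₁ R) ⁻¹' {p : PrimeSpectrum k₁ |
        Function.Injective ((w₁.restrictScalars k₁).baseChange p.asIdeal.ResidueField)} := by
    ext p
    exact fibre_injective_iff fM hfM fN hfN w w₁ hu p.asIdeal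
      (PrimeSpectrum.comap (algebraMap k₁ R) p).asIdeal rfl
  rw [heq]
  exact isConstructible_preimage_comap _ hE

end Groth.Agent.Lib.Helper90.FibInj
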