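import Mathlib
import Groth.Agent.Lib.Helper90.SegCM2
import Groth.Agent.Lib.Helper67.Depth2

/-!
# Depth of a graded Cohen–Macaulay module with respect to the irrelevant maximal ideal
-/

namespace Groth.Agent.Lib.Helper90.Seg

universe u

open LocCoh

section Graded

variable {k : Type u} [Field k] {R : Type u} [CommRing R] [Algebra k R] [Algebra.FiniteType k R]
  (𝒜 : ℤ → Submodule k R) [GradedAlgebra 𝒜]
  {M : Type u} [AddCommGroup M] [Module R M] [Module k M] [IsScalarTower k R M]
  (ℳ : ℤ → AddSubgroup M) [DirectSum.Decomposition ℳ] [SetLike.GradedSMul 𝒜 ℳ]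
  [Module.Finite R M]

include ℳ in
/-- for a nonzero graded Cohen–Macaulay module, `dim M_m = dim M` at the *maximal ideal. -/
theorem supportDim_localization_eq_of_CM [Nontrivial M]
    (h0R : 𝒜 0 = Submodule.span k {(1 : R)})
    (hMcm : ∀ (q : Ideal R) [q.IsPrime], Subsingleton (LocalizedModule q.primeCompl M) ∨
      IsCohenMacaulayModule (Localization.AtPrime q) (LocalizedModule q.primeCompl M))
    (m : Ideal R) [hmax : m.IsMaximal]
    (hm : ∀ I : Ideal R, I.IsHomogeneous 𝒜 → I ≠ ⊤ → I ≤ m) :
    IsCohenMacaulayModule (Localization.AtPrime m) (LocalizedModule m.primeCompl M) ∧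
    Module.supportDim (Localization.AtPrime m) (LocalizedModule m.primeCompl M) =
      Module.supportDim R M := by
  have : IsNoetherianRing R := Algebra.FiniteType.isNoetherianRing k R
  obtain ⟨q, hq⟩ := associatedPrimes.nonempty R M
  have hqmin := mem_minimalPrimes_of_mem_associatedPrimes hMcm hq
  have hqh := isHomogeneous_of_mem_minimalPrimes 𝒜 (annihilator_isHomogeneous 𝒜 ℳ) hqmin
  have hqp : q.IsPrime := hqmin.1.1
  have hqm : q ≤ m := hm q hqh hqp.ne_top
  have hsupp : (⟨m, hmax.isPrime⟩ : PrimeSpectrum R) ∈ Module.support R M := by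
    rw [Module.mem_support_iff_of_finite]
    exact le_trans hqmin.1.2 hqm
  have hnt : Nontrivial (LocalizedModule m.primeCompl M) := Module.mem_support_iff.mp hsupp
  have hcm : IsCohenMacaulayModule (Localization.AtPrime m) (LocalizedModule m.primeCompl M) := by
    rcases hMcm m with h | h
    · exact absurd h (not_subsingleton _)
    · exact h
  refine ⟨hcm, ?_⟩
  rw [← ringKrullDim_quotient_eq_supportDim_localization k m hq hqm hcm,
    ringKrullDim_quotient_eq_supportDim 𝒜 ℳ h0R hMcm hq]

include ℳ in
/-- for a nonzero graded Cohen–Macaulay module, the depth with respect to the *maximal ideal is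
the dimension. -/
theorem idealDepth_eq_supportDim_of_CM [Nontrivial M]
    (h0R : 𝒜 0 = Submodule.span k {(1 : R)})
    (hMcm : ∀ (q : Ideal R) [q.IsPrime], Subsingleton (LocalizedModule q.primeCompl M) ∨
      IsCohenMacaulayModule (Localization.AtPrime q) (LocalizedModule q.primeCompl M))
    (m : Ideal R) [hmax : m.IsMaximal]
    (hm : ∀ I : Ideal R, I.IsHomogeneous 𝒜 → I ≠ ⊤ → I ≤ m) :
    ((idealDepth m M : ℕ∞) : WithBot ℕ∞) = Module.supportDim R M := by
  have : IsNoetherianRing R := Algebra.FiniteType.isNoetherianRing k R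
  obtain ⟨hcm, hdim⟩ := supportDim_localization_eq_of_CM 𝒜 ℳ h0R hMcm m hm
  have hcm' : Module.supportDim (Localization.AtPrime m) (LocalizedModule m.primeCompl M) =
      ((depth (Localization.AtPrime m) (LocalizedModule m.primeCompl M) : ℕ∞) : WithBot ℕ∞) := hcm
  have hdep : idealDepth m M =
      depth (Localization.AtPrime m) (LocalizedModule m.primeCompl M) := by
    apply le_antisymm
    · exact Groth.Agent.Lib.Helper67.idealDepth_le_depth_localization m M m le_rfl
    · rw [Groth.Agent.Lib.Helper67.idealDepth_eq_iInf_depth_localization m M]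
      refine le_iInf₂ fun p hp => ?_
      obtain ⟨P, hP⟩ := p
      have hPm : m = P := hmax.eq_of_le hP.ne_top hp
      subst hPm
      exact le_rfl
  rw [hdep, ← hcm', hdim]

end Graded

end Groth.Agent.Lib.Helper90.Seg
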