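import Mathlib
import Groth.Agent.Lib.Helper75.Fitting16
import Groth.Agent.Lib.Helper75.Fitting30

/-! helper90: Fitting-ideal criterion for "finite projective of constant rank" in rankAtStalk form,
and a primewise criterion for `I.map φ = ⊤`. Used for S13456. -/

set_option autoImplicit false
universe u

namespace Groth.Agent.Lib.Helper90.GrStrat

open TensorProduct Groth.Agent.Lib.Helper75.Fitting

section L1
variable {B : Type u} [CommRing B] (P : Type u) [AddCommGroup P] [Module B P] [Module.Finite B P]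

theorem fitt_of_proj_rank [Module.Projective B P] (r : ℕ)
    (hr : ∀ p, Module.rankAtStalk (R := B) P p = r) :
    (∀ k, k < r → Fitt.ideal B P k = ⊥) ∧ Fitt.ideal B P r = ⊤ := by
  refine ⟨fun k hk => fitt_eq_bot_of_rankAtStalk r hr k hk, ?_⟩
  by_contra hne
  obtain ⟨m, hm, hle⟩ := Ideal.exists_le_maximal _ hne
  haveI := hm.isPrime
  have h1 : ¬ Fitt.ideal B P r ≤ m := by
    rw [not_fitt_le_iff_finrank (M := P) r m]
    have := Module.rankAtStalk_eq (M := P) ⟨m, hm.isPrime⟩
    rw [hr] at this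
    exact this.symm.le
  exact h1 hle

theorem proj_rank_of_fitt (r : ℕ) (h1 : ∀ k, k < r → Fitt.ideal B P k = ⊥)
    (h2 : Fitt.ideal B P r = ⊤) :
    Module.Projective B P ∧ ∀ p, Module.rankAtStalk (R := B) P p = r := by
  have h2' : ∀ k, r ≤ k → Fitt.ideal B P k = ⊤ := fun k hk =>
    top_le_iff.1 (h2 ▸ fitt_mono (M := P) hk)
  have hloc := (locallyFree_iff (M := P) r).2 ⟨h1, h2'⟩
  have hproj : Module.Projective B P := projective_of_locallyFree P (fun p _ => by
    obtain ⟨f, hf, hfree, _⟩ := hloc p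
    exact ⟨f, hf, hfree⟩)
  refine ⟨hproj, fun p => ?_⟩
  haveI := hproj
  rw [Module.rankAtStalk_eq]
  have ha : Module.finrank p.asIdeal.ResidueField (p.asIdeal.ResidueField ⊗[B] P) ≤ r :=
    (not_fitt_le_iff_finrank (M := P) r p.asIdeal).1
      (by rw [h2]; exact fun h => p.2.ne_top (top_le_iff.1 h))
  have hb : r ≤ Module.finrank p.asIdeal.ResidueField (p.asIdeal.ResidueField ⊗[B] P) := by
    by_contra hlt
    push_neg at hlt
    have hr1 : r - 1 < r := by omega
    have := (not_fitt_le_iff_finrank (M := P) (r - 1) p.asIdeal).2 (by omega)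
    exact this (by rw [h1 _ hr1]; exact bot_le)
  exact le_antisymm ha hb

theorem proj_rank_iff_fitt (r : ℕ) :
    (Module.Projective B P ∧ ∀ p, Module.rankAtStalk (R := B) P p = r) ↔
      ((∀ k, k < r → Fitt.ideal B P k = ⊥) ∧ Fitt.ideal B P r = ⊤) :=
  ⟨fun ⟨h, hr⟩ => by haveI := h; exact fitt_of_proj_rank P r hr,
    fun ⟨h1, h2⟩ => proj_rank_of_fitt P r h1 h2⟩

end L1

theorem map_eq_top_iff {A B : Type*} [CommRing A] [CommRing B] (φ : A →+* B) (I : Ideal A) :
    I.map φ = ⊤ ↔ ∀ q : Ideal B, q.IsPrime → ¬ I ≤ q.comap φ := by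
  constructor
  · intro h q hq hle
    exact hq.ne_top (top_le_iff.1 (h ▸ Ideal.map_le_iff_le_comap.2 hle))
  · intro h
    by_contra hne
    obtain ⟨m, hm, hle⟩ := Ideal.exists_le_maximal _ hne
    exact h m hm.isPrime (Ideal.map_le_iff_le_comap.1 hle)

end Groth.Agent.Lib.Helper90.GrStrat
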