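import Mathlib
import Groth.Agent.Lib.Helper90.GrStrat1
import Groth.Agent.Lib.Helper18.GenericFreeness

/-! helper90: generic step for S13456: for a finite module `M` over a f.t. `A`-algebra `R` and a prime `p` of `A`,
there is `f ∉ p` such that for every `A`-retract `N` of `M` and every `k` with `Fitt_k N ⊄ p`, also `Fitt_k N ⊄ q`
for all primes `q ⊇ p` with `f ∉ q` (generic freeness of `M/pM` over `A/p`, helper18). -/

set_option autoImplicit false
universe u

namespace Groth.Agent.Lib.Helper90.GrStrat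

open TensorProduct Groth.Agent.Lib.Helper75.Fitting

section setup
variable {A : Type u} [CommRing A]
    {R : Type u} [CommRing R] [Algebra A R]
    {M : Type u} [AddCommGroup M] [Module A M] [Module R M] [IsScalarTower A R M]
    (p : Ideal A)

/-- the quotient `M / pM` as a type (quotient by an `R`-submodule). -/
abbrev QM (R : Type u) [CommRing R] [Algebra A R] (M : Type u) [AddCommGroup M] [Module A M]
    [Module R M] [IsScalarTower A R M] (p : Ideal A) : Type u :=
  M ⧸ ((p.map (algebraMap A R)) • (⊤ : Submodule R M))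

noncomputable instance instModD : Module (A ⧸ p) (QM R M p) :=
  Module.compHom (QM R M p) (algebraMap (A ⧸ p) (R ⧸ p.map (algebraMap A R)))

theorem smulD_def (d : A ⧸ p) (x : QM R M p) :
    d • x = (algebraMap (A ⧸ p) (R ⧸ p.map (algebraMap A R)) d) • x := rfl

instance instTowerDS : IsScalarTower (A ⧸ p) (R ⧸ p.map (algebraMap A R)) (QM R M p) :=
  ⟨fun d s x => by
    rw [Algebra.smul_def, mul_smul]
    rfl⟩

theorem mkD_smul_mk (a : A) (m : M) :
    (Ideal.Quotient.mk p a) • (Submodule.Quotient.mk m : QM R M p) =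
      Submodule.Quotient.mk (a • m) := by
  rw [smulD_def]
  have : algebraMap (A ⧸ p) (R ⧸ p.map (algebraMap A R)) (Ideal.Quotient.mk p a) =
      Ideal.Quotient.mk _ (algebraMap A R a) := rfl
  rw [this, ← algebraMap_smul R a m]
  rfl

instance instTowerAD : IsScalarTower A (A ⧸ p) (QM R M p) :=
  ⟨fun a d x => by
    obtain ⟨m, rfl⟩ := Submodule.Quotient.mk_surjective _ x
    obtain ⟨d, rfl⟩ := Ideal.Quotient.mk_surjective d
    have : a • (Ideal.Quotient.mk p d) = Ideal.Quotient.mk p (a * d) := rfl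
    rw [this, mkD_smul_mk, mkD_smul_mk, mul_smul]
    rfl⟩

instance [Module.Finite R M] : Module.Finite (R ⧸ p.map (algebraMap A R)) (QM R M p) := by
  infer_instance

instance [Algebra.FiniteType A R] : Algebra.FiniteType (A ⧸ p) (R ⧸ p.map (algebraMap A R)) := by
  have h1 : Algebra.FiniteType A (R ⧸ p.map (algebraMap A R)) :=
    Algebra.FiniteType.of_surjective (Ideal.Quotient.mkₐ A (p.map (algebraMap A R)))
      (Ideal.Quotient.mkₐ_surjective A _)
  exact Algebra.FiniteType.of_restrictScalars_finiteType A (A ⧸ p) _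

end setup

section retract
variable {A : Type u} [CommRing A]
    {R : Type u} [CommRing R] [Algebra A R]
    {M : Type u} [AddCommGroup M] [Module A M] [Module R M] [IsScalarTower A R M]
    (p : Ideal A) (D' : Type u) [CommRing D'] [Algebra (A ⧸ p) D'] [Algebra A D']
    [IsScalarTower A (A ⧸ p) D']
    {N : Type u} [AddCommGroup N] [Module A N] (i : N →ₗ[A] M) (π : M →ₗ[A] N)

/-- `N → D' ⊗_D (M/pM)`. -/
noncomputable def betaMap : N →ₗ[A] D' ⊗[A ⧸ p] QM R M p :=
  ((TensorProduct.mk (A ⧸ p) D' (QM R M p) 1).restrictScalars A) ∘ₗ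
    ((Submodule.mkQ ((p.map (algebraMap A R)) • (⊤ : Submodule R M))).restrictScalars A) ∘ₗ i

noncomputable def alphaMap : D' ⊗[A] N →ₗ[D'] D' ⊗[A ⧸ p] QM R M p :=
  LinearMap.liftBaseChange D' (betaMap (R := R) p D' i)

theorem alphaMap_tmul (n : N) :
    alphaMap (R := R) p D' i (1 ⊗ₜ n) = 1 ⊗ₜ (Submodule.Quotient.mk (i n) : QM R M p) := by
  simp [alphaMap, betaMap]

theorem map_zero_of_mem (a : A) (ha : a ∈ p) : algebraMap A D' a = 0 := by
  rw [IsScalarTower.algebraMap_apply A (A ⧸ p) D']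
  have : algebraMap A (A ⧸ p) a = 0 := Ideal.Quotient.eq_zero_iff_mem.2 ha
  rw [this, map_zero]

/-- `M → D' ⊗_A N`, `m ↦ 1 ⊗ π m`. -/
noncomputable def gamma0 : M →ₗ[A] D' ⊗[A] N := (TensorProduct.mk A D' N 1) ∘ₗ π

theorem gamma0_kills (x : M)
    (hx : x ∈ ((p.map (algebraMap A R)) • (⊤ : Submodule R M))) : gamma0 D' π x = 0 := by
  have key : ∀ r ∈ p.map (algebraMap A R), ∀ m : M, gamma0 D' π (r • m) = 0 := by
    intro r hr
    refine Submodule.span_induction (p := fun r _ => ∀ m : M, gamma0 D' π (r • m) = 0)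
      ?_ ?_ ?_ ?_ hr
    · rintro _ ⟨a, ha, rfl⟩ m
      rw [algebraMap_smul, map_smul]
      have : a • (gamma0 D' π m) = (algebraMap A D' a) • (gamma0 D' π m) := by
        rw [algebraMap_smul]
      rw [this, map_zero_of_mem p D' a ha, zero_smul]
    · intro m; simp
    · intro x y _ _ hx hy m
      rw [add_smul, map_add, hx, hy, add_zero]
    · intro c x _ hx m
      rw [smul_eq_mul, mul_comm, mul_smul]
      exact hx _
  refine Submodule.smul_induction_on hx (fun r hr m _ => key r hr m) (fun x y hx hy => ?_)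
  rw [map_add, hx, hy, add_zero]

/-- `M/pM → D' ⊗_A N` as an `A`-linear map. -/
noncomputable def gammaA : QM R M p →ₗ[A] D' ⊗[A] N :=
  (Submodule.liftQ (((p.map (algebraMap A R)) • (⊤ : Submodule R M)).restrictScalars A)
    (gamma0 D' π) (fun x hx => gamma0_kills p D' π x hx)) ∘ₗ
    (Submodule.Quotient.restrictScalarsEquiv A
      ((p.map (algebraMap A R)) • (⊤ : Submodule R M))).symm.toLinearMap

theorem gammaA_mk (m : M) :
    gammaA (R := R) p D' π (Submodule.Quotient.mk m) = 1 ⊗ₜ π m := by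
  simp [gammaA, gamma0]

noncomputable def gammaD : QM R M p →ₗ[A ⧸ p] D' ⊗[A] N :=
  (gammaA (R := R) p D' π).extendScalarsOfSurjective Ideal.Quotient.mk_surjective

noncomputable def rhoMap : D' ⊗[A ⧸ p] QM R M p →ₗ[D'] D' ⊗[A] N :=
  LinearMap.liftBaseChange D' (gammaD (R := R) p D' π)

theorem rhoMap_tmul (m : M) :
    rhoMap (R := R) p D' π (1 ⊗ₜ (Submodule.Quotient.mk m : QM R M p)) = 1 ⊗ₜ π m := by
  simp [rhoMap, gammaD, gammaA_mk]

theorem rho_comp_alpha (hπ : π ∘ₗ i = LinearMap.id) :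
    (rhoMap (R := R) p D' π) ∘ₗ (alphaMap (R := R) p D' i) = LinearMap.id := by
  apply TensorProduct.AlgebraTensorModule.ext
  intro d n
  have h1 : (d ⊗ₜ[A] n : D' ⊗[A] N) = d • (1 ⊗ₜ n) := by
    rw [TensorProduct.smul_tmul', smul_eq_mul, mul_one]
  rw [h1, map_smul, LinearMap.comp_apply, alphaMap_tmul, rhoMap_tmul]
  have : π (i n) = n := by
    have := LinearMap.congr_fun hπ n
    simpa using this
  rw [this]
  rfl

theorem projective_of_retract [Module.Projective D' (D' ⊗[A ⧸ p] QM R M p)]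
    (hπ : π ∘ₗ i = LinearMap.id) : Module.Projective D' (D' ⊗[A] N) :=
  Module.Projective.of_split (alphaMap (R := R) p D' i) (rhoMap (R := R) p D' π)
    (rho_comp_alpha (R := R) p D' i π hπ)

end retract
section generic

theorem generic_step {A : Type u} [CommRing A]
    (R : Type u) [CommRing R] [Algebra A R] [Algebra.FiniteType A R]
    (M : Type u) [AddCommGroup M] [Module A M] [Module R M] [IsScalarTower A R M]
    [Module.Finite R M] (p : Ideal A) [p.IsPrime] :
    ∃ f : A, f ∉ p ∧ ∀ (N : Type u) [AddCommGroup N] [Module A N] [Module.Finite A N]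
      (i : N →ₗ[A] M) (π : M →ₗ[A] N), π ∘ₗ i = LinearMap.id →
      ∀ k : ℕ, ¬ Fitt.ideal A N k ≤ p →
      ∀ q : Ideal A, q.IsPrime → p ≤ q → f ∉ q → ¬ Fitt.ideal A N k ≤ q := by
  classical
  have : IsDomain (A ⧸ p) := Ideal.Quotient.isDomain p
  obtain ⟨f', hf', hfree⟩ := Groth.Agent.Lib.Helper18.exists_free_tensor (R := A ⧸ p)
    (R ⧸ p.map (algebraMap A R)) (QM R M p)
  obtain ⟨f, rfl⟩ := Ideal.Quotient.mk_surjective f'
  refine ⟨f, fun h => hf' (Ideal.Quotient.eq_zero_iff_mem.2 h), ?_⟩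
  intro N _ _ _ i π hπ k hk q hq hpq hfq hle
  let D' := Localization.Away (Ideal.Quotient.mk p f)
  have : Module.Free D' (D' ⊗[A ⧸ p] QM R M p) := hfree
  have hproj : Module.Projective D' (D' ⊗[A] N) := projective_of_retract (R := R) p D' i π hπ
  have hpow : Submonoid.powers (Ideal.Quotient.mk p f) ≤ nonZeroDivisors (A ⧸ p) :=
    powers_le_nonZeroDivisors_of_noZeroDivisors hf'
  have : IsDomain D' := IsLocalization.isDomain_localization hpow
  let bot : PrimeSpectrum D' := ⟨⊥, Ideal.isPrime_bot⟩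
  let r := Module.rankAtStalk (R := D') (D' ⊗[A] N) bot
  have hr : ∀ 𝔮, Module.rankAtStalk (R := D') (D' ⊗[A] N) 𝔮 = r := fun 𝔮 =>
    (Module.rankAtStalk_eq_of_le_of_finite_of_flat (D' ⊗[A] N) (p := bot) (q := 𝔮)
      (show bot.asIdeal ≤ 𝔮.asIdeal from bot_le)).symm
  obtain ⟨hF1, hF2⟩ := fitt_of_proj_rank (D' ⊗[A] N) r hr
  have hker : ∀ x : A, algebraMap A D' x = 0 → x ∈ p := by
    intro x hx
    rw [IsScalarTower.algebraMap_apply A (A ⧸ p) D'] at hx
    have h0 := (IsLocalization.injective D' hpow) (hx.trans (map_zero _).symm)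
    exact Ideal.Quotient.eq_zero_iff_mem.1 h0
  have hrk : r ≤ k := by
    by_contra hlt
    rw [not_le] at hlt
    have h1 := hF1 k hlt
    rw [fitt_baseChange] at h1
    apply hk
    intro x hx
    apply hker
    have : algebraMap A D' x ∈ (Fitt.ideal A N k).map (algebraMap A D') :=
      Ideal.mem_map_of_mem _ hx
    rw [h1] at this
    exact this
  have htop : (Fitt.ideal A N k).map (algebraMap A D') = ⊤ := by
    rw [fitt_baseChange] at hF2
    exact top_le_iff.1 (hF2 ▸ Ideal.map_mono (fitt_mono (M := N) hrk))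
  have hqtop : q.map (algebraMap A D') = ⊤ :=
    top_le_iff.1 (htop ▸ Ideal.map_mono hle)
  have hqne : q.map (algebraMap A D') ≠ ⊤ := by
    rw [IsScalarTower.algebraMap_eq A (A ⧸ p) D', ← Ideal.map_map]
    refine (IsLocalization.map_algebraMap_ne_top_iff_disjoint
      (Submonoid.powers (Ideal.Quotient.mk p f)) D' _).2 ?_
    rw [Set.disjoint_left]
    rintro _ ⟨n, rfl⟩ hmem
    have hmem' : (Ideal.Quotient.mk p f) ^ n ∈ q.map (Ideal.Quotient.mk p) := hmem
    rw [Ideal.mem_map_iff_of_surjective _ Ideal.Quotient.mk_surjective] at hmem'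
    obtain ⟨x, hxq, hx⟩ := hmem'
    rw [← map_pow, Ideal.Quotient.eq] at hx
    have h2 : f ^ n ∈ q := by
      have := q.sub_mem hxq (hpq hx)
      simpa using this
    exact hfq (hq.mem_of_pow_mem n h2)
  exact hqne hqtop

end generic
end Groth.Agent.Lib.Helper90.GrStrat
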