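import Mathlib
import Groth.Agent.Lib.Helper90.GrStrat2

set_option autoImplicit false
universe u

namespace Groth.Agent.Lib.Helper90.GrStrat

open TensorProduct Groth.Agent.Lib.Helper75.Fitting PrimeSpectrum

section closed
variable {A : Type u} [CommRing A] [IsNoetherianRing A]

/-- Noetherian induction: a set `C` of primes, stable under specialization, such that every prime
`p ∉ C` has some `f ∉ p` with `V(p) ∩ D(f) ∩ C = ∅`, is closed. -/
theorem isClosed_of_generic (C : Set (PrimeSpectrum A))
    (hspec : ∀ p q : PrimeSpectrum A, p ∈ C → p.asIdeal ≤ q.asIdeal → q ∈ C)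
    (hgen : ∀ p : PrimeSpectrum A, p ∉ C → ∃ f : A, f ∉ p.asIdeal ∧
      ∀ q : PrimeSpectrum A, p.asIdeal ≤ q.asIdeal → f ∉ q.asIdeal → q ∉ C) :
    IsClosed C := by
  have key : ∀ I : Ideal A, IsClosed (C ∩ zeroLocus (I : Set A)) := by
    intro I
    refine IsNoetherian.induction (P := fun I : Ideal A => IsClosed (C ∩ zeroLocus (I : Set A)))
      ?_ I
    intro I IH
    have hstep : ∀ x : A, x ∉ I → IsClosed (C ∩ zeroLocus ((I ⊔ Ideal.span {x} : Ideal A) : Set A)) := by
      intro x hx
      apply IH
      refine lt_of_le_of_ne le_sup_left ?_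
      intro heq
      apply hx
      rw [heq]
      exact Ideal.mem_sup_right (Ideal.mem_span_singleton_self x)
    have hmem : ∀ (x : A) (q : PrimeSpectrum A),
        q ∈ zeroLocus ((I ⊔ Ideal.span {x} : Ideal A) : Set A) ↔
          (q ∈ zeroLocus (I : Set A) ∧ x ∈ q.asIdeal) := by
      intro x q
      rw [mem_zeroLocus, mem_zeroLocus, SetLike.coe_subset_coe, SetLike.coe_subset_coe,
        sup_le_iff, Ideal.span_singleton_le_iff_mem]
    by_cases htop : I = (⊤ : Ideal A)
    · subst htop
      simp
    by_cases hprime : Ideal.IsPrime I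
    · let P : PrimeSpectrum A := ⟨I, hprime⟩
      by_cases hPC : P ∈ C
      · have : C ∩ zeroLocus (I : Set A) = zeroLocus (I : Set A) := by
          apply Set.inter_eq_right.2
          intro q hq
          rw [mem_zeroLocus, SetLike.coe_subset_coe] at hq
          exact hspec P q hPC hq
        rw [this]
        exact isClosed_zeroLocus _
      · obtain ⟨f, hf, hq⟩ := hgen P hPC
        have : C ∩ zeroLocus (I : Set A) =
            C ∩ zeroLocus ((I ⊔ Ideal.span {f} : Ideal A) : Set A) := by
          ext q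
          constructor
          · rintro ⟨hqC, hqI⟩
            refine ⟨hqC, (hmem f q).2 ⟨hqI, ?_⟩⟩
            by_contra hnot
            rw [mem_zeroLocus, SetLike.coe_subset_coe] at hqI
            exact hq q hqI hnot hqC
          · rintro ⟨hqC, hqI⟩
            exact ⟨hqC, ((hmem f q).1 hqI).1⟩
        rw [this]
        exact hstep f hf
    · obtain ⟨x, hx, y, hy, hxy⟩ := (Ideal.not_isPrime_iff.1 hprime).resolve_left htop
      have : C ∩ zeroLocus (I : Set A) =
          (C ∩ zeroLocus ((I ⊔ Ideal.span {x} : Ideal A) : Set A)) ∪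
            (C ∩ zeroLocus ((I ⊔ Ideal.span {y} : Ideal A) : Set A)) := by
        ext q
        constructor
        · rintro ⟨hqC, hqI⟩
          have hqI' := hqI
          rw [mem_zeroLocus, SetLike.coe_subset_coe] at hqI'
          rcases q.2.mem_or_mem (hqI' hxy) with h | h
          · exact Or.inl ⟨hqC, (hmem x q).2 ⟨hqI, h⟩⟩
          · exact Or.inr ⟨hqC, (hmem y q).2 ⟨hqI, h⟩⟩
        · rintro (⟨hqC, hqI⟩ | ⟨hqC, hqI⟩)
          · exact ⟨hqC, ((hmem x q).1 hqI).1⟩
          · exact ⟨hqC, ((hmem y q).1 hqI).1⟩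
      rw [this]
      exact (hstep x hx).union (hstep y hy)
  have := key ⊥
  simpa using this

end closed
end Groth.Agent.Lib.Helper90.GrStrat
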