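import Mathlib
import Groth.Agent.Lib.Helper90.HilbPoly

/-!
# Functions `ℕ → G` (`G` an abelian group) that are eventually combinations of binomial polynomials
-/

namespace Groth.Agent.Lib.Helper90.HilbPoly

variable {G : Type*} [AddCommGroup G]

/-- `f` agrees for large arguments with `∑_{k<j} C(i+k,k) • a_k`. -/
def PLG (j : ℕ) (f : ℕ → G) : Prop :=
  ∃ (a : ℕ → G) (N : ℕ), ∀ i, N ≤ i → f i = ∑ k ∈ Finset.range j, B k i • a k

lemma PLG.mono {j j' : ℕ} (h : j ≤ j') {f : ℕ → G} (hf : PLG j f) : PLG j' f := by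
  obtain ⟨a, N, hN⟩ := hf
  refine ⟨fun k => if k < j then a k else 0, N, fun i hi => ?_⟩
  rw [hN i hi]
  have hsub : Finset.range j ⊆ Finset.range j' := Finset.range_subset_range.mpr h
  rw [← Finset.sum_subset hsub]
  · apply Finset.sum_congr rfl
    intro k hk
    simp only
    rw [if_pos (Finset.mem_range.mp hk)]
  · intro k _ hk
    simp only
    rw [if_neg (fun h => hk (Finset.mem_range.mpr h)), smul_zero]

lemma PLG_zero_of_eventually_zero {f : ℕ → G} (N : ℕ) (h : ∀ i, N ≤ i → f i = 0) : PLG 0 f :=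
  ⟨fun _ => 0, N, fun i hi => by simp [h i hi]⟩

/-- discrete integration. -/
lemma PLG_of_diff {j : ℕ} {f g h : ℕ → G} (hg : PLG j g) (hh : PLG j h)
    (hd : ∀ i, f (i + 1) - f i = g (i + 1) - h i) : PLG (j + 1) f := by
  obtain ⟨a, N, hN⟩ := hg
  obtain ⟨b, N', hN'⟩ := hh
  let F : ℕ → G := fun i => ∑ k ∈ Finset.range j, (B (k + 1) i • a k - (B (k + 1) i - B k i) • b k)
  have hF : ∀ i, max N N' ≤ i → F (i + 1) - F i = g (i + 1) - h i := by
    intro i hi
    rw [hN (i + 1) (by omega), hN' i (by omega : N' ≤ i)]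
    simp only [F]
    rw [← Finset.sum_sub_distrib, ← Finset.sum_sub_distrib]
    apply Finset.sum_congr rfl
    intro k _
    rw [B_succ]
    simp only [add_smul, sub_smul]
    abel
  set N₀ := max N N' with hN₀
  have hconst : ∀ i, N₀ ≤ i → f i = F i + (f N₀ - F N₀) := by
    intro i hi
    induction i, hi using Nat.le_induction with
    | base => abel
    | succ i hi ih =>
      have h1 := hd i
      have h2 := hF i hi
      have : f (i + 1) = f i + (F (i + 1) - F i) := by
        rw [h2, ← h1]
        abel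
      rw [this, ih]
      abel
  set c := f N₀ - F N₀ with hc
  refine ⟨fun k => (if k = 0 then c else 0) + (if 1 ≤ k then a (k - 1) - b (k - 1) else 0) +
    (if k < j then b k else 0), N₀, fun i hi => ?_⟩
  rw [hconst i hi]
  simp only [smul_add, Finset.sum_add_distrib]
  have e1 : ∑ k ∈ Finset.range (j + 1), B k i • (if k = 0 then c else 0) = c := by
    rw [Finset.sum_eq_single 0]
    · simp
    · intro k _ hk
      rw [if_neg hk, smul_zero]
    · intro h0
      exact absurd (Finset.mem_range.mpr (Nat.succ_pos j)) h0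
  have e2 : ∑ k ∈ Finset.range (j + 1), B k i • (if 1 ≤ k then a (k - 1) - b (k - 1) else 0) =
      ∑ k ∈ Finset.range j, B (k + 1) i • (a k - b k) := by
    rw [Finset.sum_range_succ']
    simp
  have e3 : ∑ k ∈ Finset.range (j + 1), B k i • (if k < j then b k else 0) =
      ∑ k ∈ Finset.range j, B k i • b k := by
    rw [Finset.sum_range_succ, if_neg (lt_irrefl j), smul_zero, add_zero]
    apply Finset.sum_congr rfl
    intro k hk
    rw [if_pos (Finset.mem_range.mp hk)]
  rw [e1, e2, e3]
  simp only [F]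
  have : ∑ k ∈ Finset.range j, (B (k + 1) i • a k - (B (k + 1) i - B k i) • b k) =
      ∑ k ∈ Finset.range j, B (k + 1) i • (a k - b k) + ∑ k ∈ Finset.range j, B k i • b k := by
    rw [← Finset.sum_add_distrib]
    apply Finset.sum_congr rfl
    intro k _
    simp only [smul_sub, sub_smul]
    abel
  rw [this]
  abel

/-- change of basis to the binomial coefficients `C(i, a)`. -/
lemma PLG.exists_choose {j : ℕ} {f : ℕ → G} (hf : PLG j f) :
    ∃ (a : Fin j → G) (N : ℕ), ∀ i, N ≤ i →
      f i = ∑ t : Fin j, ((i.choose (t : ℕ) : ℕ) : ℤ) • a t := by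
  obtain ⟨a, N, hN⟩ := hf
  refine ⟨fun t => ∑ k ∈ Finset.range j,
    (if (t : ℕ) ≤ k then ((k.choose (k - (t : ℕ)) : ℕ) : ℤ) • a k else 0), N, fun i hi => ?_⟩
  rw [hN i hi]
  have hB : ∀ k ∈ Finset.range j, B k i = ∑ t ∈ Finset.range j,
      (if t ≤ k then ((i.choose t : ℕ) : ℤ) * ((k.choose (k - t) : ℕ) : ℤ) else 0) := by
    intro k hk
    rw [B_apply, Nat.add_choose_eq, Finset.Nat.sum_antidiagonal_eq_sum_range_succ
      (fun x y => i.choose x * k.choose y)]
    push_cast
    have hsub : Finset.range (k + 1) ⊆ Finset.range j := by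
      apply Finset.range_subset_range.mpr
      exact Finset.mem_range.mp hk
    rw [← Finset.sum_subset hsub]
    · apply Finset.sum_congr rfl
      intro t ht
      rw [if_pos (Nat.lt_succ_iff.mp (Finset.mem_range.mp ht))]
    · intro t _ ht
      rw [if_neg]
      intro h
      exact ht (Finset.mem_range.mpr (Nat.lt_succ_of_le h))
  rw [Finset.sum_congr rfl (fun k hk => by rw [hB k hk])]
  simp only [Finset.sum_smul]
  rw [Finset.sum_comm, ← Fin.sum_univ_eq_sum_range (fun t => ∑ k ∈ Finset.range j,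
    (if t ≤ k then ((i.choose t : ℕ) : ℤ) * ((k.choose (k - t) : ℕ) : ℤ) else 0) • a k) j]
  apply Finset.sum_congr rfl
  intro t _
  rw [Finset.smul_sum]
  apply Finset.sum_congr rfl
  intro k _
  split_ifs with h
  · rw [mul_smul]
  · rw [zero_smul, smul_zero]

end Groth.Agent.Lib.Helper90.HilbPoly
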