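import Mathlib
import Groth.Agent.Lib.Helper90.IntMultReg
import Groth.Agent.Lib.Helper67.CM
import Groth.Agent.Lib.Helper64.DepthQuot
import Groth.Agent.Lib.Helper98.KoszulEulerAdd
import Groth.Agent.Lib.Helper98.KoszulEulerPos

/-!
# Serre's Tor formula against a regular sequence when the other factor is Cohen–Macaulay

* `chi_of_isWeaklyRegular`: the Koszul Euler characteristic `χ(l; M)` of an `M`-weakly-regular
  sequence `l` is `ℓ(M/lM)`.
* `chi_eq_length_of_CM`: `A` Noetherian local, `g` an `A`-regular sequence of length `c ≤ dim A/J`,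
  `A/J` Cohen–Macaulay, `A/(J+(g))` of finite length: `χ^A(A/J, A/(g)) = ℓ(A/(J+(g)))`.
-/

namespace Groth.Agent.Lib.Helper90.IntMultCM

open Groth.Agent.Lib.Helper98.KoszulEuler RingTheory.Sequence IsLocalRing

universe u

variable {A : Type u} [CommRing A]

theorem chi_of_isWeaklyRegular (l : List A) :
    ∀ (M : Type u) [AddCommGroup M] [Module A M], IsWeaklyRegular M l →
      chi l (ModuleCat.of A M) =
        ((Module.length A (M ⧸ Ideal.ofList l • (⊤ : Submodule A M))).toNat : ℤ) := by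
  induction l with
  | nil =>
    intro M _ _ _
    rw [chi_nil]
    have e : (M ⧸ Ideal.ofList ([] : List A) • (⊤ : Submodule A M)) ≃ₗ[A] M :=
      Submodule.quotEquivOfEqBot _ (by rw [Ideal.ofList_nil, Submodule.bot_smul])
    rw [e.length_eq]
  | cons z l ih =>
    intro M _ _ hreg
    rw [isWeaklyRegular_cons_iff] at hreg
    rw [chi_reg_head z l M hreg.1, ih (QuotSMulTop z M) hreg.2]
    rw [(Submodule.quotOfListConsSMulTopEquivQuotSMulTopInner M z l).length_eq]

variable [IsNoetherianRing A]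

/-- `χ^A(A/J, A/(g)) = χ_Koszul(g; A/J)` for a weakly regular sequence `g`. -/
theorem chi_eq_koszul (J : Ideal A) (l : List A) (hl : IsWeaklyRegular A l) :
    IntMult.chi A (A ⧸ J) (A ⧸ Ideal.ofList l) = chi l (ModuleCat.of A (A ⧸ J)) := by
  rw [IntMultAlg.chi_symm]
  exact tor_chi_eq_chi l hl (A ⧸ J)

variable [IsLocalRing A]

theorem chi_eq_length_of_CM (J : Ideal A) (c : ℕ) (g : Fin c → A)
    (hreg : IsRegular A (List.ofFn g))
    (hfl : IsFiniteLength A (A ⧸ (J ⊔ Ideal.span (Set.range g))))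
    (hc : (c : WithBot ℕ∞) ≤ ringKrullDim (A ⧸ J))
    (hCM : LocCoh.IsCohenMacaulayLocalRing (A ⧸ J)) :
    IntMult.chi A (A ⧸ J) (A ⧸ Ideal.span (Set.range g)) =
      ((Module.length A (A ⧸ (J ⊔ Ideal.span (Set.range g)))).toNat : ℤ) := by
  have hset : {a : A | a ∈ List.ofFn g} = Set.range g := by
    ext a
    simp [List.mem_ofFn]
  have hI : Ideal.ofList (List.ofFn g) = Ideal.span (Set.range g) := by
    change Ideal.span {a : A | a ∈ List.ofFn g} = _
    rw [hset]
  have hlen : Module.length A (A ⧸ (J ⊔ Ideal.span (Set.range g))) =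
      Module.length A ((A ⧸ J) ⧸ (Ideal.span (Set.range g) • (⊤ : Submodule A (A ⧸ J)))) := by
    rw [sup_comm]
    exact FrobPow.length_quot_sup_eq _ J
  have hfl' : IsFiniteLength A ((A ⧸ J) ⧸
      (Ideal.ofList (List.ofFn g) • (⊤ : Submodule A (A ⧸ J)))) := by
    rw [hI, ← Module.length_ne_top_iff, ← hlen, Module.length_ne_top_iff]
    exact hfl
  have hne : Ideal.span (Set.range g) ≠ ⊤ := by
    intro h
    have h2 := hreg.2
    rw [hI, h] at h2
    exact h2 (by simp)
  have hmem : ∀ r ∈ List.ofFn g, r ∈ maximalIdeal A := by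
    intro r hr
    refine IsLocalRing.le_maximalIdeal hne ?_
    rw [← hI]
    exact Ideal.subset_span hr
  haveI : IsLocalRing (A ⧸ J) := hCM.toIsLocalRing
  -- `A/J` is a Cohen–Macaulay `A`-module
  have hCMmod : LocCoh.IsCohenMacaulayModule A (A ⧸ J) := by
    unfold LocCoh.IsCohenMacaulayModule
    rw [Module.supportDim_quotient_eq_ringKrullDim, ← Module.supportDim_self_eq_ringKrullDim,
      hCM.supportDim_eq_depth, Groth.Agent.Lib.Helper64.DepthQuot.depth_quotient A J]
  -- dimension count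
  have hdim : Module.supportDim A ((A ⧸ J) ⧸
      Ideal.ofList (List.ofFn g) • (⊤ : Submodule A (A ⧸ J))) + ((List.ofFn g).length : ℕ) =
      Module.supportDim A (A ⧸ J) := by
    have h1 := Groth.Agent.Lib.Helper67.supportDim_le_supportDim_quot_ofList_add_length
      (List.ofFn g) (A ⧸ J) hmem
    have h2 := DimParam.supportDim_le_zero_of_isFiniteLength hfl'
    have h3 : (c : WithBot ℕ∞) ≤ Module.supportDim A (A ⧸ J) := by
      rw [Module.supportDim_quotient_eq_ringKrullDim]
      exact hc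
    rw [List.length_ofFn] at h1 ⊢
    apply le_antisymm _ h1
    calc Module.supportDim A ((A ⧸ J) ⧸
          Ideal.ofList (List.ofFn g) • (⊤ : Submodule A (A ⧸ J))) + (c : WithBot ℕ∞)
        ≤ 0 + (c : WithBot ℕ∞) := by gcongr
      _ = (c : WithBot ℕ∞) := zero_add _
      _ ≤ _ := h3
  have hwr : IsWeaklyRegular (A ⧸ J) (List.ofFn g) :=
    Groth.Agent.Lib.Helper67.isWeaklyRegular_of_supportDim_of_CM (List.ofFn g) (A ⧸ J) hCMmod hmem
      hdim
  have h1 := chi_eq_koszul J (List.ofFn g) hreg.toIsWeaklyRegular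
  rw [hI] at h1
  rw [h1, chi_of_isWeaklyRegular (List.ofFn g) (A ⧸ J) hwr, hI, hlen]

end Groth.Agent.Lib.Helper90.IntMultCM
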