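import Mathlib
import Groth.Agent.Lib.Helper73.DimFT.Scheme

/-!
# `dim O_{Y,y} + dim closure{y} = dim Y` for irreducible schemes locally of finite type over a field
-/

namespace Groth.Agent.Lib.Helper90.IntMultDim

open AlgebraicGeometry CategoryTheory Groth.Agent.Lib.Helper73

universe u

variable {K : Type u} [Field K] {Y : Scheme.{u}} (g : Y ⟶ Spec (CommRingCat.of K))
  [LocallyOfFiniteType g] [IrreducibleSpace Y]

include g in
theorem dim_formula (y : Y) : ∃ a b : ℕ, ringKrullDim (Y.presheaf.stalk y) = (a : WithBot ℕ∞) ∧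
    topologicalKrullDim (closure ({y} : Set Y)) = (b : WithBot ℕ∞) ∧
    topologicalKrullDim Y = ((a + b : ℕ) : WithBot ℕ∞) := by
  have hδ := isDimFun_trdegNat g
  set δ := trdegNat g with hδdef
  set η := genericPoint Y with hηdef
  have hη : ∀ x : Y, η ⤳ x := fun x => genericPoint_specializes x
  have hle : ∀ x : Y, δ x ≤ δ η := fun x => hδ.le_of_specializes (hη x)
  have h1 : Order.coheight y + (δ y : ℕ∞) = (δ η : ℕ∞) := by
    apply le_antisymm
    · exact hδ.coheight_add_le (fun η' _ => by exact_mod_cast hle η')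
    · exact hδ.le_coheight_add (hη y)
  have hfin : Order.coheight y ≠ ⊤ := by
    intro h
    rw [h, top_add] at h1
    exact ENat.top_ne_coe _ h1
  obtain ⟨a, ha⟩ := ENat.ne_top_iff_exists.mp hfin
  refine ⟨a, δ y, ?_, ?_, ?_⟩
  · rw [ringKrullDim_stalk_eq_coheight, ← ha]
    rfl
  · rw [hδ.topologicalKrullDim_closure_singleton y]
    rfl
  · rw [topologicalKrullDim_eq_iSup_trdegNat g]
    have h2 : a + δ y = δ η := by
      rw [← ha] at h1
      exact_mod_cast h1
    rw [h2]
    apply le_antisymm
    · refine iSup_le (fun x => ?_)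
      exact_mod_cast hle x
    · exact le_iSup (fun x : Y => (((trdegNat g x : ℕ) : ℕ∞) : WithBot ℕ∞)) η

end Groth.Agent.Lib.Helper90.IntMultDim
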