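import Mathlib
import Groth.Prelude.Def_IntMult
import Groth.Agent.Lib.Helper90.IntMultDim
import Groth.Agent.Lib.Helper90.IntMultGeom
import Groth.Agent.Lib.Helper64.SubschemeStalk

/-!
# Dimension of `O_{X,ξ}/I_ξ` for an integral closed subscheme of a scheme of finite type over a field
-/

namespace Groth.Agent.Lib.Helper90.IntMultDim

open AlgebraicGeometry CategoryTheory Topology

universe u

lemma topologicalKrullDim_closure_le {Z X : Type*} [TopologicalSpace Z] [TopologicalSpace X]
    (ι : Z → X) (hι : IsInducing ι) (z : Z) (T : Set X) (hT : IsClosed T) (hz : ι z ∈ T) :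
    topologicalKrullDim (closure ({z} : Set Z)) ≤ topologicalKrullDim T := by
  have hmem : ∀ w : closure ({z} : Set Z), ι w.1 ∈ T := by
    intro w
    have h1 : ι w.1 ∈ closure {ι z} := by
      have := image_closure_subset_closure_image hι.continuous (s := {z}) ⟨w.1, w.2, rfl⟩
      simpa using this
    exact closure_minimal (Set.singleton_subset_iff.mpr hz) hT h1
  let φ : closure ({z} : Set Z) → T := fun w => ⟨ι w.1, hmem w⟩
  have hφc : Continuous φ :=
    Continuous.subtype_mk (hι.continuous.comp continuous_subtype_val) _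
  have hφ : IsInducing φ := by
    have : IsInducing (Subtype.val ∘ φ) := hι.comp IsInducing.subtypeVal
    exact IsInducing.of_comp hφc continuous_subtype_val this
  exact hφ.topologicalKrullDim_le

variable {X : Scheme.{u}}

lemma topologicalKrullDim_subscheme (I : X.IdealSheafData) :
    topologicalKrullDim I.subscheme = topologicalKrullDim I.support := by
  let e1 : I.subscheme ≃ₜ Set.range I.subschemeι := I.subschemeι.isEmbedding.toHomeomorph
  let e2 : Set.range I.subschemeι ≃ₜ (I.support : Set X) :=
    Homeomorph.setCongr I.range_subschemeι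
  exact IsHomeomorph.topologicalKrullDim_eq _ (e1.trans e2).isHomeomorph

lemma ringKrullDim_quot_stalkIdeal (I : X.IdealSheafData) (z : I.subscheme) :
    ringKrullDim (X.presheaf.stalk (I.subschemeι z) ⧸ IntMult.stalkIdeal I (I.subschemeι z)) =
      ringKrullDim (I.subscheme.presheaf.stalk z) := by
  obtain ⟨U, hU⟩ := Groth.Agent.Lib.Helper64.StalkIdeal.exists_affine_nhd (I.subschemeι z)
  rw [IntMultGeom.stalkIdeal_eq, Groth.Agent.Lib.Helper64.StalkIdeal.stalkIdeal_eq I U _ hU]
  exact ringKrullDim_eq_of_ringEquiv (Groth.Agent.Lib.Helper64.SubschemeStalk.stalkEquiv I U z hU)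

variable {K : Type u} [Field K] (f : X ⟶ Spec (CommRingCat.of K)) [LocallyOfFiniteType f]

include f in
theorem dim_quot_stalkIdeal (I : X.IdealSheafData) [IsIntegral I.subscheme] (ξ : X)
    (hξ : ξ ∈ I.support) (T : Set X) (hT : IsClosed T) (hξT : ξ ∈ T) :
    ∃ a b : ℕ, ringKrullDim (X.presheaf.stalk ξ ⧸ IntMult.stalkIdeal I ξ) = (a : WithBot ℕ∞) ∧
      (b : WithBot ℕ∞) ≤ topologicalKrullDim T ∧
      topologicalKrullDim I.support = ((a + b : ℕ) : WithBot ℕ∞) := by
  have hr : ξ ∈ Set.range I.subschemeι := by rw [I.range_subschemeι]; exact hξ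
  obtain ⟨z, rfl⟩ := hr
  haveI : LocallyOfFiniteType (I.subschemeι ≫ f) := inferInstance
  obtain ⟨a, b, ha, hb, hab⟩ := dim_formula (I.subschemeι ≫ f) z
  refine ⟨a, b, ?_, ?_, ?_⟩
  · rw [ringKrullDim_quot_stalkIdeal, ha]
  · rw [← hb]
    exact topologicalKrullDim_closure_le I.subschemeι I.subschemeι.isEmbedding.isInducing z T hT hξT
  · rw [← topologicalKrullDim_subscheme, hab]

end Groth.Agent.Lib.Helper90.IntMultDim
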