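import Mathlib
import Groth.Agent.Lib.Helper90.IntMultDim2

/-!
# Proper intersection: `codim V ≤ dim O_{W,ξ}`
-/

namespace Groth.Agent.Lib.Helper90.IntMultDim

open AlgebraicGeometry CategoryTheory Topology

universe u

variable {X : Scheme.{u}} {K : Type u} [Field K] (f : X ⟶ Spec (CommRingCat.of K))
  [LocallyOfFiniteType f]

include f in
theorem le_ringKrullDim_quot [IsIntegral X] (IV IW : X.IdealSheafData) [IsIntegral IV.subscheme]
    [IsIntegral IW.subscheme] (n r s : ℕ) (hn : topologicalKrullDim X = n)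
    (hr : topologicalKrullDim IV.support = r) (hs : topologicalKrullDim IW.support = s)
    (hprop : IntMult.ProperInt (IV.support : Set X) (IW.support : Set X) n r s) (ξ : X)
    (hξV : ξ ∈ IV.support) (hξW : ξ ∈ IW.support) (c : ℕ)
    (hc : ringKrullDim (X.presheaf.stalk ξ ⧸ IntMult.stalkIdeal IV ξ) + (c : WithBot ℕ∞) =
      ringKrullDim (X.presheaf.stalk ξ)) :
    (c : WithBot ℕ∞) ≤ ringKrullDim (X.presheaf.stalk ξ ⧸ IntMult.stalkIdeal IW ξ) := by
  obtain ⟨aX, bX, haX, hbX, habX⟩ := dim_formula f ξ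
  obtain ⟨aV, bV, haV, hbV, habV⟩ := dim_quot_stalkIdeal f IV ξ hξV (closure {ξ}) isClosed_closure
    (subset_closure rfl)
  obtain ⟨aW, bW, haW, hbW, habW⟩ := dim_quot_stalkIdeal f IW ξ hξW
    ((IV.support : Set X) ∩ (IW.support : Set X))
    (IV.support.isClosed.inter IW.support.isClosed) ⟨hξV, hξW⟩
  obtain ⟨hnrs, hdim⟩ := hprop ⟨ξ, hξV, hξW⟩
  have e1 : n = aX + bX := by
    rw [hn] at habX
    exact_mod_cast habX
  have e2 : r = aV + bV := by
    rw [hr] at habV
    exact_mod_cast habV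
  have e3 : s = aW + bW := by
    rw [hs] at habW
    exact_mod_cast habW
  have e4 : bV ≤ bX := by
    rw [hbX] at hbV
    exact_mod_cast hbV
  have e5 : bW ≤ r + s - n := by
    have := hbW.trans hdim
    exact_mod_cast this
  have e6 : aV + c = aX := by
    rw [haV, haX] at hc
    exact_mod_cast hc
  rw [haW]
  have : c ≤ aW := by omega
  exact_mod_cast this

end Groth.Agent.Lib.Helper90.IntMultDim
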