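import Mathlib
import Groth.Agent.Lib.Helper90.IntMultGeom

/-!
# Proper intersection excludes containment
-/

namespace Groth.Agent.Lib.Helper90.IntMultGeom

open AlgebraicGeometry CategoryTheory TopologicalSpace IsLocalRing
open Groth.Agent.Lib.Helper64.StalkSpec Groth.Agent.Lib.Helper64.StalkIdeal

universe u

variable {X : Scheme.{u}}

/-- the image of the generic point of an integral closed subscheme specializes to every point of its
support. -/
lemma exists_generic_of_isIntegral (I : X.IdealSheafData) [IsIntegral I.subscheme] :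
    ∃ η : X, η ∈ I.support ∧ ∀ w ∈ I.support, η ⤳ w := by
  refine ⟨I.subschemeι (genericPoint I.subscheme), ?_, ?_⟩
  · have : I.subschemeι (genericPoint I.subscheme) ∈ Set.range I.subschemeι := ⟨_, rfl⟩
    rw [I.range_subschemeι] at this
    exact this
  · intro w hw
    have hw' : w ∈ Set.range I.subschemeι := by
      rw [I.range_subschemeι]
      exact hw
    obtain ⟨z, rfl⟩ := hw'
    exact (genericPoint_specializes z).map I.subschemeι.continuous

/-- the stalk ideal of a prime given by the generic point of an integral scheme is zero. -/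
lemma primeOf_genericPoint [IsIntegral X] (ξ : X) (h : genericPoint X ⤳ ξ) :
    primeOf h = ⊥ := by
  rw [← Ideal.height_eq_zero_iff_eq_bot]
  have h1 := ringKrullDim_stalk_eq_height_primeOf h
  have h2 : ringKrullDim (X.presheaf.stalk (genericPoint X)) = 0 :=
    ringKrullDim_eq_zero_of_field X.functionField
  rw [h2] at h1
  exact_mod_cast h1.symm

lemma not_stalkIdeal_le [IsIntegral X] (IV IW : X.IdealSheafData) [IsIntegral IW.subscheme]
    (n r s : ℕ) (hn : topologicalKrullDim X = n) (hr : topologicalKrullDim IV.support = r)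
    (hs : topologicalKrullDim IW.support = s)
    (hprop : IntMult.ProperInt (IV.support : Set X) (IW.support : Set X) n r s) (ξ : X)
    (hξV : ξ ∈ IV.support) (hξW : ξ ∈ IW.support) (hVne : IntMult.stalkIdeal IV ξ ≠ ⊥) :
    ¬ IntMult.stalkIdeal IV ξ ≤ IntMult.stalkIdeal IW ξ := by
  rw [stalkIdeal_eq, stalkIdeal_eq]
  rw [stalkIdeal_eq] at hVne
  intro hle
  obtain ⟨η, hηW, hη⟩ := exists_generic_of_isIntegral IW
  have hηξ : η ⤳ ξ := hη ξ hξW
  have hηV : η ∈ IV.support := by
    rw [← stalkIdeal_le_primeOf_iff IV hηξ]
    exact hle.trans ((stalkIdeal_le_primeOf_iff IW hηξ).mpr hηW)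
  have hWV : (IW.support : Set X) ⊆ (IV.support : Set X) := by
    intro w hw
    exact (hη w hw).mem_closed IV.support.isClosed hηV
  have hinter : (IV.support : Set X) ∩ (IW.support : Set X) = (IW.support : Set X) :=
    Set.inter_eq_right.mpr hWV
  obtain ⟨h1, h2⟩ := hprop ⟨ξ, hξV, hξW⟩
  rw [hinter] at h2
  have hs' : topologicalKrullDim ↥(IW.support : Set X) = s := hs
  rw [hs'] at h2
  have h3 : s ≤ r + s - n := by exact_mod_cast h2
  have hnr : n ≤ r := by omega
  -- so `V = X`
  have hVuniv : (IV.support : Set X) = Set.univ := by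
    by_contra hne
    have := lt_of_topologicalKrullDim_eq (IV.support : Set X) IV.support.isClosed hne hr hn
    omega
  have hgen : genericPoint X ∈ IV.support := by
    change genericPoint X ∈ (IV.support : Set X)
    rw [hVuniv]
    exact Set.mem_univ _
  have hspec : genericPoint X ⤳ ξ := genericPoint_specializes ξ
  have := (stalkIdeal_le_primeOf_iff IV hspec).mpr hgen
  rw [primeOf_genericPoint ξ hspec, le_bot_iff] at this
  exact hVne this

end Groth.Agent.Lib.Helper90.IntMultGeom
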