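import Groth.Prelude.Def_Isoc
import Mathlib

set_option autoImplicit false

open scoped Pointwise Isocrystal

universe u v w

namespace Groth.Agent.Lib.Helper90.IsocLib

section Basic

variable {p : ℕ} [Fact p.Prime] {k : Type u} [Field k] [CharP k p] [PerfectRing k p]

/-- `τ` restricts to an automorphism of `W`. -/
def IsWAut (τ : K(p, k) →+* K(p, k)) : Prop :=
  ∃ e : WittVector p k ≃+* WittVector p k,
    ∀ w, τ (algebraMap (WittVector p k) K(p, k) w) = algebraMap (WittVector p k) K(p, k) (e w)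

theorem isWAut_frob (a : ℤ) : IsWAut (Isoc.frob p k a) :=
  ⟨WittVector.frobeniusEquiv p k ^ a, Isoc.frob_algebraMap p k a⟩

theorem IsWAut.one : IsWAut (1 : K(p, k) →+* K(p, k)) := ⟨RingEquiv.refl _, fun _ => rfl⟩

theorem IsWAut.mul {τ τ' : K(p, k) →+* K(p, k)} (h : IsWAut τ) (h' : IsWAut τ') :
    IsWAut (τ * τ') := by
  obtain ⟨e, he⟩ := h
  obtain ⟨e', he'⟩ := h'
  refine ⟨e'.trans e, fun w => ?_⟩
  rw [RingHom.mul_def, RingHom.comp_apply, he', he]
  rfl

theorem IsWAut.pow {τ : K(p, k) →+* K(p, k)} (h : IsWAut τ) (n : ℕ) : IsWAut (τ ^ n) := by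
  induction n with
  | zero => rw [pow_zero]; exact IsWAut.one
  | succ n ih => rw [pow_succ]; exact ih.mul h

theorem p_ne_zero : (p : K(p, k)) ≠ 0 := by
  have h1 : (p : WittVector p k) ≠ 0 := WittVector.p_nonzero p k
  have h2 : algebraMap (WittVector p k) K(p, k) (p : WittVector p k) ≠ 0 := by
    rw [Ne, map_eq_zero_iff _ (IsFractionRing.injective (WittVector p k) K(p, k))]
    exact h1
  rwa [map_natCast] at h2

theorem exists_pow_mul_eq (c : K(p, k)) :
    ∃ (n : ℕ) (w : WittVector p k),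
      (p : K(p, k)) ^ n * c = algebraMap (WittVector p k) K(p, k) w := by
  obtain ⟨a, b, hb, rfl⟩ := IsFractionRing.div_surjective (A := WittVector p k) c
  have hb0 : b ≠ 0 := nonZeroDivisors.ne_zero hb
  obtain ⟨m, u, hu⟩ := WittVector.exists_eq_pow_p_mul' b hb0
  refine ⟨m, a * ((u⁻¹ : (WittVector p k)ˣ) : WittVector p k), ?_⟩
  have hbL : algebraMap (WittVector p k) K(p, k) b ≠ 0 := by
    rw [Ne, map_eq_zero_iff _ (IsFractionRing.injective (WittVector p k) K(p, k))]
    exact hb0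
  rw [mul_div_assoc', div_eq_iff hbL, hu]
  simp only [map_mul, map_pow, map_natCast]
  have : algebraMap (WittVector p k) K(p, k) ((u⁻¹ : (WittVector p k)ˣ) : WittVector p k) *
      algebraMap (WittVector p k) K(p, k) (u : WittVector p k) = 1 := by
    rw [← map_mul, Units.inv_mul, map_one]
  linear_combination ((p : K(p, k)) ^ m * algebraMap (WittVector p k) K(p, k) a) * this.symm

theorem IsWAut.surjective {τ : K(p, k) →+* K(p, k)} (h : IsWAut τ) : Function.Surjective τ := by
  obtain ⟨e, he⟩ := h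
  intro c
  obtain ⟨n, w, hw⟩ := exists_pow_mul_eq c
  refine ⟨algebraMap (WittVector p k) K(p, k) (e.symm w) / (p : K(p, k)) ^ n, ?_⟩
  rw [map_div₀, he, e.apply_symm_apply, map_pow, map_natCast, ← hw]
  field_simp [p_ne_zero (p := p) (k := k)]

theorem IsWAut.bijective {τ : K(p, k) →+* K(p, k)} (h : IsWAut τ) : Function.Bijective τ :=
  ⟨τ.injective, h.surjective⟩

end Basic

section Semilinear

variable {K : Type*} [Field K] {τ : K →+* K} {V : Type*} [AddCommGroup V] [Module K V]

theorem semilinear_surjective_of_injective (hτ : Function.Surjective τ) [FiniteDimensional K V]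
    (F : V →ₛₗ[τ] V) (hinj : Function.Injective F) : Function.Surjective F := by
  classical
  let b := Module.finBasis K V
  have hli : LinearIndependent K (fun i => F (b i)) := by
    rw [linearIndependent_iff']
    intro s g hg i hi
    choose g' hg' using hτ
    have h1 : F (∑ j ∈ s, g' (g j) • b j) = 0 := by
      rw [map_sum, ← hg]
      refine Finset.sum_congr rfl fun j _ => ?_
      rw [map_smulₛₗ, hg']
    have h2 : ∑ j ∈ s, g' (g j) • b j = 0 := hinj (by rw [h1, map_zero])
    have h3 := linearIndependent_iff'.mp b.linearIndependent s (fun j => g' (g j)) h2 i hi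
    have h4 : g i = τ (g' (g i)) := (hg' (g i)).symm
    rw [h4, h3, map_zero]
  have hspan : Submodule.span K (Set.range fun i => F (b i)) = ⊤ :=
    hli.span_eq_top_of_card_eq_finrank' (by simp)
  intro x
  have hx : x ∈ Submodule.span K (Set.range fun i => F (b i)) := by rw [hspan]; trivial
  induction hx using Submodule.span_induction with
  | mem y hy =>
    obtain ⟨i, rfl⟩ := hy
    exact ⟨b i, rfl⟩
  | zero => exact ⟨0, map_zero F⟩
  | add a c _ _ ha hc =>
    obtain ⟨a', rfl⟩ := ha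
    obtain ⟨c', rfl⟩ := hc
    exact ⟨a' + c', map_add F a' c'⟩
  | smul c a _ ha =>
    obtain ⟨a', rfl⟩ := ha
    obtain ⟨c', rfl⟩ := hτ c
    exact ⟨c' • a', map_smulₛₗ F c' a'⟩

end Semilinear

section Lattice

variable {p : ℕ} [Fact p.Prime] {k : Type u} [Field k] [CharP k p] [PerfectRing k p]
variable {N : Type v} [AddCommGroup N] [Module (WittVector p k) N] [Module K(p, k) N]
  [IsScalarTower (WittVector p k) K(p, k) N]
variable {τ : K(p, k) →+* K(p, k)}

theorem mem_pPow {r : ℤ} {M : Submodule (WittVector p k) N} {x : N} :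
    x ∈ Isoc.pPow r M ↔ ∃ y ∈ M, ((p : K(p, k)) ^ r) • y = x :=
  Submodule.mem_smul_pointwise_iff_exists x _ M

theorem smul_mem_pPow {r : ℤ} {M : Submodule (WittVector p k) N} {y : N} (hy : y ∈ M) :
    ((p : K(p, k)) ^ r) • y ∈ Isoc.pPow r M := mem_pPow.mpr ⟨y, hy, rfl⟩

theorem pPow_zero (M : Submodule (WittVector p k) N) : Isoc.pPow 0 M = M := by
  ext x
  rw [mem_pPow]
  simp

theorem pPow_pPow (r s : ℤ) (M : Submodule (WittVector p k) N) :
    Isoc.pPow r (Isoc.pPow s M) = Isoc.pPow (r + s) M := by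
  ext x
  simp only [mem_pPow]
  constructor
  · rintro ⟨y, ⟨z, hz, rfl⟩, rfl⟩
    exact ⟨z, hz, by rw [smul_smul, ← zpow_add₀ p_ne_zero]⟩
  · rintro ⟨z, hz, rfl⟩
    exact ⟨_, ⟨z, hz, rfl⟩, by rw [smul_smul, ← zpow_add₀ p_ne_zero]⟩

theorem pPow_mono (r : ℤ) {M M' : Submodule (WittVector p k) N} (h : M ≤ M') :
    Isoc.pPow r M ≤ Isoc.pPow r M' := by
  intro x hx
  obtain ⟨y, hy, rfl⟩ := mem_pPow.mp hx
  exact mem_pPow.mpr ⟨y, h hy, rfl⟩

theorem natpow_smul_mem (n : ℕ) {M : Submodule (WittVector p k) N} {x : N} (hx : x ∈ M) :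
    ((p : K(p, k)) ^ n) • x ∈ M := by
  have : ((p : K(p, k)) ^ n) • x = ((p : WittVector p k) ^ n) • x := by
    rw [← algebraMap_smul K(p, k) ((p : WittVector p k) ^ n) x, map_pow, map_natCast]
  rw [this]
  exact M.smul_mem _ hx

theorem pPow_natCast_le (n : ℕ) (M : Submodule (WittVector p k) N) :
    Isoc.pPow (n : ℤ) M ≤ M := by
  intro x hx
  obtain ⟨y, hy, rfl⟩ := mem_pPow.mp hx
  rw [zpow_natCast]
  exact natpow_smul_mem n hy

theorem pPow_anti {r r' : ℤ} (h : r ≤ r') (M : Submodule (WittVector p k) N) :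
    Isoc.pPow r' M ≤ Isoc.pPow r M := by
  obtain ⟨n, rfl⟩ := Int.le.dest h
  rw [← pPow_pPow]
  exact pPow_mono r (pPow_natCast_le n M)

theorem pPow_le_iff {r : ℤ} {M M' : Submodule (WittVector p k) N} :
    Isoc.pPow r M ≤ M' ↔ M ≤ Isoc.pPow (-r) M' := by
  constructor
  · intro h
    have := pPow_mono (-r) h
    rwa [pPow_pPow, neg_add_cancel, pPow_zero] at this
  · intro h
    have := pPow_mono r h
    rwa [pPow_pPow, add_neg_cancel, pPow_zero] at this

theorem le_pPow_iff {r : ℤ} {M M' : Submodule (WittVector p k) N} :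
    M ≤ Isoc.pPow r M' ↔ Isoc.pPow (-r) M ≤ M' := by
  rw [pPow_le_iff, neg_neg]

theorem pPow_sup (r : ℤ) (M M' : Submodule (WittVector p k) N) :
    Isoc.pPow r (M ⊔ M') = Isoc.pPow r M ⊔ Isoc.pPow r M' :=
  Submodule.smul_sup' _ _ _

theorem pPow_isLattice (r : ℤ) {M : Submodule (WittVector p k) N}
    (hM : M.IsLattice K(p, k)) : (Isoc.pPow r M).IsLattice K(p, k) := by
  have h := Submodule.IsLattice.smul K(p, k) M
    (Units.mk0 ((p : K(p, k)) ^ r) (zpow_ne_zero r p_ne_zero))
  exact h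

/-- the iterate as an additive map with scalars. -/
theorem iterate_smul (F : N →ₛₗ[τ] N) (s : ℕ) (c : K(p, k)) (x : N) :
    (⇑F)^[s] (c • x) = (τ ^ s) c • (⇑F)^[s] x :=
  (Isoc.iter F s).map_smulₛₗ c x

theorem iterate_add' (F : N →ₛₗ[τ] N) (s : ℕ) (x y : N) :
    (⇑F)^[s] (x + y) = (⇑F)^[s] x + (⇑F)^[s] y :=
  (Isoc.iter F s).map_add x y

theorem iterate_zero' (F : N →ₛₗ[τ] N) (s : ℕ) : (⇑F)^[s] (0 : N) = 0 :=
  (Isoc.iter F s).map_zero

theorem iterate_pzpow_smul (F : N →ₛₗ[τ] N) (s : ℕ) (r : ℤ) (x : N) :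
    (⇑F)^[s] (((p : K(p, k)) ^ r) • x) = ((p : K(p, k)) ^ r) • (⇑F)^[s] x := by
  rw [iterate_smul, map_zpow₀, map_natCast]

theorem iterate_wsmul (hτ : IsWAut τ) (F : N →ₛₗ[τ] N) (s : ℕ) (w : WittVector p k) :
    ∃ w' : WittVector p k, ∀ x : N, (⇑F)^[s] (w' • x) = w • (⇑F)^[s] x := by
  obtain ⟨e, he⟩ := hτ.pow s
  refine ⟨e.symm w, fun x => ?_⟩
  rw [← algebraMap_smul K(p, k) (e.symm w) x, iterate_smul, he, e.apply_symm_apply,
    algebraMap_smul]

theorem iterate_wsmul' (hτ : IsWAut τ) (F : N →ₛₗ[τ] N) (s : ℕ) (w : WittVector p k) :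
    ∃ w' : WittVector p k, ∀ x : N, (⇑F)^[s] (w • x) = w' • (⇑F)^[s] x := by
  obtain ⟨e, he⟩ := hτ.pow s
  refine ⟨e w, fun x => ?_⟩
  rw [← algebraMap_smul K(p, k) w x, iterate_smul, he, algebraMap_smul]

theorem mem_latImg (hτ : IsWAut τ) {F : N →ₛₗ[τ] N} {s : ℕ}
    {M : Submodule (WittVector p k) N} {x : N} :
    x ∈ Isoc.latImg F s M ↔ ∃ y ∈ M, (⇑F)^[s] y = x := by
  constructor
  · intro hx
    unfold Isoc.latImg at hx
    induction hx using Submodule.span_induction with
    | mem x hx => exact hx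
    | zero => exact ⟨0, M.zero_mem, iterate_zero' F s⟩
    | add x y _ _ hx hy =>
      obtain ⟨a, ha, rfl⟩ := hx
      obtain ⟨b, hb, rfl⟩ := hy
      exact ⟨a + b, M.add_mem ha hb, iterate_add' F s a b⟩
    | smul w x _ hx =>
      obtain ⟨a, ha, rfl⟩ := hx
      obtain ⟨w', hw'⟩ := iterate_wsmul hτ F s w
      exact ⟨w' • a, M.smul_mem _ ha, hw' a⟩
  · rintro ⟨y, hy, rfl⟩
    exact Submodule.subset_span ⟨y, hy, rfl⟩

theorem iterate_mem_latImg {F : N →ₛₗ[τ] N} {s : ℕ}
    {M : Submodule (WittVector p k) N} {y : N} (hy : y ∈ M) :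
    (⇑F)^[s] y ∈ Isoc.latImg F s M := Submodule.subset_span ⟨y, hy, rfl⟩

theorem latImg_mono (F : N →ₛₗ[τ] N) (s : ℕ) {M M' : Submodule (WittVector p k) N}
    (h : M ≤ M') : Isoc.latImg F s M ≤ Isoc.latImg F s M' :=
  Submodule.span_mono (Set.image_mono h)

theorem latImg_zero (F : N →ₛₗ[τ] N) (M : Submodule (WittVector p k) N) :
    Isoc.latImg F 0 M = M := by
  unfold Isoc.latImg
  simp

theorem latImg_add (hτ : IsWAut τ) (F : N →ₛₗ[τ] N) (s t : ℕ)
    (M : Submodule (WittVector p k) N) :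
    Isoc.latImg F (s + t) M = Isoc.latImg F s (Isoc.latImg F t M) := by
  ext x
  simp only [mem_latImg hτ]
  constructor
  · rintro ⟨y, hy, rfl⟩
    exact ⟨(⇑F)^[t] y, ⟨y, hy, rfl⟩, (Function.iterate_add_apply _ s t y).symm⟩
  · rintro ⟨z, ⟨y, hy, rfl⟩, rfl⟩
    exact ⟨y, hy, Function.iterate_add_apply _ s t y⟩

theorem latImg_pPow (hτ : IsWAut τ) (F : N →ₛₗ[τ] N) (s : ℕ) (r : ℤ)
    (M : Submodule (WittVector p k) N) :
    Isoc.latImg F s (Isoc.pPow r M) = Isoc.pPow r (Isoc.latImg F s M) := by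
  ext x
  simp only [mem_latImg hτ, mem_pPow]
  constructor
  · rintro ⟨y, ⟨z, hz, rfl⟩, rfl⟩
    exact ⟨(⇑F)^[s] z, ⟨z, hz, rfl⟩, (iterate_pzpow_smul F s r z).symm⟩
  · rintro ⟨y, ⟨z, hz, rfl⟩, rfl⟩
    exact ⟨_, ⟨z, hz, rfl⟩, iterate_pzpow_smul F s r z⟩

theorem latImg_sup (hτ : IsWAut τ) (F : N →ₛₗ[τ] N) (s : ℕ)
    (M M' : Submodule (WittVector p k) N) :
    Isoc.latImg F s (M ⊔ M') = Isoc.latImg F s M ⊔ Isoc.latImg F s M' := by
  apply le_antisymm
  · intro x hx
    obtain ⟨y, hy, rfl⟩ := (mem_latImg hτ).mp hx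
    obtain ⟨a, ha, b, hb, rfl⟩ := Submodule.mem_sup.mp hy
    rw [iterate_add']
    exact Submodule.add_mem _ (Submodule.mem_sup_left (iterate_mem_latImg ha))
      (Submodule.mem_sup_right (iterate_mem_latImg hb))
  · exact sup_le (latImg_mono F s le_sup_left) (latImg_mono F s le_sup_right)

theorem latImg_fg (hτ : IsWAut τ) (F : N →ₛₗ[τ] N) (s : ℕ)
    {M : Submodule (WittVector p k) N} (hM : M.FG) : (Isoc.latImg F s M).FG := by
  obtain ⟨S, rfl⟩ := hM
  have : Isoc.latImg F s (Submodule.span (WittVector p k) (S : Set N)) =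
      Submodule.span (WittVector p k) ((⇑F)^[s] '' (S : Set N)) := by
    apply le_antisymm
    · have key : ∀ y ∈ Submodule.span (WittVector p k) (S : Set N),
          (⇑F)^[s] y ∈ Submodule.span (WittVector p k) ((⇑F)^[s] '' (S : Set N)) := by
        intro y hy
        induction hy using Submodule.span_induction with
        | mem y hy => exact Submodule.subset_span ⟨y, hy, rfl⟩
        | zero => rw [iterate_zero']; exact Submodule.zero_mem _
        | add a b _ _ ha hb => rw [iterate_add']; exact Submodule.add_mem _ ha hb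
        | smul w a _ ha =>
          obtain ⟨w', hw'⟩ := iterate_wsmul' hτ F s w
          rw [hw']
          exact Submodule.smul_mem _ _ ha
      intro x hx
      obtain ⟨y, hy, rfl⟩ := (mem_latImg hτ).mp hx
      exact key y hy
    · apply Submodule.span_mono
      exact Set.image_mono Submodule.subset_span
  rw [this]
  exact Submodule.fg_span (S.finite_toSet.image _)

theorem iterate_surjective {F : N →ₛₗ[τ] N} (hF : Function.Surjective F) (s : ℕ) :
    Function.Surjective ((⇑F)^[s]) := hF.iterate s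

theorem latImg_isLattice (hτ : IsWAut τ) {F : N →ₛₗ[τ] N} (hF : Function.Surjective F) (s : ℕ)
    {M : Submodule (WittVector p k) N} (hM : M.IsLattice K(p, k)) :
    (Isoc.latImg F s M).IsLattice K(p, k) where
  fg := latImg_fg hτ F s hM.fg
  span_eq_top := by
    rw [eq_top_iff]
    intro x _
    obtain ⟨y, rfl⟩ := iterate_surjective hF s x
    have hy : y ∈ Submodule.span K(p, k) (M : Set N) := by rw [hM.span_eq_top]; trivial
    induction hy using Submodule.span_induction with
    | mem y hy => exact Submodule.subset_span (iterate_mem_latImg hy)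
    | zero => rw [iterate_zero']; exact Submodule.zero_mem _
    | add a b _ _ ha hb =>
      rw [iterate_add']
      exact Submodule.add_mem _ (ha trivial) (hb trivial)
    | smul c a _ ha =>
      rw [iterate_smul]
      exact Submodule.smul_mem _ _ (ha trivial)

/-- Every vector is moved into a lattice by a power of `p`. -/
theorem exists_natpow_smul_mem {M : Submodule (WittVector p k) N}
    (hM : Submodule.span K(p, k) (M : Set N) = ⊤) (x : N) :
    ∃ n : ℕ, ((p : K(p, k)) ^ n) • x ∈ M := by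
  have hx : x ∈ Submodule.span K(p, k) (M : Set N) := by rw [hM]; trivial
  induction hx using Submodule.span_induction with
  | mem y hy => exact ⟨0, by simpa using hy⟩
  | zero => exact ⟨0, by simp⟩
  | add a b _ _ ha hb =>
    obtain ⟨n, hn⟩ := ha
    obtain ⟨m, hm⟩ := hb
    refine ⟨n + m, ?_⟩
    rw [smul_add]
    refine M.add_mem ?_ ?_
    · rw [pow_add, mul_comm, mul_smul]
      exact natpow_smul_mem m hn
    · rw [pow_add, mul_smul]
      exact natpow_smul_mem n hm
  | smul c a _ ha =>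
    obtain ⟨n, hn⟩ := ha
    obtain ⟨m, w, hw⟩ := exists_pow_mul_eq c
    refine ⟨m + n, ?_⟩
    rw [smul_smul, pow_add, mul_assoc, mul_comm ((p : K(p, k)) ^ n), ← mul_assoc, hw,
      mul_smul, algebraMap_smul]
    exact M.smul_mem _ hn

/-- Two lattices are commensurable. -/
theorem exists_pPow_le {M M' : Submodule (WittVector p k) N} (hM : M.FG)
    (hM' : Submodule.span K(p, k) (M' : Set N) = ⊤) :
    ∃ n : ℕ, Isoc.pPow (n : ℤ) M ≤ M' := by
  obtain ⟨S, rfl⟩ := hM
  have h1 : ∀ x : N, ∃ n : ℕ, ((p : K(p, k)) ^ n) • x ∈ M' := exists_natpow_smul_mem hM'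
  choose f hf using h1
  refine ⟨S.sup f, ?_⟩
  rw [pPow_le_iff, Submodule.span_le]
  intro x hx
  rw [SetLike.mem_coe, mem_pPow]
  refine ⟨((p : K(p, k)) ^ (S.sup f)) • x, ?_, ?_⟩
  · have hle : f x ≤ S.sup f := Finset.le_sup (f := f) hx
    obtain ⟨d, hd⟩ := Nat.exists_eq_add_of_le hle
    rw [hd, pow_add, mul_comm, mul_smul]
    exact natpow_smul_mem d (hf x)
  · rw [smul_smul, zpow_neg, zpow_natCast, inv_mul_cancel₀ (pow_ne_zero _ p_ne_zero), one_smul]

theorem comap_subtype_isLattice (P : Submodule K(p, k) N) {M : Submodule (WittVector p k) N}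
    (hM : M.IsLattice K(p, k)) :
    (M.comap (P.subtype.restrictScalars (WittVector p k))).IsLattice K(p, k) where
  fg := by
    haveI : IsNoetherian (WittVector p k) M := isNoetherian_of_fg_of_noetherian M hM.fg
    let MP := M.comap (P.subtype.restrictScalars (WittVector p k))
    let j : MP →ₗ[WittVector p k] M :=
      LinearMap.codRestrict M ((P.subtype.restrictScalars (WittVector p k)).comp MP.subtype)
        (fun x => x.2)
    have hj : Function.Injective j := by
      intro x y hxy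
      have : ((j x : M) : N) = ((j y : M) : N) := by rw [hxy]
      exact Subtype.ext (Subtype.ext this)
    haveI : Module.Finite (WittVector p k) MP := Module.Finite.of_injective j hj
    exact Module.Finite.iff_fg.mp this
  span_eq_top := by
    rw [eq_top_iff]
    rintro x -
    obtain ⟨n, hn⟩ := exists_natpow_smul_mem hM.span_eq_top (x : N)
    have h1 : ((p : K(p, k)) ^ n) • x ∈ M.comap (P.subtype.restrictScalars (WittVector p k)) := hn
    have h2 : x = ((p : K(p, k)) ^ n)⁻¹ • (((p : K(p, k)) ^ n) • x) := by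
      rw [smul_smul, inv_mul_cancel₀ (pow_ne_zero _ p_ne_zero), one_smul]
    rw [h2]
    exact Submodule.smul_mem _ _ (Submodule.subset_span h1)

theorem latImg_mul_eq (hτ : IsWAut τ) {F : N →ₛₗ[τ] N} {s : ℕ} {r : ℤ}
    {M : Submodule (WittVector p k) N} (h : Isoc.latImg F s M = Isoc.pPow r M) (n : ℕ) :
    Isoc.latImg F (s * n) M = Isoc.pPow (r * n) M := by
  induction n with
  | zero => simp [latImg_zero, pPow_zero]
  | succ n ih =>
    rw [Nat.mul_succ, Nat.add_comm, latImg_add hτ, ih, latImg_pPow hτ, h, pPow_pPow]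
    congr 1
    push_cast
    ring

theorem latImg_mul_le (hτ : IsWAut τ) {F : N →ₛₗ[τ] N} {s : ℕ} {r : ℤ}
    {M : Submodule (WittVector p k) N} (h : Isoc.latImg F s M ≤ Isoc.pPow r M) (n : ℕ) :
    Isoc.latImg F (s * n) M ≤ Isoc.pPow (r * n) M := by
  induction n with
  | zero => simp [latImg_zero, pPow_zero]
  | succ n ih =>
    rw [Nat.mul_succ, Nat.add_comm, latImg_add hτ]
    refine le_trans (latImg_mono F s ih) ?_
    rw [latImg_pPow hτ]
    refine le_trans (pPow_mono _ h) ?_
    rw [pPow_pPow]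
    apply le_of_eq
    congr 1
    push_cast
    ring

theorem eq_zero_of_forall_mem_pPow {M : Submodule (WittVector p k) N} (hM : M.FG) {x : N}
    (h : ∀ n : ℕ, x ∈ Isoc.pPow (n : ℤ) M) : x = 0 := by
  haveI : Module.Finite (WittVector p k) M := Module.Finite.iff_fg.mpr hM
  have hx0 : x ∈ M := by
    have := h 0
    rwa [Nat.cast_zero, pPow_zero] at this
  have hI : Ideal.span {(p : WittVector p k)} ≠ ⊤ := by
    rw [Ne, Ideal.span_singleton_eq_top]
    exact (WittVector.irreducible p).not_isUnit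
  have key : (⟨x, hx0⟩ : M) ∈
      (⨅ i : ℕ, Ideal.span {(p : WittVector p k)} ^ i • ⊤ : Submodule (WittVector p k) M) := by
    rw [Submodule.mem_iInf]
    intro n
    obtain ⟨y, hy, hyx⟩ := mem_pPow.mp (h n)
    have e : (⟨x, hx0⟩ : M) = ((p : WittVector p k) ^ n) • (⟨y, hy⟩ : M) := by
      apply Subtype.ext
      show x = ((p : WittVector p k) ^ n) • y
      rw [← hyx, zpow_natCast, ← algebraMap_smul K(p, k) ((p : WittVector p k) ^ n) y, map_pow,
        map_natCast]
    rw [e]
    exact Submodule.smul_mem_smul (Ideal.pow_mem_pow (Ideal.mem_span_singleton_self _) n) trivial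
  rw [Ideal.iInf_pow_smul_eq_bot_of_isLocalRing _ hI] at key
  exact congrArg Subtype.val ((Submodule.mem_bot _).mp key)

theorem eq_zero_of_forall_mem_pPow_mul {M : Submodule (WittVector p k) N} (hM : M.FG) {x : N}
    {δ : ℤ} (hδ : 0 < δ) (h : ∀ n : ℕ, x ∈ Isoc.pPow (δ * n) M) : x = 0 := by
  apply eq_zero_of_forall_mem_pPow hM
  intro n
  refine pPow_anti ?_ M (h n)
  have : (0 : ℤ) ≤ n := Int.natCast_nonneg n
  nlinarith

end Lattice

end Groth.Agent.Lib.Helper90.IsocLib
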