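import Groth.Agent.Lib.Helper90.Isoc9

set_option autoImplicit false

open scoped Pointwise Isocrystal
open Filter Topology

universe u v w

namespace Groth.Agent.Lib.Helper90.IsocLib

section Ord

variable {p : ℕ} [Fact p.Prime] {k : Type u} [Field k] [CharP k p] [PerfectRing k p]
variable {N : Type v} [AddCommGroup N] [Module (WittVector p k) N] [Module K(p, k) N]
  [IsScalarTower (WittVector p k) K(p, k) N]
variable {τ : K(p, k) →+* K(p, k)}

theorem lattice_ne_bot [Nontrivial N] {M : Submodule (WittVector p k) N}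
    (hM : M.IsLattice K(p, k)) : M ≠ ⊥ := by
  rintro rfl
  have h1 := hM.span_eq_top
  have h2 : Submodule.span K(p, k) ((⊥ : Submodule (WittVector p k) N) : Set N) = ⊥ := by
    rw [Submodule.span_eq_bot]
    intro x hx
    exact hx
  rw [h2] at h1
  exact bot_ne_top h1

theorem isOrd_le_of_latImg_le {M : Submodule (WittVector p k) N} {F : N →ₛₗ[τ] N} {n : ℕ}
    {o r : ℤ} (ho : Isoc.IsOrd M F n o) (h : Isoc.latImg F n M ≤ Isoc.pPow r M) : r ≤ o := by
  by_contra hlt
  push_neg at hlt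
  have h1 : o + 1 ≤ r := by omega
  exact ho.2 (le_trans h (pPow_anti h1 M))

theorem isOrd_unique {M : Submodule (WittVector p k) N} {F : N →ₛₗ[τ] N} {n : ℕ}
    {o o' : ℤ} (ho : Isoc.IsOrd M F n o) (ho' : Isoc.IsOrd M F n o') : o = o' :=
  le_antisymm (isOrd_le_of_latImg_le ho' ho.1) (isOrd_le_of_latImg_le ho ho'.1)

/-- the order `ord_M(F^n)` exists -/
theorem exists_isOrd (hτ : IsWAut τ) [Nontrivial N] {F : N →ₛₗ[τ] N}
    (hF : Function.Surjective F) {M : Submodule (WittVector p k) N}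
    (hM : M.IsLattice K(p, k)) (n : ℕ) : ∃ r : ℤ, Isoc.IsOrd M F n r := by
  have hlat := latImg_isLattice hτ hF n hM
  have hne : Isoc.latImg F n M ≠ ⊥ := lattice_ne_bot hlat
  obtain ⟨x, hx, hx0⟩ := Submodule.exists_mem_ne_zero_of_ne_bot hne
  -- nonempty
  obtain ⟨c, hc⟩ := exists_pPow_le hlat.fg hM.span_eq_top
  rw [pPow_le_iff] at hc
  -- bounded
  have hbdd : ∃ R : ℕ, x ∉ Isoc.pPow (R : ℤ) M := by
    by_contra hcon
    push_neg at hcon
    exact hx0 (eq_zero_of_forall_mem_pPow hM.fg hcon)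
  obtain ⟨R, hR⟩ := hbdd
  obtain ⟨ub, hub, hmax⟩ := Int.exists_greatest_of_bdd
    (P := fun r : ℤ => Isoc.latImg F n M ≤ Isoc.pPow r M)
    ⟨R, fun z hz => by
      by_contra hlt
      push_neg at hlt
      exact hR (pPow_anti hlt.le M (hz hx))⟩ ⟨-(c : ℤ), hc⟩
  refine ⟨ub, hub, fun h => ?_⟩
  have := hmax (ub + 1) h
  omega

theorem isOrd_superadd (hτ : IsWAut τ) {M : Submodule (WittVector p k) N} {F : N →ₛₗ[τ] N}
    {m n : ℕ} {a b c : ℤ} (ha : Isoc.IsOrd M F m a) (hb : Isoc.IsOrd M F n b)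
    (hc : Isoc.IsOrd M F (m + n) c) : a + b ≤ c := by
  apply isOrd_le_of_latImg_le hc
  rw [latImg_add hτ]
  refine le_trans (latImg_mono F m hb.1) ?_
  rw [latImg_pPow hτ]
  refine le_trans (pPow_mono b ha.1) ?_
  rw [pPow_pPow, add_comm]

theorem isOrd_mul_height_le (hτ : IsWAut τ) [Module.Finite K(p, k) N] {h : ℕ}
    (b : Module.Basis (Fin h) K(p, k) N) {F : N →ₛₗ[τ] N} (hF : Function.Surjective F) {d : ℤ}
    (hd : Isoc.IsOrdP (Isoc.detCoeff b F) d)
    {M : Submodule (WittVector p k) N} (hM : M.IsLattice K(p, k)) {n : ℕ} {o : ℤ}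
    (hle : Isoc.latImg F n M ≤ Isoc.pPow o M) : o * h ≤ n * d := by
  have hfr : Module.finrank K(p, k) N = h := by
    rw [Module.finrank_eq_card_basis b, Fintype.card_fin]
  have h1 : IsIdx M (Isoc.latImg F n M) ((n : ℤ) * d) := isIdx_latImg hτ b hF hd hM n
  have h2 := IsIdx.pPow M o
  rw [hfr] at h2
  have h3 := h2.symm.trans h1
  have h4 := IsIdx.nonneg_of_le (pPow_isLattice o hM) hle h3
  linarith

/-- Fekete's lemma for integer superadditive sequences with linear upper bound -/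
theorem exists_tendsto_of_superadd (o : ℕ → ℤ) (hadd : ∀ m n, o m + o n ≤ o (m + n))
    (C : ℝ) (hC : ∀ n : ℕ, 1 ≤ n → (o n : ℝ) ≤ C * n) :
    ∃ lam : ℝ, Tendsto (fun n : ℕ => (o n : ℝ) / n) atTop (𝓝 lam) := by
  set u : ℕ → ℝ := fun n => -(o n : ℝ) with hu
  have hsub : Subadditive u := by
    intro m n
    simp only [hu]
    have := hadd m n
    have h' : ((o m + o n : ℤ) : ℝ) ≤ (o (m + n) : ℝ) := by exact_mod_cast this
    push_cast at h'
    linarith
  have hbdd : BddBelow (Set.range fun n => u n / n) := by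
    refine ⟨min (-C) 0, ?_⟩
    rintro _ ⟨n, rfl⟩
    simp only [hu]
    rcases Nat.eq_zero_or_pos n with rfl | hn
    · simp
    · have hnR : (0 : ℝ) < n := by exact_mod_cast hn
      refine le_trans (min_le_left _ _) ?_
      rw [le_div_iff₀ hnR]
      have := hC n hn
      linarith
  refine ⟨-hsub.lim, ?_⟩
  have := (hsub.tendsto_lim hbdd).neg
  refine this.congr fun n => ?_
  simp only [hu]
  ring

theorem exists_ord_seq_tendsto (hτ : IsWAut τ) [Nontrivial N] [Module.Finite K(p, k) N]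
    {F : N →ₛₗ[τ] N} (hF : Function.Bijective F) {M : Submodule (WittVector p k) N}
    (hM : M.IsLattice K(p, k)) :
    ∃ o : ℕ → ℤ, (∀ n : ℕ, Isoc.IsOrd M F n (o n)) ∧
      ∃ lam : ℝ, Tendsto (fun n : ℕ => (o n : ℝ) / n) atTop (𝓝 lam) := by
  choose o ho using fun n => exists_isOrd hτ hF.surjective hM n
  refine ⟨o, ho, ?_⟩
  obtain ⟨d, hd⟩ := exists_isOrdP_detCoeff hτ (Module.finBasis K(p, k) N) hF.injective
  have hpos : 0 < Module.finrank K(p, k) N := Module.finrank_pos
  generalize Module.finBasis K(p, k) N = b at hd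
  generalize Module.finrank K(p, k) N = h at b hd hpos
  have hhR : (0 : ℝ) < h := by exact_mod_cast hpos
  refine exists_tendsto_of_superadd o (fun m n => isOrd_superadd hτ (ho m) (ho n) (ho (m + n)))
    ((d : ℝ) / h) fun n _ => ?_
  have h1 := isOrd_mul_height_le hτ b hF.surjective hd hM (ho n).1
  have h2 : ((o n * h : ℤ) : ℝ) ≤ ((n * d : ℤ) : ℝ) := by exact_mod_cast h1
  push_cast at h2
  rw [div_mul_eq_mul_div, le_div_iff₀ hhR]
  linarith

theorem exists_lattice [Module.Finite K(p, k) N] :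
    ∃ M : Submodule (WittVector p k) N, M.IsLattice K(p, k) := by
  set b := Module.finBasis K(p, k) N with hb
  refine ⟨Submodule.span (WittVector p k) (Set.range b),
    ⟨Submodule.fg_span (Set.finite_range _), ?_⟩⟩
  rw [Submodule.span_span_of_tower]
  exact b.span_eq

theorem exists_isFirstSlope (hτ : IsWAut τ) [Nontrivial N] [Module.Finite K(p, k) N]
    {F : N →ₛₗ[τ] N} (hF : Function.Bijective F) : ∃ lam : ℝ, Isoc.IsFirstSlope F lam := by
  obtain ⟨M, hM⟩ := exists_lattice (p := p) (k := k) (N := N)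
  obtain ⟨o, ho, lam, hlam⟩ := exists_ord_seq_tendsto hτ hF hM
  exact ⟨lam, M, hM, o, fun n _ => ho n, hlam⟩

/-- the first slope does not depend on the lattice -/
theorem firstSlope_unique (hτ : IsWAut τ) {F : N →ₛₗ[τ] N} {lam₁ lam₂ : ℝ}
    (h₁ : Isoc.IsFirstSlope F lam₁) (h₂ : Isoc.IsFirstSlope F lam₂) : lam₁ = lam₂ := by
  have key : ∀ {a b : ℝ}, Isoc.IsFirstSlope F a → Isoc.IsFirstSlope F b → a ≤ b := by
    intro a b ha hb
    obtain ⟨M, hM, o, ho, hlim⟩ := ha
    refine le_of_tendsto hlim ?_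
    filter_upwards [Filter.eventually_ge_atTop 1] with n hn
    exact div_le_firstSlope_of_latImg_le hτ F hb hM hn (ho n hn).1
  exact le_antisymm (key h₁ h₂) (key h₂ h₁)

end Ord

end Groth.Agent.Lib.Helper90.IsocLib
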