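import Groth.Agent.Lib.Helper90.Isoc10

set_option autoImplicit false

open scoped Pointwise Isocrystal
open Filter Topology

universe u v w

namespace Groth.Agent.Lib.Helper90.IsocLib

section Ambient

variable {p : ℕ} [Fact p.Prime] {k : Type u} [Field k] [CharP k p] [PerfectRing k p]
variable {N : Type v} [AddCommGroup N] [Module (WittVector p k) N] [Module K(p, k) N]
  [IsScalarTower (WittVector p k) K(p, k) N]
variable {τ : K(p, k) →+* K(p, k)}

theorem exists_natpow_smul_mem_of_mem_span {M : Submodule (WittVector p k) N} {x : N}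
    (hx : x ∈ Submodule.span K(p, k) (M : Set N)) :
    ∃ n : ℕ, ((p : K(p, k)) ^ n) • x ∈ M := by
  induction hx using Submodule.span_induction with
  | mem y hy => exact ⟨0, by simpa using hy⟩
  | zero => exact ⟨0, by simp⟩
  | add a b _ _ ha hb =>
    obtain ⟨n, hn⟩ := ha
    obtain ⟨m, hm⟩ := hb
    refine ⟨n + m, ?_⟩
    rw [smul_add]
    refine M.add_mem ?_ ?_
    · rw [pow_add, mul_comm, mul_smul]
      exact natpow_smul_mem m hn
    · rw [pow_add, mul_smul]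
      exact natpow_smul_mem n hm
  | smul c a _ ha =>
    obtain ⟨n, hn⟩ := ha
    obtain ⟨m, w, hw⟩ := exists_pow_mul_eq c
    refine ⟨m + n, ?_⟩
    rw [smul_smul, pow_add, mul_assoc, mul_comm ((p : K(p, k)) ^ n), ← mul_assoc, hw,
      mul_smul, algebraMap_smul]
    exact M.smul_mem _ hn

/-- an injective semilinear endomorphism is bijective on every stable finite-dimensional
subspace -/
theorem exists_preimage_of_stable (hτ : IsWAut τ) [Module.Finite K(p, k) N] {F : N →ₛₗ[τ] N}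
    (hF : Function.Injective F) {P : Submodule K(p, k) N} (hP : ∀ x ∈ P, F x ∈ P) {y : N}
    (hy : y ∈ P) : ∃ x ∈ P, F x = y := by
  have hinj : Function.Injective (F.restrict hP) := by
    intro a b hab
    have : F (a : N) = F (b : N) := congrArg Subtype.val hab
    exact Subtype.ext (hF this)
  obtain ⟨x, hx⟩ := semilinear_surjective_of_injective hτ.surjective (F.restrict hP) hinj ⟨y, hy⟩
  exact ⟨x, x.2, congrArg Subtype.val hx⟩

theorem iterate_stable {F : N →ₛₗ[τ] N} {P : Submodule K(p, k) N} (hP : ∀ x ∈ P, F x ∈ P)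
    (n : ℕ) {x : N} (hx : x ∈ P) : (⇑F)^[n] x ∈ P := by
  induction n with
  | zero => exact hx
  | succ n ih => rw [Function.iterate_succ_apply']; exact hP _ ih

theorem exists_iterate_preimage_of_stable (hτ : IsWAut τ) [Module.Finite K(p, k) N]
    {F : N →ₛₗ[τ] N} (hF : Function.Injective F) {P : Submodule K(p, k) N}
    (hP : ∀ x ∈ P, F x ∈ P) (n : ℕ) {y : N} (hy : y ∈ P) : ∃ x ∈ P, (⇑F)^[n] x = y := by
  induction n generalizing y with
  | zero => exact ⟨y, hy, rfl⟩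
  | succ n ih =>
    obtain ⟨z, hz, hzy⟩ := exists_preimage_of_stable hτ hF hP hy
    obtain ⟨x, hx, hxz⟩ := ih hz
    exact ⟨x, hx, by rw [Function.iterate_succ_apply', hxz, hzy]⟩

/-- a stable subspace of an isoclinic subspace is isoclinic (ambient form) -/
theorem isoclinicIn_of_le (hτ : IsWAut τ) [Module.Finite K(p, k) N] {F : N →ₛₗ[τ] N}
    (hF : Function.Injective F) {A C : Submodule K(p, k) N} {μ : ℚ}
    (hA : IsoclinicIn F A μ) (hCA : C ≤ A) (hC : ∀ x ∈ C, F x ∈ C) : IsoclinicIn F C μ := by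
  obtain ⟨M, hfg, hspan, r, s, hs, hrs, hFM⟩ := hA
  set MC : Submodule (WittVector p k) N := M ⊓ C.restrictScalars (WittVector p k) with hMC
  refine ⟨MC, hfg.of_le inf_le_left, ?_, r, s, hs, hrs, ?_⟩
  · apply le_antisymm
    · rw [Submodule.span_le]
      intro x hx
      exact hx.2
    · intro x hx
      have hxA : x ∈ Submodule.span K(p, k) (M : Set N) := by rw [hspan]; exact hCA hx
      obtain ⟨n, hn⟩ := exists_natpow_smul_mem_of_mem_span hxA
      have h1 : ((p : K(p, k)) ^ n) • x ∈ MC := ⟨hn, C.smul_mem _ hx⟩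
      have h2 : x = ((p : K(p, k)) ^ n)⁻¹ • (((p : K(p, k)) ^ n) • x) := by
        rw [smul_smul, inv_mul_cancel₀ (pow_ne_zero _ p_ne_zero), one_smul]
      rw [h2]
      exact Submodule.smul_mem _ _ (Submodule.subset_span h1)
  · ext x
    rw [mem_latImg hτ, mem_pPow]
    constructor
    · rintro ⟨y, hy, rfl⟩
      have h1 : (⇑F)^[s] y ∈ Isoc.pPow r M := hFM ▸ iterate_mem_latImg hy.1
      obtain ⟨z, hz, hzy⟩ := mem_pPow.mp h1
      have hyC : (⇑F)^[s] y ∈ C := iterate_stable hC s hy.2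
      have hzC : z ∈ C := by
        have h2 : z = ((p : K(p, k)) ^ r)⁻¹ • (⇑F)^[s] y := by
          rw [← hzy, smul_smul, inv_mul_cancel₀ (zpow_ne_zero r p_ne_zero), one_smul]
        rw [h2]
        exact C.smul_mem _ hyC
      exact ⟨z, ⟨hz, hzC⟩, hzy⟩
    · rintro ⟨z, hz, rfl⟩
      have h1 : ((p : K(p, k)) ^ r) • z ∈ Isoc.latImg F s M := hFM ▸ smul_mem_pPow hz.1
      obtain ⟨y, hy, hyz⟩ := (mem_latImg hτ).mp h1
      have hzC : ((p : K(p, k)) ^ r) • z ∈ C := C.smul_mem _ hz.2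
      obtain ⟨y', hy'C, hy'⟩ := exists_iterate_preimage_of_stable hτ hF hC s hzC
      have h4 : y' = y := (hF.iterate s) (by rw [hy', hyz])
      exact ⟨y, ⟨hy, h4 ▸ hy'C⟩, hyz⟩

end Ambient

section Maps

variable {p : ℕ} [Fact p.Prime] {k : Type u} [Field k] [CharP k p] [PerfectRing k p]
variable {N₁ : Type v} [AddCommGroup N₁] [Module (WittVector p k) N₁] [Module K(p, k) N₁]
  [IsScalarTower (WittVector p k) K(p, k) N₁]
variable {N₂ : Type w} [AddCommGroup N₂] [Module (WittVector p k) N₂] [Module K(p, k) N₂]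
  [IsScalarTower (WittVector p k) K(p, k) N₂]
variable {τ : K(p, k) →+* K(p, k)}

theorem map_iterate_of_equivariant {F₁ : N₁ →ₛₗ[τ] N₁} {F₂ : N₂ →ₛₗ[τ] N₂}
    (f : N₁ →ₗ[K(p, k)] N₂) (hf : ∀ x, f (F₁ x) = F₂ (f x)) (j : ℕ) (x : N₁) :
    f ((⇑F₁)^[j] x) = (⇑F₂)^[j] (f x) := by
  induction j generalizing x with
  | zero => rfl
  | succ j ih => rw [Function.iterate_succ_apply', Function.iterate_succ_apply', hf, ih]

theorem map_latImg_of_equivariant (hτ : IsWAut τ) {F₁ : N₁ →ₛₗ[τ] N₁} {F₂ : N₂ →ₛₗ[τ] N₂}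
    (f : N₁ →ₗ[K(p, k)] N₂) (hf : ∀ x, f (F₁ x) = F₂ (f x)) (s : ℕ)
    (M : Submodule (WittVector p k) N₁) :
    (Isoc.latImg F₁ s M).map (f.restrictScalars (WittVector p k)) =
      Isoc.latImg F₂ s (M.map (f.restrictScalars (WittVector p k))) := by
  ext x
  rw [Submodule.mem_map, mem_latImg hτ]
  constructor
  · rintro ⟨y, hy, rfl⟩
    obtain ⟨z, hz, rfl⟩ := (mem_latImg hτ).mp hy
    exact ⟨f z, ⟨z, hz, rfl⟩, (map_iterate_of_equivariant f hf s z).symm⟩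
  · rintro ⟨_, ⟨z, hz, rfl⟩, rfl⟩
    exact ⟨(⇑F₁)^[s] z, iterate_mem_latImg hz, map_iterate_of_equivariant f hf s z⟩

theorem map_pPow_linear (f : N₁ →ₗ[K(p, k)] N₂) (r : ℤ) (M : Submodule (WittVector p k) N₁) :
    (Isoc.pPow r M).map (f.restrictScalars (WittVector p k)) =
      Isoc.pPow r (M.map (f.restrictScalars (WittVector p k))) := by
  ext x
  rw [Submodule.mem_map, mem_pPow]
  constructor
  · rintro ⟨y, hy, rfl⟩
    obtain ⟨z, hz, rfl⟩ := mem_pPow.mp hy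
    exact ⟨f z, ⟨z, hz, rfl⟩, (map_smul f _ z).symm⟩
  · rintro ⟨_, ⟨z, hz, rfl⟩, rfl⟩
    exact ⟨((p : K(p, k)) ^ r) • z, smul_mem_pPow hz, map_smul f _ z⟩

/-- the image of an isoclinic subspace under an equivariant linear map is isoclinic -/
theorem isoclinicIn_map (hτ : IsWAut τ) {F₁ : N₁ →ₛₗ[τ] N₁} {F₂ : N₂ →ₛₗ[τ] N₂}
    (f : N₁ →ₗ[K(p, k)] N₂) (hf : ∀ x, f (F₁ x) = F₂ (f x)) {P : Submodule K(p, k) N₁} {μ : ℚ}
    (hP : IsoclinicIn F₁ P μ) : IsoclinicIn F₂ (P.map f) μ := by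
  obtain ⟨M, hfg, hspan, r, s, hs, hrs, hFM⟩ := hP
  refine ⟨M.map (f.restrictScalars (WittVector p k)), hfg.map _, ?_, r, s, hs, hrs, ?_⟩
  · rw [← hspan, Submodule.map_span]
    rfl
  · rw [← map_latImg_of_equivariant hτ f hf, hFM, map_pPow_linear]

/-- morphisms between isoclinic isocrystals of different slopes vanish (general twist) -/
theorem hom_eq_zero_of_isIsoclinic_ne (hτ : IsWAut τ) {F₁ : N₁ →ₛₗ[τ] N₁} {F₂ : N₂ →ₛₗ[τ] N₂}
    (h₂ : Function.Injective F₂) {μ₁ μ₂ : ℚ} (hμ₁ : Isoc.IsIsoclinic F₁ μ₁)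
    (hμ₂ : Isoc.IsIsoclinic F₂ μ₂) (hne : μ₁ ≠ μ₂)
    (f : N₁ →ₗ[K(p, k)] N₂) (hf : ∀ x : N₁, f (F₁ x) = F₂ (f x)) : f = 0 := by
  obtain ⟨M₁, hM₁, r₁, s₁, hs₁, hrs₁, hFM₁⟩ := hμ₁
  obtain ⟨M₂, hM₂, r₂, s₂, hs₂, hrs₂, hFM₂⟩ := hμ₂
  have e₁ : ∀ n : ℕ, Isoc.latImg F₁ (s₁ * s₂ * n) M₁ = Isoc.pPow (r₁ * s₂ * n) M₁ := by
    intro n
    have h := latImg_mul_eq hτ hFM₁ (s₂ * n)
    rw [← mul_assoc] at h
    rw [h]
    congr 1
    push_cast
    ring
  have e₂ : ∀ n : ℕ, Isoc.latImg F₂ (s₁ * s₂ * n) M₂ = Isoc.pPow (r₂ * s₁ * n) M₂ := by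
    intro n
    have h := latImg_mul_eq hτ hFM₂ (s₁ * n)
    have e : s₂ * (s₁ * n) = s₁ * s₂ * n := by ring
    rw [e] at h
    rw [h]
    congr 1
    push_cast
    ring
  have hR : r₁ * s₂ ≠ r₂ * s₁ := by
    intro h
    apply hne
    rw [← hrs₁, ← hrs₂]
    have h1 : (s₁ : ℚ) ≠ 0 := by exact_mod_cast hs₁.ne'
    have h2 : (s₂ : ℚ) ≠ 0 := by exact_mod_cast hs₂.ne'
    rw [div_eq_div_iff h1 h2]
    exact_mod_cast h
  have hfiter := map_iterate_of_equivariant f hf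
  obtain ⟨c, hc⟩ := exists_pPow_le (M := M₁.map (f.restrictScalars (WittVector p k)))
    (M' := M₂) (hM₁.fg.map _) hM₂.span_eq_top
  have hc' : ∀ x ∈ M₁, ((p : K(p, k)) ^ c) • f x ∈ M₂ := by
    intro x hx
    apply hc
    rw [← zpow_natCast]
    exact smul_mem_pPow ⟨x, hx, rfl⟩
  have hzero : ∀ x ∈ M₁, f x = 0 := by
    intro x hx
    have hcx : ((p : K(p, k)) ^ c) • f x = 0 := by
      rcases lt_or_gt_of_ne hR with hlt | hgt
      · apply eq_zero_of_forall_mem_pPow_mul hM₂.fg (δ := r₂ * s₁ - r₁ * s₂) (by omega)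
        intro n
        have hx' : x ∈ Isoc.pPow (-(r₁ * s₂ * n)) (Isoc.latImg F₁ (s₁ * s₂ * n) M₁) := by
          rw [e₁, pPow_pPow, neg_add_cancel, pPow_zero]
          exact hx
        obtain ⟨y', hy', rfl⟩ := mem_pPow.mp hx'
        obtain ⟨y, hy, rfl⟩ := (mem_latImg hτ).mp hy'
        have h1 : ((p : K(p, k)) ^ c) •
            f (((p : K(p, k)) ^ (-(r₁ * s₂ * n))) • (⇑F₁)^[s₁ * s₂ * n] y) =
            ((p : K(p, k)) ^ (-(r₁ * s₂ * n))) •
              (⇑F₂)^[s₁ * s₂ * n] (((p : K(p, k)) ^ c) • f y) := by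
          rw [map_smul, hfiter, ← zpow_natCast, iterate_pzpow_smul, smul_comm]
        rw [h1]
        have h2 : (⇑F₂)^[s₁ * s₂ * n] (((p : K(p, k)) ^ c) • f y) ∈
            Isoc.pPow (r₂ * s₁ * n) M₂ := by
          rw [← e₂]
          exact iterate_mem_latImg (hc' y hy)
        have h3 := smul_mem_pPow (r := -(r₁ * s₂ * n)) h2
        rw [pPow_pPow] at h3
        convert h3 using 2
        ring
      · apply eq_zero_of_forall_mem_pPow_mul hM₂.fg (δ := r₁ * s₂ - r₂ * s₁) (by omega)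
        intro n
        have hzM : ((p : K(p, k)) ^ c) • f x ∈ M₂ := hc' x hx
        have h1 : (⇑F₁)^[s₁ * s₂ * n] x ∈ Isoc.pPow (r₁ * s₂ * n) M₁ := by
          rw [← e₁]
          exact iterate_mem_latImg hx
        obtain ⟨x', hx', hxx'⟩ := mem_pPow.mp h1
        have h2 : (⇑F₂)^[s₁ * s₂ * n] (((p : K(p, k)) ^ c) • f x) =
            ((p : K(p, k)) ^ (r₁ * s₂ * n)) • (((p : K(p, k)) ^ c) • f x') := by
          rw [← zpow_natCast, iterate_pzpow_smul, ← hfiter, ← hxx', map_smul, smul_comm]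
        have h3 : (⇑F₂)^[s₁ * s₂ * n] (((p : K(p, k)) ^ c) • f x) ∈
            Isoc.latImg F₂ (s₁ * s₂ * n) (Isoc.pPow ((r₁ * s₂ - r₂ * s₁) * n) M₂) := by
          rw [latImg_pPow hτ, e₂, pPow_pPow, h2]
          have h4 := smul_mem_pPow (r := r₁ * s₂ * n) (hc' x' hx')
          convert h4 using 2
          ring
        obtain ⟨z', hz', hzz'⟩ := (mem_latImg hτ).mp h3
        have h5 : z' = ((p : K(p, k)) ^ c) • f x := (h₂.iterate (s₁ * s₂ * n)) hzz'
        rw [← h5]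
        exact hz'
    rcases smul_eq_zero.mp hcx with h | h
    · exact absurd h (pow_ne_zero _ p_ne_zero)
    · exact h
  apply LinearMap.ext_on hM₁.span_eq_top
  intro x hx
  rw [hzero x hx]
  rfl

/-- ambient form: an equivariant map kills an isoclinic stable subspace whose image lies in an
isoclinic stable subspace of a different slope -/
theorem map_eq_zero_of_isoclinicIn_ne (hτ : IsWAut τ) {F₁ : N₁ →ₛₗ[τ] N₁} {F₂ : N₂ →ₛₗ[τ] N₂}
    (hF₂ : Function.Injective F₂) (f : N₁ →ₗ[K(p, k)] N₂) (hf : ∀ x : N₁, f (F₁ x) = F₂ (f x))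
    {P₁ : Submodule K(p, k) N₁} {P₂ : Submodule K(p, k) N₂}
    (hP₁ : ∀ x ∈ P₁, F₁ x ∈ P₁) (hP₂ : ∀ x ∈ P₂, F₂ x ∈ P₂) {μ₁ μ₂ : ℚ}
    (h₁ : IsoclinicIn F₁ P₁ μ₁) (h₂ : IsoclinicIn F₂ P₂ μ₂) (hne : μ₁ ≠ μ₂)
    (hmap : ∀ x ∈ P₁, f x ∈ P₂) : ∀ x ∈ P₁, f x = 0 := by
  set f' : P₁ →ₗ[K(p, k)] P₂ := (f.comp P₁.subtype).codRestrict P₂ (fun x => hmap x x.2) with hf'
  have hinj : Function.Injective (F₂.restrict hP₂) := by
    intro a b hab
    have : F₂ (a : N₂) = F₂ (b : N₂) := congrArg Subtype.val hab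
    exact Subtype.ext (hF₂ this)
  have heq : ∀ x : P₁, f' ((F₁.restrict hP₁) x) = (F₂.restrict hP₂) (f' x) := by
    intro x
    apply Subtype.ext
    exact hf x
  have h0 := hom_eq_zero_of_isIsoclinic_ne hτ hinj (isIsoclinic_of_isoclinicIn hτ F₁ hP₁ h₁)
    (isIsoclinic_of_isoclinicIn hτ F₂ hP₂ h₂) hne f' heq
  intro x hx
  have h1 : f' ⟨x, hx⟩ = 0 := by rw [h0]; rfl
  exact congrArg Subtype.val h1

end Maps

end Groth.Agent.Lib.Helper90.IsocLib
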