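import Groth.Agent.Lib.Helper90.Isoc11

set_option autoImplicit false

open scoped Pointwise Isocrystal
open Filter Topology

universe u v w

namespace Groth.Agent.Lib.Helper90.IsocLib

section Indep

variable {p : ℕ} [Fact p.Prime] {k : Type u} [Field k] [CharP k p] [PerfectRing k p]
variable {N : Type v} [AddCommGroup N] [Module (WittVector p k) N] [Module K(p, k) N]
  [IsScalarTower (WittVector p k) K(p, k) N]
variable {τ : K(p, k) →+* K(p, k)}

theorem inf_sup_le_of_isoclinicIn_ne (hτ : IsWAut τ) [Module.Finite K(p, k) N]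
    {F : N →ₛₗ[τ] N} (hF : Function.Injective F) {A B Q : Submodule K(p, k) N}
    (hA : ∀ x ∈ A, F x ∈ A) (hB : ∀ x ∈ B, F x ∈ B) (hQ : ∀ x ∈ Q, F x ∈ Q) {μ ν : ℚ}
    (hAi : IsoclinicIn F A μ) (hBi : IsoclinicIn F B ν) (hne : μ ≠ ν) :
    A ⊓ (B ⊔ Q) ≤ Q := by
  have hQ' : Q ≤ Q.comap F := fun x hx => hQ x hx
  set Fq : (N ⧸ Q) →ₛₗ[τ] (N ⧸ Q) := Q.mapQ Q F hQ' with hFq
  have hFq_apply : ∀ x : N, Fq (Q.mkQ x) = Q.mkQ (F x) := fun x => Submodule.mapQ_apply _ _ _ _
  have hFq_inj : Function.Injective Fq := by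
    rw [← LinearMap.ker_eq_bot, LinearMap.ker_eq_bot']
    intro x hx
    obtain ⟨x, rfl⟩ := Q.mkQ_surjective x
    rw [hFq_apply, Submodule.mkQ_apply, Submodule.Quotient.mk_eq_zero] at hx
    obtain ⟨q, hq, hqx⟩ := exists_preimage_of_stable hτ hF hQ hx
    have : q = x := hF hqx
    rw [Submodule.mkQ_apply, Submodule.Quotient.mk_eq_zero, ← this]
    exact hq
  set C := A ⊓ (B ⊔ Q) with hC
  have hCst : ∀ x ∈ C, F x ∈ C := by
    intro x hx
    refine ⟨hA x hx.1, ?_⟩
    obtain ⟨b, hb, q, hq, rfl⟩ := Submodule.mem_sup.mp hx.2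
    rw [map_add]
    exact Submodule.add_mem _ (Submodule.mem_sup_left (hB b hb)) (Submodule.mem_sup_right (hQ q hq))
  have hCi : IsoclinicIn F C μ := isoclinicIn_of_le hτ hF hAi inf_le_left hCst
  have hBi' : IsoclinicIn Fq (B.map Q.mkQ) ν := isoclinicIn_map hτ Q.mkQ hFq_apply hBi
  have hBst : ∀ x ∈ B.map Q.mkQ, Fq x ∈ B.map Q.mkQ := by
    rintro _ ⟨b, hb, rfl⟩
    rw [hFq_apply]
    exact ⟨F b, hB b hb, rfl⟩
  have hmap : ∀ x ∈ C, Q.mkQ x ∈ B.map Q.mkQ := by
    intro x hx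
    obtain ⟨b, hb, q, hq, rfl⟩ := Submodule.mem_sup.mp hx.2
    refine ⟨b, hb, ?_⟩
    rw [map_add]
    have : Q.mkQ q = 0 := by
      rw [Submodule.mkQ_apply, Submodule.Quotient.mk_eq_zero]
      exact hq
    rw [this, add_zero]
  have h0 := map_eq_zero_of_isoclinicIn_ne hτ hFq_inj Q.mkQ hFq_apply hCst hBst hCi hBi' hne hmap
  intro x hx
  have := h0 x hx
  rwa [Submodule.mkQ_apply, Submodule.Quotient.mk_eq_zero] at this

theorem finset_sup_slopePart_stable (hτ : IsWAut τ) [Module.Finite K(p, k) N] (F : N →ₛₗ[τ] N)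
    (S : Finset ℚ) : ∀ x ∈ S.sup (fun ν => Isoc.slopePart F ν), F x ∈ S.sup (fun ν => Isoc.slopePart F ν) := by
  classical
  induction S using Finset.induction_on with
  | empty =>
    intro x hx
    rw [Finset.sup_empty, Submodule.mem_bot] at hx ⊢
    rw [hx, map_zero]
  | insert ν S' _ ih =>
    intro x hx
    rw [Finset.sup_insert] at hx ⊢
    obtain ⟨a, ha, b, hb, rfl⟩ := Submodule.mem_sup.mp hx
    rw [map_add]
    exact Submodule.add_mem _ (Submodule.mem_sup_left ((slopePart_mem hτ F ν).1 a ha))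
      (Submodule.mem_sup_right (ih b hb))

theorem slopePart_disjoint_finset_sup (hτ : IsWAut τ) [Module.Finite K(p, k) N]
    {F : N →ₛₗ[τ] N} (hF : Function.Injective F) (μ : ℚ) (S : Finset ℚ) (hμ : μ ∉ S) :
    Disjoint (Isoc.slopePart F μ) (S.sup (fun ν => Isoc.slopePart F ν)) := by
  classical
  induction S using Finset.induction_on with
  | empty =>
    rw [Finset.sup_empty]
    exact disjoint_bot_right
  | insert ν S' hν ih =>
    rw [Finset.mem_insert, not_or] at hμ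
    obtain ⟨hne, hμS'⟩ := hμ
    rw [Finset.sup_insert, disjoint_iff, eq_bot_iff]
    have h1 := inf_sup_le_of_isoclinicIn_ne hτ hF (slopePart_mem hτ F μ).1 (slopePart_mem hτ F ν).1
      (finset_sup_slopePart_stable hτ F S') (slopePart_mem hτ F μ).2 (slopePart_mem hτ F ν).2 hne
    have h2 := (ih hμS').eq_bot
    rw [← h2]
    exact le_inf inf_le_left h1

theorem iSupIndep_slopePart (hτ : IsWAut τ) [Module.Finite K(p, k) N]
    {F : N →ₛₗ[τ] N} (hF : Function.Injective F) :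
    iSupIndep (fun μ : ℚ => Isoc.slopePart F μ) := by
  rw [iSupIndep_iff_supIndep]
  intro s t _ μ _ hμt
  exact slopePart_disjoint_finset_sup hτ hF μ t hμt

end Indep

end Groth.Agent.Lib.Helper90.IsocLib
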