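import Groth.Agent.Lib.Helper90.Isoc12

set_option autoImplicit false

open scoped Pointwise Isocrystal
open Filter Topology

universe u v w

namespace Groth.Agent.Lib.Helper90.IsocLib

section Complete

variable {p : ℕ} [Fact p.Prime] {k : Type u} [Field k] [CharP k p] [PerfectRing k p]

theorem witt_complete (f : ℕ → WittVector p k)
    (hf : ∀ c : ℕ, (p : WittVector p k) ^ c ∣ f (c + 1) - f c) :
    ∃ L : WittVector p k, ∀ c : ℕ, (p : WittVector p k) ^ c ∣ L - f c := by
  have hmn : ∀ m n : ℕ, m ≤ n → (p : WittVector p k) ^ m ∣ f n - f m := by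
    intro m n hmn
    induction n, hmn using Nat.le_induction with
    | base => simp
    | succ n hn ih =>
      have h1 : f (n + 1) - f m = (f (n + 1) - f n) + (f n - f m) := by ring
      rw [h1]
      exact dvd_add (dvd_trans (pow_dvd_pow _ hn) (hf n)) ih
  have hprec : IsPrecomplete (Ideal.span {(p : WittVector p k)}) (WittVector p k) :=
    (WittVector.isAdicCompleteIdealSpanP (p := p) (k := k)).toIsPrecomplete
  obtain ⟨L, hL⟩ := hprec.prec (f := f) (by
    intro m n hmn'
    rw [SModEq.sub_mem, smul_eq_mul, Ideal.mul_top, Ideal.span_singleton_pow,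
      Ideal.mem_span_singleton]
    have := hmn m n hmn'
    rw [← neg_sub]
    exact (dvd_neg).mpr this)
  refine ⟨L, fun c => ?_⟩
  have := hL c
  rw [SModEq.sub_mem, smul_eq_mul, Ideal.mul_top, Ideal.span_singleton_pow,
    Ideal.mem_span_singleton] at this
  rw [← neg_sub]
  exact (dvd_neg).mpr this

variable {N : Type v} [AddCommGroup N] [Module (WittVector p k) N] [Module K(p, k) N]
  [IsScalarTower (WittVector p k) K(p, k) N]

/-- lattices are `p`-adically complete -/
theorem lattice_complete [Module.Finite K(p, k) N] {M : Submodule (WittVector p k) N}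
    (hM : M.IsLattice K(p, k)) (y : ℕ → N) (hy : ∀ c, y c ∈ M)
    (hyy : ∀ c : ℕ, y (c + 1) - y c ∈ Isoc.pPow (c : ℤ) M) :
    ∃ z ∈ M, ∀ c : ℕ, z - y c ∈ Isoc.pPow (c : ℤ) M := by
  set e := latBasisL hM with he
  have h1 : ∀ c i, ∃ w : WittVector p k,
      e.repr (y c) i = algebraMap (WittVector p k) K(p, k) w :=
    fun c => (mem_lattice_iff_repr hM (y c)).mp (hy c)
  choose a ha using h1
  have h2 : ∀ i (c : ℕ), (p : WittVector p k) ^ c ∣ a (c + 1) i - a c i := by
    intro i c
    obtain ⟨w, hw⟩ := (mem_pPow_iff_repr hM (c : ℤ) _).mp (hyy c) i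
    rw [map_sub, Finsupp.sub_apply, ha, ha, ← map_sub, zpow_natCast] at hw
    refine ⟨w, ι_injective ?_⟩
    rw [hw, map_mul, map_pow, map_natCast]
  have h3 : ∀ i, ∃ L : WittVector p k, ∀ c : ℕ, (p : WittVector p k) ^ c ∣ L - a c i :=
    fun i => witt_complete (fun c => a c i) (h2 i)
  choose L hL using h3
  refine ⟨∑ i, L i • e i, ?_, fun c => ?_⟩
  · exact Submodule.sum_mem _ fun i _ => Submodule.smul_mem _ _ (latBasisL_mem hM i)
  · rw [mem_pPow_iff_repr hM]
    intro i
    obtain ⟨w, hw⟩ := hL i c
    refine ⟨w, ?_⟩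
    have h4 : e.repr (∑ j, L j • e j) i = algebraMap (WittVector p k) K(p, k) (L i) := by
      rw [map_sum, Finsupp.coe_finsetSum, Finset.sum_apply, Finset.sum_eq_single i]
      · rw [← algebraMap_smul K(p, k) (L i) (e i), map_smul, Finsupp.smul_apply,
          Module.Basis.repr_self, Finsupp.single_eq_same, smul_eq_mul, mul_one]
      · intro j _ hji
        rw [← algebraMap_smul K(p, k) (L j) (e j), map_smul, Finsupp.smul_apply,
          Module.Basis.repr_self, Finsupp.single_eq_of_ne hji.symm, smul_zero]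
      · intro hi
        exact absurd (Finset.mem_univ i) hi
    rw [map_sub, Finsupp.sub_apply, h4, ha, ← map_sub, hw, map_mul, map_pow, map_natCast,
      zpow_natCast]

end Complete

end Groth.Agent.Lib.Helper90.IsocLib
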