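import Groth.Agent.Lib.Helper90.Isoc13

set_option autoImplicit false

open scoped Pointwise Isocrystal
open Filter Topology

universe u v w

namespace Groth.Agent.Lib.Helper90.IsocLib

section Chains

theorem nat_antitone_stabilizes (f : ℕ → ℕ) (h : ∀ n, f (n + 1) ≤ f n) :
    ∃ n₀, ∀ n, n₀ ≤ n → f n = f n₀ := by
  have key : ∀ (v : ℕ) (f : ℕ → ℕ), (∀ n, f (n + 1) ≤ f n) → f 0 = v →
      ∃ n₀, ∀ n, n₀ ≤ n → f n = f n₀ := by
    intro v
    induction v using Nat.strong_induction_on with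
    | _ v ih =>
      intro f hf hv
      have hanti : ∀ m n, m ≤ n → f n ≤ f m := by
        intro m n hmn
        induction n, hmn using Nat.le_induction with
        | base => exact le_rfl
        | succ n _ ihn => exact le_trans (hf n) ihn
      by_cases hconst : ∀ n, f n = f 0
      · exact ⟨0, fun n _ => hconst n⟩
      · push_neg at hconst
        obtain ⟨m, hm⟩ := hconst
        have hlt : f m < v := by
          have := hanti 0 m (Nat.zero_le m)
          omega
        obtain ⟨n₁, hn₁⟩ := ih (f m) hlt (fun n => f (m + n)) (fun n => hf (m + n)) rfl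
        refine ⟨m + n₁, fun n hn => ?_⟩
        obtain ⟨t, rfl⟩ := Nat.exists_eq_add_of_le hn
        have := hn₁ (n₁ + t) (Nat.le_add_right _ _)
        rw [← Nat.add_assoc] at this
        exact this
  exact key (f 0) f h rfl

variable {p : ℕ} [Fact p.Prime] {k : Type u} [Field k] [CharP k p] [PerfectRing k p]
variable {N : Type v} [AddCommGroup N] [Module (WittVector p k) N] [Module K(p, k) N]
  [IsScalarTower (WittVector p k) K(p, k) N]
variable {τ : K(p, k) →+* K(p, k)}

/-- descending chains of lattices above a fixed lattice stabilize -/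
theorem antitone_chain_stabilizes [Module.Finite K(p, k) N] {A : Submodule (WittVector p k) N}
    (hA : A.IsLattice K(p, k)) (B : ℕ → Submodule (WittVector p k) N)
    (hanti : ∀ n, B (n + 1) ≤ B n) (hge : ∀ n, A ≤ B n) (hfg : (B 0).FG) :
    ∃ n₀, ∀ n, n₀ ≤ n → B n = B n₀ := by
  have hanti' : ∀ m n, m ≤ n → B n ≤ B m := by
    intro m n hmn
    induction n, hmn using Nat.le_induction with
    | base => exact le_rfl
    | succ n _ ihn => exact le_trans (hanti n) ihn
  have hlat : ∀ n, (B n).IsLattice K(p, k) := fun n =>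
    haveI := hA
    Submodule.IsLattice.of_le_of_isLattice_of_fg K(p, k) (hge n)
      (hfg.of_le (hanti' 0 n (Nat.zero_le n)))
  have hex : ∀ n, ∃ r : ℤ, IsIdx (B n) A r := fun n => IsIdx.exists (hlat n) hA
  choose i hi using hex
  have hnn : ∀ n, 0 ≤ i n := fun n => IsIdx.nonneg_of_le (hlat n) (hge n) (hi n)
  have hstep : ∀ n, ∃ e : ℤ, 0 ≤ e ∧ IsIdx (B n) (B (n + 1)) e ∧ i n = e + i (n + 1) := by
    intro n
    obtain ⟨e, he⟩ := IsIdx.exists (hlat n) (hlat (n + 1))
    refine ⟨e, IsIdx.nonneg_of_le (hlat n) (hanti n) he, he, ?_⟩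
    exact IsIdx.unique (hlat n) (hi n) (he.trans (hi (n + 1)))
  obtain ⟨n₀, hn₀⟩ := nat_antitone_stabilizes (fun n => (i n).toNat) (fun n => by
    obtain ⟨e, he0, _, he⟩ := hstep n
    have := hnn n
    have := hnn (n + 1)
    show (i (n + 1)).toNat ≤ (i n).toNat
    omega)
  refine ⟨n₀, fun n hn => ?_⟩
  induction n, hn using Nat.le_induction with
  | base => rfl
  | succ n hn ihn =>
    rw [← ihn]
    obtain ⟨e, he0, heidx, he⟩ := hstep n
    have h1 := hn₀ n hn
    have h2 := hn₀ (n + 1) (Nat.le_succ_of_le hn)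
    change (i n).toNat = (i n₀).toNat at h1
    change (i (n + 1)).toNat = (i n₀).toNat at h2
    have := hnn n
    have := hnn (n + 1)
    have he00 : e = 0 := by omega
    rw [he00] at heidx
    exact IsIdx.eq_of_le_of_zero (hlat n) (hanti n) heidx

/-- ascending chains of submodules of a finitely generated module stabilize -/
theorem monotone_chain_stabilizes {A : Submodule (WittVector p k) N} (hA : A.FG)
    (B : ℕ → Submodule (WittVector p k) N) (hmono : ∀ n, B n ≤ B (n + 1)) (hle : ∀ n, B n ≤ A) :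
    ∃ n₀, ∀ n, n₀ ≤ n → B n = B n₀ := by
  haveI : IsNoetherian (WittVector p k) A := isNoetherian_of_fg_of_noetherian A hA
  have hmono' : Monotone fun n => (B n).comap A.subtype := by
    apply monotone_nat_of_le_succ
    intro n
    exact Submodule.comap_mono (hmono n)
  obtain ⟨n₀, hn₀⟩ := monotone_stabilizes_iff_noetherian.mpr inferInstance ⟨_, hmono'⟩
  refine ⟨n₀, fun n hn => ?_⟩
  have h1 := hn₀ n hn
  simp only [OrderHom.coe_mk] at h1
  have h2 : ∀ m, B m = ((B m).comap A.subtype).map A.subtype := by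
    intro m
    rw [Submodule.map_comap_subtype, inf_eq_right.mpr (hle m)]
  rw [h2 n, h2 n₀, h1]

end Chains

section Fitting

variable {p : ℕ} [Fact p.Prime] {k : Type u} [Field k] [CharP k p] [PerfectRing k p]
variable {N : Type v} [AddCommGroup N] [Module (WittVector p k) N] [Module K(p, k) N]
  [IsScalarTower (WittVector p k) K(p, k) N]
variable {τ : K(p, k) →+* K(p, k)}

/-- preimage of a `W`-submodule under an iterate of a semilinear map -/
def semiComap (hτ : IsWAut τ) (G : N →ₛₗ[τ] N) (j : ℕ) (X : Submodule (WittVector p k) N) :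
    Submodule (WittVector p k) N where
  carrier := {w | (⇑G)^[j] w ∈ X}
  add_mem' := by
    intro a b ha hb
    simp only [Set.mem_setOf_eq] at ha hb ⊢
    rw [iterate_add']
    exact X.add_mem ha hb
  zero_mem' := by
    simp only [Set.mem_setOf_eq]
    rw [iterate_zero']
    exact X.zero_mem
  smul_mem' := by
    intro c x hx
    simp only [Set.mem_setOf_eq] at hx ⊢
    obtain ⟨w', hw'⟩ := iterate_wsmul' hτ G j c
    rw [hw']
    exact X.smul_mem _ hx

theorem mem_semiComap (hτ : IsWAut τ) (G : N →ₛₗ[τ] N) (j : ℕ)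
    (X : Submodule (WittVector p k) N) (w : N) :
    w ∈ semiComap hτ G j X ↔ (⇑G)^[j] w ∈ X := Iff.rfl

theorem iterate_sub' (F : N →ₛₗ[τ] N) (s : ℕ) (x y : N) :
    (⇑F)^[s] (x - y) = (⇑F)^[s] x - (⇑F)^[s] y :=
  (Isoc.iter F s).map_sub x y

theorem latImg_succ_le (hτ : IsWAut τ) {G : N →ₛₗ[τ] N} {M : Submodule (WittVector p k) N}
    (hGM : Isoc.latImg G 1 M ≤ M) (n : ℕ) : Isoc.latImg G (n + 1) M ≤ Isoc.latImg G n M := by
  rw [latImg_add hτ]
  exact latImg_mono G n hGM

theorem latImg_antitone (hτ : IsWAut τ) {G : N →ₛₗ[τ] N} {M : Submodule (WittVector p k) N}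
    (hGM : Isoc.latImg G 1 M ≤ M) {m n : ℕ} (hmn : m ≤ n) :
    Isoc.latImg G n M ≤ Isoc.latImg G m M := by
  induction n, hmn using Nat.le_induction with
  | base => exact le_rfl
  | succ n _ ih => exact le_trans (latImg_succ_le hτ hGM n) ih

theorem latImg_le_self (hτ : IsWAut τ) {G : N →ₛₗ[τ] N} {M : Submodule (WittVector p k) N}
    (hGM : Isoc.latImg G 1 M ≤ M) (n : ℕ) : Isoc.latImg G n M ≤ M := by
  have := latImg_antitone hτ hGM (Nat.zero_le n)
  rwa [latImg_zero] at this

theorem iterate_mem_pPow_of_stable (hτ : IsWAut τ) {G : N →ₛₗ[τ] N}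
    {M : Submodule (WittVector p k) N} (hGM : Isoc.latImg G 1 M ≤ M) (c : ℤ) (n : ℕ) {x : N}
    (hx : x ∈ Isoc.pPow c M) : (⇑G)^[n] x ∈ Isoc.pPow c M := by
  have h1 : (⇑G)^[n] x ∈ Isoc.latImg G n (Isoc.pPow c M) := iterate_mem_latImg hx
  rw [latImg_pPow hτ] at h1
  exact pPow_mono c (latImg_le_self hτ hGM n) h1

theorem fitting_exists (hτ : IsWAut τ) [Module.Finite K(p, k) N] {G : N →ₛₗ[τ] N}
    {M : Submodule (WittVector p k) N} (hM : M.IsLattice K(p, k))
    (hGM : Isoc.latImg G 1 M ≤ M) (c : ℕ) {x : N} (hx : x ∈ M) :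
    ∃ y ∈ M, (∀ n, y ∈ Isoc.latImg G n M ⊔ Isoc.pPow (c : ℤ) M) ∧
      ∃ n, (⇑G)^[n] (x - y) ∈ Isoc.pPow (c : ℤ) M := by
  set B : ℕ → Submodule (WittVector p k) N := fun n => Isoc.latImg G n M ⊔ Isoc.pPow (c : ℤ) M
    with hB
  have hanti : ∀ n, B (n + 1) ≤ B n := fun n => sup_le_sup_right (latImg_succ_le hτ hGM n) _
  have hanti' : ∀ m n, m ≤ n → B n ≤ B m := fun m n hmn =>
    sup_le_sup_right (latImg_antitone hτ hGM hmn) _
  have hfg : (B 0).FG := (latImg_fg hτ G 0 hM.fg).sup (pPow_fg _ hM.fg)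
  obtain ⟨n₀, hn₀⟩ := antitone_chain_stabilizes (pPow_isLattice (c : ℤ) hM) B hanti
    (fun n => le_sup_right) hfg
  have h1 : (⇑G)^[n₀] x ∈ B (n₀ + n₀) := by
    rw [hn₀ (n₀ + n₀) (Nat.le_add_right _ _)]
    exact Submodule.mem_sup_left (iterate_mem_latImg hx)
  obtain ⟨u, hu, v, hv, huv⟩ := Submodule.mem_sup.mp h1
  obtain ⟨m, hm, rfl⟩ := (mem_latImg hτ).mp hu
  refine ⟨(⇑G)^[n₀] m, latImg_le_self hτ hGM n₀ (iterate_mem_latImg hm), fun n => ?_, n₀, ?_⟩
  · have h2 : (⇑G)^[n₀] m ∈ B n₀ := Submodule.mem_sup_left (iterate_mem_latImg hm)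
    rcases le_total n n₀ with h | h
    · exact hanti' n n₀ h h2
    · have := hn₀ n h
      show (⇑G)^[n₀] m ∈ B n
      rw [this]
      exact h2
  · rw [iterate_sub', ← huv, Function.iterate_add_apply]
    simpa using hv

theorem fitting_unique (hτ : IsWAut τ) {G : N →ₛₗ[τ] N}
    {M : Submodule (WittVector p k) N} (hM : M.FG)
    (hGM : Isoc.latImg G 1 M ≤ M) (c : ℕ) {w : N}
    (hw : ∀ n, w ∈ Isoc.latImg G n M ⊔ Isoc.pPow (c : ℤ) M)
    (hn : ∃ n, (⇑G)^[n] w ∈ Isoc.pPow (c : ℤ) M) : w ∈ Isoc.pPow (c : ℤ) M := by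
  set K : ℕ → Submodule (WittVector p k) N :=
    fun j => semiComap hτ G j (Isoc.pPow (c : ℤ) M) ⊓ M with hK
  have hmono : ∀ j, K j ≤ K (j + 1) := by
    intro j x hx
    refine ⟨?_, hx.2⟩
    show (⇑G)^[j + 1] x ∈ Isoc.pPow (c : ℤ) M
    rw [Function.iterate_succ_apply']
    have := iterate_mem_pPow_of_stable hτ hGM (c : ℤ) 1 ((mem_semiComap hτ G j _ x).mp hx.1)
    simpa using this
  obtain ⟨j₀, hj₀⟩ := monotone_chain_stabilizes hM K hmono (fun j => inf_le_right)
  obtain ⟨n, hn⟩ := hn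
  obtain ⟨u, hu, v, hv, rfl⟩ := Submodule.mem_sup.mp (hw j₀)
  obtain ⟨m, hm, rfl⟩ := (mem_latImg hτ).mp hu
  have h1 : (⇑G)^[n] ((⇑G)^[j₀] m) ∈ Isoc.pPow (c : ℤ) M := by
    have h2 := iterate_mem_pPow_of_stable hτ hGM (c : ℤ) n hv
    rw [iterate_add'] at hn
    have := Submodule.sub_mem _ hn h2
    simpa using this
  have h3 : m ∈ K (n + j₀) := by
    refine ⟨?_, hm⟩
    show (⇑G)^[n + j₀] m ∈ Isoc.pPow (c : ℤ) M
    rw [Function.iterate_add_apply]
    exact h1
  rw [hj₀ (n + j₀) (Nat.le_add_left _ _)] at h3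
  exact Submodule.add_mem _ ((mem_semiComap hτ G j₀ _ m).mp h3.1) hv

/-- Fitting decomposition of a vector of a stable lattice: a part in all images plus a
topologically nilpotent part -/
theorem fitting_decomp (hτ : IsWAut τ) [Module.Finite K(p, k) N] {G : N →ₛₗ[τ] N}
    (hG : Function.Surjective G) {M : Submodule (WittVector p k) N} (hM : M.IsLattice K(p, k))
    (hGM : Isoc.latImg G 1 M ≤ M) {x : N} (hx : x ∈ M) :
    ∃ y z : N, x = y + z ∧ (∀ n, y ∈ Isoc.latImg G n M) ∧ z ∈ M ∧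
      ∀ c : ℕ, ∃ n, (⇑G)^[n] z ∈ Isoc.pPow (c : ℤ) M := by
  choose Y hYM hYB hYn using fun c : ℕ => fitting_exists hτ hM hGM c hx
  choose nn hnn using hYn
  have hcompat : ∀ c : ℕ, Y (c + 1) - Y c ∈ Isoc.pPow (c : ℤ) M := by
    intro c
    apply fitting_unique hτ hM.fg hGM c
    · intro n
      refine Submodule.sub_mem _ ?_ (hYB c n)
      have h1 := hYB (c + 1) n
      refine (sup_le_sup_left (pPow_anti ?_ M) _) h1
      push_cast
      omega
    · refine ⟨nn c + nn (c + 1), ?_⟩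
      have e : Y (c + 1) - Y c = (x - Y c) - (x - Y (c + 1)) := by abel
      rw [e, iterate_sub']
      refine Submodule.sub_mem _ ?_ ?_
      · rw [Nat.add_comm, Function.iterate_add_apply]
        exact iterate_mem_pPow_of_stable hτ hGM _ _ (hnn c)
      · rw [Function.iterate_add_apply]
        refine iterate_mem_pPow_of_stable hτ hGM _ _ ?_
        refine pPow_anti ?_ M (hnn (c + 1))
        push_cast
        omega
  obtain ⟨y, hyM, hy⟩ := lattice_complete hM Y hYM hcompat
  refine ⟨y, x - y, by abel, fun n => ?_, Submodule.sub_mem _ hx hyM, fun c => ?_⟩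
  · have hlat := latImg_isLattice hτ hG n hM
    obtain ⟨e, he⟩ := exists_pPow_le hM.fg hlat.span_eq_top
    have h1 : Y e ∈ Isoc.latImg G n M := by
      have := hYB e n
      rwa [sup_eq_left.mpr he] at this
    have h2 : y = Y e + (y - Y e) := by abel
    rw [h2]
    exact Submodule.add_mem _ h1 (he (hy e))
  · refine ⟨nn c, ?_⟩
    have e : x - y = (x - Y c) - (y - Y c) := by abel
    rw [e, iterate_sub']
    exact Submodule.sub_mem _ (hnn c) (iterate_mem_pPow_of_stable hτ hGM _ _ (hy c))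

end Fitting

end Groth.Agent.Lib.Helper90.IsocLib
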