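import Groth.Agent.Lib.Helper90.Isoc14

set_option autoImplicit false

open scoped Pointwise Isocrystal
open Filter Topology

universe u v w

namespace Groth.Agent.Lib.Helper90.IsocLib

section Parts

variable {p : ℕ} [Fact p.Prime] {k : Type u} [Field k] [CharP k p] [PerfectRing k p]
variable {N : Type v} [AddCommGroup N] [Module (WittVector p k) N] [Module K(p, k) N]
  [IsScalarTower (WittVector p k) K(p, k) N]
variable {τ τ' : K(p, k) →+* K(p, k)}

theorem twisted_smul_mem_pPow (hτ' : IsWAut τ') (a : K(p, k)) :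
    ∃ e : ℕ, ∀ (c : ℤ) (M : Submodule (WittVector p k) N) (y : N),
      y ∈ Isoc.pPow (c + e) M → τ' a • y ∈ Isoc.pPow c M := by
  obtain ⟨e, w, hw⟩ := exists_pow_mul_eq a
  obtain ⟨σ, hσ⟩ := hτ'
  refine ⟨e, fun c M y hy => ?_⟩
  obtain ⟨m, hm, rfl⟩ := mem_pPow.mp hy
  have h1 : (p : K(p, k)) ^ e * τ' a = algebraMap (WittVector p k) K(p, k) (σ w) := by
    rw [← hσ, ← hw, map_mul, map_pow, map_natCast]
  have h2 : τ' a • ((p : K(p, k)) ^ (c + e)) • m =
      ((p : K(p, k)) ^ c) • ((σ w) • m) := by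
    rw [← algebraMap_smul K(p, k) (σ w) m, ← h1, smul_smul, smul_smul, zpow_add₀ p_ne_zero,
      zpow_natCast]
    congr 1
    ring
  rw [h2]
  exact smul_mem_pPow (M.smul_mem _ hm)

/-- the topologically nilpotent part of `N` for `G` with respect to a `G`-stable lattice -/
def nilPart (hτ' : IsWAut τ') (G : N →ₛₗ[τ'] N) (M : Submodule (WittVector p k) N)
    (hGM : Isoc.latImg G 1 M ≤ M) : Submodule K(p, k) N where
  carrier := {z | ∀ c : ℤ, ∃ n, (⇑G)^[n] z ∈ Isoc.pPow c M}
  add_mem' := by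
    intro a b ha hb c
    obtain ⟨n, hn⟩ := ha c
    obtain ⟨m, hm⟩ := hb c
    refine ⟨n + m, ?_⟩
    rw [iterate_add']
    refine Submodule.add_mem _ ?_ ?_
    · rw [Nat.add_comm, Function.iterate_add_apply]
      exact iterate_mem_pPow_of_stable hτ' hGM c m hn
    · rw [Function.iterate_add_apply]
      exact iterate_mem_pPow_of_stable hτ' hGM c n hm
  zero_mem' := by
    intro c
    exact ⟨0, by simp⟩
  smul_mem' := by
    intro a z hz c
    obtain ⟨e, he⟩ := exists_pow_mul_eq a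
    obtain ⟨w, hw⟩ := he
    obtain ⟨n, hn⟩ := hz (c + e)
    refine ⟨n, ?_⟩
    rw [iterate_smul]
    obtain ⟨σ, hσ⟩ := hτ'.pow n
    obtain ⟨m, hm, hmy⟩ := mem_pPow.mp hn
    have h1 : (p : K(p, k)) ^ e * (τ' ^ n) a = algebraMap (WittVector p k) K(p, k) (σ w) := by
      rw [← hσ, ← hw, map_mul, map_pow, map_natCast]
    have h2 : (τ' ^ n) a • ((p : K(p, k)) ^ (c + e)) • m =
        ((p : K(p, k)) ^ c) • ((σ w) • m) := by
      rw [← algebraMap_smul K(p, k) (σ w) m, ← h1, smul_smul, smul_smul, zpow_add₀ p_ne_zero,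
        zpow_natCast]
      congr 1
      ring
    rw [← hmy, h2]
    exact smul_mem_pPow (M.smul_mem _ hm)

theorem mem_nilPart (hτ' : IsWAut τ') (G : N →ₛₗ[τ'] N) (M : Submodule (WittVector p k) N)
    (hGM : Isoc.latImg G 1 M ≤ M) (z : N) :
    z ∈ nilPart hτ' G M hGM ↔ ∀ c : ℤ, ∃ n, (⇑G)^[n] z ∈ Isoc.pPow c M := Iff.rfl

theorem exists_latImg_one_le_pPow (hτ : IsWAut τ) (F : N →ₛₗ[τ] N)
    {M : Submodule (WittVector p k) N} (hM : M.IsLattice K(p, k)) :
    ∃ e : ℕ, Isoc.latImg F 1 M ≤ Isoc.pPow (-(e : ℤ)) M := by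
  obtain ⟨e, he⟩ := exists_pPow_le (latImg_fg hτ F 1 hM.fg) hM.span_eq_top
  exact ⟨e, pPow_le_iff.mp he⟩

theorem apply_mem_pPow_of_mem_pPow (hτ : IsWAut τ) (F : N →ₛₗ[τ] N)
    {M : Submodule (WittVector p k) N} {e : ℕ}
    (he : Isoc.latImg F 1 M ≤ Isoc.pPow (-(e : ℤ)) M) {c : ℤ} {x : N}
    (hx : x ∈ Isoc.pPow c M) : F x ∈ Isoc.pPow (c - e) M := by
  have h1 : F x ∈ Isoc.latImg F 1 (Isoc.pPow c M) := by
    have := iterate_mem_latImg (F := F) (s := 1) hx
    simpa using this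
  rw [latImg_pPow hτ] at h1
  have h2 := pPow_mono c he h1
  rw [pPow_pPow] at h2
  convert h2 using 2
  ring

theorem nilPart_stable (hτ : IsWAut τ) (hτ' : IsWAut τ') (F : N →ₛₗ[τ] N) (G : N →ₛₗ[τ'] N)
    (hcomm : ∀ x, G (F x) = F (G x)) {M : Submodule (WittVector p k) N}
    (hM : M.IsLattice K(p, k)) (hGM : Isoc.latImg G 1 M ≤ M) :
    ∀ x ∈ nilPart hτ' G M hGM, F x ∈ nilPart hτ' G M hGM := by
  obtain ⟨e, he⟩ := exists_latImg_one_le_pPow hτ F hM
  have hcomm' : ∀ (n : ℕ) (x : N), (⇑G)^[n] (F x) = F ((⇑G)^[n] x) := by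
    intro n
    induction n with
    | zero => intro x; rfl
    | succ n ih =>
      intro x
      rw [Function.iterate_succ_apply', Function.iterate_succ_apply', ih, hcomm]
  intro z hz c
  obtain ⟨n, hn⟩ := hz (c + e)
  refine ⟨n, ?_⟩
  rw [hcomm']
  have := apply_mem_pPow_of_mem_pPow hτ F he hn
  convert this using 2
  ring

theorem nilPart_ne_top (hτ' : IsWAut τ') (G : N →ₛₗ[τ'] N) {M : Submodule (WittVector p k) N}
    (hM : M.FG) (hGM : Isoc.latImg G 1 M ≤ M)
    (hnot : ∀ n, ¬ Isoc.latImg G n M ≤ Isoc.pPow 1 M) : nilPart hτ' G M hGM ≠ ⊤ := by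
  intro htop
  obtain ⟨S, hS⟩ := hM
  have h1 : ∀ x : N, ∃ n, (⇑G)^[n] x ∈ Isoc.pPow 1 M := by
    intro x
    have : x ∈ nilPart hτ' G M hGM := by rw [htop]; trivial
    exact this 1
  choose f hf using h1
  set n := S.sup f with hn
  have h2 : ∀ x ∈ S, (⇑G)^[n] x ∈ Isoc.pPow 1 M := by
    intro x hx
    have hle : f x ≤ n := Finset.le_sup hx
    obtain ⟨t, ht⟩ := Nat.exists_eq_add_of_le hle
    rw [ht, Nat.add_comm, Function.iterate_add_apply]
    exact iterate_mem_pPow_of_stable hτ' hGM 1 t (hf x)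
  have key : ∀ x ∈ Submodule.span (WittVector p k) (S : Set N),
      (⇑G)^[n] x ∈ Isoc.pPow 1 M := by
    intro x hx
    induction hx using Submodule.span_induction with
    | mem y hy => exact h2 y hy
    | zero => rw [iterate_zero']; exact Submodule.zero_mem _
    | add a b _ _ ha hb =>
      rw [iterate_add']
      exact Submodule.add_mem _ ha hb
    | smul c a _ ha =>
      obtain ⟨w', hw'⟩ := iterate_wsmul' hτ' G n c
      rw [hw']
      exact Submodule.smul_mem _ _ ha
  apply hnot n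
  intro y hy
  obtain ⟨x, hx, rfl⟩ := (mem_latImg hτ').mp hy
  rw [← hS] at hx
  exact key x hx

/-- the intersection of all images `G^n M` -/
noncomputable def coreLat (G : N →ₛₗ[τ'] N) (M : Submodule (WittVector p k) N) :
    Submodule (WittVector p k) N := ⨅ n, Isoc.latImg G n M

theorem mem_coreLat (G : N →ₛₗ[τ'] N) (M : Submodule (WittVector p k) N) (x : N) :
    x ∈ coreLat G M ↔ ∀ n, x ∈ Isoc.latImg G n M := Submodule.mem_iInf _

theorem coreLat_le (G : N →ₛₗ[τ'] N) (M : Submodule (WittVector p k) N) : coreLat G M ≤ M := by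
  intro x hx
  have := (mem_coreLat G M x).mp hx 0
  rwa [latImg_zero] at this

theorem latImg_one_coreLat (hτ' : IsWAut τ') {G : N →ₛₗ[τ'] N} (hG : Function.Injective G)
    {M : Submodule (WittVector p k) N} (hGM : Isoc.latImg G 1 M ≤ M) :
    Isoc.latImg G 1 (coreLat G M) = coreLat G M := by
  apply le_antisymm
  · intro x hx
    obtain ⟨m, hm, rfl⟩ := (mem_latImg hτ').mp hx
    rw [mem_coreLat]
    intro n
    rcases n with _ | n
    · rw [latImg_zero]
      exact hGM (iterate_mem_latImg (coreLat_le G M hm))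
    · rw [Nat.add_comm, latImg_add hτ']
      exact iterate_mem_latImg ((mem_coreLat G M m).mp hm n)
  · intro x hx
    have h1 := (mem_coreLat G M x).mp hx 1
    obtain ⟨m, hm, rfl⟩ := (mem_latImg hτ').mp h1
    refine iterate_mem_latImg ?_
    rw [mem_coreLat]
    intro n
    have h2 := (mem_coreLat G M _).mp hx (n + 1)
    obtain ⟨m', hm', hmm'⟩ := (mem_latImg hτ').mp h2
    rw [Function.iterate_succ_apply', Function.iterate_one] at hmm'
    have : (⇑G)^[n] m' = m := hG hmm'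
    rw [← this]
    exact iterate_mem_latImg hm'

/-- the span of the core: the part of `N` on which `G` is bijective on a lattice -/
noncomputable def bijPart (G : N →ₛₗ[τ'] N) (M : Submodule (WittVector p k) N) : Submodule K(p, k) N :=
  Submodule.span K(p, k) (coreLat G M : Set N)

theorem bijPart_stable (hτ : IsWAut τ) (hτ' : IsWAut τ') (F : N →ₛₗ[τ] N) (G : N →ₛₗ[τ'] N)
    (hcomm : ∀ x, G (F x) = F (G x)) {M : Submodule (WittVector p k) N}
    (hM : M.IsLattice K(p, k)) :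
    ∀ x ∈ bijPart G M, F x ∈ bijPart G M := by
  obtain ⟨e, he⟩ := exists_latImg_one_le_pPow hτ F hM
  have hcomm' : ∀ (n : ℕ) (x : N), (⇑G)^[n] (F x) = F ((⇑G)^[n] x) := by
    intro n
    induction n with
    | zero => intro x; rfl
    | succ n ih =>
      intro x
      rw [Function.iterate_succ_apply', Function.iterate_succ_apply', ih, hcomm]
  have hcore : ∀ m ∈ coreLat G M, F m ∈ bijPart G M := by
    intro m hm
    have h1 : ((p : K(p, k)) ^ (e : ℤ)) • F m ∈ coreLat G M := by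
      rw [mem_coreLat]
      intro n
      obtain ⟨m', hm', rfl⟩ := (mem_latImg hτ').mp ((mem_coreLat G M m).mp hm n)
      rw [← hcomm']
      have h2 : F m' ∈ Isoc.pPow (-(e : ℤ)) M := he (by
        have := iterate_mem_latImg (F := F) (s := 1) hm'
        simpa using this)
      have h3 : (⇑G)^[n] (F m') ∈ Isoc.latImg G n (Isoc.pPow (-(e : ℤ)) M) :=
        iterate_mem_latImg h2
      rw [latImg_pPow hτ'] at h3
      have h4 := smul_mem_pPow (r := (e : ℤ)) h3
      rwa [pPow_pPow, add_neg_cancel, pPow_zero] at h4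
    have h5 : F m = ((p : K(p, k)) ^ (e : ℤ))⁻¹ • (((p : K(p, k)) ^ (e : ℤ)) • F m) := by
      rw [smul_smul, inv_mul_cancel₀ (zpow_ne_zero _ p_ne_zero), one_smul]
    rw [h5]
    exact Submodule.smul_mem _ _ (Submodule.subset_span h1)
  intro x hx
  unfold bijPart at hx
  induction hx using Submodule.span_induction with
  | mem y hy => exact hcore y hy
  | zero => rw [map_zero]; exact Submodule.zero_mem _
  | add a b _ _ ha hb => rw [map_add]; exact Submodule.add_mem _ ha hb
  | smul c a _ ha => rw [map_smulₛₗ]; exact Submodule.smul_mem _ _ ha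

theorem bijPart_sup_nilPart (hτ' : IsWAut τ') [Module.Finite K(p, k) N] {G : N →ₛₗ[τ'] N}
    (hG : Function.Surjective G) {M : Submodule (WittVector p k) N}
    (hM : M.IsLattice K(p, k)) (hGM : Isoc.latImg G 1 M ≤ M) :
    bijPart G M ⊔ nilPart hτ' G M hGM = ⊤ := by
  rw [eq_top_iff]
  rintro x -
  obtain ⟨n, hn⟩ := exists_natpow_smul_mem hM.span_eq_top x
  obtain ⟨y, z, hyz, hy, hzM, hz⟩ := fitting_decomp hτ' hG hM hGM hn
  have h1 : x = ((p : K(p, k)) ^ n)⁻¹ • (y + z) := by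
    rw [← hyz, smul_smul, inv_mul_cancel₀ (pow_ne_zero _ p_ne_zero), one_smul]
  rw [h1]
  refine Submodule.smul_mem _ _ (Submodule.add_mem _ (Submodule.mem_sup_left ?_)
    (Submodule.mem_sup_right ?_))
  · exact Submodule.subset_span ((mem_coreLat G M y).mpr hy)
  · intro c
    obtain ⟨n', hn'⟩ := hz c.toNat
    refine ⟨n', pPow_anti ?_ M hn'⟩
    exact Int.self_le_toNat c

end Parts

end Groth.Agent.Lib.Helper90.IsocLib
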