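import Groth.Agent.Lib.Helper90.Isoc15

set_option autoImplicit false

open scoped Pointwise Isocrystal
open Filter Topology

universe u v w

namespace Groth.Agent.Lib.Helper90.IsocLib

section Decomp

variable {p : ℕ} [Fact p.Prime] {k : Type u} [Field k] [CharP k p] [PerfectRing k p]
variable {N : Type v} [AddCommGroup N] [Module (WittVector p k) N] [Module K(p, k) N]
  [IsScalarTower (WittVector p k) K(p, k) N]
variable {τ : K(p, k) →+* K(p, k)}

/-- the first slope is rational, realised by an exact order on some lattice -/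
theorem exists_rat_firstSlope (hτ : IsWAut τ) [Module.Finite K(p, k) N] [Nontrivial N]
    {F : N →ₛₗ[τ] N} {lam : ℝ} (hlam : Isoc.IsFirstSlope F lam) :
    ∃ (r : ℤ) (s : ℕ) (M : Submodule (WittVector p k) N), 0 < s ∧ lam = (r : ℝ) / s ∧
      M.IsLattice K(p, k) ∧ Isoc.IsOrd M F s r := by
  have hpos : 0 < Module.finrank K(p, k) N := Module.finrank_pos
  have hB : ∀ (s : ℕ) (r : ℤ), 0 < s →
      (r : ℝ) ≤ s * lam + 1 / ((Module.finrank K(p, k) N : ℝ) + 1) → (r : ℝ) ≤ s * lam := by
    intro s r hs hr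
    obtain ⟨M', hM', hle⟩ := exists_lattice_le_of_le_firstSlope_add hτ F hlam r s hs hr
    have h1 := div_le_firstSlope_of_latImg_le hτ F hlam hM' hs hle
    have hsR : (0 : ℝ) < s := by exact_mod_cast hs
    rw [div_le_iff₀ hsR] at h1
    linarith
  obtain ⟨r, s, hs, _, hrs⟩ := exists_rat_of_forall_gap lam _ hpos hB
  obtain ⟨M, hM, hle⟩ := exists_lattice_le_of_le_firstSlope hτ F hlam r s hs (le_of_eq hrs.symm)
  have hsR : (0 : ℝ) < s := by exact_mod_cast hs
  refine ⟨r, s, M, hs, hrs, hM, hle, ?_⟩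
  intro hle'
  have h1 := div_le_firstSlope_of_latImg_le hτ F hlam hM hs hle'
  rw [hrs, div_le_div_iff_of_pos_right hsR] at h1
  push_cast at h1
  linarith

theorem map_slopePart_restrict_le (hτ : IsWAut τ) [Module.Finite K(p, k) N] (F : N →ₛₗ[τ] N)
    {Q : Submodule K(p, k) N} (hQ : ∀ x ∈ Q, F x ∈ Q) (μ : ℚ) :
    (Isoc.slopePart (F.restrict hQ) μ).map Q.subtype ≤ Isoc.slopePart F μ := by
  obtain ⟨hst, hiso⟩ := slopePart_mem hτ (F.restrict hQ) μ
  have heq : ∀ x : Q, Q.subtype ((F.restrict hQ) x) = F (Q.subtype x) := fun x => rfl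
  have hiso' := isoclinicIn_map hτ Q.subtype heq hiso
  have hst' : ∀ x ∈ (Isoc.slopePart (F.restrict hQ) μ).map Q.subtype,
      F x ∈ (Isoc.slopePart (F.restrict hQ) μ).map Q.subtype := by
    rintro _ ⟨x, hx, rfl⟩
    exact ⟨(F.restrict hQ) x, hst x hx, rfl⟩
  exact le_slopePart F hst' (isIsoclinic_of_isoclinicIn hτ F hst' hiso')

/-- splitting off the part of smallest slope -/
theorem exists_split (hτ : IsWAut τ) [Module.Finite K(p, k) N] [Nontrivial N]
    {F : N →ₛₗ[τ] N} (hF : Function.Bijective F) :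
    ∃ (μ : ℚ) (P Q : Submodule K(p, k) N), (∀ x ∈ Q, F x ∈ Q) ∧ P ≤ Isoc.slopePart F μ ∧
      Q ≠ ⊤ ∧ P ⊔ Q = ⊤ := by
  obtain ⟨lam, hlam⟩ := exists_isFirstSlope hτ hF
  obtain ⟨r, s, M, hs, hrs, hM, hord⟩ := exists_rat_firstSlope hτ hlam
  have hτs : IsWAut (τ ^ s) := hτ.pow s
  set G : N →ₛₗ[τ ^ s] N := ((p : K(p, k)) ^ (-r)) • Isoc.iter F s with hG
  have hGapp : ∀ x, G x = ((p : K(p, k)) ^ (-r)) • (⇑F)^[s] x := fun x => rfl
  have hGM : Isoc.latImg G 1 M ≤ M := by
    rw [hG, latImg_twist hτ]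
    simp only [Nat.cast_one, mul_one]
    rw [pPow_le_iff, neg_neg]
    exact hord.1
  have hne : M ≠ ⊥ := lattice_ne_bot hM
  have hsR : (0 : ℝ) < s := by exact_mod_cast hs
  have hnot : ∀ n, ¬ Isoc.latImg G n M ≤ Isoc.pPow 1 M := by
    intro n hle
    rw [hG, latImg_twist hτ, pPow_le_iff, pPow_pPow] at hle
    rcases Nat.eq_zero_or_pos n with rfl | hn
    · simp only [Nat.mul_zero, latImg_zero, Nat.cast_zero, mul_zero, neg_zero, zero_add] at hle
      exact not_le_pPow_one hM.fg hne hle
    · have h1 := div_le_firstSlope_of_latImg_le hτ F hlam hM (Nat.mul_pos hs hn) hle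
      have hnR : (0 : ℝ) < n := by exact_mod_cast hn
      rw [hrs, div_le_div_iff₀ (by push_cast; positivity) hsR] at h1
      push_cast at h1
      nlinarith
  have hGsurj : Function.Surjective G := by
    intro y
    obtain ⟨x, hx⟩ := (hF.surjective.iterate s) (((p : K(p, k)) ^ r) • y)
    refine ⟨x, ?_⟩
    rw [hGapp, hx, smul_smul, ← zpow_add₀ p_ne_zero, neg_add_cancel, zpow_zero, one_smul]
  have hGinj : Function.Injective G := by
    intro x y hxy
    rw [hGapp, hGapp] at hxy
    have := smul_right_injective N (zpow_ne_zero (-r) (p_ne_zero (p := p) (k := k))) hxy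
    exact (hF.injective.iterate s) this
  have hcomm : ∀ x, G (F x) = F (G x) := by
    intro x
    rw [hGapp, hGapp, map_smulₛₗ, map_zpow₀, map_natCast, ← Function.iterate_succ_apply,
      ← Function.iterate_succ_apply' (⇑F) s x]
  refine ⟨(r : ℚ) / s, bijPart G M, nilPart hτs G M hGM,
    nilPart_stable hτ hτs F G hcomm hM hGM, ?_, nilPart_ne_top hτs G hM.fg hGM hnot,
    bijPart_sup_nilPart hτs hGsurj hM hGM⟩
  have hst := bijPart_stable hτ hτs F G hcomm hM
  refine le_slopePart F hst (isIsoclinic_of_isoclinicIn hτ F hst ?_)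
  refine ⟨coreLat G M, hM.fg.of_le (coreLat_le G M), rfl, r, s, hs, rfl, ?_⟩
  have h1 := latImg_one_coreLat hτs hGinj hGM
  rw [hG, latImg_twist hτ] at h1
  simp only [Nat.cast_one, mul_one] at h1
  have h2 := congrArg (Isoc.pPow r) h1
  rwa [pPow_pPow, add_neg_cancel, pPow_zero] at h2

end Decomp

section Induct

variable {p : ℕ} [Fact p.Prime] {k : Type u} [Field k] [CharP k p] [PerfectRing k p]
variable {τ : K(p, k) →+* K(p, k)}

theorem iSup_slopePart_eq_top_aux (hτ : IsWAut τ) :
    ∀ (n : ℕ) (N : Type v) [AddCommGroup N] [Module (WittVector p k) N] [Module K(p, k) N]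
      [IsScalarTower (WittVector p k) K(p, k) N] [Module.Finite K(p, k) N] (F : N →ₛₗ[τ] N),
      Function.Bijective F → Module.finrank K(p, k) N = n →
      ⨆ μ : ℚ, Isoc.slopePart F μ = ⊤ := by
  intro n
  induction n using Nat.strong_induction_on with
  | _ n ih =>
    intro N _ _ _ _ _ F hF hn
    by_cases hN : Subsingleton N
    · exact Subsingleton.elim _ _
    · rw [not_subsingleton_iff_nontrivial] at hN
      obtain ⟨μ, P, Q, hQ, hP, hQtop, hPQ⟩ := exists_split hτ hF
      have hlt : Module.finrank K(p, k) Q < n := hn ▸ Submodule.finrank_lt hQtop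
      have hinj : Function.Injective (F.restrict hQ) := by
        intro a b hab
        have : F (a : N) = F (b : N) := congrArg Subtype.val hab
        exact Subtype.ext (hF.injective this)
      have hFQ : Function.Bijective (F.restrict hQ) :=
        ⟨hinj, semilinear_surjective_of_injective hτ.surjective (F.restrict hQ) hinj⟩
      have ihQ := ih _ hlt Q (F.restrict hQ) hFQ rfl
      rw [eq_top_iff, ← hPQ]
      refine sup_le (le_trans hP (le_iSup (fun ν => Isoc.slopePart F ν) μ)) ?_
      have h1 : Q = (⊤ : Submodule K(p, k) Q).map Q.subtype := by simp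
      rw [h1, ← ihQ, Submodule.map_iSup]
      exact iSup_mono fun ν => map_slopePart_restrict_le hτ F hQ ν

end Induct

section Final

variable {p : ℕ} [Fact p.Prime] {k : Type u} [Field k] [CharP k p] [PerfectRing k p]
variable {N : Type v} [AddCommGroup N] [Module (WittVector p k) N] [Module K(p, k) N]
  [IsScalarTower (WittVector p k) K(p, k) N]
variable {τ : K(p, k) →+* K(p, k)}

theorem iSup_slopePart_eq_top (hτ : IsWAut τ) [Module.Finite K(p, k) N] {F : N →ₛₗ[τ] N}
    (hF : Function.Bijective F) : ⨆ μ : ℚ, Isoc.slopePart F μ = ⊤ :=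
  iSup_slopePart_eq_top_aux hτ _ N F hF rfl

/-- the slope decomposition -/
theorem isInternal_slopePart (hτ : IsWAut τ) [Module.Finite K(p, k) N] {F : N →ₛₗ[τ] N}
    (hF : Function.Bijective F) : DirectSum.IsInternal (fun μ : ℚ => Isoc.slopePart F μ) :=
  DirectSum.isInternal_submodule_of_iSupIndep_of_iSup_eq_top
    (iSupIndep_slopePart hτ hF.injective) (iSup_slopePart_eq_top hτ hF)

end Final

end Groth.Agent.Lib.Helper90.IsocLib
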