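import Groth.Agent.Lib.Helper90.Isoc16

set_option autoImplicit false

open scoped Pointwise Isocrystal
open Filter Topology

universe u v w

namespace Groth.Agent.Lib.Helper90.IsocLib

section Block

variable {p : ℕ} [Fact p.Prime] {k : Type u} [Field k] [CharP k p] [PerfectRing k p]
variable {N : Type v} [AddCommGroup N] [Module (WittVector p k) N] [Module K(p, k) N]
  [IsScalarTower (WittVector p k) K(p, k) N]
variable {τ : K(p, k) →+* K(p, k)}

theorem isOrdP_prod {ι : Type*} (s : Finset ι) (c : ι → K(p, k)) (d : ι → ℤ)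
    (h : ∀ i ∈ s, Isoc.IsOrdP (c i) (d i)) : Isoc.IsOrdP (∏ i ∈ s, c i) (∑ i ∈ s, d i) := by
  classical
  induction s using Finset.induction_on with
  | empty => simpa using isOrdP_one (p := p) (k := k)
  | insert a s ha ih =>
    rw [Finset.prod_insert ha, Finset.sum_insert ha]
    exact isOrdP_mul (h a (Finset.mem_insert_self a s))
      (ih fun i hi => h i (Finset.mem_insert_of_mem hi))

theorem det_blockDiagonal'_eq {ι : Type*} [Fintype ι] [LinearOrder ι] {R : Type*} [CommRing R]
    {m' : ι → Type*} [∀ i, Fintype (m' i)] [∀ i, DecidableEq (m' i)]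
    (d : ∀ i, Matrix (m' i) (m' i) R) :
    (Matrix.blockDiagonal' d).det = ∏ i, (d i).det := by
  rw [(Matrix.blockTriangular_blockDiagonal' d).det_fintype]
  refine Finset.prod_congr rfl fun k _ => ?_
  have h1 : (Matrix.blockDiagonal' d).toSquareBlock Sigma.fst k =
      (d k).submatrix (Equiv.sigmaSubtype k) (Equiv.sigmaSubtype k) := by
    ext ⟨⟨i, a⟩, hi⟩ ⟨⟨j, a'⟩, hj⟩
    simp only at hi hj
    subst hi
    subst hj
    simp [Matrix.toSquareBlock_def, Equiv.sigmaSubtype]
  rw [h1, Matrix.det_submatrix_equiv_self]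

/-- the determinant coefficient of a direct sum of stable subspaces -/
theorem isOrdP_detCoeff_of_isInternal (hτ : IsWAut τ) {ι : Type} [Fintype ι] [LinearOrder ι]
    (P : ι → Submodule K(p, k) N) (hint : DirectSum.IsInternal P) (F : N →ₛₗ[τ] N)
    (hP : ∀ i, ∀ x ∈ P i, F x ∈ P i) (n : ι → ℕ)
    (b : ∀ i, Module.Basis (Fin (n i)) K(p, k) (P i)) (d : ι → ℤ)
    (hd : ∀ i, Isoc.IsOrdP (Isoc.detCoeff (b i) (F.restrict (hP i))) (d i)) {h : ℕ}
    (c : Module.Basis (Fin h) K(p, k) N) : Isoc.IsOrdP (Isoc.detCoeff c F) (∑ i, d i) := by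
  set cb := hint.collectedBasis b with hcb
  have hcard : Fintype.card (Σ i, Fin (n i)) = Fintype.card (Fin h) := by
    rw [← Module.finrank_eq_card_basis cb, ← Module.finrank_eq_card_basis c]
  set e : (Σ i, Fin (n i)) ≃ Fin h := Fintype.equivOfCardEq hcard with he
  set c' : Module.Basis (Fin h) K(p, k) N := cb.reindex e with hc'
  refine isOrdP_detCoeff_indep hτ c' c F ?_
  set A : Matrix (Σ i, Fin (n i)) (Σ i, Fin (n i)) K(p, k) :=
    Matrix.of fun x y => cb.repr (F (cb y)) x with hA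
  have h1 : Isoc.detCoeff c' F = A.det := by
    unfold Isoc.detCoeff
    rw [← Matrix.det_submatrix_equiv_self e.symm A]
    congr 1
    ext i j
    rw [Matrix.of_apply, Matrix.submatrix_apply, hA, Matrix.of_apply, hc',
      Module.Basis.repr_reindex_apply, Module.Basis.reindex_apply]
  have h2 : A = Matrix.blockDiagonal' fun i => semiMat (b i) (F.restrict (hP i)) := by
    ext ⟨i, a⟩ ⟨j, a'⟩
    have hmem : F (cb ⟨j, a'⟩) ∈ P j := by
      apply hP j
      rw [hcb, DirectSum.IsInternal.collectedBasis_coe]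
      exact Subtype.mem _
    by_cases hij : i = j
    · subst hij
      rw [Matrix.blockDiagonal'_apply_eq, hA, Matrix.of_apply,
        DirectSum.IsInternal.collectedBasis_repr_of_mem hint b hmem, semiMat_apply]
      congr 2
      apply Subtype.ext
      have h3 : cb ⟨i, a'⟩ = ((b i a' : P i) : N) := by
        rw [hcb, DirectSum.IsInternal.collectedBasis_coe]
      show F (cb ⟨i, a'⟩) = F ((b i a' : P i) : N)
      rw [h3]
    · rw [Matrix.blockDiagonal'_apply_ne _ _ _ hij, hA, Matrix.of_apply]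
      exact DirectSum.IsInternal.collectedBasis_repr_of_mem_ne hint b (Ne.symm hij) hmem
  rw [h1, h2, det_blockDiagonal'_eq]
  exact isOrdP_prod Finset.univ _ d fun i _ => hd i

/-- the Newton polygon ends at `(height, orddet)` -/
theorem finsum_mul_newtonMult_eq (hτ : IsWAut τ) [Module.Finite K(p, k) N] {F : N →ₛₗ[τ] N}
    (hF : Function.Bijective F) {h : ℕ} (b : Module.Basis (Fin h) K(p, k) N) {d : ℤ}
    (hd : Isoc.IsOrdP (Isoc.detCoeff b F) d) :
    ∑ᶠ μ : ℚ, μ * (Isoc.newtonMult F μ : ℚ) = d := by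
  have hind := iSupIndep_slopePart hτ hF.injective
  have htop := iSup_slopePart_eq_top hτ hF
  have hfin : {μ : ℚ | Isoc.slopePart F μ ≠ ⊥}.Finite :=
    WellFoundedGT.finite_ne_bot_of_iSupIndep hind
  set T := hfin.toFinset with hT
  have hmemT : ∀ μ : ℚ, μ ∈ T ↔ Isoc.slopePart F μ ≠ ⊥ := by
    intro μ
    rw [hT, Set.Finite.mem_toFinset]
    rfl
  set P : T → Submodule K(p, k) N := fun μ => Isoc.slopePart F μ.1 with hPdef
  have hint : DirectSum.IsInternal P := by
    apply DirectSum.isInternal_submodule_of_iSupIndep_of_iSup_eq_top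
    · exact hind.comp Subtype.val_injective
    · rw [eq_top_iff, ← htop]
      refine iSup_le fun μ => ?_
      by_cases hμ : Isoc.slopePart F μ = ⊥
      · rw [hμ]; exact bot_le
      · exact le_iSup P ⟨μ, (hmemT μ).mpr hμ⟩
  have hP : ∀ μ : T, ∀ x ∈ P μ, F x ∈ P μ := fun μ => (slopePart_mem hτ F μ.1).1
  have hinj : ∀ μ : T, Function.Injective (F.restrict (hP μ)) := by
    intro μ x y hxy
    have : F (x : N) = F (y : N) := congrArg Subtype.val hxy
    exact Subtype.ext (hF.injective this)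
  have hsurj : ∀ μ : T, Function.Surjective (F.restrict (hP μ)) := fun μ =>
    semilinear_surjective_of_injective hτ.surjective _ (hinj μ)
  set n : T → ℕ := fun μ => Module.finrank K(p, k) (P μ) with hn
  set bb : ∀ μ : T, Module.Basis (Fin (n μ)) K(p, k) (P μ) :=
    fun μ => Module.finBasis K(p, k) (P μ) with hbb
  have hex : ∀ μ : T, ∃ d' : ℤ, Isoc.IsOrdP (Isoc.detCoeff (bb μ) (F.restrict (hP μ))) d' :=
    fun μ => exists_isOrdP_detCoeff hτ (bb μ) (hinj μ)
  choose d' hd' using hex
  have hkey : ∀ μ : T, (d' μ : ℚ) = μ.1 * (n μ : ℚ) := by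
    intro μ
    obtain ⟨M, hM, r, s, hs, hrs, hFM⟩ :=
      isIsoclinic_of_isoclinicIn hτ F (hP μ) (slopePart_mem hτ F μ.1).2
    have h1 := mul_orddet_eq_mul_height hτ (bb μ) (hsurj μ) (hd' μ) hM hFM
    have hsQ : (s : ℚ) ≠ 0 := by exact_mod_cast hs.ne'
    have h2 : (s : ℚ) * (d' μ : ℚ) = (r : ℚ) * (n μ : ℚ) := by exact_mod_cast h1
    rw [← hrs]
    field_simp
    linarith
  have hsum := isOrdP_detCoeff_of_isInternal hτ P hint F hP n bb d' hd' b
  have hdeq : d = ∑ μ : T, d' μ := isOrdP_unique hd hsum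
  have hsupp : Function.support (fun μ : ℚ => μ * (Isoc.newtonMult F μ : ℚ)) ⊆ (T : Set ℚ) := by
    intro μ hμ
    rw [Function.mem_support] at hμ
    rw [Finset.mem_coe, hmemT]
    intro hbot
    apply hμ
    have : Isoc.newtonMult F μ = 0 := by
      unfold Isoc.newtonMult
      rw [hbot]
      exact finrank_bot K(p, k) N
    rw [this, Nat.cast_zero, mul_zero]
  rw [finsum_eq_sum_of_support_subset _ hsupp, hdeq, ← Finset.sum_coe_sort T]
  push_cast
  refine Finset.sum_congr rfl fun μ _ => ?_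
  rw [hkey μ]
  rfl

end Block

end Groth.Agent.Lib.Helper90.IsocLib
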