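import Groth.Agent.Lib.Helper90.Isoc17

set_option autoImplicit false

open scoped Pointwise Isocrystal
open Filter Topology Polynomial

universe u v w

namespace Groth.Agent.Lib.Helper90.IsocLib

section CharpolyBlock

theorem charpoly_blockDiagonal'_eq {ι : Type*} [Fintype ι] [LinearOrder ι] {R : Type*}
    [CommRing R] {m' : ι → Type*} [∀ i, Fintype (m' i)] [∀ i, DecidableEq (m' i)]
    (d : ∀ i, Matrix (m' i) (m' i) R) :
    (Matrix.blockDiagonal' d).charpoly = ∏ i, (d i).charpoly := by
  unfold Matrix.charpoly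
  rw [← det_blockDiagonal'_eq]
  congr 1
  ext ⟨i, a⟩ ⟨j, a'⟩
  by_cases hij : i = j
  · subst hij
    rw [Matrix.blockDiagonal'_apply_eq, Matrix.charmatrix_apply, Matrix.charmatrix_apply,
      Matrix.blockDiagonal'_apply_eq]
    congr 1
    by_cases haa : a = a'
    · subst haa
      simp
    · have : (⟨i, a⟩ : Σ i, m' i) ≠ ⟨i, a'⟩ := fun h => haa (by cases h; rfl)
      rw [Matrix.diagonal_apply_ne _ haa, Matrix.diagonal_apply_ne _ this]
  · have : (⟨i, a⟩ : Σ i, m' i) ≠ ⟨j, a'⟩ := fun h => hij (by cases h; rfl)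
    rw [Matrix.blockDiagonal'_apply_ne _ _ _ hij, Matrix.charmatrix_apply,
      Matrix.diagonal_apply_ne _ this, Matrix.blockDiagonal'_apply_ne _ _ _ hij]
    simp

variable {K : Type*} [Field K] {V : Type*} [AddCommGroup V] [Module K V] [Module.Finite K V]

theorem charpoly_eq_prod_of_isInternal {ι : Type} [Fintype ι] [LinearOrder ι]
    (P : ι → Submodule K V) (hint : DirectSum.IsInternal P) (f : V →ₗ[K] V)
    (hP : ∀ i, ∀ x ∈ P i, f x ∈ P i) :
    f.charpoly = ∏ i, (f.restrict (hP i)).charpoly := by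
  set b : ∀ i, Module.Basis (Fin (Module.finrank K (P i))) K (P i) :=
    fun i => Module.finBasis K (P i) with hb
  set cb := hint.collectedBasis b with hcb
  rw [← LinearMap.charpoly_toMatrix f cb]
  have h2 : LinearMap.toMatrix cb cb f =
      Matrix.blockDiagonal' fun i => LinearMap.toMatrix (b i) (b i) (f.restrict (hP i)) := by
    ext ⟨i, a⟩ ⟨j, a'⟩
    have h3 : cb ⟨j, a'⟩ = ((b j a' : P j) : V) := by
      rw [hcb, DirectSum.IsInternal.collectedBasis_coe]
    have hmem : f (cb ⟨j, a'⟩) ∈ P j := by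
      apply hP j
      rw [h3]
      exact Subtype.mem _
    rw [LinearMap.toMatrix_apply]
    by_cases hij : i = j
    · subst hij
      rw [Matrix.blockDiagonal'_apply_eq,
        DirectSum.IsInternal.collectedBasis_repr_of_mem hint b hmem, LinearMap.toMatrix_apply]
      congr 2
      apply Subtype.ext
      show f (cb ⟨i, a'⟩) = f ((b i a' : P i) : V)
      rw [h3]
    · rw [Matrix.blockDiagonal'_apply_ne _ _ _ hij]
      exact DirectSum.IsInternal.collectedBasis_repr_of_mem_ne hint b (Ne.symm hij) hmem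
  rw [h2, charpoly_blockDiagonal'_eq]
  refine Finset.prod_congr rfl fun i _ => ?_
  exact LinearMap.charpoly_toMatrix _ _

end CharpolyBlock

section Integral

theorem isIntegral_of_mulVec_eq {R : Type*} [CommRing R] {Ω : Type*} [Field Ω] [Algebra R Ω]
    {n : Type*} [Fintype n] [DecidableEq n] (G : Matrix n n R) (v : n → Ω) (hv : v ≠ 0) (β : Ω)
    (h : (G.map (algebraMap R Ω)).mulVec v = β • v) : IsIntegral R β := by
  refine ⟨G.charpoly, Matrix.charpoly_monic G, ?_⟩
  rw [← Polynomial.eval_map, ← Matrix.charpoly_map, Matrix.eval_charpoly]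
  apply Matrix.exists_mulVec_eq_zero_iff.mp
  refine ⟨v, hv, ?_⟩
  rw [Matrix.sub_mulVec, h]
  ext i
  simp [Matrix.mulVec, dotProduct, Matrix.scalar_apply, Matrix.diagonal_apply]

theorem pow_mulVec_eigen {Ω : Type*} [Field Ω] {n : Type*} [Fintype n] [DecidableEq n]
    (B : Matrix n n Ω) (v : n → Ω) (α : Ω) (h : B.mulVec v = α • v) (s : ℕ) :
    (B ^ s).mulVec v = (α ^ s) • v := by
  induction s with
  | zero => simp
  | succ s ih =>
    rw [pow_succ, ← Matrix.mulVec_mulVec, h, Matrix.mulVec_smul, ih, smul_smul, pow_succ, mul_comm]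

end Integral

section Eigen

variable {p : ℕ} [Fact p.Prime] {k : Type u} [Field k] [CharP k p] [PerfectRing k p]
variable {N : Type v} [AddCommGroup N] [Module (WittVector p k) N] [Module K(p, k) N]
  [IsScalarTower (WittVector p k) K(p, k) N]
variable {Ω : Type w} [Field Ω] [Algebra (WittVector p k) Ω] [Algebra K(p, k) Ω]
  [IsScalarTower (WittVector p k) K(p, k) Ω]

/-- eigenvalues of `c • f^s`, an automorphism of a lattice, are integral units -/
theorem isIntegral_eigen_of_lattice_auto [Module.Finite K(p, k) N]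
    {M : Submodule (WittVector p k) N} (hM : M.IsLattice K(p, k)) (f : N →ₗ[K(p, k)] N)
    (c : K(p, k)) (s : ℕ) (hg1 : ∀ x ∈ M, c • (f ^ s) x ∈ M)
    (hg2 : ∀ y ∈ M, ∃ x ∈ M, c • (f ^ s) x = y) (α : Ω)
    (hα : (f.charpoly.map (algebraMap K(p, k) Ω)).IsRoot α) :
    α ^ s * algebraMap K(p, k) Ω c ≠ 0 ∧
      IsIntegral (WittVector p k) (α ^ s * algebraMap K(p, k) Ω c) ∧
      IsIntegral (WittVector p k) (α ^ s * algebraMap K(p, k) Ω c)⁻¹ := by
  set e := latBasisL hM with he
  set A := LinearMap.toMatrix e e f with hA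
  set g : N →ₗ[K(p, k)] N := c • (f ^ s) with hg
  have hgapp : ∀ x, g x = c • (f ^ s) x := fun x => rfl
  -- eigenvector over Ω
  rw [← LinearMap.charpoly_toMatrix f e, ← Matrix.charpoly_map, Polynomial.IsRoot.def,
    Matrix.eval_charpoly] at hα
  obtain ⟨v, hv, hv0⟩ := Matrix.exists_mulVec_eq_zero_iff.mpr hα
  have hAv : (A.map (algebraMap K(p, k) Ω)).mulVec v = α • v := by
    rw [Matrix.sub_mulVec, sub_eq_zero] at hv0
    rw [← hv0]
    ext i
    simp [Matrix.mulVec, dotProduct, Matrix.scalar_apply, Matrix.diagonal_apply]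
  -- integral matrix of g
  obtain ⟨G, hG⟩ := exists_wMatrix hM g (fun x hx => hg1 x hx)
  have hgA : LinearMap.toMatrix e e g = c • A ^ s := by
    rw [hg, map_smul, LinearMap.toMatrix_pow]
  have hGΩ : G.map (algebraMap (WittVector p k) Ω) =
      algebraMap K(p, k) Ω c • (A.map (algebraMap K(p, k) Ω)) ^ s := by
    have h1 : G.map (algebraMap (WittVector p k) Ω) =
        (G.map (algebraMap (WittVector p k) K(p, k))).map (algebraMap K(p, k) Ω) := by
      ext i j
      simp only [Matrix.map_apply]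
      exact IsScalarTower.algebraMap_apply _ _ _ _
    rw [h1, ← hG, hgA]
    ext i j
    rw [Matrix.map_apply, Matrix.smul_apply, Matrix.smul_apply, smul_eq_mul, smul_eq_mul, map_mul,
      ← Matrix.map_pow, Matrix.map_apply]
  set β := α ^ s * algebraMap K(p, k) Ω c with hβ
  have hGv : (G.map (algebraMap (WittVector p k) Ω)).mulVec v = β • v := by
    rw [hGΩ, Matrix.smul_mulVec, pow_mulVec_eigen _ v α hAv s, smul_smul, hβ, mul_comm]
  suffices hsuff : β ≠ 0 ∧ IsIntegral (WittVector p k) β⁻¹ from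
    ⟨hsuff.1, isIntegral_of_mulVec_eq G v hv β hGv, hsuff.2⟩
  -- the inverse matrix
  have hpre : ∀ j, ∃ x ∈ M, g x = e j := fun j => hg2 (e j) (latBasisL_mem hM j)
  choose mm hmmM hmm using hpre
  have hcoef : ∀ j i, ∃ w : WittVector p k,
      e.repr (mm j) i = algebraMap (WittVector p k) K(p, k) w :=
    fun j => (mem_lattice_iff_repr hM (mm j)).mp (hmmM j)
  choose G' hG' using hcoef
  set G'' : Matrix _ _ (WittVector p k) := Matrix.of fun i j => G' j i with hG''
  have hmul : G * G'' = 1 := by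
    apply Matrix.map_injective (f := algebraMap (WittVector p k) K(p, k)) ι_injective
    show (G * G'').map _ = (1 : Matrix _ _ (WittVector p k)).map _
    rw [Matrix.map_mul, ← hG, Matrix.map_one _ (map_zero _) (map_one _)]
    ext i j
    rw [Matrix.mul_apply, Matrix.one_apply]
    have h1 := LinearMap.toMatrix_mulVec_repr e e g (mm j)
    have h2 := congrFun h1 i
    rw [hmm j, Module.Basis.repr_self, Matrix.mulVec, dotProduct] at h2
    rw [Finsupp.single_apply] at h2
    rw [← show (if i = j then (1 : K(p, k)) else 0) = if j = i then 1 else 0 from by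
      by_cases hij : i = j
      · subst hij; simp
      · rw [if_neg hij, if_neg (Ne.symm hij)]] at h2
    rw [← h2]
    refine Finset.sum_congr rfl fun l _ => ?_
    rw [Matrix.map_apply, hG'', Matrix.of_apply, hG' j l]
  have hmul' : G'' * G = 1 := mul_eq_one_comm.mp hmul
  have hβ0 : β ≠ 0 := by
    intro h0
    apply hv
    have h3 : (G''.map (algebraMap (WittVector p k) Ω)).mulVec
        ((G.map (algebraMap (WittVector p k) Ω)).mulVec v) = v := by
      rw [Matrix.mulVec_mulVec, ← Matrix.map_mul, hmul', Matrix.map_one _ (map_zero _) (map_one _),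
        Matrix.one_mulVec]
    rw [hGv, h0, zero_smul, Matrix.mulVec_zero] at h3
    exact h3.symm
  have hG''v : (G''.map (algebraMap (WittVector p k) Ω)).mulVec v = β⁻¹ • v := by
    have h3 : (G''.map (algebraMap (WittVector p k) Ω)).mulVec
        ((G.map (algebraMap (WittVector p k) Ω)).mulVec v) = v := by
      rw [Matrix.mulVec_mulVec, ← Matrix.map_mul, hmul', Matrix.map_one _ (map_zero _) (map_one _),
        Matrix.one_mulVec]
    rw [hGv, Matrix.mulVec_smul] at h3
    conv_rhs => rw [← h3]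
    rw [smul_smul, inv_mul_cancel₀ hβ0, one_smul]
  exact ⟨hβ0, isIntegral_of_mulVec_eq G'' v hv β⁻¹ hG''v⟩

end Eigen

end Groth.Agent.Lib.Helper90.IsocLib
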