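import Groth.Agent.Lib.Helper90.Isoc18

set_option autoImplicit false

open scoped Pointwise Isocrystal
open Filter Topology Polynomial

universe u v w

namespace Groth.Agent.Lib.Helper90.IsocLib

section Misc

theorem countP_roots_prod {Ω : Type*} [Field Ω] {ι : Type*} (s : Finset ι) (f : ι → Polynomial Ω)
    (hf : ∀ i ∈ s, f i ≠ 0) (C : Ω → Prop) [DecidablePred C] :
    Multiset.countP C (∏ i ∈ s, f i).roots = ∑ i ∈ s, Multiset.countP C (f i).roots := by
  classical
  induction s using Finset.induction_on with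
  | empty => simp
  | insert a s ha ih =>
    have h1 : f a ≠ 0 := hf a (Finset.mem_insert_self a s)
    have h2 : ∏ i ∈ s, f i ≠ 0 :=
      Finset.prod_ne_zero_iff.mpr fun i hi => hf i (Finset.mem_insert_of_mem hi)
    rw [Finset.prod_insert ha, Finset.sum_insert ha, Polynomial.roots_mul (mul_ne_zero h1 h2),
      Multiset.countP_add, ih fun i hi => hf i (Finset.mem_insert_of_mem hi)]

theorem exists_mul_of_div_eq {μ : ℚ} {r : ℤ} {s : ℕ} (hs : 0 < s) (h : (r : ℚ) / s = μ) :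
    ∃ t : ℕ, 0 < t ∧ s = μ.den * t ∧ r = μ.num * t := by
  have hsQ : (s : ℚ) ≠ 0 := by exact_mod_cast hs.ne'
  have h1 : ((μ.den : ℤ)) ∣ (s : ℤ) := by
    have := Rat.den_dvd r (s : ℤ)
    rw [← h]
    exact_mod_cast this
  obtain ⟨t, ht⟩ := h1
  have hden : (0 : ℤ) < μ.den := by exact_mod_cast μ.den_pos
  have htpos : 0 < t := by
    have hs' : (0 : ℤ) < s := by exact_mod_cast hs
    rw [ht] at hs'
    rcases lt_trichotomy t 0 with h' | h' | h'
    · nlinarith
    · rw [h'] at hs'; simp at hs'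
    · exact h'
  obtain ⟨t', rfl⟩ := Int.eq_ofNat_of_zero_le htpos.le
  refine ⟨t', by exact_mod_cast htpos, by exact_mod_cast ht, ?_⟩
  have h2 : (r : ℚ) * μ.den = μ.num * s := by
    have h3 : μ = (μ.num : ℚ) / μ.den := (Rat.num_div_den μ).symm
    rw [h3, div_eq_div_iff hsQ (by exact_mod_cast μ.den_pos.ne')] at h
    exact h
  have h4 : r * (μ.den : ℤ) = μ.num * s := by exact_mod_cast h2
  rw [ht] at h4
  have h5 : r * (μ.den : ℤ) = (μ.num * t') * μ.den := by rw [h4]; ring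
  exact mul_right_cancel₀ hden.ne' h5

end Misc

section Cond

variable {p : ℕ} [Fact p.Prime] {k : Type u} [Field k] [CharP k p] [PerfectRing k p]
variable {Ω : Type w} [Field Ω] [Algebra (WittVector p k) Ω] [Algebra K(p, k) Ω]
  [IsScalarTower (WittVector p k) K(p, k) Ω]

theorem not_isIntegral_inv_p :
    ¬ IsIntegral (WittVector p k) ((algebraMap K(p, k) Ω (p : K(p, k)))⁻¹) := by
  intro h
  rw [← map_inv₀, isIntegral_algebraMap_iff (algebraMap K(p, k) Ω).injective] at h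
  obtain ⟨w, hw⟩ := IsIntegrallyClosed.isIntegral_iff.mp h
  have h1 : algebraMap (WittVector p k) K(p, k) (w * (p : WittVector p k)) = 1 := by
    rw [map_mul, hw, map_natCast, inv_mul_cancel₀ p_ne_zero]
  have h2 : w * (p : WittVector p k) = 1 := ι_injective (by rw [h1, map_one])
  have h3 : IsUnit (p : WittVector p k) := IsUnit.of_mul_eq_one_right _ h2
  exact (WittVector.irreducible p).not_isUnit h3

theorem not_isIntegral_unit_p_zpow {e : ℤ} (he : e ≠ 0) :
    ¬ (IsIntegral (WittVector p k) ((algebraMap K(p, k) Ω (p : K(p, k))) ^ e) ∧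
      IsIntegral (WittVector p k) ((algebraMap K(p, k) Ω (p : K(p, k))) ^ e)⁻¹) := by
  rintro ⟨h1, h2⟩
  set x := algebraMap K(p, k) Ω (p : K(p, k)) with hx
  have key : ∃ n : ℕ, 0 < n ∧ IsIntegral (WittVector p k) ((x⁻¹) ^ n) := by
    rcases lt_or_gt_of_ne he with hneg | hpos
    · refine ⟨(-e).toNat, by omega, ?_⟩
      have : (x⁻¹) ^ (-e).toNat = x ^ e := by
        rw [← zpow_natCast, Int.toNat_of_nonneg (by omega), inv_zpow, ← zpow_neg, neg_neg]
      rw [this]
      exact h1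
    · refine ⟨e.toNat, by omega, ?_⟩
      have : (x⁻¹) ^ e.toNat = (x ^ e)⁻¹ := by
        rw [← zpow_natCast, Int.toNat_of_nonneg (by omega), inv_zpow]
      rw [this]
      exact h2
  obtain ⟨n, hn, hint⟩ := key
  exact not_isIntegral_inv_p (IsIntegral.of_pow hn hint)

/-- the eigenvalue condition attached to a slope -/
def SlopeCond (p : ℕ) [Fact p.Prime] (k : Type u) [Field k] [CharP k p] [PerfectRing k p]
    {Ω : Type w} [Field Ω] [Algebra (WittVector p k) Ω] [Algebra K(p, k) Ω] (m : ℕ) (μ : ℚ)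
    (α : Ω) : Prop :=
  IsIntegral (WittVector p k)
      (α ^ μ.den * (algebraMap K(p, k) Ω (p : K(p, k))) ^ (-(μ.num * (m : ℤ)))) ∧
    IsIntegral (WittVector p k)
      (α ^ μ.den * (algebraMap K(p, k) Ω (p : K(p, k))) ^ (-(μ.num * (m : ℤ))))⁻¹

theorem slopeCond_unique {m : ℕ} (hm : m ≠ 0) {μ ν : ℚ} {α : Ω} (hα0 : α ≠ 0)
    (hμ : SlopeCond p k m μ α) (hν : SlopeCond p k m ν α) : μ = ν := by
  by_contra hne
  set x := algebraMap K(p, k) Ω (p : K(p, k)) with hx
  have hx0 : x ≠ 0 := by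
    rw [hx, Ne, map_eq_zero]
    exact p_ne_zero
  obtain ⟨h1, h1'⟩ := hμ
  obtain ⟨h2, h2'⟩ := hν
  set A := α ^ μ.den * x ^ (-(μ.num * (m : ℤ))) with hA
  set B := α ^ ν.den * x ^ (-(ν.num * (m : ℤ))) with hB
  -- the quotient of suitable powers is a power of p
  set e : ℤ := (μ.num * ν.den - ν.num * μ.den) * m with he
  have he0 : e ≠ 0 := by
    rw [he]
    refine mul_ne_zero ?_ (by exact_mod_cast hm)
    intro h0
    apply hne
    rw [← Rat.num_div_den μ, ← Rat.num_div_den ν,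
      div_eq_div_iff (by exact_mod_cast μ.den_pos.ne') (by exact_mod_cast ν.den_pos.ne')]
    have : μ.num * (ν.den : ℤ) = ν.num * μ.den := by linarith
    exact_mod_cast this
  have hquot : x ^ e = B ^ μ.den * (A ^ ν.den)⁻¹ := by
    rw [hA, hB, mul_pow, mul_pow, mul_inv, ← pow_mul, ← pow_mul, ← zpow_natCast (x ^ _),
      ← zpow_natCast (x ^ _), ← zpow_mul, ← zpow_mul]
    have hαp : α ^ (ν.den * μ.den) ≠ 0 := pow_ne_zero _ hα0
    rw [mul_comm μ.den ν.den]
    field_simp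
    rw [← zpow_add₀ hx0]
    congr 1
    rw [he]
    ring
  have hquot' : (x ^ e)⁻¹ = A ^ ν.den * (B ^ μ.den)⁻¹ := by
    rw [hquot, mul_inv, inv_inv, mul_comm]
  apply not_isIntegral_unit_p_zpow (p := p) (k := k) (Ω := Ω) he0
  refine ⟨?_, ?_⟩
  · rw [← hx, hquot, ← inv_pow]
    exact (h2.pow _).mul (h1'.pow _)
  · rw [← hx, hquot', ← inv_pow]
    exact (h1.pow _).mul (h2'.pow _)

end Cond

section Count

variable {p : ℕ} [Fact p.Prime] {k : Type u} [Field k] [CharP k p] [PerfectRing k p]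
variable {N : Type v} [AddCommGroup N] [Module (WittVector p k) N] [Module K(p, k) N]
  [IsScalarTower (WittVector p k) K(p, k) N]
variable {τ : K(p, k) →+* K(p, k)}
variable {Ω : Type w} [Field Ω] [Algebra (WittVector p k) Ω] [Algebra K(p, k) Ω]
  [IsScalarTower (WittVector p k) K(p, k) Ω]

theorem exists_finset_isInternal_slopePart (hτ : IsWAut τ) [Module.Finite K(p, k) N]
    {F : N →ₛₗ[τ] N} (hF : Function.Bijective F) :
    ∃ T : Finset ℚ, (∀ μ, μ ∈ T ↔ Isoc.slopePart F μ ≠ ⊥) ∧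
      DirectSum.IsInternal (fun μ : T => Isoc.slopePart F μ.1) := by
  have hind := iSupIndep_slopePart hτ hF.injective
  have htop := iSup_slopePart_eq_top hτ hF
  have hfin : {μ : ℚ | Isoc.slopePart F μ ≠ ⊥}.Finite :=
    WellFoundedGT.finite_ne_bot_of_iSupIndep hind
  have hmemT : ∀ μ : ℚ, μ ∈ hfin.toFinset ↔ Isoc.slopePart F μ ≠ ⊥ := by
    intro μ
    rw [Set.Finite.mem_toFinset]
    rfl
  refine ⟨hfin.toFinset, hmemT, ?_⟩
  apply DirectSum.isInternal_submodule_of_iSupIndep_of_iSup_eq_top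
  · exact hind.comp Subtype.val_injective
  · rw [eq_top_iff, ← htop]
    refine iSup_le fun μ => ?_
    by_cases hμ : Isoc.slopePart F μ = ⊥
    · rw [hμ]; exact bot_le
    · exact le_iSup (fun ν : hfin.toFinset => Isoc.slopePart F ν.1) ⟨μ, (hmemT μ).mpr hμ⟩

theorem slopeCond_of_root_restrict (hτ : IsWAut τ) [Module.Finite K(p, k) N] {F : N →ₛₗ[τ] N}
    {m : ℕ} (π : N →ₗ[K(p, k)] N) (hπ : ∀ x, π x = (⇑F)^[m] x) (ν : ℚ)
    (hP : ∀ x ∈ Isoc.slopePart F ν, π x ∈ Isoc.slopePart F ν) (α : Ω)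
    (hα : (((π.restrict hP).charpoly).map (algebraMap K(p, k) Ω)).IsRoot α) :
    α ≠ 0 ∧ SlopeCond p k m ν α := by
  have hPF := (slopePart_mem hτ F ν).1
  obtain ⟨M, hM, r, s, hs, hrs, hFM⟩ :=
    isIsoclinic_of_isoclinicIn hτ F hPF (slopePart_mem hτ F ν).2
  set F' := F.restrict hPF with hF'
  set f := π.restrict hP with hf
  have hfapp : ∀ x, f x = (⇑F')^[m] x := by
    intro x
    apply Subtype.ext
    rw [restrict_iterate F hPF m x]
    exact hπ x
  have hfs : ∀ x, (f ^ s) x = (⇑F')^[m * s] x := by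
    intro x
    rw [Module.End.pow_apply, Function.iterate_mul]
    have : (⇑f) = (⇑F')^[m] := funext hfapp
    rw [this]
  set c : K(p, k) := (p : K(p, k)) ^ (-(r * (m : ℤ))) with hc
  have e₁ := latImg_mul_eq hτ hFM m
  rw [Nat.mul_comm s m] at e₁
  have hg1 : ∀ x ∈ M, c • (f ^ s) x ∈ M := by
    intro x hx
    rw [hfs]
    have h1 : (⇑F')^[m * s] x ∈ Isoc.pPow (r * (m : ℤ)) M := e₁ ▸ iterate_mem_latImg hx
    obtain ⟨y, hy, hyx⟩ := mem_pPow.mp h1
    rw [← hyx, hc, smul_smul, ← zpow_add₀ p_ne_zero, neg_add_cancel, zpow_zero, one_smul]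
    exact hy
  have hg2 : ∀ y ∈ M, ∃ x ∈ M, c • (f ^ s) x = y := by
    intro y hy
    have h1 : ((p : K(p, k)) ^ (r * (m : ℤ))) • y ∈ Isoc.latImg F' (m * s) M :=
      e₁ ▸ smul_mem_pPow hy
    obtain ⟨x, hx, hxy⟩ := (mem_latImg hτ).mp h1
    refine ⟨x, hx, ?_⟩
    rw [hfs, hxy, hc, smul_smul, ← zpow_add₀ p_ne_zero, neg_add_cancel, zpow_zero, one_smul]
  obtain ⟨hβ0, hβ, hβ'⟩ := isIntegral_eigen_of_lattice_auto hM f c s hg1 hg2 α hα
  have hα0 : α ≠ 0 := by
    rintro rfl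
    apply hβ0
    rw [zero_pow hs.ne', zero_mul]
  refine ⟨hα0, ?_⟩
  obtain ⟨t, ht, hst, hrt⟩ := exists_mul_of_div_eq hs hrs
  set x := algebraMap K(p, k) Ω (p : K(p, k)) with hx
  have hx0 : x ≠ 0 := by
    rw [hx, Ne, map_eq_zero]
    exact p_ne_zero
  have hpow : (α ^ ν.den * x ^ (-(ν.num * (m : ℤ)))) ^ t = α ^ s * algebraMap K(p, k) Ω c := by
    rw [mul_pow, ← pow_mul, ← hst, ← zpow_natCast (x ^ _), ← zpow_mul, hc, map_zpow₀, ← hx, hrt]
    congr 2
    ring
  refine ⟨IsIntegral.of_pow ht (hpow ▸ hβ), IsIntegral.of_pow ht ?_⟩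
  rw [inv_pow, hpow]
  exact hβ'

theorem newtonMult_eq_countP (hτ : IsWAut τ) [Module.Finite K(p, k) N] {F : N →ₛₗ[τ] N}
    (hF : Function.Bijective F) {m : ℕ} (hm : m ≠ 0) (π : N →ₗ[K(p, k)] N)
    (hπ : ∀ x, π x = (⇑F)^[m] x) [IsAlgClosed Ω] (μ : ℚ)
    [DecidablePred (SlopeCond p k (Ω := Ω) m μ)] :
    Isoc.newtonMult F μ = Multiset.countP (SlopeCond p k (Ω := Ω) m μ)
      ((π.charpoly.map (algebraMap K(p, k) Ω)).roots) := by
  obtain ⟨T, hmemT, hint⟩ := exists_finset_isInternal_slopePart hτ hF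
  have hPπ : ∀ ν : T, ∀ x ∈ Isoc.slopePart F ν.1, π x ∈ Isoc.slopePart F ν.1 := by
    intro ν x hx
    rw [hπ]
    exact iterate_stable (slopePart_mem hτ F ν.1).1 m hx
  have hcp := charpoly_eq_prod_of_isInternal (fun ν : T => Isoc.slopePart F ν.1) hint π hPπ
  rw [hcp, Polynomial.map_prod]
  have hne : ∀ ν ∈ (Finset.univ : Finset T),
      ((π.restrict (hPπ ν)).charpoly.map (algebraMap K(p, k) Ω)) ≠ 0 := by
    intro ν _
    exact ((LinearMap.charpoly_monic _).map _).ne_zero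
  rw [countP_roots_prod Finset.univ _ hne]
  have hterm : ∀ ν : T, Multiset.countP (SlopeCond p k (Ω := Ω) m μ)
      ((π.restrict (hPπ ν)).charpoly.map (algebraMap K(p, k) Ω)).roots =
      if ν.1 = μ then Module.finrank K(p, k) (Isoc.slopePart F ν.1) else 0 := by
    intro ν
    by_cases hνμ : ν.1 = μ
    · rw [if_pos hνμ]
      have hall : ∀ α ∈ ((π.restrict (hPπ ν)).charpoly.map (algebraMap K(p, k) Ω)).roots,
          SlopeCond p k (Ω := Ω) m μ α := by
        intro α hα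
        have hroot := (Polynomial.mem_roots'.mp hα).2
        have := (slopeCond_of_root_restrict hτ π hπ ν.1 (hPπ ν) α hroot).2
        rwa [hνμ] at this
      rw [Multiset.countP_eq_card.mpr hall]
      have hsplit := IsAlgClosed.splits
        ((π.restrict (hPπ ν)).charpoly.map (algebraMap K(p, k) Ω))
      rw [Polynomial.splits_iff_card_roots.mp hsplit, Polynomial.natDegree_map,
        LinearMap.charpoly_natDegree]
    · rw [if_neg hνμ, Multiset.countP_eq_zero]
      intro α hα hcond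
      have hroot := (Polynomial.mem_roots'.mp hα).2
      obtain ⟨hα0, hν⟩ := slopeCond_of_root_restrict hτ π hπ ν.1 (hPπ ν) α hroot
      exact hνμ (slopeCond_unique hm hα0 hν hcond)
  rw [Finset.sum_congr rfl fun ν _ => hterm ν]
  unfold Isoc.newtonMult
  by_cases hμT : μ ∈ T
  · rw [Finset.sum_eq_single (⟨μ, hμT⟩ : T)]
    · rw [if_pos rfl]
    · intro ν _ hν
      rw [if_neg]
      intro h
      exact hν (Subtype.ext h)
    · intro h
      exact absurd (Finset.mem_univ _) h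
  · have hbot : Isoc.slopePart F μ = ⊥ := by
      by_contra h
      exact hμT ((hmemT μ).mpr h)
    rw [hbot, finrank_bot, Finset.sum_eq_zero]
    intro ν _
    rw [if_neg]
    intro h
    exact hμT (h ▸ ν.2)

end Count

end Groth.Agent.Lib.Helper90.IsocLib
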