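import Groth.Agent.Lib.Helper90.Isoc

set_option autoImplicit false

open scoped Pointwise Isocrystal

universe u v w

namespace Groth.Agent.Lib.Helper90.IsocLib

section Transfer

variable {p : ℕ} [Fact p.Prime] {k : Type u} [Field k] [CharP k p] [PerfectRing k p]
variable {N : Type v} [AddCommGroup N] [Module (WittVector p k) N] [Module K(p, k) N]
  [IsScalarTower (WittVector p k) K(p, k) N]
variable {τ : K(p, k) →+* K(p, k)}

/-- the inclusion of a subspace, as a `W`-linear map -/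
noncomputable abbrev incl (P : Submodule K(p, k) N) : P →ₗ[WittVector p k] N :=
  P.subtype.restrictScalars (WittVector p k)

theorem incl_injective (P : Submodule K(p, k) N) : Function.Injective (incl P) :=
  Subtype.val_injective

theorem restrict_iterate (F : N →ₛₗ[τ] N) {P : Submodule K(p, k) N} (hP : ∀ x ∈ P, F x ∈ P)
    (j : ℕ) (x : P) : (((⇑(F.restrict hP))^[j] x : P) : N) = (⇑F)^[j] (x : N) := by
  induction j generalizing x with
  | zero => rfl
  | succ j ih =>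
    rw [Function.iterate_succ_apply', Function.iterate_succ_apply', ← ih]
    rfl

theorem map_latImg_restrict (hτ : IsWAut τ) (F : N →ₛₗ[τ] N) {P : Submodule K(p, k) N}
    (hP : ∀ x ∈ P, F x ∈ P) (s : ℕ) (M : Submodule (WittVector p k) P) :
    (Isoc.latImg (F.restrict hP) s M).map (incl P) = Isoc.latImg F s (M.map (incl P)) := by
  ext x
  rw [Submodule.mem_map, mem_latImg hτ]
  constructor
  · rintro ⟨y, hy, rfl⟩
    obtain ⟨z, hz, rfl⟩ := (mem_latImg hτ).mp hy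
    exact ⟨(z : N), ⟨z, hz, rfl⟩, (restrict_iterate F hP s z).symm⟩
  · rintro ⟨_, ⟨z, hz, rfl⟩, rfl⟩
    exact ⟨(⇑(F.restrict hP))^[s] z, iterate_mem_latImg hz, restrict_iterate F hP s z⟩

theorem map_pPow_incl (P : Submodule K(p, k) N) (r : ℤ) (M : Submodule (WittVector p k) P) :
    (Isoc.pPow r M).map (incl P) = Isoc.pPow r (M.map (incl P)) := by
  ext x
  rw [Submodule.mem_map, mem_pPow]
  constructor
  · rintro ⟨y, hy, rfl⟩
    obtain ⟨z, hz, rfl⟩ := mem_pPow.mp hy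
    exact ⟨(z : N), ⟨z, hz, rfl⟩, rfl⟩
  · rintro ⟨_, ⟨z, hz, rfl⟩, rfl⟩
    exact ⟨((p : K(p, k)) ^ r) • z, smul_mem_pPow hz, rfl⟩

theorem span_map_incl (P : Submodule K(p, k) N) (M : Submodule (WittVector p k) P) :
    Submodule.span K(p, k) ((M.map (incl P) : Submodule (WittVector p k) N) : Set N) =
      (Submodule.span K(p, k) (M : Set P)).map P.subtype := by
  rw [Submodule.map_span]
  rfl

/-- `(P, F|P)` is isoclinic of slope `μ`, expressed with a lattice inside the ambient space. -/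
def IsoclinicIn (F : N →ₛₗ[τ] N) (P : Submodule K(p, k) N) (μ : ℚ) : Prop :=
  ∃ M : Submodule (WittVector p k) N, M.FG ∧ Submodule.span K(p, k) (M : Set N) = P ∧
    ∃ (r : ℤ) (s : ℕ), 0 < s ∧ (r : ℚ) / s = μ ∧ Isoc.latImg F s M = Isoc.pPow r M

theorem isoclinicIn_of_isIsoclinic (hτ : IsWAut τ) (F : N →ₛₗ[τ] N) {P : Submodule K(p, k) N}
    (hP : ∀ x ∈ P, F x ∈ P) {μ : ℚ} (h : Isoc.IsIsoclinic (F.restrict hP) μ) :
    IsoclinicIn F P μ := by
  obtain ⟨M, hM, r, s, hs, hrs, hFM⟩ := h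
  refine ⟨M.map (incl P), hM.fg.map _, ?_, r, s, hs, hrs, ?_⟩
  · rw [span_map_incl, hM.span_eq_top, Submodule.map_top, Submodule.range_subtype]
  · rw [← map_latImg_restrict hτ F hP, hFM, map_pPow_incl]

theorem isIsoclinic_of_isoclinicIn (hτ : IsWAut τ) (F : N →ₛₗ[τ] N) {P : Submodule K(p, k) N}
    (hP : ∀ x ∈ P, F x ∈ P) {μ : ℚ} (h : IsoclinicIn F P μ) :
    Isoc.IsIsoclinic (F.restrict hP) μ := by
  obtain ⟨M', hfg, hspan, r, s, hs, hrs, hFM⟩ := h
  have hle : ∀ x ∈ M', x ∈ P := fun x hx => hspan ▸ Submodule.subset_span hx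
  set M := M'.comap (incl P) with hMdef
  have hmap : M.map (incl P) = M' := by
    apply le_antisymm
    · exact Submodule.map_comap_le _ _
    · intro x hx
      exact ⟨⟨x, hle x hx⟩, hx, rfl⟩
  refine ⟨M, ⟨?_, ?_⟩, r, s, hs, hrs, ?_⟩
  · exact Submodule.fg_of_fg_map_injective (incl P) (incl_injective P) (hmap.symm ▸ hfg)
  · apply Submodule.map_injective_of_injective (f := P.subtype) Subtype.val_injective
    rw [← span_map_incl, hmap, hspan, Submodule.map_top, Submodule.range_subtype]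
  · apply Submodule.map_injective_of_injective (f := incl P) (incl_injective P)
    rw [map_latImg_restrict hτ, map_pPow_incl, hmap, hFM]

theorem isoclinicIn_bot (F : N →ₛₗ[τ] N) (μ : ℚ) : IsoclinicIn F ⊥ μ := by
  refine ⟨⊥, Submodule.fg_bot, by simp, μ.num, μ.den, μ.den_pos, Rat.num_div_den μ, ?_⟩
  have h1 : Isoc.latImg F μ.den (⊥ : Submodule (WittVector p k) N) = ⊥ := by
    unfold Isoc.latImg
    rw [Submodule.span_eq_bot]
    rintro x ⟨y, hy, rfl⟩
    rw [SetLike.mem_coe, Submodule.mem_bot] at hy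
    rw [hy]
    exact iterate_zero' F _
  have h2 : Isoc.pPow μ.num (⊥ : Submodule (WittVector p k) N) = ⊥ := Submodule.smul_bot' _
  rw [h1, h2]

theorem isoclinicIn_sup (hτ : IsWAut τ) (F : N →ₛₗ[τ] N) {P₁ P₂ : Submodule K(p, k) N} {μ : ℚ}
    (h₁ : IsoclinicIn F P₁ μ) (h₂ : IsoclinicIn F P₂ μ) : IsoclinicIn F (P₁ ⊔ P₂) μ := by
  obtain ⟨M₁, hfg₁, hspan₁, r₁, s₁, hs₁, hrs₁, hFM₁⟩ := h₁
  obtain ⟨M₂, hfg₂, hspan₂, r₂, s₂, hs₂, hrs₂, hFM₂⟩ := h₂
  have hR : r₁ * s₂ = r₂ * s₁ := by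
    have h1 : (s₁ : ℚ) ≠ 0 := by exact_mod_cast hs₁.ne'
    have h2 : (s₂ : ℚ) ≠ 0 := by exact_mod_cast hs₂.ne'
    have h3 : (r₁ : ℚ) / s₁ = (r₂ : ℚ) / s₂ := by rw [hrs₁, hrs₂]
    rw [div_eq_div_iff h1 h2] at h3
    exact_mod_cast h3
  refine ⟨M₁ ⊔ M₂, hfg₁.sup hfg₂, ?_, r₁ * s₂, s₁ * s₂, Nat.mul_pos hs₁ hs₂, ?_, ?_⟩
  · apply le_antisymm
    · rw [Submodule.span_le]
      intro x hx
      obtain ⟨a, ha, b, hb, rfl⟩ := Submodule.mem_sup.mp hx
      refine Submodule.add_mem _ (Submodule.mem_sup_left ?_) (Submodule.mem_sup_right ?_)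
      · rw [← hspan₁]; exact Submodule.subset_span ha
      · rw [← hspan₂]; exact Submodule.subset_span hb
    · refine sup_le ?_ ?_
      · rw [← hspan₁]
        exact Submodule.span_mono (fun x hx => (le_sup_left : M₁ ≤ M₁ ⊔ M₂) hx)
      · rw [← hspan₂]
        exact Submodule.span_mono (fun x hx => (le_sup_right : M₂ ≤ M₁ ⊔ M₂) hx)
  · rw [← hrs₁]
    have h2 : (s₂ : ℚ) ≠ 0 := by exact_mod_cast hs₂.ne'
    push_cast
    field_simp
  · have e₁ := latImg_mul_eq hτ hFM₁ s₂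
    have e₂ := latImg_mul_eq hτ hFM₂ s₁
    rw [latImg_sup hτ, pPow_sup, e₁, hR]
    rw [mul_comm s₁ s₂, e₂]

/-- The slope part is `F`-stable and isoclinic (ambient form). -/
theorem slopePart_mem (hτ : IsWAut τ) (F : N →ₛₗ[τ] N) [Module.Finite K(p, k) N] (μ : ℚ) :
    (∀ x ∈ Isoc.slopePart F μ, F x ∈ Isoc.slopePart F μ) ∧
      IsoclinicIn F (Isoc.slopePart F μ) μ := by
  unfold Isoc.slopePart
  set S : Set (Submodule K(p, k) N) :=
    {P | ∃ hP : ∀ x ∈ P, F x ∈ P, Isoc.IsIsoclinic (F.restrict hP) μ} with hS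
  obtain ⟨t, hts, hsup⟩ := CompleteLattice.WellFoundedGT.isSupFiniteCompact
    (Submodule K(p, k) N) S
  rw [hsup]
  refine Finset.sup_induction (p := fun P : Submodule K(p, k) N =>
    (∀ x ∈ P, F x ∈ P) ∧ IsoclinicIn F P μ) ?_ ?_ ?_
  · refine ⟨fun x hx => ?_, isoclinicIn_bot F μ⟩
    rw [Submodule.mem_bot] at hx ⊢
    rw [hx, map_zero]
  · rintro P₁ ⟨hst₁, hi₁⟩ P₂ ⟨hst₂, hi₂⟩
    refine ⟨fun x hx => ?_, isoclinicIn_sup hτ F hi₁ hi₂⟩
    obtain ⟨a, ha, b, hb, rfl⟩ := Submodule.mem_sup.mp hx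
    rw [map_add]
    exact Submodule.add_mem _ (Submodule.mem_sup_left (hst₁ a ha))
      (Submodule.mem_sup_right (hst₂ b hb))
  · intro P hP
    obtain ⟨hst, hi⟩ := hts hP
    exact ⟨hst, isoclinicIn_of_isIsoclinic hτ F hst hi⟩

theorem le_slopePart (F : N →ₛₗ[τ] N) {P : Submodule K(p, k) N} (hP : ∀ x ∈ P, F x ∈ P) {μ : ℚ}
    (h : Isoc.IsIsoclinic (F.restrict hP) μ) : P ≤ Isoc.slopePart F μ :=
  le_sSup ⟨hP, h⟩

end Transfer

end Groth.Agent.Lib.Helper90.IsocLib
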