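import Groth.Agent.Lib.Helper90.Isoc19

set_option autoImplicit false

open scoped Pointwise Isocrystal
open Filter Topology Polynomial

universe u v w

namespace Groth.Agent.Lib.Helper90.IsocLib

section ModP

variable {k : Type*} [Field k] {V : Type*} [AddCommGroup V] [Module k V]

/-- cyclic vector lemma: a first linear relation among the terms of a sequence. -/
theorem exists_cyclic_relation [FiniteDimensional k V] (u : ℕ → V) :
    ∃ (r : ℕ) (a : Fin r → k), LinearIndependent k (fun i : Fin r => u i) ∧
      u r = ∑ i : Fin r, a i • u i := by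
  classical
  have hstep : ∀ r, (∀ m < r, u m ∉ Submodule.span k (Set.range fun i : Fin m => u i)) →
      LinearIndependent k (fun i : Fin r => u i) := by
    intro r
    induction r with
    | zero => intro _; exact linearIndependent_empty_type
    | succ r ih =>
      intro h
      have h1 : (fun i : Fin (r + 1) => u i) = Fin.snoc (fun i : Fin r => u i) (u r) := by
        ext i
        refine Fin.lastCases ?_ (fun j => ?_) i
        · simp
        · simp
      rw [h1, linearIndependent_finSnoc]
      exact ⟨ih fun m hm => h m (Nat.lt_succ_of_lt hm), h r (Nat.lt_succ_self r)⟩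
  have hex : ∃ r, u r ∈ Submodule.span k (Set.range fun i : Fin r => u i) := by
    by_contra hcon
    push_neg at hcon
    have h1 := (hstep (Module.finrank k V + 1) fun m _ => hcon m).fintype_card_le_finrank
    simp at h1
  refine ⟨Nat.find hex, ?_⟩
  obtain ⟨a, ha⟩ := (Submodule.mem_span_range_iff_exists_fun k).mp (Nat.find_spec hex)
  exact ⟨a, hstep _ fun m hm => Nat.find_min hex hm, ha.symm⟩

/-- the basic computation behind Lang's trick. -/
theorem lang_computation {ψ : k →+* k} (φ : V →ₛₗ[ψ] V) (v : ℕ → V)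
    (hv : ∀ i, φ (v i) = v (i + 1)) (m : ℕ) (a c : ℕ → k) (u : k)
    (hrel : v (m + 1) = ∑ i ∈ Finset.range (m + 1), a i • v i)
    (hc : ∀ i, c (i + 1) = ψ (c i) + u * a (i + 1)) (hu : ψ (c m) = u) :
    (∑ i ∈ Finset.range (m + 1), c i • v i) - φ (∑ i ∈ Finset.range (m + 1), c i • v i) =
      (c 0 - u * a 0) • v 0 := by
  have h1 : φ (∑ i ∈ Finset.range (m + 1), c i • v i) =
      ∑ i ∈ Finset.range m, ψ (c i) • v (i + 1) + u • v (m + 1) := by
    rw [map_sum, Finset.sum_range_succ]
    congr 1
    · refine Finset.sum_congr rfl fun i _ => ?_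
      rw [map_smulₛₗ, hv]
    · rw [map_smulₛₗ, hv, hu]
  have h2 : ∑ i ∈ Finset.range (m + 1), c i • v i =
      ∑ i ∈ Finset.range m, c (i + 1) • v (i + 1) + c 0 • v 0 := Finset.sum_range_succ' _ _
  have h3 : ∑ i ∈ Finset.range (m + 1), a i • v i =
      ∑ i ∈ Finset.range m, a (i + 1) • v (i + 1) + a 0 • v 0 := Finset.sum_range_succ' _ _
  have h4 : ∑ i ∈ Finset.range m, c (i + 1) • v (i + 1) =
      ∑ i ∈ Finset.range m, ψ (c i) • v (i + 1) +
        u • ∑ i ∈ Finset.range m, a (i + 1) • v (i + 1) := by
    rw [Finset.smul_sum, ← Finset.sum_add_distrib]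
    refine Finset.sum_congr rfl fun i _ => ?_
    rw [hc i, add_smul, mul_smul]
  rw [h1, hrel, h3, h2, h4]
  module

end ModP

section Lang

variable {k : Type*} [Field k] [IsAlgClosed k] (p : ℕ) [Fact p.Prime] [CharP k p]
variable {V : Type*} [AddCommGroup V] [Module k V]

/-- `1 - φ` is surjective for a Frobenius-semilinear endomorphism of a finite dimensional space
over an algebraically closed field. -/
theorem lang_surj [FiniteDimensional k V] {ψ : k →+* k} {c : ℕ} (hc : 0 < c)
    (hψ : ∀ t, ψ t = t ^ (p ^ c)) (φ : V →ₛₗ[ψ] V) (y : V) : ∃ x, x - φ x = y := by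
  classical
  set q := p ^ c with hq
  have hq0 : ((q : ℕ) : k) = 0 := by
    rw [hq, Nat.cast_pow, CharP.cast_eq_zero k p, zero_pow hc.ne']
  obtain ⟨r, a, -, hrel⟩ := exists_cyclic_relation (k := k) (fun i => (⇑φ)^[i] y)
  cases r with
  | zero =>
    refine ⟨0, ?_⟩
    simp only [Function.iterate_zero, id_eq, Finset.univ_eq_empty, Finset.sum_empty] at hrel
    rw [hrel, map_zero, sub_zero]
  | succ m =>
    set a' : ℕ → k := fun i => if h : i < m + 1 then a ⟨i, h⟩ else 0 with ha'
    have hrel' : (⇑φ)^[m + 1] y = ∑ i ∈ Finset.range (m + 1), a' i • (⇑φ)^[i] y := by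
      rw [hrel, ← Fin.sum_univ_eq_sum_range (fun i => a' i • (⇑φ)^[i] y)]
      refine Finset.sum_congr rfl fun i _ => ?_
      simp only [ha', i.2, dif_pos, Fin.eta]
    -- the polynomials
    let Cp : ℕ → k[X] := fun i =>
      Nat.rec (1 + C (a' 0) * X) (fun j P => P ^ q + C (a' (j + 1)) * X) i
    have hCp0 : Cp 0 = 1 + C (a' 0) * X := rfl
    have hCps : ∀ i, Cp (i + 1) = Cp i ^ q + C (a' (i + 1)) * X := fun i => rfl
    let P : k[X] := Cp m ^ q - X
    have hP : P.degree ≠ 0 := by
      intro h0
      have h1 : P = C (P.coeff 0) := Polynomial.eq_C_of_degree_eq_zero h0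
      have h2 : Polynomial.derivative P = 0 := by rw [h1, Polynomial.derivative_C]
      have h3 : Polynomial.derivative P = -1 := by
        simp only [P, Polynomial.derivative_sub, Polynomial.derivative_pow, Polynomial.derivative_X]
        rw [hq0]
        simp
      rw [h3] at h2
      exact one_ne_zero (neg_eq_zero.mp h2)
    obtain ⟨u, hu⟩ := IsAlgClosed.exists_root P hP
    set cc : ℕ → k := fun i => (Cp i).eval u with hcc
    have hc0 : cc 0 = 1 + u * a' 0 := by
      simp only [hcc, hCp0, Polynomial.eval_add, Polynomial.eval_one, Polynomial.eval_mul,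
        Polynomial.eval_C, Polynomial.eval_X]
      ring
    have hcs : ∀ i, cc (i + 1) = ψ (cc i) + u * a' (i + 1) := by
      intro i
      simp only [hcc, hCps, Polynomial.eval_add, Polynomial.eval_pow, Polynomial.eval_mul,
        Polynomial.eval_C, Polynomial.eval_X, hψ]
      ring
    have hcu : ψ (cc m) = u := by
      have h1 : (Cp m).eval u ^ q - u = 0 := by
        have := hu
        simp only [P, Polynomial.IsRoot.def, Polynomial.eval_sub, Polynomial.eval_pow,
          Polynomial.eval_X] at this
        exact this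
      rw [hψ]
      exact sub_eq_zero.mp h1
    have key := lang_computation φ (fun i => (⇑φ)^[i] y)
      (fun i => (Function.iterate_succ_apply' _ _ _).symm) m a' cc u hrel' hcs hcu
    refine ⟨∑ i ∈ Finset.range (m + 1), cc i • (⇑φ)^[i] y, ?_⟩
    rw [key, hc0]
    simp

/-- a bijective Frobenius-semilinear endomorphism of a non-zero finite dimensional space over an
algebraically closed field has a non-zero fixed vector. -/
theorem lang_fixed [FiniteDimensional k V] [Nontrivial V] {ψ : k →+* k} {c : ℕ} (hc : 0 < c)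
    (hψ : ∀ t, ψ t = t ^ (p ^ c)) (φ : V →ₛₗ[ψ] V) (hφ : Function.Injective φ) :
    ∃ x, x ≠ 0 ∧ φ x = x := by
  classical
  set q := p ^ c with hq
  have hq2 : 2 ≤ q := by
    have h1 : p ^ 1 ≤ p ^ c := Nat.pow_le_pow_right (Fact.out : p.Prime).pos hc
    have h2 := (Fact.out : p.Prime).two_le
    rw [pow_one] at h1
    omega
  obtain ⟨s, hs⟩ : ∃ s, q = s + 1 := ⟨q - 1, by omega⟩
  have hs1 : 1 ≤ s := by omega
  obtain ⟨y, hy⟩ := exists_ne (0 : V)
  obtain ⟨r, a, hli, hrel⟩ := exists_cyclic_relation (k := k) (fun i => (⇑φ)^[i] y)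
  cases r with
  | zero =>
    exfalso
    simp only [Function.iterate_zero, id_eq, Finset.univ_eq_empty, Finset.sum_empty] at hrel
    exact hy hrel
  | succ m =>
    set a' : ℕ → k := fun i => if h : i < m + 1 then a ⟨i, h⟩ else 0 with ha'
    have hrel' : (⇑φ)^[m + 1] y = ∑ i ∈ Finset.range (m + 1), a' i • (⇑φ)^[i] y := by
      rw [hrel, ← Fin.sum_univ_eq_sum_range (fun i => a' i • (⇑φ)^[i] y)]
      refine Finset.sum_congr rfl fun i _ => ?_
      simp only [ha', i.2, dif_pos, Fin.eta]
    have hnz : ¬ ∀ j ≤ m, a' j = 0 := by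
      intro hall
      have h1 : (⇑φ)^[m + 1] y = 0 := by
        rw [hrel']
        refine Finset.sum_eq_zero fun i hi => ?_
        rw [hall i (Nat.lt_succ_iff.mp (Finset.mem_range.mp hi)), zero_smul]
      have h2 : (⇑φ)^[m + 1] y = (⇑φ)^[m + 1] 0 := by
        rw [h1, Function.iterate_fixed (map_zero φ)]
      exact hy (hφ.iterate (m + 1) h2)
    -- the polynomials
    let Y : ℕ → k[X] := fun i =>
      Nat.rec (C (a' 0)) (fun j P => X ^ (q * s) * P ^ q + C (a' (j + 1))) i
    have hY0 : Y 0 = C (a' 0) := rfl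
    have hYs : ∀ i, Y (i + 1) = X ^ (q * s) * Y i ^ q + C (a' (i + 1)) := fun i => rfl
    have hqs : 0 < q * s := Nat.mul_pos (by omega) hs1
    have hYzero : ∀ i, (∀ j ≤ i, a' j = 0) → Y i = 0 := by
      intro i
      induction i with
      | zero => intro h; rw [hY0, h 0 le_rfl, map_zero]
      | succ i ih2 =>
        intro h
        rw [hYs, ih2 (fun j hj => h j (Nat.le_succ_of_le hj)), h (i + 1) le_rfl]
        simp [zero_pow (by omega : q ≠ 0)]
    have hYne : ∀ i, Y i ≠ 0 ∨ ∀ j ≤ i, a' j = 0 := by
      intro i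
      induction i with
      | zero =>
        by_cases h0 : a' 0 = 0
        · right
          intro j hj
          rw [Nat.le_zero.mp hj, h0]
        · left
          rw [hY0]
          exact Polynomial.C_ne_zero.mpr h0
      | succ i ih =>
        rcases ih with h | h
        · left
          intro h0
          rw [hYs] at h0
          have h1 := congrArg (Polynomial.eval 0) h0
          simp only [Polynomial.eval_add, Polynomial.eval_mul, Polynomial.eval_pow,
            Polynomial.eval_X, Polynomial.eval_C, Polynomial.eval_zero, zero_pow hqs.ne',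
            zero_mul, zero_add] at h1
          rw [h1, map_zero, add_zero] at h0
          rcases mul_eq_zero.mp h0 with h2 | h2
          · exact (pow_ne_zero _ Polynomial.X_ne_zero) h2
          · exact h (pow_eq_zero_iff (by omega) |>.mp h2)
        · by_cases h0 : a' (i + 1) = 0
          · right
            intro j hj
            rcases Nat.lt_or_eq_of_le hj with h1 | h1
            · exact h j (Nat.lt_succ_iff.mp h1)
            · rw [h1, h0]
          · left
            have hYi : Y i = 0 := hYzero i h
            rw [hYs, hYi, zero_pow (by omega : q ≠ 0), mul_zero, zero_add]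
            exact Polynomial.C_ne_zero.mpr h0
    have hYm : Y m ≠ 0 := (hYne m).resolve_right hnz
    let R : k[X] := X ^ s * Y m - 1
    have hR : R.degree ≠ 0 := by
      intro h0
      have h1 : R = C (R.coeff 0) := Polynomial.eq_C_of_degree_eq_zero h0
      have h2 : X ^ s * Y m = C (R.coeff 0 + 1) := by
        rw [map_add, ← h1]
        simp [R]
      have h3 := congrArg (Polynomial.eval 0) h2
      simp only [Polynomial.eval_mul, Polynomial.eval_pow, Polynomial.eval_X,
        zero_pow (by omega : s ≠ 0), zero_mul, Polynomial.eval_C] at h3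
      rw [← h3, map_zero] at h2
      rcases mul_eq_zero.mp h2 with h4 | h4
      · exact (pow_ne_zero _ Polynomial.X_ne_zero) h4
      · exact hYm h4
    obtain ⟨t, ht⟩ := IsAlgClosed.exists_root R hR
    have ht1 : t ^ s * (Y m).eval t = 1 := by
      have := ht
      simp only [R, Polynomial.IsRoot.def, Polynomial.eval_sub, Polynomial.eval_mul,
        Polynomial.eval_pow, Polynomial.eval_X, Polynomial.eval_one] at this
      exact sub_eq_zero.mp this
    have ht0 : t ≠ 0 := by
      intro h0
      rw [h0, zero_pow (by omega : s ≠ 0), zero_mul] at ht1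
      exact zero_ne_one ht1
    set cc : ℕ → k := fun i => t ^ q * (Y i).eval t with hcc
    have hc0 : cc 0 = t ^ q * a' 0 := by
      simp only [hcc, hY0, Polynomial.eval_C]
    have hcs : ∀ i, cc (i + 1) = ψ (cc i) + t ^ q * a' (i + 1) := by
      intro i
      simp only [hcc, hYs, Polynomial.eval_add, Polynomial.eval_pow, Polynomial.eval_mul,
        Polynomial.eval_C, Polynomial.eval_X, hψ]
      rw [hs]
      ring
    have hcu : ψ (cc m) = t ^ q := by
      rw [hψ]
      simp only [hcc]
      have h1 : (t ^ q * Polynomial.eval t (Y m)) ^ q =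
          t ^ q * (t ^ s * Polynomial.eval t (Y m)) ^ q := by
        rw [hs]; ring
      rw [h1, ht1, one_pow, mul_one]
    have key := lang_computation φ (fun i => (⇑φ)^[i] y)
      (fun i => (Function.iterate_succ_apply' _ _ _).symm) m a' cc (t ^ q) hrel' hcs hcu
    refine ⟨∑ i ∈ Finset.range (m + 1), cc i • (⇑φ)^[i] y, ?_, ?_⟩
    · intro h0
      have h1 : ∑ i : Fin (m + 1), cc i • (⇑φ)^[i] y = 0 := by
        rw [Fin.sum_univ_eq_sum_range (fun i => cc i • (⇑φ)^[i] y)]
        exact h0
      have h2 := Fintype.linearIndependent_iff.mp hli (fun i => cc i) h1 (Fin.last m)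
      simp only [Fin.val_last] at h2
      have h3 : ψ (cc m) = 0 := by rw [h2, map_zero]
      rw [hcu] at h3
      exact pow_ne_zero _ ht0 h3
    · rw [hc0, sub_self, zero_smul, sub_eq_zero] at key
      exact key.symm

/-- Lang's theorem in linear form: the fixed vectors of a bijective Frobenius-semilinear
endomorphism span the space. -/
theorem lang_span [FiniteDimensional k V] {ψ : k →+* k} {c : ℕ} (hc : 0 < c)
    (hψ : ∀ t, ψ t = t ^ (p ^ c)) (φ : V →ₛₗ[ψ] V) (hφ : Function.Injective φ) :
    Submodule.span k {x : V | φ x = x} = ⊤ := by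
  classical
  set U := Submodule.span k {x : V | φ x = x} with hU
  have hψsurj : Function.Surjective ψ := by
    intro t
    obtain ⟨t', ht'⟩ := IsAlgClosed.exists_pow_nat_eq t (pow_pos (Fact.out : p.Prime).pos c)
    exact ⟨t', by rw [hψ, ht']⟩
  have hUst : ∀ x ∈ U, φ x ∈ U := by
    intro x hx
    induction hx using Submodule.span_induction with
    | mem x hx =>
      have hx' : φ x = x := hx
      rw [hx']; exact Submodule.subset_span hx
    | zero => rw [map_zero]; exact U.zero_mem
    | add a b _ _ ha hb => rw [map_add]; exact U.add_mem ha hb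
    | smul t a _ ha => rw [map_smulₛₗ]; exact U.smul_mem _ ha
  have hUsurj : ∀ x ∈ U, ∃ x' ∈ U, φ x' = x := by
    intro x hx
    induction hx using Submodule.span_induction with
    | mem x hx => exact ⟨x, Submodule.subset_span hx, hx⟩
    | zero => exact ⟨0, U.zero_mem, map_zero φ⟩
    | add a b _ _ ha hb =>
      obtain ⟨a', ha', rfl⟩ := ha
      obtain ⟨b', hb', rfl⟩ := hb
      exact ⟨a' + b', U.add_mem ha' hb', map_add φ a' b'⟩
    | smul t a _ ha =>
      obtain ⟨a', ha', rfl⟩ := ha
      obtain ⟨t', rfl⟩ := hψsurj t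
      exact ⟨t' • a', U.smul_mem _ ha', map_smulₛₗ φ t' a'⟩
  by_contra hne
  have hcomap : U ≤ U.comap φ := fun x hx => hUst x hx
  let φq : (V ⧸ U) →ₛₗ[ψ] (V ⧸ U) := U.mapQ U φ hcomap
  have hφq : Function.Injective φq := by
    rw [injective_iff_map_eq_zero]
    intro z hz
    obtain ⟨x, rfl⟩ := Submodule.Quotient.mk_surjective U z
    have h1 : φq (Submodule.Quotient.mk x) = Submodule.Quotient.mk (φ x) := rfl
    rw [h1, Submodule.Quotient.mk_eq_zero] at hz
    obtain ⟨x', hx', h⟩ := hUsurj (φ x) hz
    rw [Submodule.Quotient.mk_eq_zero, ← hφ h]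
    exact hx'
  haveI : Nontrivial (V ⧸ U) :=
    Submodule.Quotient.nontrivial_iff.mpr hne
  obtain ⟨z, hz0, hz⟩ := lang_fixed p hc hψ φq hφq
  obtain ⟨x, rfl⟩ := Submodule.Quotient.mk_surjective U z
  have h1 : φ x - x ∈ U := by
    have h2 : φq (Submodule.Quotient.mk x) = Submodule.Quotient.mk (φ x) := rfl
    rw [h2] at hz
    rw [← Submodule.Quotient.mk_eq_zero U, Submodule.Quotient.mk_sub, hz, sub_self]
  let φU : U →ₛₗ[ψ] U := φ.restrict hUst
  obtain ⟨u, hu⟩ := lang_surj p hc hψ φU ⟨φ x - x, h1⟩
  have hu' : (u : V) - φ u = φ x - x := by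
    have := congrArg Subtype.val hu
    exact this
  have h2 : φ (x + u) = x + u := by
    rw [map_add]
    calc φ x + φ u = (φ x - x) + x + φ u := by abel
      _ = ((u : V) - φ u) + x + φ u := by rw [hu']
      _ = x + u := by abel
  have h3 : x + u ∈ U := Submodule.subset_span h2
  have h4 : x ∈ U := by
    have := U.sub_mem h3 u.2
    simpa using this
  exact hz0 ((Submodule.Quotient.mk_eq_zero U).mpr h4)

end Lang

end Groth.Agent.Lib.Helper90.IsocLib
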