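import Groth.Agent.Lib.Helper90.Isoc20

set_option autoImplicit false

open scoped Pointwise Isocrystal
open Filter Topology

universe u v w

namespace Groth.Agent.Lib.Helper90.IsocLib

section WittBasics

variable {p : ℕ} [Fact p.Prime] {k : Type u} [Field k] [CharP k p] [PerfectRing k p]

theorem witt_coeff_zero_p : ((p : WittVector p k)).coeff 0 = 0 := by
  have h1 : WittVector.constantCoeff (p : WittVector p k) = ((p : ℕ) : k) := map_natCast _ p
  rw [WittVector.constantCoeff_apply] at h1
  rw [h1, CharP.cast_eq_zero]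

theorem witt_coeff_zero_eq_zero_iff (w : WittVector p k) :
    w.coeff 0 = 0 ↔ ∃ w', w = (p : WittVector p k) * w' := by
  constructor
  · intro h
    by_cases hw : w = 0
    · exact ⟨0, by rw [hw, mul_zero]⟩
    obtain ⟨m, u, hu⟩ := WittVector.exists_eq_pow_p_mul' w hw
    cases m with
    | zero =>
      exfalso
      rw [pow_zero, one_mul] at hu
      have h1 : IsUnit (WittVector.constantCoeff w) := by
        rw [hu]; exact u.isUnit.map WittVector.constantCoeff
      rw [WittVector.constantCoeff_apply, h] at h1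
      exact not_isUnit_zero h1
    | succ m =>
      exact ⟨(p : WittVector p k) ^ m * u, by rw [hu, pow_succ']; ring⟩
  · rintro ⟨w', rfl⟩
    have h1 : WittVector.constantCoeff ((p : WittVector p k) * w') = 0 := by
      rw [map_mul, WittVector.constantCoeff_apply, witt_coeff_zero_p, zero_mul]
    rwa [WittVector.constantCoeff_apply] at h1

theorem witt_separated (w : WittVector p k) (h : ∀ n : ℕ, (p : WittVector p k) ^ n ∣ w) :
    w = 0 := by
  have hh : IsHausdorff (Ideal.span {(p : WittVector p k)}) (WittVector p k) :=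
    (WittVector.isAdicCompleteIdealSpanP (p := p) (k := k)).toIsHausdorff
  refine hh.haus' w fun n => ?_
  rw [SModEq.sub_mem, smul_eq_mul, Ideal.mul_top, Ideal.span_singleton_pow,
    Ideal.mem_span_singleton, sub_zero]
  exact h n

/-- `τ` restricts on `W` to a lift of the `p^c`-power Frobenius. -/
def IsFrobQ (τ : K(p, k) →+* K(p, k)) (c : ℕ) : Prop :=
  ∃ e : WittVector p k ≃+* WittVector p k,
    (∀ w, τ (algebraMap (WittVector p k) K(p, k) w) =
      algebraMap (WittVector p k) K(p, k) (e w)) ∧
    ∀ w : WittVector p k, (e w).coeff 0 = (w.coeff 0) ^ (p ^ c)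

theorem IsFrobQ.isWAut {τ : K(p, k) →+* K(p, k)} {c : ℕ} (h : IsFrobQ τ c) : IsWAut τ := by
  obtain ⟨e, he, -⟩ := h
  exact ⟨e, he⟩

theorem frobeniusEquiv_pow_coeff_zero (n : ℕ) (w : WittVector p k) :
    ((WittVector.frobeniusEquiv p k ^ n) w).coeff 0 = (w.coeff 0) ^ (p ^ n) := by
  induction n generalizing w with
  | zero => simp
  | succ n ih =>
    rw [pow_succ]
    have h1 : (WittVector.frobeniusEquiv p k ^ n * WittVector.frobeniusEquiv p k) w =
        (WittVector.frobeniusEquiv p k ^ n) (WittVector.frobeniusEquiv p k w) := rfl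
    rw [h1, ih, WittVector.frobeniusEquiv_apply, WittVector.coeff_frobenius_charP, ← pow_mul,
      pow_succ']

theorem isFrobQ_frob (n : ℕ) : IsFrobQ (Isoc.frob p k (n : ℤ)) n := by
  refine ⟨WittVector.frobeniusEquiv p k ^ (n : ℤ), Isoc.frob_algebraMap p k n, fun w => ?_⟩
  rw [zpow_natCast]
  exact frobeniusEquiv_pow_coeff_zero n w

theorem IsFrobQ.one : IsFrobQ (1 : K(p, k) →+* K(p, k)) 0 :=
  ⟨RingEquiv.refl _, fun _ => rfl, fun w => by simp⟩

theorem IsFrobQ.mul {τ τ' : K(p, k) →+* K(p, k)} {c c' : ℕ} (h : IsFrobQ τ c)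
    (h' : IsFrobQ τ' c') : IsFrobQ (τ * τ') (c' + c) := by
  obtain ⟨e, he, hq⟩ := h
  obtain ⟨e', he', hq'⟩ := h'
  refine ⟨e'.trans e, fun w => ?_, fun w => ?_⟩
  · rw [RingHom.mul_def, RingHom.comp_apply, he', he]
    rfl
  · rw [RingEquiv.trans_apply, hq, hq', ← pow_mul, pow_add]

theorem IsFrobQ.pow {τ : K(p, k) →+* K(p, k)} {c : ℕ} (h : IsFrobQ τ c) (n : ℕ) :
    IsFrobQ (τ ^ n) (c * n) := by
  induction n with
  | zero => rw [pow_zero, mul_zero]; exact IsFrobQ.one
  | succ n ih =>
    rw [pow_succ, mul_add, mul_one, add_comm]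
    exact ih.mul h

end WittBasics

section FreeW

variable {p : ℕ} [Fact p.Prime] {k : Type u} [Field k] [CharP k p] [PerfectRing k p]
variable {E : Type v} [AddCommGroup E] [Module (WittVector p k) E] {n : ℕ}
  (b : Module.Basis (Fin n) (WittVector p k) E)

/-- reduction mod `p` in coordinates -/
noncomputable def wred : E →+ (Fin n → k) where
  toFun x i := WittVector.constantCoeff (b.repr x i)
  map_zero' := by ext i; simp
  map_add' x y := by
    ext i
    show WittVector.constantCoeff (b.repr (x + y) i) =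
      WittVector.constantCoeff (b.repr x i) + WittVector.constantCoeff (b.repr y i)
    rw [map_add, Finsupp.add_apply, map_add]

theorem wred_apply (x : E) (i : Fin n) : wred b x i = (b.repr x i).coeff 0 := rfl

theorem wred_smul (w : WittVector p k) (x : E) : wred b (w • x) = (w.coeff 0) • wred b x := by
  ext i
  rw [wred_apply, map_smul, Finsupp.smul_apply, smul_eq_mul, Pi.smul_apply, wred_apply,
    smul_eq_mul, WittVector.mul_coeff_zero]

theorem wred_eq_zero_iff (x : E) : wred b x = 0 ↔ ∃ z : E, x = (p : WittVector p k) • z := by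
  constructor
  · intro h
    have h1 : ∀ i, ∃ w', b.repr x i = (p : WittVector p k) * w' := fun i =>
      (witt_coeff_zero_eq_zero_iff _).mp (by rw [← wred_apply, h]; rfl)
    choose w hw using h1
    refine ⟨∑ i, w i • b i, ?_⟩
    conv_lhs => rw [← b.sum_repr x]
    rw [Finset.smul_sum]
    refine Finset.sum_congr rfl fun i _ => ?_
    rw [hw i, mul_smul]
  · rintro ⟨z, rfl⟩
    rw [wred_smul, witt_coeff_zero_p, zero_smul]

/-- Teichmüller lift -/
noncomputable def wlift (v : Fin n → k) : E := ∑ i, WittVector.teichmuller p (v i) • b i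

theorem wred_wlift (v : Fin n → k) : wred b (wlift b v) = v := by
  ext i
  rw [wred_apply, wlift, Module.Basis.repr_sum_self, WittVector.teichmuller_coeff_zero]

theorem wred_surjective : Function.Surjective (wred b) := fun v => ⟨wlift b v, wred_wlift b v⟩

include b in
theorem free_complete (f : ℕ → E) :
    ∃ x : E, ∀ m : ℕ, ∃ z : E,
      x - ∑ j ∈ Finset.range m, (p : WittVector p k) ^ j • f j = (p : WittVector p k) ^ m • z := by
  have h1 : ∀ i, ∃ L : WittVector p k, ∀ c : ℕ, (p : WittVector p k) ^ c ∣
      L - ∑ j ∈ Finset.range c, (p : WittVector p k) ^ j * b.repr (f j) i := by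
    intro i
    refine witt_complete
      (fun c => ∑ j ∈ Finset.range c, (p : WittVector p k) ^ j * b.repr (f j) i) fun c => ?_
    rw [Finset.sum_range_succ, add_sub_cancel_left]
    exact Dvd.intro _ rfl
  choose L hL using h1
  choose q hq using hL
  refine ⟨∑ i, L i • b i, fun m => ⟨∑ i, q i m • b i, ?_⟩⟩
  apply b.repr.injective
  refine Finsupp.ext fun i => ?_
  simp only [map_sub, map_sum, map_smul, Finsupp.coe_sub, Finsupp.coe_finsetSum, Finsupp.coe_smul,
    Pi.sub_apply, Finset.sum_apply, Pi.smul_apply, Module.Basis.repr_self, smul_eq_mul]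
  have h2 : ∀ c : Fin n → WittVector p k,
      ∑ j, c j * (Finsupp.single j (1 : WittVector p k) : Fin n →₀ WittVector p k) i = c i := by
    intro c
    rw [Finset.sum_eq_single i]
    · rw [Finsupp.single_eq_same, mul_one]
    · intro j _ hji
      rw [Finsupp.single_eq_of_ne hji.symm, mul_zero]
    · intro hi; exact absurd (Finset.mem_univ i) hi
  rw [h2, h2, hq i m]

include b in
theorem free_separated (x : E) (h : ∀ m : ℕ, ∃ z : E, x = (p : WittVector p k) ^ m • z) :
    x = 0 := by
  apply b.repr.injective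
  refine Finsupp.ext fun i => ?_
  rw [map_zero, Finsupp.zero_apply]
  refine witt_separated (p := p) (k := k) (b.repr x i) fun m => ?_
  obtain ⟨z, hz⟩ := h m
  rw [hz, map_smul, Finsupp.smul_apply, smul_eq_mul]
  exact Dvd.intro _ rfl

variable {c : ℕ} {e : WittVector p k ≃+* WittVector p k}
  (he : ∀ w : WittVector p k, (e w).coeff 0 = (w.coeff 0) ^ (p ^ c))
  (g : E →ₛₗ[(e : WittVector p k →+* WittVector p k)] E)

include he in
theorem wred_g_congr {x x' : E} (h : wred b x = wred b x') : wred b (g x) = wred b (g x') := by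
  have h1 : wred b (x - x') = 0 := by rw [map_sub, h, sub_self]
  obtain ⟨z, hz⟩ := (wred_eq_zero_iff b _).mp h1
  have h2 : g x - g x' = (p : WittVector p k) • g z := by
    rw [← map_sub, hz, map_smulₛₗ]
    congr 1
    exact map_natCast e p
  have h3 : wred b (g x - g x') = 0 := (wred_eq_zero_iff b _).mpr ⟨g z, h2⟩
  rw [map_sub, sub_eq_zero] at h3
  exact h3

/-- the reduction of `g` mod `p` -/
noncomputable def wphi : (Fin n → k) →ₛₗ[iterateFrobenius k p c] (Fin n → k) where
  toFun v := wred b (g (wlift b v))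
  map_add' v v' := by
    have h1 : wred b (wlift b (v + v')) = wred b (wlift b v + wlift b v') := by
      rw [map_add, wred_wlift, wred_wlift, wred_wlift]
    rw [wred_g_congr b he g h1, map_add, map_add]
  map_smul' t v := by
    have h1 : wred b (wlift b (t • v)) = wred b (WittVector.teichmuller p t • wlift b v) := by
      rw [wred_smul, wred_wlift, wred_wlift, WittVector.teichmuller_coeff_zero]
    rw [wred_g_congr b he g h1, map_smulₛₗ, wred_smul]
    congr 1
    rw [RingEquiv.coe_toRingHom, he, WittVector.teichmuller_coeff_zero, iterateFrobenius_def]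

theorem wred_g (x : E) : wred b (g x) = wphi b he g (wred b x) := by
  have h1 : wred b x = wred b (wlift b (wred b x)) := (wred_wlift b _).symm
  exact wred_g_congr b he g h1

include he in
theorem wphi_injective (hg : Function.Bijective g) : Function.Injective (wphi b he g) := by
  rw [injective_iff_map_eq_zero]
  intro v hv
  have h1 : wred b (g (wlift b v)) = 0 := hv
  obtain ⟨z, hz⟩ := (wred_eq_zero_iff b _).mp h1
  obtain ⟨z', rfl⟩ := hg.2 z
  have h2 : g (wlift b v) = g ((p : WittVector p k) • z') := by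
    rw [hz, map_smulₛₗ]
    congr 1
    exact (map_natCast e p).symm
  have h3 := hg.1 h2
  have h4 : wred b (wlift b v) = 0 := (wred_eq_zero_iff b _).mpr ⟨z', h3⟩
  rwa [wred_wlift] at h4

theorem g_pow_smul (m : ℕ) (x : E) :
    g ((p : WittVector p k) ^ m • x) = (p : WittVector p k) ^ m • g x := by
  rw [map_smulₛₗ]
  congr 1
  rw [RingEquiv.coe_toRingHom, map_pow, map_natCast]

variable [IsAlgClosed k]

include b he in
/-- `1 - g` is surjective. -/
theorem w_lang_surj (hc : 0 < c) (y : E) : ∃ x, x - g x = y := by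
  have hψ : ∀ t : k, iterateFrobenius k p c t = t ^ (p ^ c) := fun t => iterateFrobenius_def p c t
  have hstep : ∀ z : E, ∃ v r : E, z = v - g v + (p : WittVector p k) • r := by
    intro z
    obtain ⟨v, hv⟩ := lang_surj p hc hψ (wphi b he g) (wred b z)
    have h1 : wred b (z - (wlift b v - g (wlift b v))) = 0 := by
      rw [map_sub, map_sub, wred_g b he g, wred_wlift, hv, sub_self]
    obtain ⟨r, hr⟩ := (wred_eq_zero_iff b _).mp h1
    exact ⟨wlift b v, r, by rw [← hr]; abel⟩
  choose V R hVR using hstep
  set zs : ℕ → E := fun j => R^[j] y with hzs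
  have hinv : ∀ m : ℕ, y = (∑ j ∈ Finset.range m, (p : WittVector p k) ^ j • V (zs j)) -
      g (∑ j ∈ Finset.range m, (p : WittVector p k) ^ j • V (zs j)) +
      (p : WittVector p k) ^ m • zs m := by
    intro m
    induction m with
    | zero => simp [hzs]
    | succ m ih =>
      have h1 : zs (m + 1) = R (zs m) := by
        simp only [hzs]; exact Function.iterate_succ_apply' R m y
      have h2 := hVR (zs m)
      rw [Finset.sum_range_succ, map_add, g_pow_smul, h1, pow_succ, mul_smul]
      conv_lhs => rw [ih]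
      conv_lhs => rw [h2]
      rw [smul_add, smul_sub]
      abel
  obtain ⟨x, hx⟩ := free_complete b (fun j => V (zs j))
  refine ⟨x, ?_⟩
  have h0 : y - (x - g x) = 0 := by
    refine free_separated b _ fun m => ?_
    obtain ⟨z, hz⟩ := hx m
    refine ⟨-z + g z + zs m, ?_⟩
    have h1 : x = ∑ j ∈ Finset.range m, (p : WittVector p k) ^ j • V (zs j) +
        (p : WittVector p k) ^ m • z := by rw [← hz]; abel
    conv_lhs => rw [hinv m]
    rw [h1, map_add, g_pow_smul, smul_add, smul_add, smul_neg]
    abel
  rw [sub_eq_zero] at h0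
  exact h0.symm

include he in
/-- fixed vectors of the reduction lift to fixed vectors. -/
theorem w_lift_fixed (hc : 0 < c) (v : Fin n → k) (hv : wphi b he g v = v) :
    ∃ x, g x = x ∧ wred b x = v := by
  have h1 : wred b (g (wlift b v) - wlift b v) = 0 := by
    rw [map_sub, wred_g b he g, wred_wlift, hv, sub_self]
  obtain ⟨z, hz⟩ := (wred_eq_zero_iff b _).mp h1
  obtain ⟨u, hu⟩ := w_lang_surj b he g hc z
  refine ⟨wlift b v + (p : WittVector p k) • u, ?_, ?_⟩
  · have h2 := g_pow_smul (p := p) g 1 u
    rw [pow_one] at h2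
    rw [map_add, h2]
    have h3 : g (wlift b v) = wlift b v + (p : WittVector p k) • z := by rw [← hz]; abel
    rw [h3, ← hu, smul_sub]
    abel
  · rw [map_add, wred_smul, witt_coeff_zero_p, zero_smul, add_zero, wred_wlift]

include b he in
/-- the fixed vectors of a bijective Frobenius-semilinear endomorphism of a free `W`-module of
finite rank span it. -/
theorem w_lang_span (hc : 0 < c) (hg : Function.Bijective g) :
    Submodule.span (WittVector p k) {x : E | g x = x} = ⊤ := by
  have hψ : ∀ t : k, iterateFrobenius k p c t = t ^ (p ^ c) := fun t => iterateFrobenius_def p c t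
  set E₀ := Submodule.span (WittVector p k) {x : E | g x = x} with hE₀
  have hspan := lang_span p hc hψ (wphi b he g) (wphi_injective b he g hg)
  have h1 : ∀ v ∈ Submodule.span k {v : Fin n → k | wphi b he g v = v},
      ∃ x ∈ E₀, wred b x = v := by
    intro v hv
    induction hv using Submodule.span_induction with
    | mem v hv =>
      obtain ⟨x, hx, hxv⟩ := w_lift_fixed b he g hc v hv
      exact ⟨x, Submodule.subset_span hx, hxv⟩
    | zero => exact ⟨0, E₀.zero_mem, map_zero _⟩
    | add v v' _ _ hv hv' =>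
      obtain ⟨x, hx, rfl⟩ := hv
      obtain ⟨x', hx', rfl⟩ := hv'
      exact ⟨x + x', E₀.add_mem hx hx', map_add _ _ _⟩
    | smul t v _ hv =>
      obtain ⟨x, hx, rfl⟩ := hv
      exact ⟨WittVector.teichmuller p t • x, E₀.smul_mem _ hx, by
        rw [wred_smul, WittVector.teichmuller_coeff_zero]⟩
  have hfg : (⊤ : Submodule (WittVector p k) E).FG :=
    (Module.Finite.of_basis b).fg_top
  have hjac : Ideal.span {(p : WittVector p k)} ≤ Ideal.jacobson ⊥ := by
    rw [IsLocalRing.jacobson_eq_maximalIdeal ⊥ bot_ne_top, Ideal.span_singleton_le_iff_mem,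
      IsLocalRing.mem_maximalIdeal, mem_nonunits_iff]
    exact (WittVector.irreducible p).not_isUnit
  rw [eq_top_iff]
  refine Submodule.le_of_le_smul_of_le_jacobson_bot hfg hjac fun x _ => ?_
  obtain ⟨x₀, hx₀, hx₀x⟩ := h1 (wred b x) (by rw [hspan]; trivial)
  have h2 : wred b (x - x₀) = 0 := by rw [map_sub, hx₀x, sub_self]
  obtain ⟨z, hz⟩ := (wred_eq_zero_iff b _).mp h2
  have h3 : x = x₀ + (p : WittVector p k) • z := by rw [← hz]; abel
  rw [h3]
  exact Submodule.add_mem_sup hx₀
    (Submodule.smul_mem_smul (Ideal.mem_span_singleton_self _) Submodule.mem_top)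

end FreeW

end Groth.Agent.Lib.Helper90.IsocLib
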