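import Groth.Agent.Lib.Helper90.Isoc21

set_option autoImplicit false

open scoped Pointwise Isocrystal
open Filter Topology

universe u v w

namespace Groth.Agent.Lib.Helper90.IsocLib

section LatticeLang

variable {p : ℕ} [Fact p.Prime] {k : Type u} [Field k] [CharP k p] [PerfectRing k p]
variable {N : Type v} [AddCommGroup N] [Module (WittVector p k) N] [Module K(p, k) N]
  [IsScalarTower (WittVector p k) K(p, k) N]
variable {τ : K(p, k) →+* K(p, k)}

/-- restriction of a semilinear map to a stable `W`-submodule, as a semilinear map of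
`W`-modules. -/
noncomputable def latRestrict {e : WittVector p k ≃+* WittVector p k}
    (he : ∀ w, τ (algebraMap (WittVector p k) K(p, k) w) =
      algebraMap (WittVector p k) K(p, k) (e w))
    (G : N →ₛₗ[τ] N) {M : Submodule (WittVector p k) N} (hG : ∀ x ∈ M, G x ∈ M) :
    M →ₛₗ[(e : WittVector p k →+* WittVector p k)] M where
  toFun m := ⟨G m, hG m m.2⟩
  map_add' x y := Subtype.ext (by
    show G ((x + y : M) : N) = G x + G y
    rw [Submodule.coe_add, map_add])
  map_smul' w x := Subtype.ext (by
    show G ((w • x : M) : N) = (e w) • G x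
    rw [Submodule.coe_smul, ← algebraMap_smul K(p, k) w (x : N), map_smulₛₗ, he,
      algebraMap_smul])

theorem latRestrict_coe {e : WittVector p k ≃+* WittVector p k}
    (he : ∀ w, τ (algebraMap (WittVector p k) K(p, k) w) =
      algebraMap (WittVector p k) K(p, k) (e w))
    (G : N →ₛₗ[τ] N) {M : Submodule (WittVector p k) N} (hG : ∀ x ∈ M, G x ∈ M) (m : M) :
    ((latRestrict he G hG m : M) : N) = G m := rfl

variable [IsAlgClosed k]

theorem lattice_lang_span {c : ℕ} (hτ : IsFrobQ τ c) (hc : 0 < c) [Module.Finite K(p, k) N]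
    (G : N →ₛₗ[τ] N) (hGinj : Function.Injective G) {M : Submodule (WittVector p k) N}
    (hM : M.IsLattice K(p, k)) (hG1 : ∀ x ∈ M, G x ∈ M) (hG2 : ∀ y ∈ M, ∃ x ∈ M, G x = y) :
    M ≤ Submodule.span (WittVector p k) {x : N | G x = x} := by
  obtain ⟨e, he1, he2⟩ := hτ
  set g := latRestrict he1 G hG1 with hg
  have hbij : Function.Bijective g := by
    constructor
    · intro x y hxy
      have h1 : G x = G y := congrArg Subtype.val hxy
      exact Subtype.ext (hGinj h1)
    · intro y
      obtain ⟨x, hx, hxy⟩ := hG2 y y.2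
      exact ⟨⟨x, hx⟩, Subtype.ext hxy⟩
  have hspan := w_lang_span (latBasis hM) he2 g hc hbij
  have hle : Submodule.span (WittVector p k) {m : M | g m = m} ≤
      (Submodule.span (WittVector p k) {x : N | G x = x}).comap M.subtype := by
    rw [Submodule.span_le]
    intro m hm
    have hm' : g m = m := hm
    refine Submodule.subset_span ?_
    show G (m : N) = m
    conv_rhs => rw [← hm']
    rfl
  intro x hx
  have h1 : (⟨x, hx⟩ : M) ∈ Submodule.span (WittVector p k) {m : M | g m = m} := by
    rw [hspan]; trivial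
  exact hle h1

theorem exists_fixed_notMem {c : ℕ} (hτ : IsFrobQ τ c) (hc : 0 < c) [Module.Finite K(p, k) N]
    (G : N →ₛₗ[τ] N) (hGinj : Function.Injective G) {M : Submodule (WittVector p k) N}
    (hM : M.IsLattice K(p, k)) (hG1 : ∀ x ∈ M, G x ∈ M) (hG2 : ∀ y ∈ M, ∃ x ∈ M, G x = y)
    (P : Submodule K(p, k) N) (hP : P ≠ ⊤) : ∃ x, G x = x ∧ x ∉ P := by
  by_contra hcon
  push_neg at hcon
  have h1 : Submodule.span (WittVector p k) {x : N | G x = x} ≤
      P.restrictScalars (WittVector p k) := by
    rw [Submodule.span_le]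
    intro x hx
    exact hcon x hx
  have h2 : M ≤ P.restrictScalars (WittVector p k) :=
    (lattice_lang_span hτ hc G hGinj hM hG1 hG2).trans h1
  have h3 : Submodule.span K(p, k) (M : Set N) ≤ P := by
    rw [Submodule.span_le]
    intro x hx
    exact h2 hx
  rw [hM.span_eq_top] at h3
  exact hP (top_le_iff.mp h3)

end LatticeLang

section StableCompl

variable {K : Type*} [Field K] {τ : K →+* K} {V : Type*} [AddCommGroup V] [Module K V]

theorem stable_sup_span {G : V →ₛₗ[τ] V} {P : Submodule K V} (hP : ∀ x ∈ P, G x ∈ P) {x : V}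
    (hx : G x = x) : ∀ y ∈ P ⊔ Submodule.span K {x}, G y ∈ P ⊔ Submodule.span K {x} := by
  intro y hy
  obtain ⟨a, ha, b, hb, rfl⟩ := Submodule.mem_sup.mp hy
  obtain ⟨c, rfl⟩ := Submodule.mem_span_singleton.mp hb
  rw [map_add, map_smulₛₗ, hx]
  exact Submodule.add_mem_sup (hP a ha) (Submodule.smul_mem _ _ (Submodule.mem_span_singleton_self x))

/-- if every proper subspace misses a fixed vector, every stable subspace has a stable
complement. -/
theorem exists_stable_isCompl_of_fixed [FiniteDimensional K V] (G : V →ₛₗ[τ] V)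
    (hfix : ∀ P : Submodule K V, P ≠ ⊤ → ∃ x, G x = x ∧ x ∉ P)
    (P : Submodule K V) (hP : ∀ x ∈ P, G x ∈ P) :
    ∃ Q : Submodule K V, (∀ x ∈ Q, G x ∈ Q) ∧ IsCompl P Q := by
  induction' hm : Module.finrank K V - Module.finrank K P using Nat.strong_induction_on
    with m ih generalizing P
  by_cases hPtop : P = ⊤
  · refine ⟨⊥, fun x hx => ?_, hPtop ▸ isCompl_top_bot⟩
    rw [Submodule.mem_bot] at hx
    rw [hx, map_zero]
    exact Submodule.zero_mem _
  obtain ⟨x, hx, hxP⟩ := hfix P hPtop
  set P' := P ⊔ Submodule.span K {x} with hP'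
  have hlt : P < P' := by
    refine lt_of_le_of_ne le_sup_left fun h => hxP ?_
    rw [h]
    exact Submodule.mem_sup_right (Submodule.mem_span_singleton_self x)
  have hfr := Submodule.finrank_lt_finrank_of_lt hlt
  have hfr' : Module.finrank K P' ≤ Module.finrank K V := Submodule.finrank_le P'
  obtain ⟨Q', hQ', hcompl⟩ := ih (Module.finrank K V - Module.finrank K P') (by omega) P'
    (stable_sup_span hP hx) rfl
  refine ⟨Q' ⊔ Submodule.span K {x}, stable_sup_span hQ' hx, ?_⟩
  constructor
  · rw [Submodule.disjoint_def]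
    intro y hyP hyQ
    obtain ⟨q, hq, b, hb, rfl⟩ := Submodule.mem_sup.mp hyQ
    obtain ⟨c, rfl⟩ := Submodule.mem_span_singleton.mp hb
    have h1 : q ∈ P' := by
      have : q = (q + c • x) - c • x := by abel
      rw [this]
      exact Submodule.sub_mem _ (Submodule.mem_sup_left hyP)
        (Submodule.mem_sup_right (Submodule.smul_mem _ _ (Submodule.mem_span_singleton_self x)))
    have h2 : q = 0 := (Submodule.disjoint_def.mp hcompl.disjoint) q h1 hq
    rw [h2, zero_add] at hyP ⊢
    by_cases hc : c = 0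
    · rw [hc, zero_smul]
    · exfalso
      apply hxP
      have : x = c⁻¹ • (c • x) := by rw [smul_smul, inv_mul_cancel₀ hc, one_smul]
      rw [this]
      exact P.smul_mem _ hyP
  · rw [codisjoint_iff, ← hcompl.sup_eq_top, hP']
    ac_rfl

/-- averaging: an `F^s`-stable complement of an `F`-stable subspace gives an `F`-stable one. -/
theorem exists_stable_isCompl_of_iterate [FiniteDimensional K V]
    (hτ : Function.Surjective τ) (F : V →ₛₗ[τ] V)
    (hF : Function.Injective F) {s : ℕ} (hs : 0 < s) (hs0 : ((s : ℕ) : K) ≠ 0)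
    {P Q₀ : Submodule K V}
    (hP : ∀ x ∈ P, F x ∈ P) (hPQ : IsCompl P Q₀) (hQ₀ : ∀ x ∈ Q₀, (⇑F)^[s] x ∈ Q₀) :
    ∃ Q : Submodule K V, (∀ x ∈ Q, F x ∈ Q) ∧ IsCompl P Q := by
  classical
  obtain ⟨s', rfl⟩ : ∃ s', s = s' + 1 := ⟨s - 1, by omega⟩
  set π₀ : V →ₗ[K] V := P.projection Q₀ hPQ with hπ₀
  have hπP : ∀ x, π₀ x ∈ P := fun x => Submodule.projection_apply_mem hPQ x
  have hπid : ∀ x ∈ P, π₀ x = x := fun x hx => Submodule.projection_apply_of_mem_left hPQ hx
  have hπ0 : ∀ x ∈ Q₀, π₀ x = 0 := fun x hx =>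
    (Submodule.projection_apply_eq_zero_iff hPQ).mpr hx
  have hPiter : ∀ (j : ℕ) (x : V), x ∈ P → (⇑F)^[j] x ∈ P := by
    intro j x hx
    induction j with
    | zero => exact hx
    | succ j ih => rw [Function.iterate_succ_apply']; exact hP _ ih
  have hiter_add : ∀ (j : ℕ) (x y : V), (⇑F)^[j] (x + y) = (⇑F)^[j] x + (⇑F)^[j] y := by
    intro j
    induction j with
    | zero => intro x y; rfl
    | succ j ih => intro x y; rw [Function.iterate_succ_apply', ih, map_add,
        ← Function.iterate_succ_apply' (⇑F), ← Function.iterate_succ_apply' (⇑F)]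
  have hiter_smul : ∀ (j : ℕ) (c : K) (x : V), (⇑F)^[j] (c • x) = (τ ^ j) c • (⇑F)^[j] x := by
    intro j
    induction j with
    | zero => intro c x; simp
    | succ j ih =>
      intro c x
      rw [Function.iterate_succ_apply', ih, map_smulₛₗ, ← Function.iterate_succ_apply' (⇑F),
        pow_succ']
      rfl
  -- `π₀` commutes with `F^s`
  have hcomm : ∀ x, π₀ ((⇑F)^[s' + 1] x) = (⇑F)^[s' + 1] (π₀ x) := by
    intro x
    have hz : x - π₀ x ∈ Q₀ := by
      apply (Submodule.projection_apply_eq_zero_iff hPQ).mp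
      show π₀ (x - π₀ x) = 0
      rw [map_sub, hπid _ (hπP x), sub_self]
    have h1 : x = π₀ x + (x - π₀ x) := by abel
    conv_lhs => rw [h1]
    rw [hiter_add, map_add, hπ0 _ (hQ₀ _ hz), add_zero, hπid _ (hPiter _ _ (hπP x))]
  -- the operators `A j`
  obtain ⟨A, hA0, hAs⟩ : ∃ A : ℕ → V → V, (∀ x, A 0 x = 0) ∧
      ∀ j x, A (j + 1) x = F (A j x) + π₀ ((⇑F)^[j] x) :=
    ⟨fun j => Nat.rec (fun _ => 0) (fun i B x => F (B x) + π₀ ((⇑F)^[i] x)) j,
      fun _ => rfl, fun _ _ => rfl⟩
  have hAs' : ∀ j x, A (j + 1) x = A j (F x) + (⇑F)^[j] (π₀ x) := by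
    intro j
    induction j with
    | zero => intro x; rw [hAs, hA0, hA0, map_zero]; rfl
    | succ j ih =>
      intro x
      rw [hAs (j + 1), ih, map_add, hAs j (F x), ← Function.iterate_succ_apply' (⇑F),
        Function.iterate_succ_apply (⇑F) j x]
      abel
  have hAF : ∀ x, A (s' + 1) (F x) = F (A (s' + 1) x) := by
    intro x
    have h1 := hAs (s' + 1) x
    have h2 := hAs' (s' + 1) x
    rw [h1, hcomm] at h2
    exact (add_right_cancel h2).symm
  have hAadd : ∀ j x y, A j (x + y) = A j x + A j y := by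
    intro j
    induction j with
    | zero => intro x y; rw [hA0, hA0, hA0, add_zero]
    | succ j ih =>
      intro x y
      rw [hAs, hAs, hAs, ih, map_add, hiter_add, map_add]
      abel
  have hAsmul : ∀ j (c : K) x, A (j + 1) (c • x) = (τ ^ j) c • A (j + 1) x := by
    intro j
    induction j with
    | zero => intro c x; rw [hAs, hAs, hA0, hA0, map_zero]; simp
    | succ j ih =>
      intro c x
      rw [hAs (j + 1), ih, map_smulₛₗ, hiter_smul, map_smul, hAs (j + 1) x, smul_add, pow_succ']
      rfl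
  have hAP : ∀ j x, A j x ∈ P := by
    intro j
    induction j with
    | zero => intro x; rw [hA0]; exact P.zero_mem
    | succ j ih => intro x; rw [hAs]; exact P.add_mem (hP _ (ih x)) (hπP _)
  have hAonP : ∀ j x, x ∈ P → A (j + 1) x = ((j + 1 : ℕ) : K) • (⇑F)^[j] x := by
    intro j
    induction j with
    | zero => intro x hx; rw [hAs, hA0, map_zero, zero_add]; simp [hπid x hx]
    | succ j ih =>
      intro x hx
      rw [hAs (j + 1), ih x hx, map_smulₛₗ, map_natCast, ← Function.iterate_succ_apply' (⇑F),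
        hπid _ (hPiter _ _ hx)]
      simp only [Nat.succ_eq_add_one]
      push_cast
      module
  -- the complement
  let Q : Submodule K V :=
    { carrier := {x | A (s' + 1) x = 0}
      add_mem' := by
        intro x y hx hy
        show A (s' + 1) (x + y) = 0
        rw [hAadd, hx, hy, add_zero]
      zero_mem' := by
        show A (s' + 1) 0 = 0
        have := hAadd (s' + 1) 0 0
        rw [add_zero] at this
        exact (add_eq_left.mp this.symm)
      smul_mem' := by
        intro c x hx
        show A (s' + 1) (c • x) = 0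
        rw [hAsmul, hx, smul_zero] }
  have hQmem : ∀ x, x ∈ Q ↔ A (s' + 1) x = 0 := fun x => Iff.rfl
  have hiter_inj : Function.Injective (⇑F)^[s'] := hF.iterate s'
  refine ⟨Q, fun x hx => ?_, ?_⟩
  · rw [hQmem] at hx ⊢
    rw [hAF, hx, map_zero]
  · constructor
    · rw [Submodule.disjoint_def]
      intro x hxP hxQ
      rw [hQmem, hAonP s' x hxP] at hxQ
      have h1 : (⇑F)^[s'] x = 0 := (smul_eq_zero.mp hxQ).resolve_left hs0
      have h2 : (⇑F)^[s'] x = (⇑F)^[s'] 0 := by
        rw [h1, Function.iterate_fixed (map_zero F)]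
      exact hiter_inj h2
    · rw [codisjoint_iff, eq_top_iff]
      intro x _
      -- preimage under F^[s'] inside P
      have hsurj : ∀ j : ℕ, ∀ y ∈ P, ∃ y' ∈ P, (⇑F)^[j] y' = y := by
        intro j
        induction j with
        | zero => intro y hy; exact ⟨y, hy, rfl⟩
        | succ j ih =>
          intro y hy
          have hinj : Function.Injective (F.restrict hP) := by
            intro a b hab
            have : F (a : V) = F (b : V) := congrArg Subtype.val hab
            exact Subtype.ext (hF this)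
          obtain ⟨z, hz⟩ := semilinear_surjective_of_injective hτ (F.restrict hP) hinj ⟨y, hy⟩
          obtain ⟨y', hy', hy'z⟩ := ih z z.2
          refine ⟨y', hy', ?_⟩
          rw [Function.iterate_succ_apply', hy'z]
          exact congrArg Subtype.val hz
      obtain ⟨y₀, hy₀, hy₀x⟩ := hsurj s' ((((s' + 1 : ℕ) : K))⁻¹ • A (s' + 1) x)
        (P.smul_mem _ (hAP (s' + 1) x))
      have h1 : A (s' + 1) y₀ = A (s' + 1) x := by
        rw [hAonP s' y₀ hy₀, hy₀x, smul_smul, mul_inv_cancel₀ hs0, one_smul]
      have h2 : x - y₀ ∈ Q := by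
        rw [hQmem]
        have h3 := hAadd (s' + 1) (x - y₀) y₀
        rw [sub_add_cancel, h1] at h3
        exact (add_eq_right.mp h3.symm)
      have h4 : x = y₀ + (x - y₀) := by abel
      rw [h4]
      exact Submodule.add_mem_sup hy₀ h2

end StableCompl

end Groth.Agent.Lib.Helper90.IsocLib
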