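import Groth.Agent.Lib.Helper90.Isoc22

set_option autoImplicit false

open scoped Pointwise Isocrystal
open Filter Topology

universe u v w

namespace Groth.Agent.Lib.Helper90.IsocLib

section Indep

theorem iSup_inf_iSup_eq_bot {ι : Type*} {R M : Type*} [Ring R] [AddCommGroup M] [Module R M]
    {S A B : ι → Submodule R M} (hS : iSupIndep S) (hA : ∀ i, A i ≤ S i) (hB : ∀ i, B i ≤ S i)
    (hAB : ∀ i, A i ⊓ B i = ⊥) : (⨆ i, A i) ⊓ (⨆ i, B i) = ⊥ := by
  classical
  have hfin : ∀ s : Finset ι, (⨆ i ∈ s, A i) ⊓ (⨆ i ∈ s, B i) = ⊥ := by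
    intro s
    induction s using Finset.induction_on with
    | empty => simp
    | insert j s hj ih =>
      rw [Finset.iSup_insert, Finset.iSup_insert, eq_bot_iff]
      intro x hx
      obtain ⟨hx1, hx2⟩ := Submodule.mem_inf.mp hx
      obtain ⟨a, ha, a', ha', rfl⟩ := Submodule.mem_sup.mp hx1
      obtain ⟨b, hb, b', hb', hbb⟩ := Submodule.mem_sup.mp hx2
      have hdisj : Disjoint (S j) (⨆ i ∈ (s : Set ι), S i) :=
        hS.disjoint_biSup (by simpa using hj)
      simp only [Finset.mem_coe] at hdisj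
      have h1 : a - b ∈ S j := (S j).sub_mem (hA j ha) (hB j hb)
      have h2 : a - b ∈ ⨆ i ∈ s, S i := by
        have h3 : a - b = b' - a' := by
          rw [sub_eq_sub_iff_add_eq_add, add_comm b' b, hbb]
        rw [h3]
        refine Submodule.sub_mem _ ?_ ?_
        · exact (iSup₂_mono (fun i _ => hB i) : ⨆ i ∈ s, B i ≤ ⨆ i ∈ s, S i) hb'
        · exact (iSup₂_mono (fun i _ => hA i) : ⨆ i ∈ s, A i ≤ ⨆ i ∈ s, S i) ha'
      have h4 : a - b = 0 := (Submodule.disjoint_def.mp hdisj) _ h1 h2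
      have hab : a = b := sub_eq_zero.mp h4
      have ha0 : a = 0 := by
        have : a ∈ A j ⊓ B j := ⟨ha, hab ▸ hb⟩
        rw [hAB j] at this
        exact (Submodule.mem_bot R).mp this
      have hab' : a' = b' := by
        rw [hab] at hbb
        exact (add_left_cancel hbb).symm
      have ha'0 : a' = 0 := by
        have : a' ∈ (⨆ i ∈ s, A i) ⊓ (⨆ i ∈ s, B i) := ⟨ha', hab' ▸ hb'⟩
        rw [ih] at this
        exact (Submodule.mem_bot R).mp this
      rw [ha0, ha'0, add_zero]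
      exact Submodule.zero_mem _
  rw [eq_bot_iff]
  intro x hx
  obtain ⟨hx1, hx2⟩ := Submodule.mem_inf.mp hx
  obtain ⟨s₁, hs₁⟩ := Submodule.mem_iSup_iff_exists_finset.mp hx1
  obtain ⟨s₂, hs₂⟩ := Submodule.mem_iSup_iff_exists_finset.mp hx2
  have h1 : x ∈ ⨆ i ∈ s₁ ∪ s₂, A i :=
    (biSup_mono (fun i hi => Finset.mem_union_left s₂ hi) :
      ⨆ i ∈ s₁, A i ≤ ⨆ i ∈ s₁ ∪ s₂, A i) hs₁
  have h2 : x ∈ ⨆ i ∈ s₁ ∪ s₂, B i :=
    (biSup_mono (fun i hi => Finset.mem_union_right s₁ hi) :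
      ⨆ i ∈ s₂, B i ≤ ⨆ i ∈ s₁ ∪ s₂, B i) hs₂
  rw [← hfin (s₁ ∪ s₂)]
  exact ⟨h1, h2⟩

end Indep

section Compl

variable {p : ℕ} [Fact p.Prime] {k : Type u} [Field k] [CharP k p] [PerfectRing k p]
variable {N : Type v} [AddCommGroup N] [Module (WittVector p k) N] [Module K(p, k) N]
  [IsScalarTower (WittVector p k) K(p, k) N]
variable {τ : K(p, k) →+* K(p, k)}

theorem natCast_ne_zero_L {s : ℕ} (hs : s ≠ 0) : ((s : ℕ) : K(p, k)) ≠ 0 := by
  obtain ⟨v, m, hm, rfl⟩ := Nat.exists_eq_pow_mul_and_not_dvd hs p (Fact.out : p.Prime).ne_one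
  rw [Nat.cast_mul, Nat.cast_pow]
  refine mul_ne_zero (pow_ne_zero _ p_ne_zero) ?_
  have h1 : ((m : ℕ) : WittVector p k) ≠ 0 := by
    intro h0
    have h2 : WittVector.constantCoeff ((m : ℕ) : WittVector p k) = 0 := by rw [h0, map_zero]
    rw [map_natCast] at h2
    exact hm ((CharP.cast_eq_zero_iff k p m).mp h2)
  have h3 : algebraMap (WittVector p k) K(p, k) ((m : ℕ) : WittVector p k) ≠ 0 := by
    rw [Ne, map_eq_zero_iff _ ι_injective]
    exact h1
  rwa [map_natCast] at h3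

theorem restrict_bijective (hτ : IsWAut τ) [Module.Finite K(p, k) N] {F : N →ₛₗ[τ] N}
    (hF : Function.Injective F) {A : Submodule K(p, k) N} (hA : ∀ x ∈ A, F x ∈ A) :
    Function.Bijective (F.restrict hA) := by
  constructor
  · intro a b hab
    have : F (a : N) = F (b : N) := congrArg Subtype.val hab
    exact Subtype.ext (hF this)
  · intro y
    obtain ⟨x, hx, hxy⟩ := exists_preimage_of_stable hτ hF hA y.2
    exact ⟨⟨x, hx⟩, Subtype.ext hxy⟩

theorem eq_iSup_inf_slopePart (hτ : IsWAut τ) [Module.Finite K(p, k) N] {F : N →ₛₗ[τ] N}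
    (hF : Function.Injective F) {P : Submodule K(p, k) N} (hP : ∀ x ∈ P, F x ∈ P) :
    P = ⨆ μ : ℚ, P ⊓ Isoc.slopePart F μ := by
  apply le_antisymm
  · have h1 := iSup_slopePart_eq_top hτ (F := F.restrict hP) (restrict_bijective hτ hF hP)
    have h2 : P = (⊤ : Submodule K(p, k) P).map P.subtype := by
      rw [Submodule.map_top, Submodule.range_subtype]
    conv_lhs => rw [h2, ← h1, Submodule.map_iSup]
    refine iSup_mono fun μ => le_inf ?_ (map_slopePart_restrict_le hτ F hP μ)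
    exact Submodule.map_subtype_le P _
  · exact iSup_le fun μ => inf_le_left

variable [IsAlgClosed k]

/-- stable complements in an isoclinic isocrystal (positive Frobenius twist). -/
theorem exists_stable_isCompl_of_isIsoclinic {c : ℕ} (hτ : IsFrobQ τ c) (hc : 0 < c)
    [Module.Finite K(p, k) N] (F : N →ₛₗ[τ] N) (hF : Function.Bijective F) {μ : ℚ}
    (hμ : Isoc.IsIsoclinic F μ) (P : Submodule K(p, k) N) (hP : ∀ x ∈ P, F x ∈ P) :
    ∃ Q : Submodule K(p, k) N, (∀ x ∈ Q, F x ∈ Q) ∧ IsCompl P Q := by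
  obtain ⟨M, hM, r, s, hs, -, hFM⟩ := hμ
  have hW := hτ.isWAut
  set G : N →ₛₗ[τ ^ s] N := ((p : K(p, k)) ^ (-r)) • Isoc.iter F s with hG
  have hGapp : ∀ x, G x = ((p : K(p, k)) ^ (-r)) • (⇑F)^[s] x := fun x => rfl
  have hτs : IsFrobQ (τ ^ s) (c * s) := hτ.pow s
  have hcs : 0 < c * s := Nat.mul_pos hc hs
  have hGM : Isoc.latImg G 1 M = M := by
    rw [hG, latImg_twist hW F (-r) s 1 M, Nat.cast_one, mul_one, mul_one, hFM, pPow_pPow,
      neg_add_cancel, pPow_zero]
  have hG1 : ∀ x ∈ M, G x ∈ M := by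
    intro x hx
    have h1 : G x ∈ Isoc.latImg G 1 M := (mem_latImg hτs.isWAut).mpr ⟨x, hx, rfl⟩
    rwa [hGM] at h1
  have hG2 : ∀ y ∈ M, ∃ x ∈ M, G x = y := by
    intro y hy
    rw [← hGM] at hy
    obtain ⟨x, hx, hxy⟩ := (mem_latImg hτs.isWAut).mp hy
    exact ⟨x, hx, hxy⟩
  have hpr : (p : K(p, k)) ^ (-r) ≠ 0 := zpow_ne_zero _ p_ne_zero
  have hGinj : Function.Injective G := by
    intro x y hxy
    rw [hGapp, hGapp] at hxy
    have h1 := smul_right_injective N hpr hxy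
    exact hF.1.iterate s h1
  have hfix : ∀ P' : Submodule K(p, k) N, P' ≠ ⊤ → ∃ x, G x = x ∧ x ∉ P' :=
    fun P' hP' => exists_fixed_notMem hτs hcs G hGinj hM hG1 hG2 P' hP'
  have hPG : ∀ x ∈ P, G x ∈ P := fun x hx => P.smul_mem _ (iterate_stable hP s hx)
  obtain ⟨Q₀, hQ₀, hcompl⟩ := exists_stable_isCompl_of_fixed G hfix P hPG
  have hQ₀' : ∀ x ∈ Q₀, (⇑F)^[s] x ∈ Q₀ := by
    intro x hx
    have h1 : (⇑F)^[s] x = ((p : K(p, k)) ^ r) • G x := by
      rw [hGapp, smul_smul, ← zpow_add₀ p_ne_zero, add_neg_cancel, zpow_zero, one_smul]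
    rw [h1]
    exact Q₀.smul_mem _ (hQ₀ x hx)
  exact exists_stable_isCompl_of_iterate hW.surjective F hF.1 hs (natCast_ne_zero_L hs.ne')
    hP hcompl hQ₀'

theorem exists_stable_compl_in_slopePart {c : ℕ} (hτ : IsFrobQ τ c) (hc : 0 < c)
    [Module.Finite K(p, k) N] (F : N →ₛₗ[τ] N) (hF : Function.Bijective F) (μ : ℚ)
    (P : Submodule K(p, k) N) (hP : ∀ x ∈ P, F x ∈ P) :
    ∃ Q : Submodule K(p, k) N, Q ≤ Isoc.slopePart F μ ∧ (∀ x ∈ Q, F x ∈ Q) ∧
      (P ⊓ Isoc.slopePart F μ) ⊓ Q = ⊥ ∧ Isoc.slopePart F μ ≤ (P ⊓ Isoc.slopePart F μ) ⊔ Q := by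
  have hW := hτ.isWAut
  obtain ⟨hA, hAiso⟩ := slopePart_mem hW F μ
  set A := Isoc.slopePart F μ with hAdef
  have hiso : Isoc.IsIsoclinic (F.restrict hA) μ := isIsoclinic_of_isoclinicIn hW F hA hAiso
  have hbij := restrict_bijective hW hF.1 hA
  set P' : Submodule K(p, k) A := (P ⊓ A).comap A.subtype with hP'
  have hP'st : ∀ x ∈ P', (F.restrict hA) x ∈ P' := by
    intro x hx
    exact ⟨hP _ hx.1, hA _ hx.2⟩
  obtain ⟨Q', hQ'st, hcompl⟩ :=
    exists_stable_isCompl_of_isIsoclinic hτ hc (F.restrict hA) hbij hiso P' hP'st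
  refine ⟨Q'.map A.subtype, Submodule.map_subtype_le A Q', ?_, ?_, ?_⟩
  · rintro _ ⟨q, hq, rfl⟩
    exact ⟨(F.restrict hA) q, hQ'st q hq, rfl⟩
  · rw [eq_bot_iff]
    rintro x ⟨hx1, ⟨q, hq, rfl⟩⟩
    have h1 : q ∈ P' := hx1
    have h2 : q = 0 := (Submodule.disjoint_def.mp hcompl.disjoint) q h1 hq
    rw [h2]
    exact Submodule.zero_mem _
  · intro x hx
    have h1 : (⟨x, hx⟩ : A) ∈ P' ⊔ Q' := by rw [hcompl.sup_eq_top]; trivial
    obtain ⟨a, ha, b, hb, hab⟩ := Submodule.mem_sup.mp h1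
    have h2 : x = (a : N) + (b : N) := by
      have := congrArg Subtype.val hab
      exact this.symm
    rw [h2]
    exact Submodule.add_mem_sup ha ⟨b, hb, rfl⟩

/-- every stable subspace of an isocrystal with positive Frobenius twist over an algebraically
closed field has a stable complement. -/
theorem exists_stable_isCompl {c : ℕ} (hτ : IsFrobQ τ c) (hc : 0 < c)
    [Module.Finite K(p, k) N] (F : N →ₛₗ[τ] N) (hF : Function.Bijective F)
    (P : Submodule K(p, k) N) (hP : ∀ x ∈ P, F x ∈ P) :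
    ∃ Q : Submodule K(p, k) N, (∀ x ∈ Q, F x ∈ Q) ∧ IsCompl P Q := by
  have hW := hτ.isWAut
  choose Q hQle hQst hQdisj hQsup using
    fun μ : ℚ => exists_stable_compl_in_slopePart hτ hc F hF μ P hP
  refine ⟨⨆ μ, Q μ, ?_, ?_, ?_⟩
  · intro x hx
    induction hx using Submodule.iSup_induction' with
    | mem μ x hx => exact (le_iSup Q μ) (hQst μ x hx)
    | zero => rw [map_zero]; exact Submodule.zero_mem _
    | add x y _ _ hx hy => rw [map_add]; exact Submodule.add_mem _ hx hy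
  · rw [disjoint_iff]
    conv_lhs => rw [eq_iSup_inf_slopePart hW hF.1 hP]
    exact iSup_inf_iSup_eq_bot (iSupIndep_slopePart hW hF.1) (fun μ => inf_le_right) hQle hQdisj
  · rw [codisjoint_iff, eq_top_iff, ← iSup_slopePart_eq_top hW hF]
    refine iSup_le fun μ => (hQsup μ).trans (sup_le_sup inf_le_left (le_iSup Q μ))

end Compl

section Inverse

variable {p : ℕ} [Fact p.Prime] {k : Type u} [Field k] [CharP k p] [PerfectRing k p]
variable {N : Type v} [AddCommGroup N] [Module (WittVector p k) N] [Module K(p, k) N]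
  [IsScalarTower (WittVector p k) K(p, k) N]

theorem frob_frob_neg (a : ℤ) (c : K(p, k)) :
    Isoc.frob p k a (Isoc.frob p k (-a) c) = c := by
  obtain ⟨x, y, hy, rfl⟩ := IsFractionRing.div_surjective (A := WittVector p k) c
  rw [map_div₀, map_div₀, Isoc.frob_algebraMap, Isoc.frob_algebraMap, Isoc.frob_algebraMap,
    Isoc.frob_algebraMap]
  have h : ∀ w : WittVector p k, (WittVector.frobeniusEquiv p k ^ a)
      ((WittVector.frobeniusEquiv p k ^ (-a)) w) = w := by
    intro w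
    have h1 : (WittVector.frobeniusEquiv p k ^ a) ((WittVector.frobeniusEquiv p k ^ (-a)) w) =
        ((WittVector.frobeniusEquiv p k ^ a) * (WittVector.frobeniusEquiv p k ^ (-a))) w := rfl
    rw [h1, zpow_neg, mul_inv_cancel]
    rfl
  rw [h, h]

/-- the inverse of a `σ^a`-semilinear bijection, as a `σ^{-a}`-semilinear map. -/
noncomputable def invSemi (a : ℤ) (F : N →ₛₗ[Isoc.frob p k a] N) (hF : Function.Bijective F) :
    N →ₛₗ[Isoc.frob p k (-a)] N where
  toFun := (Equiv.ofBijective F hF).symm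
  map_add' x y := by
    have e1 : ∀ z, F ((Equiv.ofBijective F hF).symm z) = z :=
      Equiv.ofBijective_apply_symm_apply F hF
    apply hF.1
    rw [e1, map_add F, e1, e1]
  map_smul' c x := by
    have e1 : ∀ z, F ((Equiv.ofBijective F hF).symm z) = z :=
      Equiv.ofBijective_apply_symm_apply F hF
    apply hF.1
    rw [e1, map_smulₛₗ F, frob_frob_neg, e1]

theorem apply_invSemi (a : ℤ) (F : N →ₛₗ[Isoc.frob p k a] N) (hF : Function.Bijective F) (x : N) :
    F (invSemi a F hF x) = x := Equiv.ofBijective_apply_symm_apply F hF x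

theorem invSemi_apply (a : ℤ) (F : N →ₛₗ[Isoc.frob p k a] N) (hF : Function.Bijective F) (x : N) :
    invSemi a F hF (F x) = x := Equiv.ofBijective_symm_apply_apply F hF x

theorem invSemi_bijective (a : ℤ) (F : N →ₛₗ[Isoc.frob p k a] N) (hF : Function.Bijective F) :
    Function.Bijective (invSemi a F hF) :=
  (Equiv.ofBijective F hF).symm.bijective

theorem stable_invSemi [Module.Finite K(p, k) N] (a : ℤ) (F : N →ₛₗ[Isoc.frob p k a] N)
    (hF : Function.Bijective F) {P : Submodule K(p, k) N} (hP : ∀ x ∈ P, F x ∈ P) :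
    ∀ x ∈ P, invSemi a F hF x ∈ P := by
  intro y hy
  obtain ⟨x, hx, rfl⟩ := exists_preimage_of_stable (isWAut_frob a) hF.1 hP hy
  rw [invSemi_apply]
  exact hx

theorem stable_of_stable_invSemi [Module.Finite K(p, k) N] (a : ℤ)
    (F : N →ₛₗ[Isoc.frob p k a] N)
    (hF : Function.Bijective F) {P : Submodule K(p, k) N} (hP : ∀ x ∈ P, invSemi a F hF x ∈ P) :
    ∀ x ∈ P, F x ∈ P := by
  intro y hy
  obtain ⟨x, hx, rfl⟩ := exists_preimage_of_stable (isWAut_frob (-a))
    (invSemi_bijective a F hF).1 hP hy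
  rw [apply_invSemi]
  exact hx

end Inverse

end Groth.Agent.Lib.Helper90.IsocLib
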