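import Groth.Agent.Lib.Helper90.Isoc23

set_option autoImplicit false

open scoped Pointwise Isocrystal
open Filter Topology

universe u v w

namespace Groth.Agent.Lib.Helper90.IsocLib

section Saturate

variable {p : ℕ} [Fact p.Prime] {k : Type u} [Field k] [CharP k p] [PerfectRing k p]
variable {N : Type v} [AddCommGroup N] [Module (WittVector p k) N] [Module K(p, k) N]
  [IsScalarTower (WittVector p k) K(p, k) N]
variable {τ : K(p, k) →+* K(p, k)}

theorem latImg_one_latSum_sup (hτ : IsWAut τ) (G : N →ₛₗ[τ] N)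
    (M : Submodule (WittVector p k) N) (n : ℕ) :
    Isoc.latImg G 1 (latSum G M n) ⊔ M = latSum G M (n + 1) := by
  induction n with
  | zero => rw [latSum_succ, latSum_zero, sup_comm]
  | succ n ih =>
    calc Isoc.latImg G 1 (latSum G M (n + 1)) ⊔ M
        = Isoc.latImg G 1 (latSum G M n ⊔ Isoc.latImg G (n + 1) M) ⊔ M := by
          rw [latSum_succ G M n]
      _ = (Isoc.latImg G 1 (latSum G M n) ⊔ Isoc.latImg G (n + 1 + 1) M) ⊔ M := by
          rw [latImg_sup hτ, ← latImg_add hτ, add_comm 1 (n + 1)]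
      _ = (Isoc.latImg G 1 (latSum G M n) ⊔ M) ⊔ Isoc.latImg G (n + 1 + 1) M := by ac_rfl
      _ = latSum G M (n + 1) ⊔ Isoc.latImg G (n + 1 + 1) M := by rw [ih]
      _ = latSum G M (n + 1 + 1) := (latSum_succ G M (n + 1)).symm

theorem le_latSum (G : N →ₛₗ[τ] N) (M : Submodule (WittVector p k) N) {j n : ℕ} (hj : j ≤ n) :
    Isoc.latImg G j M ≤ latSum G M n := by
  induction n with
  | zero =>
    rw [Nat.le_zero.mp hj, latImg_zero, latSum_zero]
  | succ n ih =>
    rcases Nat.lt_or_eq_of_le hj with h | h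
    · exact (ih (Nat.lt_succ_iff.mp h)).trans le_sup_left
    · rw [h, latSum_succ]
      exact le_sup_right

theorem latSum_isLattice (hτ : IsWAut τ) (G : N →ₛₗ[τ] N) {M : Submodule (WittVector p k) N}
    (hM : M.IsLattice K(p, k)) (n : ℕ) : (latSum G M n).IsLattice K(p, k) where
  fg := by
    induction n with
    | zero => exact hM.fg
    | succ n ih => rw [latSum_succ]; exact ih.sup (latImg_fg hτ G _ hM.fg)
  span_eq_top := by
    rw [eq_top_iff, ← hM.span_eq_top]
    refine Submodule.span_mono ?_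
    have h1 := le_latSum G M (Nat.zero_le n)
    rw [latImg_zero] at h1
    exact h1

/-- saturation: from `G^t M = M` to a lattice with `G M' = M'`. -/
theorem exists_lattice_latImg_one_eq (hτ : IsWAut τ) (G : N →ₛₗ[τ] N)
    {M : Submodule (WittVector p k) N} (hM : M.IsLattice K(p, k)) {t : ℕ} (ht : 0 < t)
    (hGM : Isoc.latImg G t M = M) :
    ∃ M' : Submodule (WittVector p k) N, M'.IsLattice K(p, k) ∧ Isoc.latImg G 1 M' = M' := by
  obtain ⟨n, rfl⟩ : ∃ n, t = n + 1 := ⟨t - 1, by omega⟩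
  refine ⟨latSum G M n, latSum_isLattice hτ G hM n, ?_⟩
  have hM0 : M ≤ latSum G M n := by
    have h1 := le_latSum G M (Nat.zero_le n)
    rwa [latImg_zero] at h1
  have h1 : Isoc.latImg G 1 (latSum G M n) ⊔ M = latSum G M n := by
    rw [latImg_one_latSum_sup hτ, latSum_succ, hGM]
    exact sup_eq_left.mpr hM0
  have h2 : M ≤ Isoc.latImg G 1 (latSum G M n) := by
    conv_lhs => rw [← hGM, add_comm n 1, latImg_add hτ]
    exact latImg_mono G 1 (le_latSum G M le_rfl)
  exact (sup_eq_left.mpr h2).symm.trans h1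

variable [IsAlgClosed k]

/-- a nonzero vector with `F^h x = p^d x` from a lattice with `F^{ht} M = p^{dt} M`. -/
theorem exists_fixed_of_lattice {c : ℕ} (hτ : IsFrobQ τ c) (hc : 0 < c)
    [Module.Finite K(p, k) N] [Nontrivial N] (F : N →ₛₗ[τ] N) (hF : Function.Bijective F)
    {M : Submodule (WittVector p k) N} (hM : M.IsLattice K(p, k)) {d : ℤ} {h t : ℕ}
    (hh : 0 < h) (ht : 0 < t)
    (hFM : Isoc.latImg F (h * t) M = Isoc.pPow (d * t) M) :
    ∃ x : N, x ≠ 0 ∧ (⇑F)^[h] x = ((p : K(p, k)) ^ d) • x := by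
  have hW := hτ.isWAut
  set G : N →ₛₗ[τ ^ h] N := ((p : K(p, k)) ^ (-d)) • Isoc.iter F h with hG
  have hGapp : ∀ x, G x = ((p : K(p, k)) ^ (-d)) • (⇑F)^[h] x := fun x => rfl
  have hτh : IsFrobQ (τ ^ h) (c * h) := hτ.pow h
  have hch : 0 < c * h := Nat.mul_pos hc hh
  have hGt : Isoc.latImg G t M = M := by
    rw [hG, latImg_twist hW F (-d) h t M, hFM, pPow_pPow, neg_mul, neg_add_cancel, pPow_zero]
  obtain ⟨M', hM', hGM'⟩ := exists_lattice_latImg_one_eq hτh.isWAut G hM ht hGt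
  have hG1 : ∀ x ∈ M', G x ∈ M' := by
    intro x hx
    have h1 : G x ∈ Isoc.latImg G 1 M' := (mem_latImg hτh.isWAut).mpr ⟨x, hx, rfl⟩
    rwa [hGM'] at h1
  have hG2 : ∀ y ∈ M', ∃ x ∈ M', G x = y := by
    intro y hy
    rw [← hGM'] at hy
    obtain ⟨x, hx, hxy⟩ := (mem_latImg hτh.isWAut).mp hy
    exact ⟨x, hx, hxy⟩
  have hpd : (p : K(p, k)) ^ (-d) ≠ 0 := zpow_ne_zero _ p_ne_zero
  have hGinj : Function.Injective G := by
    intro x y hxy
    rw [hGapp, hGapp] at hxy
    exact hF.1.iterate h (smul_right_injective N hpd hxy)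
  obtain ⟨x, hx, hx0⟩ := exists_fixed_notMem hτh hch G hGinj hM' hG1 hG2 ⊥ bot_ne_top
  refine ⟨x, fun h0 => hx0 (by rw [h0]; exact Submodule.zero_mem _), ?_⟩
  have h1 : (⇑F)^[h] x = ((p : K(p, k)) ^ d) • G x := by
    rw [hGapp, smul_smul, ← zpow_add₀ p_ne_zero, add_neg_cancel, zpow_zero, one_smul]
  rw [h1, hx]

end Saturate

section InverseLattice

variable {p : ℕ} [Fact p.Prime] {k : Type u} [Field k] [CharP k p] [PerfectRing k p]
variable {N : Type v} [AddCommGroup N] [Module (WittVector p k) N] [Module K(p, k) N]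
  [IsScalarTower (WittVector p k) K(p, k) N]

theorem invSemi_iterate (a : ℤ) (F : N →ₛₗ[Isoc.frob p k a] N) (hF : Function.Bijective F)
    (s : ℕ) (x : N) : (⇑(invSemi a F hF))^[s] ((⇑F)^[s] x) = x :=
  Function.LeftInverse.iterate (invSemi_apply a F hF) s x

theorem iterate_invSemi (a : ℤ) (F : N →ₛₗ[Isoc.frob p k a] N) (hF : Function.Bijective F)
    (s : ℕ) (x : N) : (⇑F)^[s] ((⇑(invSemi a F hF))^[s] x) = x :=
  Function.LeftInverse.iterate (apply_invSemi a F hF) s x

theorem latImg_invSemi (a : ℤ) (F : N →ₛₗ[Isoc.frob p k a] N) (hF : Function.Bijective F)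
    {M : Submodule (WittVector p k) N} {r : ℤ} {s : ℕ}
    (hFM : Isoc.latImg F s M = Isoc.pPow r M) :
    Isoc.latImg (invSemi a F hF) s M = Isoc.pPow (-r) M := by
  have hW := isWAut_frob (p := p) (k := k) a
  have hW' := isWAut_frob (p := p) (k := k) (-a)
  have h1 : Isoc.latImg (invSemi a F hF) s (Isoc.latImg F s M) = M := by
    ext x
    rw [mem_latImg hW']
    constructor
    · rintro ⟨y, hy, rfl⟩
      obtain ⟨z, hz, rfl⟩ := (mem_latImg hW).mp hy
      rw [invSemi_iterate]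
      exact hz
    · intro hx
      exact ⟨(⇑F)^[s] x, (mem_latImg hW).mpr ⟨x, hx, rfl⟩, invSemi_iterate a F hF s x⟩
  rw [hFM, latImg_pPow hW'] at h1
  have h2 := congrArg (Isoc.pPow (-r)) h1
  rw [pPow_pPow, neg_add_cancel, pPow_zero] at h2
  exact h2

end InverseLattice

section FixedVector

variable {p : ℕ} [Fact p.Prime] {k : Type u} [Field k] [CharP k p] [PerfectRing k p]
  [IsAlgClosed k]
variable {N : Type v} [AddCommGroup N] [Module (WittVector p k) N] [Module K(p, k) N]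
  [IsScalarTower (WittVector p k) K(p, k) N]

/-- in a non-zero isoclinic isocrystal of slope `μ = d/h` (lowest terms) over an algebraically
closed field, with twist `σ^a`, `a ≠ 0`, there is a non-zero `x` with `F^h x = p^d x`. -/
theorem exists_fixed_of_isIsoclinic {a : ℤ} (ha : a ≠ 0) [Module.Finite K(p, k) N] [Nontrivial N]
    (F : N →ₛₗ[Isoc.frob p k a] N) (hF : Function.Bijective F) {μ : ℚ}
    (hμ : Isoc.IsIsoclinic F μ) :
    ∃ x : N, x ≠ 0 ∧ (⇑F)^[μ.den] x = ((p : K(p, k)) ^ μ.num) • x := by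
  obtain ⟨M, hM, r, s, hs, hrs, hFM⟩ := hμ
  obtain ⟨t, ht, hst, hrt⟩ := exists_mul_of_div_eq hs hrs
  rcases lt_or_gt_of_ne ha with hneg | hpos
  · obtain ⟨n, hn⟩ : ∃ n : ℕ, -a = (n : ℤ) := ⟨(-a).toNat, by omega⟩
    have hn0 : 0 < n := by omega
    have hτ : IsFrobQ (Isoc.frob p k (-a)) n := by rw [hn]; exact isFrobQ_frob n
    have hFM' : Isoc.latImg (invSemi a F hF) (μ.den * t) M = Isoc.pPow ((-μ.num) * t) M := by
      rw [← hst, neg_mul, ← hrt]
      exact latImg_invSemi a F hF hFM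
    obtain ⟨x, hx0, hx⟩ := exists_fixed_of_lattice hτ hn0 (invSemi a F hF)
      (invSemi_bijective a F hF) hM μ.den_pos ht hFM'
    refine ⟨x, hx0, ?_⟩
    have h1 := congrArg ((⇑F)^[μ.den]) hx
    rw [iterate_invSemi, iterate_pzpow_smul] at h1
    have h2 := congrArg (fun y => ((p : K(p, k)) ^ μ.num) • y) h1
    simp only [smul_smul] at h2
    rw [← zpow_add₀ p_ne_zero, add_neg_cancel, zpow_zero, one_smul] at h2
    exact h2.symm
  · obtain ⟨n, hn⟩ : ∃ n : ℕ, a = (n : ℤ) := ⟨a.toNat, by omega⟩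
    have hn0 : 0 < n := by omega
    have hτ : IsFrobQ (Isoc.frob p k a) n := by rw [hn]; exact isFrobQ_frob n
    have hFM' : Isoc.latImg F (μ.den * t) M = Isoc.pPow (μ.num * t) M := by
      rw [← hst, ← hrt]
      exact hFM
    exact exists_fixed_of_lattice hτ hn0 F hF hM μ.den_pos ht hFM'

end FixedVector

section StdMap

variable {p : ℕ} [Fact p.Prime] {k : Type u} [Field k] [CharP k p] [PerfectRing k p]
variable {N : Type v} [AddCommGroup N] [Module (WittVector p k) N] [Module K(p, k) N]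
  [IsScalarTower (WittVector p k) K(p, k) N]
variable {τ : K(p, k) →+* K(p, k)}

/-- the equivariant map from the standard isocrystal attached to `x` with `F^h x = p^d x`. -/
theorem exists_std_map (F : N →ₛₗ[τ] N) {d : ℤ} {h : ℕ} (hh : 0 < h) {x : N}
    (hx : (⇑F)^[h] x = ((p : K(p, k)) ^ d) • x) :
    ∃ g : (Fin h → K(p, k)) →ₗ[K(p, k)] N,
      (∀ w, g (Isoc.stdIsoc τ d h w) = F (g w)) ∧ g (Pi.single ⟨0, hh⟩ 1) = x ∧
      ∀ S : Submodule K(p, k) N, (∀ y ∈ S, F y ∈ S) → x ∈ S → ∀ w, g w ∈ S := by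
  classical
  obtain ⟨n, rfl⟩ : ∃ n, h = n + 1 := ⟨h - 1, by omega⟩
  refine ⟨Fintype.linearCombination K(p, k) (fun i : Fin (n + 1) => (⇑F)^[i.val] x), ?_, ?_, ?_⟩
  · intro w
    rw [Fintype.linearCombination_apply, Fintype.linearCombination_apply, map_sum,
      ← Equiv.sum_comp (finRotate (n + 1))]
    refine Finset.sum_congr rfl fun i _ => ?_
    rw [map_smulₛₗ, ← Function.iterate_succ_apply' (⇑F), Isoc.stdIsoc_apply,
      Equiv.symm_apply_apply]
    by_cases hi : i = Fin.last n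
    · rw [hi, finRotate_last]
      simp only [Fin.val_zero, if_true, Function.iterate_zero, id_eq, Fin.val_last]
      rw [hx, smul_smul, mul_comm]
    · have h1 := coe_finRotate_of_ne_last hi
      rw [h1, if_neg (Nat.succ_ne_zero _), one_mul]
  · rw [Fintype.linearCombination_apply_single, one_smul]
    rfl
  · intro S hS hxS w
    rw [Fintype.linearCombination_apply]
    refine Submodule.sum_mem _ fun i _ => Submodule.smul_mem _ _ ?_
    exact iterate_stable hS i.val hxS

end StdMap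

end Groth.Agent.Lib.Helper90.IsocLib
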