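import Groth.Agent.Lib.Helper90.Isoc8

set_option autoImplicit false

open scoped Pointwise Isocrystal
open Filter Topology

universe u v w

namespace Groth.Agent.Lib.Helper90.IsocLib

section Std

variable {p : ℕ} [Fact p.Prime] {k : Type u} [Field k] [CharP k p] [PerfectRing k p]

open scoped Fin.NatCast in
theorem stdIsoc_iterate (τ : K(p, k) →+* K(p, k)) (d : ℤ) (n : ℕ) (j : ℕ) (hj : j ≤ n + 1)
    (x : Fin (n + 1) → K(p, k)) (i : Fin (n + 1)) :
    ((⇑(Isoc.stdIsoc τ d (n + 1)))^[j] x) i =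
      (if i.val < j then (p : K(p, k)) ^ d else 1) * (τ ^ j) (x (i - (j : Fin (n + 1)))) := by
  induction j generalizing i with
  | zero => simp
  | succ j ih =>
    rw [Function.iterate_succ_apply', Isoc.stdIsoc_apply, finRotate_symm_apply, ih (by omega),
      map_mul, ← mul_assoc]
    congr 1
    · by_cases hi : i = 0
      · subst hi
        have h1 : ((0 - 1 : Fin (n + 1)) : ℕ) = n := by
          rw [Fin.coe_sub_one]; simp
        rw [h1]
        have h2 : ¬ n < j := by omega
        simp [h2]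
      · have h1 : ((i - 1 : Fin (n + 1)) : ℕ) = i.val - 1 := Fin.val_sub_one_of_ne_zero hi
        have h0 : i.val ≠ 0 := fun h => hi (Fin.ext h)
        rw [h1, if_neg h0, one_mul]
        by_cases h2 : i.val - 1 < j
        · have h3 : i.val < j + 1 := by omega
          rw [if_pos h2, if_pos h3, map_zpow₀, map_natCast]
        · have h3 : ¬ i.val < j + 1 := by omega
          rw [if_neg h2, if_neg h3, map_one]
    · rw [pow_succ', RingHom.mul_def, RingHom.comp_apply]
      congr 2
      rw [Nat.cast_succ, sub_sub]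
      congr 2
      exact add_comm _ _

open scoped Fin.NatCast in
theorem stdIsoc_iterate_height (τ : K(p, k) →+* K(p, k)) (d : ℤ) (n : ℕ)
    (x : Fin (n + 1) → K(p, k)) (i : Fin (n + 1)) :
    ((⇑(Isoc.stdIsoc τ d (n + 1)))^[n + 1] x) i = (p : K(p, k)) ^ d * (τ ^ (n + 1)) (x i) := by
  rw [stdIsoc_iterate τ d n (n + 1) le_rfl x i, if_pos i.isLt, Fin.natCast_self, sub_zero]

/-- the standard lattice `W^h` in `L^h` -/
noncomputable def stdLat (p : ℕ) [Fact p.Prime] (k : Type u) [Field k] [CharP k p] (h : ℕ) :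
    Submodule (WittVector p k) (Fin h → K(p, k)) :=
  Submodule.span (WittVector p k) (Set.range fun i : Fin h => Pi.single i (1 : K(p, k)))

theorem mem_stdLat {h : ℕ} (x : Fin h → K(p, k)) :
    x ∈ stdLat p k h ↔ ∀ i, ∃ w : WittVector p k, x i = algebraMap (WittVector p k) K(p, k) w := by
  constructor
  · intro hx
    unfold stdLat at hx
    induction hx using Submodule.span_induction with
    | mem y hy =>
      obtain ⟨j, rfl⟩ := hy
      intro i
      by_cases hij : i = j
      · subst hij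
        exact ⟨1, by simp⟩
      · exact ⟨0, by simp [Pi.single_apply, hij]⟩
    | zero => intro i; exact ⟨0, by simp⟩
    | add a c _ _ ha hc =>
      intro i
      obtain ⟨u, hu⟩ := ha i
      obtain ⟨v, hv⟩ := hc i
      exact ⟨u + v, by rw [Pi.add_apply, hu, hv, map_add]⟩
    | smul c a _ ha =>
      intro i
      obtain ⟨u, hu⟩ := ha i
      exact ⟨c * u, by rw [Pi.smul_apply, hu, map_mul, Algebra.smul_def]⟩
  · intro hx
    choose w hw using hx
    have h1 : x = ∑ i, w i • (Pi.single i (1 : K(p, k)) : Fin h → K(p, k)) := by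
      ext j
      rw [Finset.sum_apply, Finset.sum_eq_single j]
      · rw [Pi.smul_apply, Pi.single_eq_same, hw j, Algebra.smul_def, mul_one]
      · intro i _ hij
        rw [Pi.smul_apply, Pi.single_eq_of_ne hij.symm, smul_zero]
      · intro hj
        exact absurd (Finset.mem_univ j) hj
    rw [h1]
    exact Submodule.sum_mem _ fun i _ =>
      Submodule.smul_mem _ _ (Submodule.subset_span ⟨i, rfl⟩)

theorem stdLat_isLattice (h : ℕ) : (stdLat p k h).IsLattice K(p, k) where
  fg := Submodule.fg_span (Set.finite_range _)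
  span_eq_top := by
    unfold stdLat
    rw [Submodule.span_span_of_tower]
    have h1 : (fun i : Fin h => (Pi.single i (1 : K(p, k)) : Fin h → K(p, k))) =
        ⇑(Pi.basisFun K(p, k) (Fin h)) := by
      ext i j
      simp [Pi.basisFun_apply]
    rw [h1]
    exact (Pi.basisFun K(p, k) (Fin h)).span_eq

theorem stdIsoc_latImg_height {τ : K(p, k) →+* K(p, k)} (hτ : IsWAut τ) (d : ℤ) (n : ℕ) :
    Isoc.latImg (Isoc.stdIsoc τ d (n + 1)) (n + 1) (stdLat p k (n + 1)) =
      Isoc.pPow d (stdLat p k (n + 1)) := by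
  obtain ⟨σ, hσ⟩ := hτ.pow (n + 1)
  ext x
  rw [mem_latImg hτ, mem_pPow]
  constructor
  · rintro ⟨y, hy, rfl⟩
    refine ⟨fun i => (τ ^ (n + 1)) (y i), ?_, ?_⟩
    · rw [mem_stdLat] at hy ⊢
      intro i
      obtain ⟨w, hw⟩ := hy i
      exact ⟨σ w, by rw [hw, hσ]⟩
    · ext i
      rw [stdIsoc_iterate_height, Pi.smul_apply, smul_eq_mul]
  · rintro ⟨z, hz, rfl⟩
    rw [mem_stdLat] at hz
    choose w hw using hz
    refine ⟨fun i => algebraMap (WittVector p k) K(p, k) (σ.symm (w i)), ?_, ?_⟩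
    · rw [mem_stdLat]
      intro i
      exact ⟨σ.symm (w i), rfl⟩
    · ext i
      rw [stdIsoc_iterate_height, Pi.smul_apply, smul_eq_mul, hσ, σ.apply_symm_apply, hw i]

theorem stdIsoc_injective (τ : K(p, k) →+* K(p, k)) (d : ℤ) (h : ℕ) :
    Function.Injective (Isoc.stdIsoc τ d h) := by
  intro x y hxy
  ext i
  have h1 := congrFun hxy (finRotate h i)
  rw [Isoc.stdIsoc_apply, Isoc.stdIsoc_apply, Equiv.symm_apply_apply] at h1
  have hc : (if (finRotate h i).val = 0 then (p : K(p, k)) ^ d else 1) ≠ 0 := by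
    split_ifs
    · exact zpow_ne_zero d p_ne_zero
    · exact one_ne_zero
  exact τ.injective (mul_left_cancel₀ hc h1)

theorem stdIsoc_isIsoc {τ : K(p, k) →+* K(p, k)} (hτ : IsWAut τ) (d : ℤ) (h : ℕ) :
    Isoc.IsIsoc (Isoc.stdIsoc τ d h) where
  finite := inferInstance
  bijective := ⟨stdIsoc_injective τ d h,
    semilinear_surjective_of_injective hτ.surjective _ (stdIsoc_injective τ d h)⟩

theorem stdIsoc_isIsoclinic {τ : K(p, k) →+* K(p, k)} (hτ : IsWAut τ) (d : ℤ) (h : ℕ)
    (hh : 0 < h) : Isoc.IsIsoclinic (Isoc.stdIsoc τ d h) ((d : ℚ) / (h : ℚ)) := by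
  obtain ⟨n, rfl⟩ := Nat.exists_eq_succ_of_ne_zero hh.ne'
  exact ⟨stdLat p k (n + 1), stdLat_isLattice (n + 1), d, n + 1, hh, rfl,
    stdIsoc_latImg_height hτ d n⟩

end Std

section Dim

variable {p : ℕ} [Fact p.Prime] {k : Type u} [Field k] [CharP k p] [PerfectRing k p]
variable {N : Type v} [AddCommGroup N] [Module (WittVector p k) N] [Module K(p, k) N]
  [IsScalarTower (WittVector p k) K(p, k) N]
variable {τ : K(p, k) →+* K(p, k)}

/-- for an isoclinic lattice equation `F^s M = p^r M`: `s · orddet = r · height` -/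
theorem mul_orddet_eq_mul_height (hτ : IsWAut τ) [Module.Finite K(p, k) N] {n : ℕ}
    (b : Module.Basis (Fin n) K(p, k) N) {F : N →ₛₗ[τ] N} (hF : Function.Surjective F) {d : ℤ}
    (hd : Isoc.IsOrdP (Isoc.detCoeff b F) d)
    {M : Submodule (WittVector p k) N} (hM : M.IsLattice K(p, k)) {r : ℤ} {s : ℕ}
    (h : Isoc.latImg F s M = Isoc.pPow r M) : (s : ℤ) * d = r * n := by
  have hfr : Module.finrank K(p, k) N = n := by
    rw [Module.finrank_eq_card_basis b, Fintype.card_fin]
  have h1 := isIdx_latImg hτ b hF hd hM s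
  have h2 := IsIdx.pPow M r
  rw [h] at h1
  rw [hfr] at h2
  exact IsIdx.unique hM h1 h2

end Dim

end Groth.Agent.Lib.Helper90.IsocLib
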