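import Groth.Agent.Lib.Helper90.Isoc24
import Groth.Agent.S17153
import Groth.Agent.S17154

set_option autoImplicit false

open scoped Pointwise Isocrystal
open Filter Topology

universe u v w

namespace Groth.Agent.Lib.Helper90.IsocLib

section SlopeInf

variable {p : ℕ} [Fact p.Prime] {k : Type u} [Field k] [CharP k p] [PerfectRing k p]
variable {N : Type v} [AddCommGroup N] [Module (WittVector p k) N] [Module K(p, k) N]
  [IsScalarTower (WittVector p k) K(p, k) N]
variable {τ : K(p, k) →+* K(p, k)}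

theorem eq_inf_sup_inf_compl (hτ : IsWAut τ) [Module.Finite K(p, k) N] {F : N →ₛₗ[τ] N}
    (hF : Function.Injective F) {X : Submodule K(p, k) N} (hX : ∀ x ∈ X, F x ∈ X) (μ : ℚ) :
    X = (X ⊓ Isoc.slopePart F μ) ⊔ (X ⊓ ⨆ ν, ⨆ (_ : ν ≠ μ), Isoc.slopePart F ν) := by
  apply le_antisymm
  · conv_lhs => rw [eq_iSup_inf_slopePart hτ hF hX]
    refine iSup_le fun ν => ?_
    by_cases hν : ν = μ
    · rw [hν]; exact le_sup_left
    · exact le_trans (inf_le_inf_left X (le_iSup₂ (f := fun ν (_ : ν ≠ μ) => Isoc.slopePart F ν) ν hν))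
        le_sup_right
  · exact sup_le inf_le_left inf_le_left

theorem sup_inf_slopePart (hτ : IsWAut τ) [Module.Finite K(p, k) N] {F : N →ₛₗ[τ] N}
    (hF : Function.Injective F) {S Q : Submodule K(p, k) N} (hS : ∀ x ∈ S, F x ∈ S)
    (hQ : ∀ x ∈ Q, F x ∈ Q) (μ : ℚ) :
    (S ⊔ Q) ⊓ Isoc.slopePart F μ = (S ⊓ Isoc.slopePart F μ) ⊔ (Q ⊓ Isoc.slopePart F μ) := by
  set A := Isoc.slopePart F μ with hA
  set B := ⨆ ν, ⨆ (_ : ν ≠ μ), Isoc.slopePart F ν with hB
  have hdisj : Disjoint A B := iSupIndep_slopePart hτ hF μ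
  have hSeq := eq_inf_sup_inf_compl hτ hF hS μ
  have hQeq := eq_inf_sup_inf_compl hτ hF hQ μ
  rw [← hA, ← hB] at hSeq hQeq
  set U := (S ⊓ A) ⊔ (Q ⊓ A) with hU
  set U' := (S ⊓ B) ⊔ (Q ⊓ B) with hU'
  have hUA : U ≤ A := sup_le inf_le_right inf_le_right
  have hU'B : U' ≤ B := sup_le inf_le_right inf_le_right
  have h1 : S ⊔ Q = U ⊔ U' := by
    conv_lhs => rw [hSeq, hQeq]
    rw [hU, hU']
    ac_rfl
  rw [h1, sup_inf_assoc_of_le U' hUA]
  have h2 : U' ⊓ A = ⊥ := by
    rw [eq_bot_iff]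
    exact le_trans (inf_le_inf_right A hU'B) (by rw [inf_comm]; exact hdisj.le_bot)
  rw [h2, sup_bot_eq]

end SlopeInf

section Glue

theorem option_glue {ι : Type*} {R : Type*} [Field R] {N : Type*} [AddCommGroup N] [Module R N]
    (φ : Option ι → Type*) [∀ o, AddCommGroup (φ o)] [∀ o, Module R (φ o)]
    (g0 : φ none →ₗ[R] N) (g : ((i : ι) → φ (some i)) →ₗ[R] N)
    {S Q P : Submodule R N} (hSQ : S ⊓ Q = ⊥) (hSQP : S ⊔ Q = P)
    (hg0inj : Function.Injective g0) (hg0r : LinearMap.range g0 = S)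
    (hginj : Function.Injective g) (hgr : LinearMap.range g = Q) :
    ∃ g' : ((o : Option ι) → φ o) →ₗ[R] N, Function.Injective g' ∧ LinearMap.range g' = P ∧
      ∀ w, g' w = g0 (w none) + g (fun i => w (some i)) := by
  let g' : ((o : Option ι) → φ o) →ₗ[R] N :=
    g0 ∘ₗ (LinearMap.proj none) + g ∘ₗ (LinearMap.pi fun i => LinearMap.proj (some i))
  have hg'app : ∀ w, g' w = g0 (w none) + g (fun i => w (some i)) := fun w => rfl
  refine ⟨g', ?_, ?_, hg'app⟩
  · rw [injective_iff_map_eq_zero]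
    intro w hw
    rw [hg'app] at hw
    have h1 : g0 (w none) ∈ S ⊓ Q := by
      refine ⟨hg0r ▸ LinearMap.mem_range_self g0 _, ?_⟩
      have : g0 (w none) = -g (fun i => w (some i)) := eq_neg_of_add_eq_zero_left hw
      rw [this]
      exact Q.neg_mem (hgr ▸ LinearMap.mem_range_self g _)
    rw [hSQ, Submodule.mem_bot] at h1
    have h2 : g (fun i => w (some i)) = 0 := by rwa [h1, zero_add] at hw
    have h3 : w none = 0 := hg0inj (by rw [h1, map_zero])
    have h4 : (fun i => w (some i)) = 0 := hginj (by rw [h2, map_zero])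
    funext o
    cases o with
    | none => exact h3
    | some i => exact congrFun h4 i
  · ext y
    constructor
    · rintro ⟨w, rfl⟩
      rw [hg'app, ← hSQP]
      exact Submodule.add_mem_sup (hg0r ▸ LinearMap.mem_range_self g0 _)
        (hgr ▸ LinearMap.mem_range_self g _)
    · intro hy
      rw [← hSQP] at hy
      obtain ⟨s, hs, q, hq, rfl⟩ := Submodule.mem_sup.mp hy
      rw [← hg0r] at hs
      rw [← hgr] at hq
      obtain ⟨u, rfl⟩ := hs
      obtain ⟨v, rfl⟩ := hq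
      exact ⟨fun o => Option.rec (motive := fun o => φ o) u v o, rfl⟩

end Glue

section Simple

variable {p : ℕ} [Fact p.Prime] {k : Type u} [Field k] [CharP k p] [PerfectRing k p]
  [IsAlgClosed k]
variable {N : Type v} [AddCommGroup N] [Module (WittVector p k) N] [Module K(p, k) N]
  [IsScalarTower (WittVector p k) K(p, k) N]

/-- a minimal non-zero stable subspace is a standard isocrystal. -/
theorem exists_std_of_minimal {a : ℤ} (ha : a ≠ 0) [Module.Finite K(p, k) N]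
    (F : N →ₛₗ[Isoc.frob p k a] N) (hF : Function.Bijective F)
    {S : Submodule K(p, k) N} (hS : ∀ x ∈ S, F x ∈ S) (hS0 : S ≠ ⊥)
    (hmin : ∀ S' : Submodule K(p, k) N, S' ≤ S → (∀ x ∈ S', F x ∈ S') → S' = ⊥ ∨ S' = S) :
    ∃ (d : ℤ) (h : ℕ) (g : (Fin h → K(p, k)) →ₗ[K(p, k)] N), 0 < h ∧ Int.gcd d h = 1 ∧
      Function.Injective g ∧ LinearMap.range g = S ∧
      (∀ w, g (Isoc.stdIsoc (Isoc.frob p k a) d h w) = F (g w)) ∧
      S ≤ Isoc.slopePart F ((d : ℚ) / (h : ℚ)) := by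
  classical
  have hW := isWAut_frob (p := p) (k := k) a
  have hdec := eq_iSup_inf_slopePart hW hF.1 hS
  obtain ⟨ν, hν⟩ : ∃ ν : ℚ, S ⊓ Isoc.slopePart F ν ≠ ⊥ := by
    by_contra hcon
    push_neg at hcon
    apply hS0
    rw [hdec]
    simp only [hcon, iSup_bot]
  have hstν := (slopePart_mem hW F ν).1
  have hSν : S ≤ Isoc.slopePart F ν := by
    rcases hmin (S ⊓ Isoc.slopePart F ν) inf_le_left
      (fun x hx => ⟨hS x hx.1, hstν x hx.2⟩) with h | h
    · exact absurd h hν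
    · rw [← h]; exact inf_le_right
  have hiso : IsoclinicIn F S ν := isoclinicIn_of_le hW hF.1 (slopePart_mem hW F ν).2 hSν hS
  have hiso' : Isoc.IsIsoclinic (F.restrict hS) ν := isIsoclinic_of_isoclinicIn hW F hS hiso
  haveI : Nontrivial S := Submodule.nontrivial_iff_ne_bot.mpr hS0
  have hbij := restrict_bijective hW hF.1 hS
  obtain ⟨x, hx0, hx⟩ := exists_fixed_of_isIsoclinic ha (F.restrict hS) hbij hiso'
  have hx' : (⇑F)^[ν.den] (x : N) = ((p : K(p, k)) ^ ν.num) • (x : N) := by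
    have := congrArg Subtype.val hx
    rw [restrict_iterate] at this
    exact this
  have hxN : (x : N) ≠ 0 := fun h => hx0 (Subtype.ext h)
  obtain ⟨g, hgeq, hgx, hgS⟩ := exists_std_map F ν.den_pos hx'
  have hgcd : Int.gcd ν.num (ν.den : ℤ) = 1 := by
    show Nat.gcd ν.num.natAbs ((ν.den : ℤ)).natAbs = 1
    rw [Int.natAbs_natCast]
    exact ν.reduced
  have hrange : LinearMap.range g = S := by
    rcases hmin (LinearMap.range g) (by rintro _ ⟨w, rfl⟩; exact hgS S hS x.2 w)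
      (by rintro _ ⟨w, rfl⟩; exact ⟨_, hgeq w⟩) with h | h
    · exfalso
      have : (x : N) ∈ LinearMap.range g := ⟨_, hgx⟩
      rw [h] at this
      exact hxN ((Submodule.mem_bot _).mp this)
    · exact h
  have hker : LinearMap.ker g = ⊥ := by
    rcases Groth.Agent.S17153.result p k a ν.num ν.den ν.den_pos hgcd (LinearMap.ker g)
      (by
        intro w hw
        rw [LinearMap.mem_ker] at hw ⊢
        rw [hgeq, hw, map_zero]) with h | h
    · exact h
    · exfalso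
      have : Pi.single (⟨0, ν.den_pos⟩ : Fin ν.den) (1 : K(p, k)) ∈ LinearMap.ker g := by
        rw [h]; trivial
      rw [LinearMap.mem_ker, hgx] at this
      exact hxN this
  refine ⟨ν.num, ν.den, g, ν.den_pos, hgcd, LinearMap.ker_eq_bot.mp hker, hrange, hgeq, ?_⟩
  rw [Rat.num_div_den]
  exact hSν

end Simple

section Decomp

variable {p : ℕ} [Fact p.Prime] {k : Type u} [Field k] [CharP k p] [PerfectRing k p]
  [IsAlgClosed k]
variable {N : Type v} [AddCommGroup N] [Module (WittVector p k) N] [Module K(p, k) N]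
  [IsScalarTower (WittVector p k) K(p, k) N]

/-- `P` is a direct sum of standard isocrystals, with the expected slope multiplicities. -/
def StdDecomp (a : ℤ) (F : N →ₛₗ[Isoc.frob p k a] N) (P : Submodule K(p, k) N) : Prop :=
  ∃ (ι : Type) (_ : Fintype ι) (d : ι → ℤ) (h : ι → ℕ)
    (g : ((i : ι) → Fin (h i) → K(p, k)) →ₗ[K(p, k)] N),
    (∀ i, 0 < h i ∧ Int.gcd (d i) (h i) = 1) ∧ Function.Injective g ∧ LinearMap.range g = P ∧
    (∀ w, g (fun i => Isoc.stdIsoc (Isoc.frob p k a) (d i) (h i) (w i)) = F (g w)) ∧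
    ∀ μ : ℚ, Module.finrank K(p, k) ↥(P ⊓ Isoc.slopePart F μ) =
      ∑ i, if ((d i : ℚ) / (h i : ℚ)) = μ then h i else 0

theorem stdDecomp_bot (a : ℤ) (F : N →ₛₗ[Isoc.frob p k a] N) : StdDecomp a F ⊥ := by
  refine ⟨Empty, inferInstance, fun i => i.elim, fun i => i.elim, 0, fun i => i.elim,
    Function.injective_of_subsingleton _, LinearMap.range_zero, fun w => ?_, fun μ => ?_⟩
  · rw [LinearMap.zero_apply, LinearMap.zero_apply, map_zero]
  · rw [bot_inf_eq, finrank_bot]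
    simp

theorem stdDecomp_step {a : ℤ} [Module.Finite K(p, k) N] (F : N →ₛₗ[Isoc.frob p k a] N)
    (hF : Function.Bijective F) {S Q P : Submodule K(p, k) N}
    (hS : ∀ x ∈ S, F x ∈ S) (hQ : ∀ x ∈ Q, F x ∈ Q) (hSQ : S ⊓ Q = ⊥) (hSQP : S ⊔ Q = P)
    {d0 : ℤ} {h0 : ℕ} (g0 : (Fin h0 → K(p, k)) →ₗ[K(p, k)] N) (hh0 : 0 < h0)
    (hgcd : Int.gcd d0 h0 = 1) (hg0inj : Function.Injective g0) (hg0r : LinearMap.range g0 = S)
    (hg0eq : ∀ w, g0 (Isoc.stdIsoc (Isoc.frob p k a) d0 h0 w) = F (g0 w))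
    (hSle : S ≤ Isoc.slopePart F ((d0 : ℚ) / (h0 : ℚ))) (hQdec : StdDecomp a F Q) :
    StdDecomp a F P := by
  classical
  have hW := isWAut_frob (p := p) (k := k) a
  obtain ⟨ι, hι, d, h, g, hdh, hginj, hgr, hgeq, hmult⟩ := hQdec
  obtain ⟨g', hg'inj, hg'r, hg'app⟩ :=
    option_glue (R := K(p, k)) (fun o : Option ι => Fin (Option.elim o h0 h) → K(p, k)) g0 g
      hSQ hSQP hg0inj hg0r hginj hgr
  refine ⟨Option ι, inferInstance, fun o => Option.elim o d0 d, fun o => Option.elim o h0 h, g',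
    ?_, hg'inj, hg'r, ?_, ?_⟩
  · intro o
    cases o with
    | none => exact ⟨hh0, hgcd⟩
    | some i => exact hdh i
  · intro w
    have e1 : g0 (Isoc.stdIsoc (Isoc.frob p k a) d0 h0 (w none)) = F (g0 (w none)) :=
      hg0eq (w none)
    have e2 : g (fun i => Isoc.stdIsoc (Isoc.frob p k a) (d i) (h i) (w (some i))) =
        F (g (fun i => w (some i))) := hgeq (fun i => w (some i))
    calc g' (fun o => Isoc.stdIsoc (Isoc.frob p k a) (Option.elim o d0 d) (Option.elim o h0 h)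
          (w o))
        = g0 (Isoc.stdIsoc (Isoc.frob p k a) d0 h0 (w none)) +
          g (fun i => Isoc.stdIsoc (Isoc.frob p k a) (d i) (h i) (w (some i))) := hg'app _
      _ = F (g0 (w none)) + F (g (fun i => w (some i))) := congrArg₂ (· + ·) e1 e2
      _ = F (g' w) := by rw [hg'app w]; exact (map_add F _ _).symm
  · intro μ
    rw [← hSQP, sup_inf_slopePart hW hF.1 hS hQ μ]
    have h1 := Submodule.finrank_sup_add_finrank_inf_eq (S ⊓ Isoc.slopePart F μ)
      (Q ⊓ Isoc.slopePart F μ)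
    have h2 : (S ⊓ Isoc.slopePart F μ) ⊓ (Q ⊓ Isoc.slopePart F μ) = ⊥ := by
      rw [eq_bot_iff, ← hSQ]
      exact inf_le_inf inf_le_left inf_le_left
    rw [h2, finrank_bot, add_zero] at h1
    rw [h1, hmult μ, Fintype.sum_option]
    congr 1
    show Module.finrank K(p, k) ↥(S ⊓ Isoc.slopePart F μ) =
      if ((d0 : ℚ) / (h0 : ℚ)) = μ then h0 else 0
    have hfS : Module.finrank K(p, k) S = h0 := by
      rw [← hg0r, LinearMap.finrank_range_of_inj hg0inj, Module.finrank_fin_fun]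
    split_ifs with hμ
    · rw [← hμ, inf_eq_left.mpr hSle, hfS]
    · have h3 : S ⊓ Isoc.slopePart F μ = ⊥ := by
        rw [eq_bot_iff]
        have hd := (iSupIndep_slopePart hW hF.1).pairwiseDisjoint hμ
        exact le_trans (inf_le_inf_right _ hSle) hd.le_bot
      rw [h3, finrank_bot]

/-- every stable subspace is a direct sum of standard isocrystals. -/
theorem stdDecomp_of_stable {a : ℤ} (ha : a ≠ 0) [Module.Finite K(p, k) N]
    (F : N →ₛₗ[Isoc.frob p k a] N) (hF : Function.Bijective F)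
    (P : Submodule K(p, k) N) (hP : ∀ x ∈ P, F x ∈ P) : StdDecomp a F P := by
  classical
  induction' hn : Module.finrank K(p, k) P using Nat.strong_induction_on with n ih generalizing P
  by_cases hP0 : P = ⊥
  · rw [hP0]; exact stdDecomp_bot a F
  set s : Set (Submodule K(p, k) N) := {S | S ≤ P ∧ (∀ x ∈ S, F x ∈ S) ∧ S ≠ ⊥} with hs
  have hne : s.Nonempty := ⟨P, le_rfl, hP, hP0⟩
  obtain ⟨S, ⟨hSP, hS, hS0⟩, hSmin⟩ := wellFounded_lt.has_min s hne
  have hmin : ∀ S' : Submodule K(p, k) N, S' ≤ S → (∀ x ∈ S', F x ∈ S') → S' = ⊥ ∨ S' = S := by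
    intro S' hS'S hS'
    by_cases h0 : S' = ⊥
    · exact Or.inl h0
    · right
      have h1 : S' ∈ s := ⟨hS'S.trans hSP, hS', h0⟩
      exact eq_of_le_of_not_lt hS'S (hSmin S' h1)
  obtain ⟨d0, h0, g0, hh0, hgcd, hg0inj, hg0r, hg0eq, hSle⟩ :=
    exists_std_of_minimal ha F hF hS hS0 hmin
  obtain ⟨Q', hQ', hcompl⟩ := Groth.Agent.S17154.result p k a ha N F ⟨inferInstance, hF⟩ S hS
  set Q := Q' ⊓ P with hQdef
  have hQ : ∀ x ∈ Q, F x ∈ Q := fun x hx => ⟨hQ' x hx.1, hP x hx.2⟩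
  have hSQ : S ⊓ Q = ⊥ := by
    rw [eq_bot_iff, ← hcompl.inf_eq_bot]
    exact inf_le_inf_left S inf_le_left
  have hSQP : S ⊔ Q = P := by
    rw [hQdef, ← sup_inf_assoc_of_le Q' hSP, hcompl.sup_eq_top, top_inf_eq]
  have hfr := Submodule.finrank_sup_add_finrank_inf_eq S Q
  rw [hSQ, hSQP, finrank_bot, add_zero] at hfr
  have hSpos : 0 < Module.finrank K(p, k) S := by
    rcases Nat.eq_zero_or_pos (Module.finrank K(p, k) S) with h | h
    · exact absurd (Submodule.finrank_eq_zero.mp h) hS0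
    · exact h
  have hQdec := ih (Module.finrank K(p, k) Q) (by omega) Q hQ rfl
  exact stdDecomp_step F hF hS hQ hSQ hSQP g0 hh0 hgcd hg0inj hg0r hg0eq hSle hQdec

end Decomp

end Groth.Agent.Lib.Helper90.IsocLib
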