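import Groth.Agent.Lib.Helper90.Isoc2

set_option autoImplicit false

open scoped Pointwise Isocrystal

universe u v w

namespace Groth.Agent.Lib.Helper90.IsocLib

section Ord

variable {p : ℕ} [Fact p.Prime] {k : Type u} [Field k] [CharP k p] [PerfectRing k p]
variable {N : Type v} [AddCommGroup N] [Module (WittVector p k) N] [Module K(p, k) N]
  [IsScalarTower (WittVector p k) K(p, k) N]
variable {τ : K(p, k) →+* K(p, k)}

theorem not_le_pPow_one {M : Submodule (WittVector p k) N} (hfg : M.FG) (hne : M ≠ ⊥) :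
    ¬ M ≤ Isoc.pPow 1 M := by
  intro h
  apply hne
  have key : ∀ n : ℕ, M ≤ Isoc.pPow (n : ℤ) M := by
    intro n
    induction n with
    | zero => rw [Nat.cast_zero, pPow_zero]
    | succ n ih =>
      refine le_trans h ?_
      refine le_trans (pPow_mono 1 ih) ?_
      rw [pPow_pPow]
      apply le_of_eq
      congr 1
      push_cast
      ring
  rw [eq_bot_iff]
  intro x hx
  rw [Submodule.mem_bot]
  exact eq_zero_of_forall_mem_pPow hfg fun n => key n hx

theorem not_pPow_le_pPow_succ {M : Submodule (WittVector p k) N} (hfg : M.FG) (hne : M ≠ ⊥)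
    (r : ℤ) : ¬ Isoc.pPow r M ≤ Isoc.pPow (r + 1) M := by
  intro h
  apply not_le_pPow_one hfg hne
  have := pPow_mono (-r) h
  rwa [pPow_pPow, pPow_pPow, neg_add_cancel, pPow_zero, neg_add_cancel_left] at this

theorem isOrd_ne_bot {M : Submodule (WittVector p k) N} {F : N →ₛₗ[τ] N} {s : ℕ} {r : ℤ}
    (h : Isoc.IsOrd M F s r) : M ≠ ⊥ := by
  rintro rfl
  apply h.2
  have h1 : Isoc.latImg F s (⊥ : Submodule (WittVector p k) N) = ⊥ := by
    unfold Isoc.latImg
    rw [Submodule.span_eq_bot]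
    rintro x ⟨y, hy, rfl⟩
    rw [SetLike.mem_coe, Submodule.mem_bot] at hy
    rw [hy]
    exact iterate_zero' F _
  rw [h1]
  exact bot_le

theorem isOrd_zero {M : Submodule (WittVector p k) N} (hfg : M.FG) (hne : M ≠ ⊥)
    (F : N →ₛₗ[τ] N) : Isoc.IsOrd M F 0 0 := by
  refine ⟨?_, ?_⟩
  · rw [latImg_zero, pPow_zero]
  · rw [latImg_zero, zero_add]
    exact not_le_pPow_one hfg hne

theorem twist_iterate (F : N →ₛₗ[τ] N) (m : ℤ) (n j : ℕ) (x : N) :
    (⇑(((p : K(p, k)) ^ m) • Isoc.iter F n))^[j] x =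
      ((p : K(p, k)) ^ (m * j)) • (⇑F)^[n * j] x := by
  induction j with
  | zero => simp
  | succ j ih =>
    rw [Function.iterate_succ_apply', ih, LinearMap.smul_apply, Isoc.iter_apply,
      iterate_pzpow_smul, smul_smul, ← zpow_add₀ p_ne_zero, ← Function.iterate_add_apply]
    congr 2
    · push_cast; ring
    · ring

theorem latImg_twist (hτ : IsWAut τ) (F : N →ₛₗ[τ] N) (m : ℤ) (n j : ℕ)
    (M : Submodule (WittVector p k) N) :
    Isoc.latImg (((p : K(p, k)) ^ m) • Isoc.iter F n) j M =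
      Isoc.pPow (m * j) (Isoc.latImg F (n * j) M) := by
  ext x
  rw [mem_latImg (hτ.pow n), mem_pPow]
  constructor
  · rintro ⟨y, hy, rfl⟩
    exact ⟨(⇑F)^[n * j] y, iterate_mem_latImg hy, (twist_iterate F m n j y).symm⟩
  · rintro ⟨z, hz, rfl⟩
    obtain ⟨y, hy, rfl⟩ := (mem_latImg hτ).mp hz
    exact ⟨y, hy, twist_iterate F m n j y⟩

theorem isOrd_twist (hτ : IsWAut τ) {F : N →ₛₗ[τ] N} {M : Submodule (WittVector p k) N}
    (m : ℤ) (n j : ℕ) {c : ℤ} (h : Isoc.IsOrd M F (n * j) c) :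
    Isoc.IsOrd M (((p : K(p, k)) ^ m) • Isoc.iter F n) j (m * j + c) := by
  refine ⟨?_, ?_⟩
  · rw [latImg_twist hτ, ← pPow_pPow]
    exact pPow_mono _ h.1
  · rw [latImg_twist hτ]
    intro hle
    apply h.2
    have := pPow_mono (-(m * j)) hle
    rw [pPow_pPow, pPow_pPow, neg_add_cancel, pPow_zero] at this
    convert this using 2
    ring

end Ord

end Groth.Agent.Lib.Helper90.IsocLib
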