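import Groth.Agent.Lib.Helper90.Isoc3

set_option autoImplicit false

open scoped Pointwise Isocrystal

universe u v w

namespace Groth.Agent.Lib.Helper90.IsocLib

section OrdP

variable {p : ℕ} [Fact p.Prime] {k : Type u} [Field k] [CharP k p] [PerfectRing k p]

local notation "𝕎" => WittVector p k
local notation "ι" => algebraMap (WittVector p k) K(p, k)

theorem ι_injective : Function.Injective (algebraMap (WittVector p k) K(p, k)) :=
  IsFractionRing.injective (WittVector p k) K(p, k)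

theorem ι_p : (algebraMap (WittVector p k) K(p, k)) (p : WittVector p k) = (p : K(p, k)) :=
  map_natCast _ p

theorem ι_unit_ne_zero (u : (WittVector p k)ˣ) :
    algebraMap (WittVector p k) K(p, k) (u : WittVector p k) ≠ 0 := by
  rw [Ne, map_eq_zero_iff _ ι_injective]
  exact u.ne_zero

theorem ι_unit_inv (u : (WittVector p k)ˣ) :
    algebraMap (WittVector p k) K(p, k) ((u⁻¹ : (WittVector p k)ˣ) : WittVector p k) =
      (algebraMap (WittVector p k) K(p, k) (u : WittVector p k))⁻¹ := by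
  apply eq_inv_of_mul_eq_one_left
  rw [← map_mul, Units.inv_mul, map_one]

theorem not_isUnit_p_pow {n : ℕ} (hn : 0 < n) : ¬ IsUnit ((p : WittVector p k) ^ n) := by
  intro h
  have h1 : IsUnit (p : WittVector p k) := by
    obtain ⟨m, rfl⟩ := Nat.exists_eq_succ_of_ne_zero hn.ne'
    rw [pow_succ] at h
    exact isUnit_of_mul_isUnit_right h
  exact (WittVector.irreducible p).not_isUnit h1

/-- if `p^j` (integer `j`) equals a unit of `W` in `L`, then `j = 0`. -/
theorem eq_zero_of_zpow_eq_unit {j : ℤ} {u : (WittVector p k)ˣ}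
    (h : (p : K(p, k)) ^ j = algebraMap (WittVector p k) K(p, k) (u : WittVector p k)) :
    j = 0 := by
  by_contra hj
  rcases lt_or_gt_of_ne hj with hlt | hgt
  · obtain ⟨n, hn⟩ := Int.exists_eq_neg_ofNat hlt.le
    have hn0 : 0 < n := by omega
    have h2 : algebraMap (WittVector p k) K(p, k) ((p : WittVector p k) ^ n * u) = 1 := by
      rw [map_mul, map_pow, ι_p, ← h, hn, zpow_neg, zpow_natCast,
        mul_inv_cancel₀ (pow_ne_zero _ p_ne_zero)]
    have h3 : (p : WittVector p k) ^ n * u = 1 := ι_injective (by rw [h2, map_one])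
    exact not_isUnit_p_pow hn0 (IsUnit.of_mul_eq_one _ h3)
  · obtain ⟨n, hn⟩ := Int.eq_ofNat_of_zero_le hgt.le
    have hn0 : 0 < n := by omega
    have h2 : algebraMap (WittVector p k) K(p, k) ((p : WittVector p k) ^ n) =
        algebraMap (WittVector p k) K(p, k) (u : WittVector p k) := by
      rw [map_pow, ι_p, ← h, hn, zpow_natCast]
    have h3 : (p : WittVector p k) ^ n = u := ι_injective h2
    exact not_isUnit_p_pow hn0 (h3 ▸ u.isUnit)

theorem isOrdP_ne_zero {c : K(p, k)} {r : ℤ} (h : Isoc.IsOrdP c r) : c ≠ 0 := by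
  obtain ⟨u, rfl⟩ := h
  refine mul_ne_zero (zpow_ne_zero r p_ne_zero) ?_
  rw [Ne, map_eq_zero_iff _ ι_injective]
  exact u.ne_zero

theorem isOrdP_exists {c : K(p, k)} (hc : c ≠ 0) : ∃ r : ℤ, Isoc.IsOrdP c r := by
  obtain ⟨a, b, hb, rfl⟩ := IsFractionRing.div_surjective (A := WittVector p k) c
  have hb0 : b ≠ 0 := nonZeroDivisors.ne_zero hb
  have ha0 : a ≠ 0 := by
    rintro rfl
    simp at hc
  obtain ⟨m, u, hu⟩ := WittVector.exists_eq_pow_p_mul' a ha0
  obtain ⟨n, v, hv⟩ := WittVector.exists_eq_pow_p_mul' b hb0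
  refine ⟨(m : ℤ) - n, u * v⁻¹, ?_⟩
  have hvL : algebraMap (WittVector p k) K(p, k) (v : WittVector p k) ≠ 0 := by
    rw [Ne, map_eq_zero_iff _ ι_injective]
    exact v.ne_zero
  have hvinv := ι_unit_inv v
  rw [hu, hv, zpow_sub₀ p_ne_zero, Units.val_mul, map_mul, map_mul, map_mul, map_pow, map_pow,
    ι_p, hvinv, zpow_natCast, zpow_natCast]
  field_simp

theorem isOrdP_unique {c : K(p, k)} {r r' : ℤ} (h : Isoc.IsOrdP c r) (h' : Isoc.IsOrdP c r') :
    r = r' := by
  obtain ⟨u, hu⟩ := h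
  obtain ⟨u', hu'⟩ := h'
  have huL : algebraMap (WittVector p k) K(p, k) (u : WittVector p k) ≠ 0 := by
    rw [Ne, map_eq_zero_iff _ ι_injective]
    exact u.ne_zero
  have huinv := ι_unit_inv u
  have key : (p : K(p, k)) ^ (r - r') =
      algebraMap (WittVector p k) K(p, k) ((u' * u⁻¹ : (WittVector p k)ˣ) : WittVector p k) := by
    rw [Units.val_mul, map_mul, huinv, zpow_sub₀ p_ne_zero]
    have h1 : (p : K(p, k)) ^ r * algebraMap (WittVector p k) K(p, k) (u : WittVector p k) =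
        (p : K(p, k)) ^ r' * algebraMap (WittVector p k) K(p, k) (u' : WittVector p k) := by
      rw [← hu, ← hu']
    have h2 : (p : K(p, k)) ^ r' ≠ 0 := zpow_ne_zero r' p_ne_zero
    field_simp
    linear_combination h1
  have := eq_zero_of_zpow_eq_unit key
  omega

theorem isOrdP_mul {c c' : K(p, k)} {r r' : ℤ} (h : Isoc.IsOrdP c r) (h' : Isoc.IsOrdP c' r') :
    Isoc.IsOrdP (c * c') (r + r') := by
  obtain ⟨u, rfl⟩ := h
  obtain ⟨u', rfl⟩ := h'
  refine ⟨u * u', ?_⟩
  rw [Units.val_mul, map_mul, zpow_add₀ p_ne_zero]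
  ring

theorem isOrdP_one : Isoc.IsOrdP (1 : K(p, k)) 0 := ⟨1, by simp⟩

theorem isOrdP_pzpow (r : ℤ) : Isoc.IsOrdP ((p : K(p, k)) ^ r) r := ⟨1, by simp⟩

theorem isOrdP_inv {c : K(p, k)} {r : ℤ} (h : Isoc.IsOrdP c r) : Isoc.IsOrdP c⁻¹ (-r) := by
  obtain ⟨u, rfl⟩ := h
  refine ⟨u⁻¹, ?_⟩
  have huL : algebraMap (WittVector p k) K(p, k) (u : WittVector p k) ≠ 0 := by
    rw [Ne, map_eq_zero_iff _ ι_injective]
    exact u.ne_zero
  have huinv := ι_unit_inv u
  rw [huinv, mul_inv, zpow_neg]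

theorem isOrdP_pow {c : K(p, k)} {r : ℤ} (h : Isoc.IsOrdP c r) (n : ℕ) :
    Isoc.IsOrdP (c ^ n) (r * n) := by
  induction n with
  | zero => simpa using isOrdP_one (p := p) (k := k)
  | succ n ih =>
    rw [pow_succ]
    have := isOrdP_mul ih h
    convert this using 1
    push_cast
    ring

theorem isOrdP_map {τ : K(p, k) →+* K(p, k)} (hτ : IsWAut τ) {c : K(p, k)} {r : ℤ}
    (h : Isoc.IsOrdP c r) : Isoc.IsOrdP (τ c) r := by
  obtain ⟨u, rfl⟩ := h
  obtain ⟨e, he⟩ := hτ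
  refine ⟨Units.map e.toRingHom.toMonoidHom u, ?_⟩
  rw [map_mul, map_zpow₀, map_natCast, he]
  rfl

/-- nonzero elements of `W` have nonnegative order -/
theorem isOrdP_nonneg {w : WittVector p k} {r : ℤ}
    (h : Isoc.IsOrdP (algebraMap (WittVector p k) K(p, k) w) r) : 0 ≤ r := by
  have hw : w ≠ 0 := by
    rintro rfl
    exact isOrdP_ne_zero h (map_zero _)
  obtain ⟨m, u, hu⟩ := WittVector.exists_eq_pow_p_mul' w hw
  have h2 : Isoc.IsOrdP (algebraMap (WittVector p k) K(p, k) w) (m : ℤ) :=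
    ⟨u, by rw [hu, map_mul, map_pow, ι_p, zpow_natCast]⟩
  rw [isOrdP_unique h h2]
  exact Int.natCast_nonneg m

theorem isUnit_of_isOrdP_zero {w : WittVector p k}
    (h : Isoc.IsOrdP (algebraMap (WittVector p k) K(p, k) w) 0) : IsUnit w := by
  obtain ⟨u, hu⟩ := h
  rw [zpow_zero, one_mul] at hu
  rw [ι_injective hu]
  exact u.isUnit

/-- an element of order `≥ 0` lies in `W` -/
theorem mem_range_of_isOrdP {c : K(p, k)} {r : ℤ} (h : Isoc.IsOrdP c r) (hr : 0 ≤ r) :
    ∃ w : WittVector p k, algebraMap (WittVector p k) K(p, k) w = c := by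
  obtain ⟨u, rfl⟩ := h
  obtain ⟨n, rfl⟩ := Int.eq_ofNat_of_zero_le hr
  exact ⟨(p : WittVector p k) ^ n * u, by rw [map_mul, map_pow, ι_p, zpow_natCast]⟩

end OrdP

end Groth.Agent.Lib.Helper90.IsocLib
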