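import Groth.Agent.Lib.Helper90.Isoc4

set_option autoImplicit false

open scoped Pointwise Isocrystal

universe u v w

namespace Groth.Agent.Lib.Helper90.IsocLib

section Coord

variable {p : ℕ} [Fact p.Prime] {k : Type u} [Field k] [CharP k p] [PerfectRing k p]
variable {N : Type v} [AddCommGroup N] [Module (WittVector p k) N] [Module K(p, k) N]
  [IsScalarTower (WittVector p k) K(p, k) N]

/-- a `W`-basis of a lattice, indexed by `Fin (finrank N)` -/
noncomputable def latBasis [Module.Finite K(p, k) N] {M : Submodule (WittVector p k) N}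
    (hM : M.IsLattice K(p, k)) :
    Module.Basis (Fin (Module.finrank K(p, k) N)) (WittVector p k) M :=
  haveI := hM
  Module.finBasisOfFinrankEq (WittVector p k) M (by
    unfold Module.finrank
    rw [Submodule.IsLattice.rank' K(p, k) M])

/-- the corresponding `L`-basis of `N` -/
noncomputable def latBasisL [Module.Finite K(p, k) N] {M : Submodule (WittVector p k) N}
    (hM : M.IsLattice K(p, k)) :
    Module.Basis (Fin (Module.finrank K(p, k) N)) K(p, k) N :=
  haveI := hM
  (latBasis hM).extendOfIsLattice K(p, k)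

theorem latBasisL_apply [Module.Finite K(p, k) N] {M : Submodule (WittVector p k) N}
    (hM : M.IsLattice K(p, k)) (i : Fin (Module.finrank K(p, k) N)) :
    latBasisL hM i = ((latBasis hM i : M) : N) := by
  haveI := hM
  exact Module.Basis.extendOfIsLattice_apply K(p, k) (latBasis hM) i

theorem latBasisL_mem [Module.Finite K(p, k) N] {M : Submodule (WittVector p k) N}
    (hM : M.IsLattice K(p, k)) (i : Fin (Module.finrank K(p, k) N)) :
    latBasisL hM i ∈ M := by
  rw [latBasisL_apply]
  exact Subtype.mem _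

theorem mem_lattice_iff_repr [Module.Finite K(p, k) N] {M : Submodule (WittVector p k) N}
    (hM : M.IsLattice K(p, k)) (x : N) :
    x ∈ M ↔ ∀ i, ∃ w : WittVector p k,
      (latBasisL hM).repr x i = algebraMap (WittVector p k) K(p, k) w := by
  constructor
  · intro hx
    have h1 : x = ∑ i, algebraMap (WittVector p k) K(p, k) ((latBasis hM).repr ⟨x, hx⟩ i) •
        latBasisL hM i := by
      have h2 := (latBasis hM).sum_repr ⟨x, hx⟩
      have h3 := congrArg (Subtype.val) h2
      rw [Submodule.coe_sum] at h3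
      have h4 : x = ∑ i, ((((latBasis hM).repr ⟨x, hx⟩) i • (latBasis hM) i : M) : N) := h3.symm
      refine h4.trans ?_
      refine Finset.sum_congr rfl fun i _ => ?_
      rw [algebraMap_smul, latBasisL_apply]
      rfl
    intro i
    refine ⟨(latBasis hM).repr ⟨x, hx⟩ i, ?_⟩
    conv_lhs => rw [h1]
    rw [Module.Basis.repr_sum_self]
  · intro h
    choose w hw using h
    rw [← (latBasisL hM).sum_repr x]
    refine Submodule.sum_mem _ fun i _ => ?_
    rw [hw i, algebraMap_smul]
    exact M.smul_mem _ (latBasisL_mem hM i)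

theorem mem_pPow_iff_repr [Module.Finite K(p, k) N] {M : Submodule (WittVector p k) N}
    (hM : M.IsLattice K(p, k)) (r : ℤ) (x : N) :
    x ∈ Isoc.pPow r M ↔ ∀ i, ∃ w : WittVector p k,
      (latBasisL hM).repr x i = (p : K(p, k)) ^ r * algebraMap (WittVector p k) K(p, k) w := by
  have h1 : x ∈ Isoc.pPow r M ↔ ((p : K(p, k)) ^ (-r)) • x ∈ M := by
    constructor
    · intro hx
      obtain ⟨y, hy, rfl⟩ := mem_pPow.mp hx
      rw [smul_smul, ← zpow_add₀ p_ne_zero, neg_add_cancel, zpow_zero, one_smul]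
      exact hy
    · intro hx
      refine mem_pPow.mpr ⟨_, hx, ?_⟩
      rw [smul_smul, ← zpow_add₀ p_ne_zero, add_neg_cancel, zpow_zero, one_smul]
  rw [h1, mem_lattice_iff_repr hM]
  refine forall_congr' fun i => exists_congr fun w => ?_
  rw [map_smul, Finsupp.smul_apply, smul_eq_mul, zpow_neg]
  have hp : (p : K(p, k)) ^ r ≠ 0 := zpow_ne_zero r p_ne_zero
  constructor
  · intro h
    rw [← h]
    field_simp
  · intro h
    rw [h]
    field_simp

/-- entries of the matrix of an endomorphism carrying `M` into `M` lie in `W`. -/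
theorem exists_wMatrix [Module.Finite K(p, k) N] {M : Submodule (WittVector p k) N}
    (hM : M.IsLattice K(p, k)) (g : N →ₗ[K(p, k)] N) (hg : ∀ x ∈ M, g x ∈ M) :
    ∃ G : Matrix (Fin (Module.finrank K(p, k) N)) (Fin (Module.finrank K(p, k) N))
      (WittVector p k),
      LinearMap.toMatrix (latBasisL hM) (latBasisL hM) g =
        G.map (algebraMap (WittVector p k) K(p, k)) := by
  have h1 : ∀ i j, ∃ w : WittVector p k,
      LinearMap.toMatrix (latBasisL hM) (latBasisL hM) g i j =
        algebraMap (WittVector p k) K(p, k) w := by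
    intro i j
    rw [LinearMap.toMatrix_apply]
    exact (mem_lattice_iff_repr hM _).mp (hg _ (latBasisL_mem hM j)) i
  choose G hG using h1
  exact ⟨Matrix.of G, by ext i j; rw [hG i j]; rfl⟩

theorem det_mem_range [Module.Finite K(p, k) N] {M : Submodule (WittVector p k) N}
    (hM : M.IsLattice K(p, k)) (g : N →ₗ[K(p, k)] N) (hg : ∀ x ∈ M, g x ∈ M) :
    ∃ w : WittVector p k, LinearMap.det g = algebraMap (WittVector p k) K(p, k) w := by
  obtain ⟨G, hG⟩ := exists_wMatrix hM g hg
  refine ⟨G.det, ?_⟩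
  rw [← LinearMap.det_toMatrix (latBasisL hM), hG]
  exact (RingHom.map_det _ _).symm

/-- index of a pair of `W`-submodules: `g M = M'` with `ord det g = r`. -/
def IsIdx (M M' : Submodule (WittVector p k) N) (r : ℤ) : Prop :=
  ∃ g : N ≃ₗ[K(p, k)] N, (∀ x, x ∈ M ↔ g x ∈ M') ∧
    Isoc.IsOrdP (LinearMap.det (g : N →ₗ[K(p, k)] N)) r

theorem IsIdx.refl (M : Submodule (WittVector p k) N) : IsIdx M M 0 :=
  ⟨LinearEquiv.refl _ _, fun _ => Iff.rfl, by
    have : ((LinearEquiv.refl K(p, k) N : N ≃ₗ[K(p, k)] N) : N →ₗ[K(p, k)] N) = LinearMap.id := rfl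
    rw [this, LinearMap.det_id]
    exact isOrdP_one⟩

theorem IsIdx.trans {M M' M'' : Submodule (WittVector p k) N} {r r' : ℤ}
    (h : IsIdx M M' r) (h' : IsIdx M' M'' r') : IsIdx M M'' (r + r') := by
  obtain ⟨g, hg, hr⟩ := h
  obtain ⟨g', hg', hr'⟩ := h'
  refine ⟨g.trans g', fun x => (hg x).trans (hg' (g x)), ?_⟩
  have : ((g.trans g' : N ≃ₗ[K(p, k)] N) : N →ₗ[K(p, k)] N) =
      (g' : N →ₗ[K(p, k)] N) ∘ₗ (g : N →ₗ[K(p, k)] N) := rfl
  rw [this, LinearMap.det_comp, add_comm]
  exact isOrdP_mul hr' hr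

theorem IsIdx.symm {M M' : Submodule (WittVector p k) N} {r : ℤ}
    (h : IsIdx M M' r) : IsIdx M' M (-r) := by
  obtain ⟨g, hg, hr⟩ := h
  refine ⟨g.symm, fun x => ?_, ?_⟩
  · rw [hg (g.symm x), g.apply_symm_apply]
  · have h1 := LinearEquiv.det_mul_det_symm g
    have h2 : LinearMap.det (g.symm : N →ₗ[K(p, k)] N) =
        (LinearMap.det (g : N →ₗ[K(p, k)] N))⁻¹ := by
      apply eq_inv_of_mul_eq_one_right
      exact h1
    rw [h2]
    exact isOrdP_inv hr

theorem IsIdx.pPow [Module.Finite K(p, k) N] (M : Submodule (WittVector p k) N) (c : ℤ) :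
    IsIdx M (Isoc.pPow c M) (c * (Module.finrank K(p, k) N : ℤ)) := by
  refine ⟨LinearEquiv.smulOfNeZero K(p, k) N ((p : K(p, k)) ^ c) (zpow_ne_zero c p_ne_zero),
    fun x => ?_, ?_⟩
  · rw [LinearEquiv.smulOfNeZero_apply]
    constructor
    · intro hx
      exact smul_mem_pPow hx
    · intro hx
      obtain ⟨y, hy, hyx⟩ := mem_pPow.mp hx
      have : y = x := smul_right_injective N (zpow_ne_zero c p_ne_zero) hyx
      rwa [← this]
  · have h1 : ((LinearEquiv.smulOfNeZero K(p, k) N ((p : K(p, k)) ^ c)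
        (zpow_ne_zero c p_ne_zero) : N ≃ₗ[K(p, k)] N) : N →ₗ[K(p, k)] N) =
        ((p : K(p, k)) ^ c) • LinearMap.id := by
      ext x
      simp
    rw [h1, LinearMap.det_smul, LinearMap.det_id, mul_one]
    exact isOrdP_pow (isOrdP_pzpow c) _

/-- an automorphism preserving a lattice has determinant of order zero -/
theorem isOrdP_det_of_preserves [Module.Finite K(p, k) N] {M : Submodule (WittVector p k) N}
    (hM : M.IsLattice K(p, k)) (g : N ≃ₗ[K(p, k)] N) (hg : ∀ x, x ∈ M ↔ g x ∈ M) :
    Isoc.IsOrdP (LinearMap.det (g : N →ₗ[K(p, k)] N)) 0 := by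
  obtain ⟨w, hw⟩ := det_mem_range hM (g : N →ₗ[K(p, k)] N) (fun x hx => (hg x).mp hx)
  obtain ⟨w', hw'⟩ := det_mem_range hM (g.symm : N →ₗ[K(p, k)] N) (fun x hx => by
    have := (hg (g.symm x)).mpr
    rw [LinearEquiv.coe_coe]
    apply this
    rw [g.apply_symm_apply]
    exact hx)
  have h1 := LinearEquiv.det_mul_det_symm g
  rw [hw, hw', ← map_mul] at h1
  have h2 : w * w' = 1 := ι_injective (by rw [h1, map_one])
  have hu : IsUnit w := IsUnit.of_mul_eq_one _ h2
  rw [hw]
  exact ⟨hu.unit, by simp⟩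

theorem IsIdx.unique [Module.Finite K(p, k) N] {M M' : Submodule (WittVector p k) N}
    (hM : M.IsLattice K(p, k)) {r r' : ℤ} (h : IsIdx M M' r) (h' : IsIdx M M' r') : r = r' := by
  have h1 := h.trans h'.symm
  obtain ⟨g, hg, hr⟩ := h1
  have h2 := isOrdP_det_of_preserves hM g hg
  have := isOrdP_unique hr h2
  omega

theorem IsIdx.exists [Module.Finite K(p, k) N] {M M' : Submodule (WittVector p k) N}
    (hM : M.IsLattice K(p, k)) (hM' : M'.IsLattice K(p, k)) : ∃ r : ℤ, IsIdx M M' r := by
  set g : N ≃ₗ[K(p, k)] N := (latBasisL hM).equiv (latBasisL hM') (Equiv.refl _) with hgdef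
  have hgb : ∀ i, g (latBasisL hM i) = latBasisL hM' i := by
    intro i
    rw [hgdef, Module.Basis.equiv_apply]
    rfl
  have hrepr : ∀ x i, (latBasisL hM').repr (g x) i = (latBasisL hM).repr x i := by
    intro x i
    conv_lhs => rw [← (latBasisL hM).sum_repr x]
    rw [map_sum]
    simp only [map_smul, hgb]
    rw [Module.Basis.repr_sum_self]
  have hdet : LinearMap.det (g : N →ₗ[K(p, k)] N) ≠ 0 := (LinearEquiv.isUnit_det' g).ne_zero
  obtain ⟨r, hr⟩ := isOrdP_exists hdet
  refine ⟨r, g, fun x => ?_, hr⟩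
  rw [mem_lattice_iff_repr hM, mem_lattice_iff_repr hM']
  simp only [hrepr]

theorem IsIdx.nonneg_of_le [Module.Finite K(p, k) N] {M M' : Submodule (WittVector p k) N}
    (hM : M.IsLattice K(p, k)) (hle : M' ≤ M) {r : ℤ} (h : IsIdx M M' r) : 0 ≤ r := by
  obtain ⟨g, hg, hr⟩ := h
  obtain ⟨w, hw⟩ := det_mem_range hM (g : N →ₗ[K(p, k)] N) (fun x hx => hle ((hg x).mp hx))
  rw [hw] at hr
  exact isOrdP_nonneg hr

theorem IsIdx.eq_of_le_of_zero [Module.Finite K(p, k) N] {M M' : Submodule (WittVector p k) N}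
    (hM : M.IsLattice K(p, k)) (hle : M' ≤ M) (h : IsIdx M M' 0) : M' = M := by
  obtain ⟨g, hg, hr⟩ := h
  apply le_antisymm hle
  obtain ⟨G, hG⟩ := exists_wMatrix hM (g : N →ₗ[K(p, k)] N) (fun x hx => hle ((hg x).mp hx))
  have hdet : LinearMap.det (g : N →ₗ[K(p, k)] N) =
      algebraMap (WittVector p k) K(p, k) G.det := by
    rw [← LinearMap.det_toMatrix (latBasisL hM), hG]
    exact (RingHom.map_det _ _).symm
  rw [hdet] at hr
  have hu : IsUnit G.det := isUnit_of_isOrdP_zero hr
  have hinv : G⁻¹ * G = 1 := Matrix.nonsing_inv_mul G hu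
  -- for y ∈ M, g⁻¹ y ∈ M
  intro y hy
  have key : g.symm y ∈ M := by
    rw [mem_lattice_iff_repr hM]
    have h1 : (latBasisL hM).repr y =
        (G.map (algebraMap (WittVector p k) K(p, k))).mulVec ((latBasisL hM).repr (g.symm y)) := by
      rw [← hG, LinearMap.toMatrix_mulVec_repr]
      simp
    have h2 : ((latBasisL hM).repr (g.symm y) : Fin (Module.finrank K(p, k) N) → K(p, k)) =
        ((G⁻¹).map (algebraMap (WittVector p k) K(p, k))).mulVec ((latBasisL hM).repr y) := by
      rw [h1, Matrix.mulVec_mulVec, ← Matrix.map_mul, hinv]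
      simp
    have h3 : ∀ i, ∃ w : WittVector p k,
        (latBasisL hM).repr y i = algebraMap (WittVector p k) K(p, k) w :=
      (mem_lattice_iff_repr hM y).mp hy
    choose c hc using h3
    intro i
    refine ⟨∑ j, (G⁻¹) i j * c j, ?_⟩
    have h4 := congrFun h2 i
    rw [h4, Matrix.mulVec, dotProduct, map_sum]
    refine Finset.sum_congr rfl fun j _ => ?_
    rw [map_mul, Matrix.map_apply, hc j]
  have := (hg (g.symm y)).mp key
  rwa [g.apply_symm_apply] at this

theorem exists_eq_succ_of_chain [Module.Finite K(p, k) N] {A : Submodule (WittVector p k) N}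
    (hA : A.IsLattice K(p, k)) (B : ℕ → Submodule (WittVector p k) N)
    (hmono : ∀ i, B i ≤ B (i + 1)) (h0 : B 0 = A) (hfg : ∀ i, (B i).FG)
    (htop : B (Module.finrank K(p, k) N + 1) ≤ Isoc.pPow (-1) A) :
    ∃ i, i ≤ Module.finrank K(p, k) N ∧ B i = B (i + 1) := by
  by_contra hcon
  push_neg at hcon
  have hAB : ∀ i, A ≤ B i := by
    intro i
    induction i with
    | zero => rw [h0]
    | succ i ih => exact le_trans ih (hmono i)
  have hlat : ∀ i, (B i).IsLattice K(p, k) := fun i =>
    haveI := hA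
    Submodule.IsLattice.of_le_of_isLattice_of_fg K(p, k) (hAB i) (hfg i)
  have key : ∀ j, j ≤ Module.finrank K(p, k) N + 1 → ∃ R : ℤ, (j : ℤ) ≤ R ∧ IsIdx (B j) (B 0) R := by
    intro j
    induction j with
    | zero => intro _; exact ⟨0, le_refl _, IsIdx.refl _⟩
    | succ j ih =>
      intro hj
      obtain ⟨R, hR, hidx⟩ := ih (by omega)
      obtain ⟨r, hr⟩ := IsIdx.exists (hlat (j + 1)) (hlat j)
      have hr0 : 0 ≤ r := IsIdx.nonneg_of_le (hlat (j + 1)) (hmono j) hr
      have hr1 : r ≠ 0 := by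
        rintro rfl
        exact hcon j (by omega) (IsIdx.eq_of_le_of_zero (hlat (j + 1)) (hmono j) hr)
      refine ⟨r + R, ?_, hr.trans hidx⟩
      push_cast
      omega
  obtain ⟨R, hR, hidx⟩ := key (Module.finrank K(p, k) N + 1) le_rfl
  have hlatA' : (Isoc.pPow (-1) A).IsLattice K(p, k) := pPow_isLattice (-1) hA
  obtain ⟨r', hr'⟩ := IsIdx.exists hlatA' (hlat (Module.finrank K(p, k) N + 1))
  have hr'0 : 0 ≤ r' := IsIdx.nonneg_of_le hlatA' htop hr'
  rw [h0] at hidx
  have h1 := hr'.trans hidx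
  have h2 : IsIdx (Isoc.pPow (-1) A) A (Module.finrank K(p, k) N : ℤ) := by
    have := (IsIdx.pPow A (-1)).symm
    simpa using this
  have h3 := IsIdx.unique hlatA' h1 h2
  push_cast at hR
  omega

/-- partial sums `M + F M + ⋯ + F^n M` -/
noncomputable def latSum {τ : K(p, k) →+* K(p, k)} (F : N →ₛₗ[τ] N)
    (M : Submodule (WittVector p k) N) : ℕ → Submodule (WittVector p k) N
  | 0 => M
  | n + 1 => latSum F M n ⊔ Isoc.latImg F (n + 1) M

theorem latSum_succ {τ : K(p, k) →+* K(p, k)} (F : N →ₛₗ[τ] N)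
    (M : Submodule (WittVector p k) N) (n : ℕ) :
    latSum F M (n + 1) = latSum F M n ⊔ Isoc.latImg F (n + 1) M := rfl

theorem latSum_zero {τ : K(p, k) →+* K(p, k)} (F : N →ₛₗ[τ] N)
    (M : Submodule (WittVector p k) N) : latSum F M 0 = M := rfl

theorem exists_stable_lattice {τ : K(p, k) →+* K(p, k)} (hτ : IsWAut τ)
    [Module.Finite K(p, k) N] (F : N →ₛₗ[τ] N)
    {M : Submodule (WittVector p k) N} (hM : M.IsLattice K(p, k))
    (hFM : Isoc.latImg F (Module.finrank K(p, k) N + 1) M ≤ Isoc.pPow (-1) M) :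
    ∃ M'' : Submodule (WittVector p k) N, M''.IsLattice K(p, k) ∧ Isoc.latImg F 1 M'' ≤ M'' := by
  set h := Module.finrank K(p, k) N with hh
  have hmono : ∀ n, latSum F M n ≤ latSum F M (n + 1) := fun n => le_sup_left
  have hmono' : ∀ m n, m ≤ n → latSum F M m ≤ latSum F M n := by
    intro m n hmn
    induction n, hmn using Nat.le_induction with
    | base => exact le_rfl
    | succ n _ ih => exact le_trans ih (hmono n)
  have hfg : ∀ n, (latSum F M n).FG := by
    intro n
    induction n with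
    | zero => exact hM.fg
    | succ n ih => exact ih.sup (latImg_fg hτ F _ hM.fg)
  have hMle : ∀ n, M ≤ latSum F M n := fun n => hmono' 0 n (Nat.zero_le n)
  have himg : ∀ n, Isoc.latImg F n M ≤ latSum F M n := by
    intro n
    cases n with
    | zero => rw [latImg_zero]; exact le_rfl
    | succ n => exact le_sup_right
  have hd : ∀ n, Isoc.latImg F 1 (latSum F M n) ≤ latSum F M (n + 1) := by
    intro n
    induction n with
    | zero => exact le_sup_right
    | succ n ih =>
      rw [latSum_succ F M n, latImg_sup hτ, latSum_succ F M (n + 1)]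
      refine sup_le_sup ih ?_
      rw [← latImg_add hτ, Nat.add_comm 1 (n + 1)]
  have he : ∀ n, Isoc.latImg F (h + 1) (latSum F M n) ≤ Isoc.pPow (-1) (latSum F M n) := by
    have hj : ∀ j, Isoc.latImg F (h + 1) (Isoc.latImg F j M) ≤
        Isoc.pPow (-1) (Isoc.latImg F j M) := by
      intro j
      rw [← latImg_add hτ, Nat.add_comm, latImg_add hτ, ← latImg_pPow hτ]
      exact latImg_mono F j hFM
    intro n
    induction n with
    | zero => exact hFM
    | succ n ih =>
      rw [latSum_succ, latImg_sup hτ, pPow_sup]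
      exact sup_le_sup ih (hj (n + 1))
  have hg : ∀ m, latSum F M (m + (h + 1)) ≤
      latSum F M h ⊔ Isoc.latImg F (h + 1) (latSum F M m) := by
    intro m
    induction m with
    | zero =>
      rw [Nat.zero_add, latSum_succ]
      exact le_rfl
    | succ m ih =>
      have e : m + 1 + (h + 1) = (m + (h + 1)) + 1 := by ring
      rw [e, latSum_succ]
      refine sup_le ?_ ?_
      · refine le_trans ih (sup_le_sup le_rfl ?_)
        exact latImg_mono F _ (hmono m)
      · refine le_trans ?_ le_sup_right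
        have e2 : m + (h + 1) + 1 = (h + 1) + (m + 1) := by ring
        rw [e2, latImg_add hτ]
        exact latImg_mono F _ (himg (m + 1))
  have hA : (latSum F M h).IsLattice K(p, k) :=
    haveI := hM
    Submodule.IsLattice.of_le_of_isLattice_of_fg K(p, k) (hMle h) (hfg h)
  have htop : latSum F M (h + (h + 1)) ≤ Isoc.pPow (-1) (latSum F M h) := by
    refine le_trans (hg h) (sup_le ?_ (he h))
    have := pPow_anti (show (-1 : ℤ) ≤ 0 by norm_num) (latSum F M h)
    rwa [pPow_zero] at this
  obtain ⟨i, hi, hieq⟩ := exists_eq_succ_of_chain hA (fun i => latSum F M (h + i))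
    (fun i => hmono (h + i)) rfl (fun i => hfg (h + i)) htop
  refine ⟨latSum F M (h + i), ?_, ?_⟩
  · haveI := hM
    exact Submodule.IsLattice.of_le_of_isLattice_of_fg K(p, k) (hMle _) (hfg _)
  · refine le_trans (hd (h + i)) ?_
    exact le_of_eq hieq.symm

end Coord

end Groth.Agent.Lib.Helper90.IsocLib
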