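import Groth.Agent.Lib.Helper90.Isoc5

set_option autoImplicit false

open scoped Pointwise Isocrystal
open Filter Topology

universe u v w

namespace Groth.Agent.Lib.Helper90.IsocLib

section Slope

variable {p : ℕ} [Fact p.Prime] {k : Type u} [Field k] [CharP k p] [PerfectRing k p]
variable {N : Type v} [AddCommGroup N] [Module (WittVector p k) N] [Module K(p, k) N]
  [IsScalarTower (WittVector p k) K(p, k) N]
variable {τ : K(p, k) →+* K(p, k)}

theorem latImg_bot (F : N →ₛₗ[τ] N) (s : ℕ) :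
    Isoc.latImg F s (⊥ : Submodule (WittVector p k) N) = ⊥ := by
  unfold Isoc.latImg
  rw [Submodule.span_eq_bot]
  rintro x ⟨y, hy, rfl⟩
  rw [SetLike.mem_coe, Submodule.mem_bot] at hy
  rw [hy]
  exact iterate_zero' F _

theorem pPow_fg (r : ℤ) {M : Submodule (WittVector p k) N} (hM : M.FG) :
    (Isoc.pPow r M).FG := by
  obtain ⟨S, rfl⟩ := hM
  unfold Isoc.pPow
  rw [Submodule.smul_span]
  exact Submodule.fg_span (S.finite_toSet.image _)

/-- weighted partial sums `⨆_{i<t} p^i G^{c i} M` -/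
noncomputable def wSum (G : N →ₛₗ[τ] N) (c : ℕ) (M : Submodule (WittVector p k) N) :
    ℕ → Submodule (WittVector p k) N
  | 0 => ⊥
  | t + 1 => wSum G c M t ⊔ Isoc.pPow (t : ℤ) (Isoc.latImg G (c * t) M)

theorem wSum_succ (G : N →ₛₗ[τ] N) (c : ℕ) (M : Submodule (WittVector p k) N) (t : ℕ) :
    wSum G c M (t + 1) = wSum G c M t ⊔ Isoc.pPow (t : ℤ) (Isoc.latImg G (c * t) M) := rfl

/-- if `G^{ct} M ⊆ p^{-t} M` for some `t ≥ 1`, some lattice `M'` has `G^c M' ⊆ p^{-1} M'`. -/
theorem exists_lattice_of_pow_le (hτ : IsWAut τ) (G : N →ₛₗ[τ] N) (c : ℕ)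
    {M : Submodule (WittVector p k) N} (hM : M.IsLattice K(p, k)) (t : ℕ) (ht : 0 < t)
    (h : Isoc.latImg G (c * t) M ≤ Isoc.pPow (-(t : ℤ)) M) :
    ∃ M' : Submodule (WittVector p k) N, M'.IsLattice K(p, k) ∧
      Isoc.latImg G c M' ≤ Isoc.pPow (-1) M' := by
  have h1 : ∀ u, Isoc.latImg G c (wSum G c M u) ≤ Isoc.pPow (-1) (wSum G c M (u + 1)) := by
    intro u
    induction u with
    | zero =>
      show Isoc.latImg G c ⊥ ≤ _
      rw [latImg_bot]
      exact bot_le
    | succ u ih =>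
      rw [wSum_succ G c M u, latImg_sup hτ, wSum_succ G c M (u + 1), pPow_sup]
      refine sup_le_sup ih ?_
      rw [latImg_pPow hτ, ← latImg_add hτ, pPow_pPow]
      apply le_of_eq
      have e1 : c + c * u = c * (u + 1) := by ring
      have e2 : (-1 : ℤ) + ((u + 1 : ℕ) : ℤ) = (u : ℤ) := by push_cast; ring
      rw [e1, e2]
  have hM1 : M ≤ wSum G c M 1 := by
    rw [wSum_succ]
    refine le_trans ?_ le_sup_right
    rw [Nat.cast_zero, pPow_zero, Nat.mul_zero, latImg_zero]
  have hmono : ∀ u, wSum G c M u ≤ wSum G c M (u + 1) := fun u => le_sup_left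
  have hMt : M ≤ wSum G c M t := by
    obtain ⟨t', rfl⟩ := Nat.exists_eq_succ_of_ne_zero ht.ne'
    clear h ht
    induction t' with
    | zero => exact hM1
    | succ t' ih => exact le_trans ih (hmono _)
  have h2 : wSum G c M (t + 1) ≤ wSum G c M t := by
    rw [wSum_succ]
    refine sup_le le_rfl ?_
    refine le_trans (pPow_mono _ h) ?_
    rw [pPow_pPow, add_neg_cancel, pPow_zero]
    exact hMt
  have hfg : ∀ u, (wSum G c M u).FG := by
    intro u
    induction u with
    | zero => exact Submodule.fg_bot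
    | succ u ih => exact ih.sup (pPow_fg _ (latImg_fg hτ G _ hM.fg))
  refine ⟨wSum G c M t, ?_, ?_⟩
  · haveI := hM
    exact Submodule.IsLattice.of_le_of_isLattice_of_fg K(p, k) hMt (hfg t)
  · exact le_trans (h1 t) (pPow_mono _ h2)

theorem exists_lattice_le_of_le_firstSlope (hτ : IsWAut τ) [Module.Finite K(p, k) N]
    (F : N →ₛₗ[τ] N) {lam : ℝ} (hlam : Isoc.IsFirstSlope F lam) (r : ℤ) (s : ℕ) (hs : 0 < s)
    (hrs : (r : ℝ) / s ≤ lam) :
    ∃ M : Submodule (WittVector p k) N, M.IsLattice K(p, k) ∧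
      Isoc.latImg F s M ≤ Isoc.pPow r M := by
  obtain ⟨M, hM, o, ho, hlim⟩ := hlam
  set h := Module.finrank K(p, k) N with hh
  set G : N →ₛₗ[τ ^ s] N := ((p : K(p, k)) ^ (-r)) • Isoc.iter F s with hG
  have hτs : IsWAut (τ ^ s) := hτ.pow s
  -- find t
  have hsR : (0 : ℝ) < s := by exact_mod_cast hs
  have hhR : (0 : ℝ) < (h : ℝ) + 1 := by positivity
  have hβ : (r : ℝ) / s - 1 / (s * ((h : ℝ) + 1)) < lam := by
    have : (0 : ℝ) < 1 / (s * ((h : ℝ) + 1)) := by positivity
    linarith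
  have hev := hlim.eventually_const_lt hβ
  obtain ⟨J, hJ⟩ := Filter.eventually_atTop.mp hev
  set t := max J 1 with ht
  have ht1 : 1 ≤ t := le_max_right _ _
  set n := s * ((h + 1) * t) with hn
  have hnJ : J ≤ n := by
    have h1 : t ≤ n := by
      rw [hn]
      calc t = 1 * (1 * t) := by ring
        _ ≤ s * ((h + 1) * t) := by
          apply Nat.mul_le_mul hs
          exact Nat.mul_le_mul (by omega) le_rfl
    exact le_trans (le_max_left _ _) h1
  have hnpos : 0 < n := by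
    rw [hn]
    exact Nat.mul_pos hs (Nat.mul_pos (by omega) (by omega))
  have hon := hJ n hnJ
  have hkey : -(t : ℤ) ≤ -r * (((h + 1) * t : ℕ) : ℤ) + o n := by
    have hnR : (0 : ℝ) < n := by exact_mod_cast hnpos
    rw [lt_div_iff₀ hnR] at hon
    have e1 : ((r : ℝ) / s - 1 / (s * ((h : ℝ) + 1))) * (n : ℝ) =
        (r : ℝ) * (((h : ℝ) + 1) * t) - t := by
      rw [hn]
      push_cast
      field_simp
    rw [e1] at hon
    have h3 : (-(t : ℤ) : ℝ) < ((-r * (((h + 1) * t : ℕ) : ℤ) + o n : ℤ) : ℝ) := by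
      push_cast
      linarith
    have h4 : -(t : ℤ) < -r * (((h + 1) * t : ℕ) : ℤ) + o n := by exact_mod_cast h3
    exact h4.le
  have hord := isOrd_twist hτ (F := F) (M := M) (-r) s ((h + 1) * t) (ho n (by omega))
  have hle : Isoc.latImg G ((h + 1) * t) M ≤ Isoc.pPow (-(t : ℤ)) M :=
    le_trans hord.1 (pPow_anti hkey M)
  obtain ⟨M', hM', hM'le⟩ := exists_lattice_of_pow_le hτs G (h + 1) hM t (by omega) hle
  obtain ⟨M'', hM'', hstab⟩ := exists_stable_lattice hτs G hM' hM'le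
  refine ⟨M'', hM'', ?_⟩
  rw [hG, latImg_twist hτ] at hstab
  simp only [Nat.cast_one, mul_one] at hstab
  rw [pPow_le_iff, neg_neg] at hstab
  exact hstab

end Slope

end Groth.Agent.Lib.Helper90.IsocLib
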