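import Groth.Agent.Lib.Helper90.Isoc6

set_option autoImplicit false

open scoped Pointwise Isocrystal
open Filter Topology

universe u v w

namespace Groth.Agent.Lib.Helper90.IsocLib

section Det

variable {p : ℕ} [Fact p.Prime] {k : Type u} [Field k] [CharP k p] [PerfectRing k p]
variable {N : Type v} [AddCommGroup N] [Module (WittVector p k) N] [Module K(p, k) N]
  [IsScalarTower (WittVector p k) K(p, k) N]
variable {τ : K(p, k) →+* K(p, k)}

/-- the matrix of a semilinear map in a basis -/
noncomputable def semiMat {n : ℕ} (b : Module.Basis (Fin n) K(p, k) N) (F : N →ₛₗ[τ] N) :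
    Matrix (Fin n) (Fin n) K(p, k) :=
  Matrix.of fun i j => b.repr (F (b j)) i

theorem detCoeff_eq_det_semiMat {n : ℕ} (b : Module.Basis (Fin n) K(p, k) N) (F : N →ₛₗ[τ] N) :
    Isoc.detCoeff b F = (semiMat b F).det := rfl

theorem semiMat_apply {n : ℕ} (b : Module.Basis (Fin n) K(p, k) N) (F : N →ₛₗ[τ] N)
    (i j : Fin n) : semiMat b F i j = b.repr (F (b j)) i := rfl

theorem semiMat_basis_change {n : ℕ} (b b' : Module.Basis (Fin n) K(p, k) N)
    (F : N →ₛₗ[τ] N) :
    b.toMatrix b' * semiMat b' F = semiMat b F * (b.toMatrix b').map τ := by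
  ext l j
  have h1 : (b.toMatrix b' * semiMat b' F) l j = b.repr (F (b' j)) l := by
    rw [Matrix.mul_apply]
    conv_rhs => rw [← b'.sum_repr (F (b' j))]
    rw [map_sum, Finsupp.coe_finsetSum, Finset.sum_apply]
    refine Finset.sum_congr rfl fun i _ => ?_
    rw [map_smul, Finsupp.smul_apply, smul_eq_mul, semiMat_apply, Module.Basis.toMatrix_apply,
      mul_comm]
  have h2 : (semiMat b F * (b.toMatrix b').map τ) l j = b.repr (F (b' j)) l := by
    rw [Matrix.mul_apply]
    conv_rhs => rw [← b.sum_repr (b' j)]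
    rw [map_sum, map_sum, Finsupp.coe_finsetSum, Finset.sum_apply]
    refine Finset.sum_congr rfl fun i _ => ?_
    rw [map_smulₛₗ, map_smul, Finsupp.smul_apply, smul_eq_mul, semiMat_apply, Matrix.map_apply,
      Module.Basis.toMatrix_apply, mul_comm]
  rw [h1, h2]

theorem detCoeff_basis_change {n : ℕ} (b b' : Module.Basis (Fin n) K(p, k) N)
    (F : N →ₛₗ[τ] N) :
    (b.toMatrix b').det * Isoc.detCoeff b' F = Isoc.detCoeff b F * τ ((b.toMatrix b').det) := by
  rw [detCoeff_eq_det_semiMat, detCoeff_eq_det_semiMat, ← Matrix.det_mul, semiMat_basis_change,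
    Matrix.det_mul, RingHom.map_det]
  rfl

theorem isOrdP_detCoeff_indep (hτ : IsWAut τ) {n : ℕ} (b b' : Module.Basis (Fin n) K(p, k) N)
    (F : N →ₛₗ[τ] N) {d : ℤ} (hd : Isoc.IsOrdP (Isoc.detCoeff b F) d) :
    Isoc.IsOrdP (Isoc.detCoeff b' F) d := by
  have hC : (b.toMatrix b').det ≠ 0 := by
    have h1 : b.toMatrix b' * b'.toMatrix b = 1 := Module.Basis.toMatrix_mul_toMatrix_flip b b'
    have h2 := congrArg Matrix.det h1
    rw [Matrix.det_mul, Matrix.det_one] at h2
    exact left_ne_zero_of_mul_eq_one h2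
  obtain ⟨c, hc⟩ := isOrdP_exists hC
  have hc' := isOrdP_map hτ hc
  have h := detCoeff_basis_change b b' F
  have h3 : Isoc.detCoeff b' F =
      ((b.toMatrix b').det)⁻¹ * (Isoc.detCoeff b F * τ ((b.toMatrix b').det)) := by
    rw [← h, ← mul_assoc, inv_mul_cancel₀ hC, one_mul]
  rw [h3]
  have h4 := isOrdP_mul (isOrdP_inv hc) (isOrdP_mul hd hc')
  have e : -c + (d + c) = d := by ring
  rwa [e] at h4

/-- the linear map with the same values as `F` on the basis `b` -/
noncomputable def linOf {n : ℕ} (b : Module.Basis (Fin n) K(p, k) N) (F : N →ₛₗ[τ] N) :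
    N →ₗ[K(p, k)] N :=
  b.constr K(p, k) (fun j => F (b j))

theorem linOf_basis {n : ℕ} (b : Module.Basis (Fin n) K(p, k) N) (F : N →ₛₗ[τ] N) (j : Fin n) :
    linOf b F (b j) = F (b j) := by
  unfold linOf
  rw [Module.Basis.constr_basis]

theorem toMatrix_linOf {n : ℕ} (b : Module.Basis (Fin n) K(p, k) N) (F : N →ₛₗ[τ] N) :
    LinearMap.toMatrix b b (linOf b F) = semiMat b F := by
  ext i j
  rw [LinearMap.toMatrix_apply, linOf_basis, semiMat_apply]

theorem det_linOf {n : ℕ} (b : Module.Basis (Fin n) K(p, k) N) (F : N →ₛₗ[τ] N) :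
    LinearMap.det (linOf b F) = Isoc.detCoeff b F := by
  rw [← LinearMap.det_toMatrix b, toMatrix_linOf, detCoeff_eq_det_semiMat]

theorem apply_eq_linOf_twist {n : ℕ} (b : Module.Basis (Fin n) K(p, k) N) (F : N →ₛₗ[τ] N)
    (y : N) : F y = linOf b F (∑ i, τ (b.repr y i) • b i) := by
  conv_lhs => rw [← b.sum_repr y]
  rw [map_sum, map_sum]
  refine Finset.sum_congr rfl fun i _ => ?_
  rw [map_smulₛₗ, map_smul, linOf_basis]

theorem isIdx_latImg_one (hτ : IsWAut τ) [Module.Finite K(p, k) N]
    {M : Submodule (WittVector p k) N} (hM : M.IsLattice K(p, k)) (F : N →ₛₗ[τ] N) {d : ℤ}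
    (hd : Isoc.IsOrdP (Isoc.detCoeff (latBasisL hM) F) d) :
    IsIdx M (Isoc.latImg F 1 M) d := by
  set e := latBasisL hM with he
  have hdet : LinearMap.det (linOf e F) ≠ 0 := by
    rw [det_linOf]
    exact isOrdP_ne_zero hd
  have hu : IsUnit (LinearMap.det (linOf e F)) := isUnit_iff_ne_zero.mpr hdet
  refine ⟨LinearMap.equivOfIsUnitDet hu, fun x => ?_, ?_⟩
  · rw [LinearMap.equivOfIsUnitDet_apply, mem_latImg hτ]
    obtain ⟨σ, hσ⟩ := hτ
    constructor
    · intro hx
      have h1 := (mem_lattice_iff_repr hM x).mp hx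
      choose w hw using h1
      refine ⟨∑ i, (σ.symm (w i)) • e i, ?_, ?_⟩
      · exact Submodule.sum_mem _ fun i _ => Submodule.smul_mem _ _ (latBasisL_mem hM i)
      · rw [Function.iterate_one, apply_eq_linOf_twist e F]
        congr 1
        conv_rhs => rw [← e.sum_repr x]
        refine Finset.sum_congr rfl fun i _ => ?_
        congr 1
        rw [map_sum, Finsupp.coe_finsetSum, Finset.sum_apply]
        rw [Finset.sum_eq_single i]
        · rw [← algebraMap_smul K(p, k) (σ.symm (w i)) (e i), map_smul, Finsupp.smul_apply,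
            Module.Basis.repr_self, Finsupp.single_eq_same, smul_eq_mul, mul_one, hσ,
            σ.apply_symm_apply, he, hw i]
        · intro j _ hji
          rw [← algebraMap_smul K(p, k) (σ.symm (w j)) (e j), map_smul, Finsupp.smul_apply,
            Module.Basis.repr_self, Finsupp.single_eq_of_ne hji.symm, smul_zero]
        · intro hi
          exact absurd (Finset.mem_univ i) hi
    · rintro ⟨y, hy, hyx⟩
      rw [Function.iterate_one, apply_eq_linOf_twist e F] at hyx
      have hinj : Function.Injective (linOf e F) := by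
        have := (LinearMap.equivOfIsUnitDet hu).injective
        intro a b hab
        apply this
        rw [LinearMap.equivOfIsUnitDet_apply, LinearMap.equivOfIsUnitDet_apply]
        exact hab
      have hxy := hinj hyx
      rw [← hxy]
      have h1 := (mem_lattice_iff_repr hM y).mp hy
      refine Submodule.sum_mem _ fun i _ => ?_
      obtain ⟨w, hw⟩ := h1 i
      rw [hw, hσ, algebraMap_smul]
      exact Submodule.smul_mem _ _ (latBasisL_mem hM i)
  · rw [LinearMap.coe_equivOfIsUnitDet, det_linOf]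
    exact hd

theorem isIdx_latImg_one' (hτ : IsWAut τ) [Module.Finite K(p, k) N] {n : ℕ}
    (b : Module.Basis (Fin n) K(p, k) N) (F : N →ₛₗ[τ] N) {d : ℤ}
    (hd : Isoc.IsOrdP (Isoc.detCoeff b F) d)
    {M : Submodule (WittVector p k) N} (hM : M.IsLattice K(p, k)) :
    IsIdx M (Isoc.latImg F 1 M) d := by
  have hn : n = Module.finrank K(p, k) N := by
    rw [Module.finrank_eq_card_basis b, Fintype.card_fin]
  subst hn
  exact isIdx_latImg_one hτ hM F (isOrdP_detCoeff_indep hτ b _ F hd)

theorem isIdx_latImg (hτ : IsWAut τ) [Module.Finite K(p, k) N] {n : ℕ}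
    (b : Module.Basis (Fin n) K(p, k) N) {F : N →ₛₗ[τ] N} (hF : Function.Surjective F) {d : ℤ}
    (hd : Isoc.IsOrdP (Isoc.detCoeff b F) d)
    {M : Submodule (WittVector p k) N} (hM : M.IsLattice K(p, k)) (j : ℕ) :
    IsIdx M (Isoc.latImg F j M) ((j : ℤ) * d) := by
  induction j with
  | zero =>
    rw [latImg_zero]
    simpa using IsIdx.refl M
  | succ j ih =>
    have h1 := isIdx_latImg_one' hτ b F hd (latImg_isLattice hτ hF j hM)
    rw [← latImg_add hτ] at h1
    have h2 := ih.trans h1
    have e : ((j + 1 : ℕ) : ℤ) * d = (j : ℤ) * d + d := by push_cast; ring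
    rw [e, Nat.add_comm j 1]
    exact h2

theorem detCoeff_ne_zero (hτ : IsWAut τ) {n : ℕ} (b : Module.Basis (Fin n) K(p, k) N)
    {F : N →ₛₗ[τ] N} (hF : Function.Injective F) : Isoc.detCoeff b F ≠ 0 := by
  intro h0
  rw [detCoeff_eq_det_semiMat] at h0
  obtain ⟨v, hv0, hv⟩ := Matrix.exists_mulVec_eq_zero_iff.mpr h0
  have hsurj := hτ.surjective
  choose u hu using hsurj
  have h1 : ∑ j, v j • F (b j) = 0 := by
    apply b.repr.injective
    ext i
    rw [map_sum, Finsupp.coe_finsetSum, Finset.sum_apply, map_zero, Finsupp.zero_apply]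
    have h2 := congrFun hv i
    rw [Matrix.mulVec, dotProduct] at h2
    rw [Pi.zero_apply] at h2
    rw [← h2]
    refine Finset.sum_congr rfl fun j _ => ?_
    rw [map_smul, Finsupp.smul_apply, smul_eq_mul, semiMat_apply, mul_comm]
  have h3 : F (∑ j, u (v j) • b j) = 0 := by
    rw [map_sum, ← h1]
    refine Finset.sum_congr rfl fun j _ => ?_
    rw [map_smulₛₗ, hu]
  have h4 : ∑ j, u (v j) • b j = 0 := hF (by rw [h3, map_zero])
  have h5 := Fintype.linearIndependent_iff.mp b.linearIndependent (fun j => u (v j)) h4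
  apply hv0
  ext j
  rw [← hu (v j), h5 j, map_zero, Pi.zero_apply]

theorem exists_isOrdP_detCoeff (hτ : IsWAut τ) {n : ℕ} (b : Module.Basis (Fin n) K(p, k) N)
    {F : N →ₛₗ[τ] N} (hF : Function.Injective F) : ∃ d : ℤ, Isoc.IsOrdP (Isoc.detCoeff b F) d :=
  isOrdP_exists (detCoeff_ne_zero hτ b hF)

end Det

end Groth.Agent.Lib.Helper90.IsocLib
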