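import Groth.Agent.Lib.Helper90.Isoc7

set_option autoImplicit false

open scoped Pointwise Isocrystal
open Filter Topology

universe u v w

namespace Groth.Agent.Lib.Helper90.IsocLib

section Reals

/-- elementary: if no integer lies in `(sλ, sλ + 1/(h+1)]` for all `s ≥ 1`, then `λ = r/s`
with `0 < s ≤ h`. -/
theorem exists_rat_of_forall_gap (lam : ℝ) (h : ℕ) (hh : 0 < h)
    (hB : ∀ (s : ℕ) (r : ℤ), 0 < s → (r : ℝ) ≤ s * lam + 1 / ((h : ℝ) + 1) → (r : ℝ) ≤ s * lam) :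
    ∃ (r : ℤ) (s : ℕ), 0 < s ∧ s ≤ h ∧ lam = (r : ℝ) / s := by
  obtain ⟨s, hs, hsh, habs⟩ := Real.exists_nat_abs_mul_sub_round_le lam hh
  set r : ℤ := round ((s : ℝ) * lam) with hr
  have hsR : (0 : ℝ) < s := by exact_mod_cast hs
  have hh1 : (0 : ℝ) < (h : ℝ) + 1 := by positivity
  rw [abs_le] at habs
  obtain ⟨hlo, hhi⟩ := habs
  have h1 : (r : ℝ) ≤ s * lam := hB s r hs (by linarith)
  set ε : ℝ := s * lam - r with hε
  have hε0 : 0 ≤ ε := by rw [hε]; linarith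
  have hε1 : ε ≤ 1 / ((h : ℝ) + 1) := hhi
  rcases hε0.eq_or_lt with h0 | hpos
  · refine ⟨r, s, hs, hsh, ?_⟩
    rw [eq_div_iff hsR.ne']
    rw [hε] at h0
    linarith
  · exfalso
    set q : ℝ := (h : ℝ) / (((h : ℝ) + 1) * ε) with hq
    have hqpos : 0 < q := by
      rw [hq]
      have : (0 : ℝ) < h := by exact_mod_cast hh
      positivity
    set n : ℕ := ⌈q⌉₊ with hn
    have hn1 : 0 < n := Nat.ceil_pos.mpr hqpos
    have hnq : q ≤ n := Nat.le_ceil q
    have hnq' : (n : ℝ) < q + 1 := Nat.ceil_lt_add_one hqpos.le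
    have hqe : q * ε = (h : ℝ) / ((h : ℝ) + 1) := by
      rw [hq]
      field_simp
    have h2 : (h : ℝ) / ((h : ℝ) + 1) ≤ n * ε := by
      rw [← hqe]
      exact mul_le_mul_of_nonneg_right hnq hpos.le
    have h3 : (n : ℝ) * ε < 1 := by
      have h4 : (n : ℝ) * ε < (q + 1) * ε := mul_lt_mul_of_pos_right hnq' hpos
      have h5 : (q + 1) * ε = (h : ℝ) / ((h : ℝ) + 1) + ε := by rw [add_mul, hqe, one_mul]
      have h6 : (h : ℝ) / ((h : ℝ) + 1) + 1 / ((h : ℝ) + 1) = 1 := by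
        field_simp
      linarith
    have h7 : ((n * r + 1 : ℤ) : ℝ) ≤ ((n * s : ℕ) : ℝ) * lam + 1 / ((h : ℝ) + 1) := by
      push_cast
      have h6 : (h : ℝ) / ((h : ℝ) + 1) + 1 / ((h : ℝ) + 1) = 1 := by
        field_simp
      have h8 : (n : ℝ) * ε = n * s * lam - n * r := by rw [hε]; ring
      linarith
    have h9 := hB (n * s) (n * r + 1) (Nat.mul_pos hn1 hs) h7
    push_cast at h9
    have h8 : (n : ℝ) * ε = n * s * lam - n * r := by rw [hε]; ring
    linarith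

end Reals

section Slope2

variable {p : ℕ} [Fact p.Prime] {k : Type u} [Field k] [CharP k p] [PerfectRing k p]
variable {N : Type v} [AddCommGroup N] [Module (WittVector p k) N] [Module K(p, k) N]
  [IsScalarTower (WittVector p k) K(p, k) N]
variable {τ : K(p, k) →+* K(p, k)}

/-- any lattice bound `F^s M ⊆ p^r M` bounds the first slope from below -/
theorem div_le_firstSlope_of_latImg_le (hτ : IsWAut τ) (F : N →ₛₗ[τ] N) {lam : ℝ}
    (hlam : Isoc.IsFirstSlope F lam) {M : Submodule (WittVector p k) N}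
    (hM : M.IsLattice K(p, k)) {s : ℕ} (hs : 0 < s) {r : ℤ}
    (h : Isoc.latImg F s M ≤ Isoc.pPow r M) : (r : ℝ) / s ≤ lam := by
  obtain ⟨M₀, hM₀, o, ho, hlim⟩ := hlam
  obtain ⟨c₁, hc₁⟩ := exists_pPow_le hM₀.fg hM.span_eq_top
  obtain ⟨c₂, hc₂⟩ := exists_pPow_le hM.fg hM₀.span_eq_top
  have key : ∀ n : ℕ, 1 ≤ n → r * n - c₁ - c₂ ≤ o (s * n) := by
    intro n hn
    have h1 := latImg_mul_le hτ h n
    have h2 : Isoc.latImg F (s * n) M₀ ≤ Isoc.pPow (r * n - c₁ - c₂) M₀ := by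
      have h3 : Isoc.latImg F (s * n) (Isoc.pPow c₁ M₀) ≤ Isoc.pPow (r * n) M :=
        le_trans (latImg_mono F _ hc₁) h1
      rw [latImg_pPow hτ, pPow_le_iff, pPow_pPow] at h3
      refine le_trans h3 ?_
      rw [pPow_le_iff] at hc₂
      refine le_trans (pPow_mono _ hc₂) ?_
      rw [pPow_pPow]
      apply le_of_eq
      congr 1
      ring
    by_contra hlt
    push_neg at hlt
    have h4 : o (s * n) + 1 ≤ r * n - c₁ - c₂ := by omega
    exact (ho (s * n) (Nat.mul_pos hs hn)).2 (le_trans h2 (pPow_anti h4 M₀))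
  have hmul : Tendsto (fun j : ℕ => s * j) atTop atTop :=
    Filter.tendsto_atTop_atTop.mpr fun b =>
      ⟨b, fun j hj => le_trans hj (Nat.le_mul_of_pos_left j hs)⟩
  have h1 : Tendsto (fun j : ℕ => (o (s * j) : ℝ) / ((s * j : ℕ) : ℝ)) atTop (𝓝 lam) :=
    hlim.comp hmul
  have h2 : Tendsto (fun j : ℕ => (r : ℝ) / s - (((c₁ : ℝ) + c₂) / s) / (j : ℝ)) atTop
      (𝓝 ((r : ℝ) / s - 0)) :=
    tendsto_const_nhds.sub (tendsto_const_div_atTop_nhds_zero_nat _)
  rw [sub_zero] at h2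
  refine le_of_tendsto_of_tendsto h2 h1 ?_
  filter_upwards [Filter.eventually_ge_atTop 1] with j hj
  have hj' : (0 : ℝ) < j := by
    have : (1 : ℝ) ≤ j := by exact_mod_cast hj
    linarith
  have hsR : (0 : ℝ) < s := by exact_mod_cast hs
  have hk := key j hj
  have hk' : (r : ℝ) * j - c₁ - c₂ ≤ (o (s * j) : ℝ) := by exact_mod_cast hk
  have hsj : (0 : ℝ) < ((s * j : ℕ) : ℝ) := by push_cast; positivity
  rw [le_div_iff₀ hsj]
  push_cast
  have e : ((r : ℝ) / s - ((c₁ : ℝ) + c₂) / s / j) * (s * j) = r * j - c₁ - c₂ := by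
    field_simp
    ring
  rw [e]
  exact hk'

/-- improved lattice criterion: slack `1/(s(h+1))` allowed -/
theorem exists_lattice_le_of_le_firstSlope_add (hτ : IsWAut τ) [Module.Finite K(p, k) N]
    (F : N →ₛₗ[τ] N) {lam : ℝ} (hlam : Isoc.IsFirstSlope F lam) (r : ℤ) (s : ℕ) (hs : 0 < s)
    (hrs : (r : ℝ) ≤ s * lam + 1 / ((Module.finrank K(p, k) N : ℝ) + 1)) :
    ∃ M : Submodule (WittVector p k) N, M.IsLattice K(p, k) ∧
      Isoc.latImg F s M ≤ Isoc.pPow r M := by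
  set h := Module.finrank K(p, k) N with hh
  have hsR : (0 : ℝ) < s := by exact_mod_cast hs
  have hh1 : (0 : ℝ) < (h : ℝ) + 1 := by positivity
  have h1 : ((r * (h + 1) - 1 : ℤ) : ℝ) / ((s * (h + 1) : ℕ) : ℝ) ≤ lam := by
    have hpos : (0 : ℝ) < ((s * (h + 1) : ℕ) : ℝ) := by push_cast; positivity
    rw [div_le_iff₀ hpos]
    push_cast
    have h2 : (r : ℝ) * ((h : ℝ) + 1) ≤ (s * lam + 1 / ((h : ℝ) + 1)) * ((h : ℝ) + 1) :=
      mul_le_mul_of_nonneg_right hrs hh1.le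
    have h3 : (s * lam + 1 / ((h : ℝ) + 1)) * ((h : ℝ) + 1) = s * lam * ((h : ℝ) + 1) + 1 := by
      field_simp
    rw [h3] at h2
    linarith
  obtain ⟨M, hM, hle⟩ := exists_lattice_le_of_le_firstSlope hτ F hlam (r * (h + 1) - 1)
    (s * (h + 1)) (Nat.mul_pos hs (Nat.succ_pos h)) h1
  set G : N →ₛₗ[τ ^ s] N := ((p : K(p, k)) ^ (-r)) • Isoc.iter F s with hG
  have hτs : IsWAut (τ ^ s) := hτ.pow s
  have hGle : Isoc.latImg G (h + 1) M ≤ Isoc.pPow (-1) M := by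
    rw [hG, latImg_twist hτ]
    refine le_trans (pPow_mono _ hle) ?_
    rw [pPow_pPow]
    apply le_of_eq
    congr 1
    push_cast
    ring
  obtain ⟨M'', hM'', hstab⟩ := exists_stable_lattice hτs G hM hGle
  refine ⟨M'', hM'', ?_⟩
  rw [hG, latImg_twist hτ] at hstab
  simp only [Nat.cast_one, mul_one] at hstab
  rw [pPow_le_iff, neg_neg] at hstab
  exact hstab

end Slope2

end Groth.Agent.Lib.Helper90.IsocLib
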