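import Mathlib
import Groth.Prelude.Def_KZero

/-!
# Classes of finite modules in the Grothendieck group `K₀'(A)`
-/

namespace Groth.Agent.Lib.Helper90.K0Mod

open CategoryTheory

universe u

section Abstract

variable {C : Type*} [Category C] [Abelian C] (P : ObjectProperty C)

lemma clSub_add (S : ShortComplex C) (h₁ : P S.X₁) (h₂ : P S.X₂) (h₃ : P S.X₃)
    (hS : S.ShortExact) :
    KZero.clSub P S.X₂ = KZero.clSub P S.X₁ + KZero.clSub P S.X₃ := by
  unfold KZero.clSub
  rw [dif_pos h₁, dif_pos h₂, dif_pos h₃, ← QuotientAddGroup.mk_add, QuotientAddGroup.eq]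
  have hmem : FreeAbelianGroup.of (⟨S.X₂, h₂⟩ : Subtype P) - FreeAbelianGroup.of ⟨S.X₁, h₁⟩ -
      FreeAbelianGroup.of ⟨S.X₃, h₃⟩ ∈ KZero.relSub P :=
    AddSubgroup.subset_closure ⟨S, h₁, h₂, h₃, hS, rfl⟩
  have := (KZero.relSub P).neg_mem hmem
  convert this using 1
  abel

end Abstract

section Mod

variable (A : Type u) [CommRing A]

/-- the property of being a finite module. -/
abbrev FinP : ObjectProperty (ModuleCat.{u} A) := fun X => Module.Finite A X

/-- the class of a module in `K₀'(A)` (zero unless the module is finite). -/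
noncomputable def cl (X : Type u) [AddCommGroup X] [Module A X] : KZero.K0sub (FinP A) :=
  KZero.clSub (FinP A) (ModuleCat.of A X)

variable {A}
variable {X Y Z : Type u} [AddCommGroup X] [Module A X] [AddCommGroup Y] [Module A Y]
  [AddCommGroup Z] [Module A Z]

/-- additivity of the class on short exact sequences. -/
lemma cl_add_of_exact [Module.Finite A X] [Module.Finite A Y] [Module.Finite A Z]
    (f : X →ₗ[A] Y) (g : Y →ₗ[A] Z) (hf : Function.Injective f) (hg : Function.Surjective g)
    (hfg : Function.Exact f g) : cl A Y = cl A X + cl A Z := by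
  have h := clSub_add (FinP A) (ModuleCat.shortComplexOfCompEqZero f g hfg.linearMap_comp_eq_zero)
    (by change Module.Finite A X; infer_instance) (by change Module.Finite A Y; infer_instance)
    (by change Module.Finite A Z; infer_instance)
    (ModuleCat.shortComplex_shortExact _ hfg hf hg)
  exact h

lemma cl_punit : cl A PUnit.{u + 1} = 0 := by
  have h := cl_add_of_exact (A := A) (0 : PUnit.{u + 1} →ₗ[A] PUnit.{u + 1})
    (0 : PUnit.{u + 1} →ₗ[A] PUnit.{u + 1})
    (fun _ _ _ => Subsingleton.elim _ _) (fun _ => ⟨PUnit.unit, Subsingleton.elim _ _⟩)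
    (fun _ => ⟨fun _ => ⟨PUnit.unit, Subsingleton.elim _ _⟩, fun _ => Subsingleton.elim _ _⟩)
  exact left_eq_add.mp h |>.symm ▸ rfl

end Mod

end Groth.Agent.Lib.Helper90.K0Mod
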