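import Mathlib
import Groth.Agent.Lib.Helper90.K0Mod

/-!
# Classes in `K₀'(A)`: isomorphism invariance and the kernel/image formula for submodules
-/

namespace Groth.Agent.Lib.Helper90.K0Mod

open CategoryTheory

universe u

variable {A : Type u} [CommRing A]
variable {X Y : Type u} [AddCommGroup X] [Module A X] [AddCommGroup Y] [Module A Y]

lemma cl_congr [Module.Finite A X] (e : X ≃ₗ[A] Y) : cl A X = cl A Y := by
  haveI : Module.Finite A Y := Module.Finite.equiv e
  have h := cl_add_of_exact (A := A) (0 : PUnit.{u + 1} →ₗ[A] X) e.toLinearMap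
    (fun _ _ _ => Subsingleton.elim _ _) e.surjective
    (fun x => ⟨fun hx => ⟨PUnit.unit, by
      have : x = 0 := e.injective (by rw [map_zero]; exact hx)
      rw [this]; rfl⟩, fun ⟨_, hx⟩ => by
      rw [← hx]
      simp⟩)
  rw [h, cl_punit, zero_add]

lemma cl_of_subsingleton [Subsingleton X] : cl A X = 0 := by
  have e : X ≃ₗ[A] PUnit.{u + 1} :=
    { toFun := fun _ => PUnit.unit
      map_add' := fun _ _ => rfl
      map_smul' := fun _ _ => rfl
      invFun := fun _ => 0
      left_inv := fun _ => Subsingleton.elim _ _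
      right_inv := fun _ => rfl }
  rw [cl_congr e, cl_punit]

lemma cl_bot : cl A ↥(⊥ : Submodule A X) = 0 := cl_of_subsingleton

/-- `[N] = [N ∩ ker φ] + [φ(N)]` for a Noetherian submodule `N`. -/
lemma cl_eq_inf_ker_add_map (φ : X →ₗ[A] Y) (N : Submodule A X) [IsNoetherian A ↥N] :
    cl A ↥N = cl A ↥(N ⊓ LinearMap.ker φ) + cl A ↥(N.map φ) := by
  haveI : Module.Finite A ↥N := inferInstance
  have hle : N ⊓ LinearMap.ker φ ≤ N := inf_le_left
  haveI : IsNoetherian A ↥(N ⊓ LinearMap.ker φ) := isNoetherian_of_le hle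
  haveI : Module.Finite A ↥(N ⊓ LinearMap.ker φ) := inferInstance
  let g : ↥N →ₗ[A] ↥(N.map φ) := φ.submoduleMap N
  have hg : Function.Surjective g := φ.submoduleMap_surjective N
  haveI : Module.Finite A ↥(N.map φ) := Module.Finite.of_surjective g hg
  let f : ↥(N ⊓ LinearMap.ker φ) →ₗ[A] ↥N := Submodule.inclusion hle
  have hf : Function.Injective f := Submodule.inclusion_injective hle
  refine cl_add_of_exact f g hf hg ?_
  intro x
  constructor
  · intro hx
    have hx' : φ x.1 = 0 := by
      have := congrArg Subtype.val hx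
      simpa [g] using this
    exact ⟨⟨x.1, x.2, hx'⟩, Subtype.ext rfl⟩
  · rintro ⟨y, rfl⟩
    apply Subtype.ext
    have := y.2.2
    simpa [g, f] using this

lemma cl_map_of_injective (φ : X →ₗ[A] Y) (hφ : Function.Injective φ) (N : Submodule A X)
    [Module.Finite A ↥N] : cl A ↥(N.map φ) = cl A ↥N :=
  (cl_congr (Submodule.equivMapOfInjective φ hφ N)).symm

/-- Noetherianity of a submodule from that of its kernel part and its image. -/
lemma isNoetherian_of_inf_ker_of_map (φ : X →ₗ[A] Y) (N : Submodule A X)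
    [h1 : IsNoetherian A ↥(N ⊓ LinearMap.ker φ)] [h2 : IsNoetherian A ↥(N.map φ)] :
    IsNoetherian A ↥N := by
  have hle : N ⊓ LinearMap.ker φ ≤ N := inf_le_left
  let g : ↥N →ₗ[A] ↥(N.map φ) := φ.submoduleMap N
  let f : ↥(N ⊓ LinearMap.ker φ) →ₗ[A] ↥N := Submodule.inclusion hle
  apply isNoetherian_of_range_eq_ker f g
  ext x
  rw [LinearMap.mem_range, LinearMap.mem_ker]
  constructor
  · rintro ⟨y, rfl⟩
    apply Subtype.ext
    have := y.2.2
    simpa [g, f] using this
  · intro hx
    have hx' : φ x.1 = 0 := by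
      have := congrArg Subtype.val hx
      simpa [g] using this
    exact ⟨⟨x.1, x.2, hx'⟩, Subtype.ext rfl⟩

end Groth.Agent.Lib.Helper90.K0Mod
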