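import Mathlib
import Groth.Agent.Lib.Helper90.HilbSerre2
import Groth.Agent.Lib.Helper90.HilbPolyG
import Groth.Agent.Lib.Helper90.K0Mod2

/-!
# Hilbert–Serre with values in `K₀'(A₀)`
-/

namespace Groth.Agent.Lib.Helper90.HilbSerre

open MvPolynomial Module HilbPoly K0Mod

universe u

section

variable {A₀ : Type u} [CommRing A₀] {d : ℕ}

/-- if all variables kill a Noetherian `A₀[X]`-module, it is Noetherian over `A₀`. -/
lemma isNoetherian_of_kill {M : Type u} [AddCommGroup M] [Module (MvPolynomial (Fin d) A₀) M]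
    [Module A₀ M] [IsScalarTower A₀ (MvPolynomial (Fin d) A₀) M]
    [IsNoetherian (MvPolynomial (Fin d) A₀) M]
    (hkill : ∀ (k : Fin d) (m : M), (X k : MvPolynomial (Fin d) A₀) • m = 0) :
    IsNoetherian A₀ M := by
  constructor
  intro N
  let N' : Submodule (MvPolynomial (Fin d) A₀) M :=
    { carrier := N
      add_mem' := N.add_mem
      zero_mem' := N.zero_mem
      smul_mem' := fun p m hm => by
        show p • m ∈ N
        rw [smul_eq_constantCoeff_smul hkill]
        exact N.smul_mem _ hm }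
  obtain ⟨s, hs⟩ := IsNoetherian.noetherian N'
  refine ⟨s, ?_⟩
  apply le_antisymm
  · rw [Submodule.span_le]
    intro x hx
    have : x ∈ N' := hs ▸ Submodule.subset_span hx
    exact this
  · have key : ∀ n ∈ Submodule.span (MvPolynomial (Fin d) A₀) (s : Set M),
        n ∈ Submodule.span A₀ (s : Set M) := by
      intro n hn'
      induction hn' using Submodule.span_induction with
      | mem x hx => exact Submodule.subset_span hx
      | zero => exact Submodule.zero_mem _
      | add x y _ _ hx hy => exact Submodule.add_mem _ hx hy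
      | smul p x _ hx =>
        rw [smul_eq_constantCoeff_smul hkill]
        exact Submodule.smul_mem _ _ hx
    intro n hn
    exact key n (hs ▸ (show n ∈ N' from hn))

/-- the `K₀'`-class function of a graded module. -/
noncomputable def clFn {M : Type u} [AddCommGroup M] [Module A₀ M] (ℳ : ℕ → Submodule A₀ M) :
    ℕ → KZero.K0sub (FinP A₀) := fun i => cl A₀ ↥(ℳ i)

theorem k0HilbertSerre_aux (j : ℕ) :
    ∀ {M : Type u} [AddCommGroup M] [Module (MvPolynomial (Fin d) A₀) M] [Module A₀ M]
      [IsScalarTower A₀ (MvPolynomial (Fin d) A₀) M] [IsNoetherian (MvPolynomial (Fin d) A₀) M]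
      (ℳ : ℕ → Submodule A₀ M), IsGr (d := d) ℳ →
      (∀ k : Fin d, j ≤ k.val → ∀ m : M, (X k : MvPolynomial (Fin d) A₀) • m = 0) →
      (∀ i, IsNoetherian A₀ ↥(ℳ i)) ∧ PLG j (clFn ℳ) := by
  induction j with
  | zero =>
    intro M _ _ _ _ _ ℳ hG hkill
    have hkill' : ∀ (k : Fin d) (m : M), (X k : MvPolynomial (Fin d) A₀) • m = 0 :=
      fun k m => hkill k (Nat.zero_le _) m
    haveI : IsNoetherian A₀ M := isNoetherian_of_kill hkill'
    refine ⟨fun i => inferInstance, ?_⟩
    obtain ⟨N, hN⟩ := eventually_bot_of_kill hG hkill'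
    apply PLG_zero_of_eventually_zero N
    intro i hi
    simp only [clFn]
    rw [hN i hi]
    exact cl_bot
  | succ j ih =>
    intro M _ _ _ _ _ ℳ hG hkill
    by_cases hj : j < d
    · let k₀ : Fin d := ⟨j, hj⟩
      -- the kernel
      have hK := ih (M := ↥(LinearMap.ker (mulX A₀ M k₀))) (kerGr k₀ ℳ) (isGr_kerGr k₀ hG) (by
        intro k hk y
        apply Subtype.ext
        rw [Submodule.coe_smul, Submodule.coe_zero]
        rcases Nat.lt_or_ge j k.val with h | h
        · exact hkill k h _
        · have : k = k₀ := Fin.ext (le_antisymm h hk)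
          rw [this]
          exact y.2)
      -- the cokernel
      have hQ := ih (M := M ⧸ LinearMap.range (mulX A₀ M k₀)) (quotGr k₀ ℳ) (isGr_quotGr k₀ hG) (by
        intro k hk y
        obtain ⟨m, rfl⟩ := Submodule.Quotient.mk_surjective _ y
        rw [← Submodule.Quotient.mk_smul]
        rcases Nat.lt_or_ge j k.val with h | h
        · rw [hkill k h, Submodule.Quotient.mk_zero]
        · have : k = k₀ := Fin.ext (le_antisymm h hk)
          rw [this, Submodule.Quotient.mk_eq_zero]
          exact ⟨m, rfl⟩)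
      -- Noetherianity of the graded pieces
      have hNoeth : ∀ i, IsNoetherian A₀ ↥(ℳ i) := by
        intro i
        induction i with
        | zero =>
          haveI : IsNoetherian A₀ ↥(ℳ 0 ⊓ LinearMap.ker (qmap A₀ M k₀)) := by
            rw [inf_ker_qmap_zero k₀ hG]
            infer_instance
          haveI : IsNoetherian A₀ ↥((ℳ 0).map (qmap A₀ M k₀)) := by
            rw [map_qmap]
            exact hQ.1 0
          exact isNoetherian_of_inf_ker_of_map (qmap A₀ M k₀) (ℳ 0)
        | succ i ihi =>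
          haveI := ihi
          haveI : IsNoetherian A₀ ↥(ℳ (i + 1) ⊓ LinearMap.ker (qmap A₀ M k₀)) := by
            rw [inf_ker_qmap_succ k₀ hG]
            exact isNoetherian_of_surjective ((mulX₀ A₀ M k₀).submoduleMap (ℳ i))
              (LinearMap.range_eq_top.mpr ((mulX₀ A₀ M k₀).submoduleMap_surjective (ℳ i)))
          haveI : IsNoetherian A₀ ↥((ℳ (i + 1)).map (qmap A₀ M k₀)) := by
            rw [map_qmap]
            exact hQ.1 (i + 1)
          exact isNoetherian_of_inf_ker_of_map (qmap A₀ M k₀) (ℳ (i + 1))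
      refine ⟨hNoeth, ?_⟩
      apply PLG_of_diff hQ.2 hK.2
      intro i
      simp only [clFn]
      haveI := hNoeth i
      haveI := hNoeth (i + 1)
      haveI := hK.1 i
      have e1 : cl A₀ ↥(ℳ i) = cl A₀ ↥(kerGr k₀ ℳ i) +
          cl A₀ ↥((ℳ i).map (mulX₀ A₀ M k₀)) := by
        rw [cl_eq_inf_ker_add_map (mulX₀ A₀ M k₀) (ℳ i), ← map_kincl,
          cl_map_of_injective _ (kincl_injective k₀)]
      have e2 : cl A₀ ↥(ℳ (i + 1)) = cl A₀ ↥((ℳ i).map (mulX₀ A₀ M k₀)) +
          cl A₀ ↥(quotGr k₀ ℳ (i + 1)) := by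
        rw [cl_eq_inf_ker_add_map (qmap A₀ M k₀) (ℳ (i + 1)), inf_ker_qmap_succ k₀ hG, map_qmap]
      rw [e1, e2]
      abel
    · have h := ih ℳ hG (fun k hk => absurd (lt_of_le_of_lt hk k.2) hj)
      exact ⟨h.1, h.2.mono (Nat.le_succ j)⟩

/-- **Hilbert–Serre in `K₀'(A₀)`**: for a Noetherian graded module over `A₀[X_1..X_d]`, the
classes of the graded pieces are eventually an integer-polynomial combination of fixed classes. -/
theorem k0HilbertSerre {M : Type u} [AddCommGroup M] [Module (MvPolynomial (Fin d) A₀) M]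
    [Module A₀ M] [IsScalarTower A₀ (MvPolynomial (Fin d) A₀) M]
    [IsNoetherian (MvPolynomial (Fin d) A₀) M]
    (ℳ : ℕ → Submodule A₀ M) (hG : IsGr (d := d) ℳ) :
    (∀ i, IsNoetherian A₀ ↥(ℳ i)) ∧ PLG d (clFn ℳ) :=
  k0HilbertSerre_aux d ℳ hG (fun k hk => absurd hk (not_le.mpr k.2))

end

end Groth.Agent.Lib.Helper90.HilbSerre
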