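import Mathlib
import Groth.Agent.Lib.Helper90.K0HilbSerre

/-!
# Hilbert–Serre in `K₀'(A)` for graded rings generated in degree one
-/

namespace Groth.Agent.Lib.Helper90.HilbSerre

open MvPolynomial Module HilbPoly K0Mod DirectSum

universe u

section Generators

variable {A S : Type u} [CommRing A] [CommRing S] [Algebra A S]
  (𝒜 : ℕ → Submodule A S) [GradedAlgebra 𝒜]

/-- finitely many degree-one generators of the irrelevant ideal. -/
lemma exists_generators [IsNoetherianRing S]
    (h1 : (HomogeneousIdeal.irrelevant 𝒜).toIdeal = Ideal.span (𝒜 1 : Set S)) :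
    ∃ (d : ℕ) (x : Fin d → S), (∀ k, x k ∈ 𝒜 1) ∧
      Ideal.span (Set.range x) = (HomogeneousIdeal.irrelevant 𝒜).toIdeal := by
  have hfg : (Ideal.span (𝒜 1 : Set S)).FG := IsNoetherian.noetherian _
  obtain ⟨s', hs', hspan⟩ := (Submodule.fg_span_iff_fg_span_finset_subset _).mp hfg
  refine ⟨s'.card, fun k => ((s'.equivFin.symm k : ↥s') : S), fun k => ?_, ?_⟩
  · exact hs' (s'.equivFin.symm k).2
  · have hr : Set.range (fun k : Fin s'.card => ((s'.equivFin.symm k : ↥s') : S)) = ↑s' := by
      ext y
      simp only [Set.mem_range, Finset.mem_coe]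
      constructor
      · rintro ⟨k, rfl⟩
        exact (s'.equivFin.symm k).2
      · intro hy
        exact ⟨s'.equivFin ⟨y, hy⟩, by simp⟩
    rw [hr, h1]
    exact hspan.symm

/-- the graded ring is generated over `A` by degree-one generators of the irrelevant ideal. -/
lemma aeval_surjective (h0 : ∀ s ∈ 𝒜 0, s ∈ Set.range (algebraMap A S))
    {d : ℕ} (x : Fin d → S) (hx : ∀ k, x k ∈ 𝒜 1)
    (hspan : Ideal.span (Set.range x) = (HomogeneousIdeal.irrelevant 𝒜).toIdeal) :
    Function.Surjective (aeval x : MvPolynomial (Fin d) A →ₐ[A] S) := by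
  classical
  set T : Subalgebra A S := (aeval x : MvPolynomial (Fin d) A →ₐ[A] S).range with hT
  have hxT : ∀ k, x k ∈ T := fun k => ⟨X k, aeval_X x k⟩
  have hdeg : ∀ n, ∀ s ∈ 𝒜 n, s ∈ T := by
    intro n
    induction n with
    | zero =>
      intro s hs
      obtain ⟨a, rfl⟩ := h0 s hs
      exact T.algebraMap_mem a
    | succ n ih =>
      intro s hs
      have hirr : s ∈ (HomogeneousIdeal.irrelevant 𝒜).toIdeal := by
        change s ∈ HomogeneousIdeal.irrelevant 𝒜
        rw [HomogeneousIdeal.mem_irrelevant_iff, GradedRing.proj_apply,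
          DirectSum.decompose_of_mem_ne 𝒜 hs (Nat.succ_ne_zero n)]
      rw [← hspan, Ideal.mem_span_range_iff_exists_fun] at hirr
      obtain ⟨c, hc⟩ := hirr
      have hs' : s = ∑ i, ((DirectSum.decompose 𝒜 (c i * x i) (n + 1) : _) : S) := by
        conv_lhs => rw [← DirectSum.decompose_of_mem_same 𝒜 hs, ← hc]
        rw [DirectSum.decompose_sum, DFinsupp.finset_sum_apply,
          AddSubmonoidClass.coe_finset_sum]
      rw [hs']
      apply Subalgebra.sum_mem
      intro k _
      rw [DirectSum.coe_decompose_mul_add_of_right_mem 𝒜 (hx k)]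
      exact T.mul_mem (ih _ (DirectSum.decompose 𝒜 (c k) n).2) (hxT k)
  intro s
  have : s ∈ T := by
    rw [← DirectSum.sum_support_decompose 𝒜 s]
    apply Subalgebra.sum_mem
    intro i _
    exact hdeg i _ (DirectSum.decompose 𝒜 s i).2
  exact this

end Generators

section Transfer

/-- Noetherianity descends along a surjective ring map. -/
lemma isNoetherian_of_surjective_ringHom {R S M : Type*} [CommRing R] [CommRing S]
    [AddCommGroup M] [Module R M] [Module S M] (φ : R →+* S) (hφ : Function.Surjective φ)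
    (hcompat : ∀ (r : R) (m : M), r • m = φ r • m) [IsNoetherian S M] : IsNoetherian R M := by
  constructor
  intro N
  let N' : Submodule S M :=
    { carrier := N
      add_mem' := N.add_mem
      zero_mem' := N.zero_mem
      smul_mem' := fun s m hm => by
        obtain ⟨r, rfl⟩ := hφ s
        show φ r • m ∈ N
        rw [← hcompat]
        exact N.smul_mem _ hm }
  obtain ⟨t, ht⟩ := IsNoetherian.noetherian N'
  refine ⟨t, ?_⟩
  apply le_antisymm
  · rw [Submodule.span_le]
    intro y hy
    have : y ∈ N' := ht ▸ Submodule.subset_span hy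
    exact this
  · have key : ∀ n ∈ Submodule.span S (t : Set M), n ∈ Submodule.span R (t : Set M) := by
      intro n hn'
      induction hn' using Submodule.span_induction with
      | mem y hy => exact Submodule.subset_span hy
      | zero => exact Submodule.zero_mem _
      | add y z _ _ hy hz => exact Submodule.add_mem _ hy hz
      | smul s y _ hy =>
        obtain ⟨r, rfl⟩ := hφ s
        rw [← hcompat]
        exact Submodule.smul_mem _ _ hy
    intro n hn
    exact key n (ht ▸ (show n ∈ N' from hn))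

end Transfer

section Main

variable {A S : Type u} [CommRing A] [CommRing S] [Algebra A S] [IsNoetherianRing S]
  (𝒜 : ℕ → Submodule A S) [GradedAlgebra 𝒜]

/-- **Hilbert–Serre in `K₀'(A)`.** -/
theorem k0_hilbert (h0 : ∀ s ∈ 𝒜 0, s ∈ Set.range (algebraMap A S))
    (h1 : (HomogeneousIdeal.irrelevant 𝒜).toIdeal = Ideal.span (𝒜 1 : Set S))
    (M : Type u) [AddCommGroup M] [Module A M] [Module S M] [IsScalarTower A S M]
    [Module.Finite S M] (ℳ : ℕ → Submodule A M) [DirectSum.Decomposition ℳ]
    [SetLike.GradedSMul 𝒜 ℳ] :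
    ∃ (r : ℕ) (a : Fin r → KZero.K0sub (FinP A)) (N : ℕ), ∀ n : ℕ, N ≤ n →
      cl A ↥(ℳ n) = ∑ i : Fin r, ((n.choose (i : ℕ) : ℕ) : ℤ) • a i := by
  obtain ⟨d, x, hx, hspan⟩ := exists_generators 𝒜 h1
  have hsurj := aeval_surjective 𝒜 h0 x hx hspan
  letI : Module (MvPolynomial (Fin d) A) M :=
    Module.compHom M (aeval x : MvPolynomial (Fin d) A →ₐ[A] S).toRingHom
  have hsmul : ∀ (p : MvPolynomial (Fin d) A) (m : M), p • m = (aeval x p : S) • m :=
    fun _ _ => rfl
  haveI : IsScalarTower A (MvPolynomial (Fin d) A) M := ⟨fun a p m => by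
    rw [hsmul, hsmul, map_smul, smul_assoc]⟩
  haveI : IsNoetherian S M := isNoetherian_of_isNoetherianRing_of_finite S M
  haveI : IsNoetherian (MvPolynomial (Fin d) A) M :=
    isNoetherian_of_surjective_ringHom (aeval x : MvPolynomial (Fin d) A →ₐ[A] S).toRingHom
      hsurj hsmul
  have hG : IsGr (d := d) ℳ := by
    refine ⟨fun k i m hm => ?_, ⟨decompProj ℳ, isProj_decompProj ℳ⟩⟩
    rw [hsmul, aeval_X]
    have := SetLike.GradedSMul.smul_mem (A := 𝒜) (B := ℳ) (hx k) hm
    rwa [vadd_eq_add, add_comm] at this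
  obtain ⟨-, hPL⟩ := k0HilbertSerre ℳ hG
  obtain ⟨a, N, hN⟩ := hPL.exists_choose
  exact ⟨d, a, N, hN⟩

end Main

end Groth.Agent.Lib.Helper90.HilbSerre
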