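import Mathlib

/-!
# Tensoring with a finite algebra over a field does not raise the Krull dimension (helper90; DT of
helper66's S15087 call)
-/

set_option autoImplicit false
universe u
open TensorProduct

namespace Groth.Agent.Lib.Helper90.MovDT

/-- integral ring extensions do not raise the Krull dimension -/
theorem ringKrullDim_le_of_isIntegral (R S : Type*) [CommRing R] [CommRing S]
    [Algebra R S] [Algebra.IsIntegral R S] : ringKrullDim S ≤ ringKrullDim R := by
  refine Order.krullDim_le_of_strictMono (PrimeSpectrum.comap (algebraMap R S)) ?_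
  intro p q hpq
  rw [← PrimeSpectrum.asIdeal_lt_asIdeal] at hpq ⊢
  exact Ideal.IsIntegral.comap_lt_comap hpq

theorem ringKrullDim_tensor_le {k : Type u} [Field k] (A E : Type u) [CommRing A] [Algebra k A]
    [CommRing E] [Algebra k E] [Module.Finite k E] :
    ringKrullDim (A ⊗[k] E) ≤ ringKrullDim A := by
  haveI : Algebra.IsIntegral k E := Algebra.IsIntegral.of_finite k E
  haveI : Algebra.IsIntegral A (A ⊗[k] E) := inferInstance
  exact ringKrullDim_le_of_isIntegral A (A ⊗[k] E)

end Groth.Agent.Lib.Helper90.MovDT
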