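import Mathlib

/-!
# Lengths over a local algebra with residue field the base field

For a local `k`-algebra `B` whose residue field is `k` (every element is a constant modulo the
maximal ideal), the `B`-length of a `B`-module is its `k`-length.  Also elementary tools for bounding
`k`-lengths of quotients by spanning families and by surjections onto function spaces.
-/

namespace Groth.Agent.Lib.Helper90.MultEx

universe u v w

open IsLocalRing

section LenField

variable (k : Type u) [Field k] (B : Type v) [CommRing B] [IsLocalRing B] [Algebra k B]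

lemma isLocalHom_algebraMap_field : IsLocalHom (algebraMap k B) :=
  ⟨fun a ha => by
    rcases eq_or_ne a 0 with rfl | h
    · rw [map_zero] at ha
      exact absurd ha not_isUnit_zero
    · exact h.isUnit⟩

theorem length_field_eq (hres : ∀ b : B, ∃ c : k, b - algebraMap k B c ∈ maximalIdeal B)
    (M : Type w) [AddCommGroup M] [Module k M] [Module B M] [IsScalarTower k B M] :
    Module.length k M = Module.length B M := by
  haveI : IsLocalHom (algebraMap k B) := isLocalHom_algebraMap_field k B
  rw [IsLocalRing.length_restrictScalars k B M]
  have hsurj : Function.Surjective (algebraMap (ResidueField k) (ResidueField B)) := by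
    intro z
    obtain ⟨b, rfl⟩ := residue_surjective z
    obtain ⟨c, hc⟩ := hres b
    refine ⟨residue k c, ?_⟩
    rw [IsLocalRing.ResidueField.algebraMap_residue]
    symm
    rw [← sub_eq_zero, ← map_sub, residue_eq_zero_iff]
    exact hc
  have h1 : Module.length (ResidueField k) (ResidueField B) = 1 := by
    rw [Module.length_eq_of_surjective (S := ResidueField k) (R := ResidueField B)
      (M := ResidueField B) hsurj]
    exact Module.length_eq_one _ _
  rw [h1, mul_one]

end LenField

section Bounds

variable {k : Type u} [Field k] {P : Type v} [AddCommGroup P] [Module k P]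
  {Q : Type w} [AddCommGroup Q] [Module k Q]

/-- lower bound: a functional family vanishing on the kernel and surjective. -/
theorem le_length_of_surjective {ι : Type*} [Fintype ι] (π : P →ₗ[k] Q)
    (hπ : Function.Surjective π) (Φ : P →ₗ[k] (ι → k)) (hΦ : Function.Surjective Φ)
    (hker : LinearMap.ker π ≤ LinearMap.ker Φ) :
    (Fintype.card ι : ℕ∞) ≤ Module.length k Q := by
  let Ψ : Q →ₗ[k] (ι → k) :=
    ((LinearMap.ker π).liftQ Φ hker).comp (π.quotKerEquivOfSurjective hπ).symm.toLinearMap
  have hΨ : Function.Surjective Ψ := by
    intro v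
    obtain ⟨p, rfl⟩ := hΦ v
    refine ⟨π p, ?_⟩
    have : (π.quotKerEquivOfSurjective hπ).symm (π p) = Submodule.Quotient.mk p := by
      rw [LinearEquiv.symm_apply_eq]
      rfl
    simp only [Ψ, LinearMap.comp_apply, LinearEquiv.coe_coe, this]
    rfl
  have h1 := Module.length_le_of_surjective Ψ hΨ
  have h2 : Module.length k (ι → k) = (Fintype.card ι : ℕ∞) := by
    rw [Module.length_eq_finrank, Module.finrank_pi]
  rw [h2] at h1
  exact h1

/-- upper bound: a finite family spanning modulo the kernel. -/
theorem length_le_of_span {ι : Type*} [Fintype ι] (π : P →ₗ[k] Q)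
    (hπ : Function.Surjective π) (v : ι → P)
    (hv : ∀ f : P, ∃ c : ι → k, f - ∑ i, c i • v i ∈ LinearMap.ker π) :
    Module.length k Q ≤ (Fintype.card ι : ℕ∞) := by
  let Ψ : (ι → k) →ₗ[k] Q := π.comp (Fintype.linearCombination k v)
  have hΨ : Function.Surjective Ψ := by
    intro q
    obtain ⟨f, rfl⟩ := hπ q
    obtain ⟨c, hc⟩ := hv f
    refine ⟨c, ?_⟩
    rw [LinearMap.mem_ker, map_sub, sub_eq_zero] at hc
    simp only [Ψ, LinearMap.comp_apply, Fintype.linearCombination_apply]
    exact hc.symm
  have h1 := Module.length_le_of_surjective Ψ hΨ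
  have h2 : Module.length k (ι → k) = (Fintype.card ι : ℕ∞) := by
    rw [Module.length_eq_finrank, Module.finrank_pi]
  rw [h2] at h1
  exact h1

end Bounds

end Groth.Agent.Lib.Helper90.MultEx
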