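import Mathlib

/-!
# Monomial ideals in multivariate power series rings

Membership in an ideal generated by finitely many monomials by supports, vanishing of coefficient
functionals on monomial ideals, and standard-monomial normal forms.
-/

namespace Groth.Agent.Lib.Helper90.MultEx

universe u v

open MvPowerSeries

section General

variable {σ : Type v} {R : Type u} [CommRing R]

/-- the monomial ideal generated by a set of exponents. -/
noncomputable def monIdeal (G : Set (σ →₀ ℕ)) : Ideal (MvPowerSeries σ R) :=
  Ideal.span ((fun g => (monomial g (1 : R) : MvPowerSeries σ R)) '' G)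

lemma monomial_mem_monIdeal {G : Set (σ →₀ ℕ)} {g : σ →₀ ℕ} (hg : g ∈ G) :
    (monomial g (1 : R) : MvPowerSeries σ R) ∈ monIdeal (R := R) G :=
  Ideal.subset_span ⟨g, hg, rfl⟩

lemma monIdeal_mono {G G' : Set (σ →₀ ℕ)} (h : G ⊆ G') :
    monIdeal (R := R) G ≤ monIdeal (R := R) G' :=
  Ideal.span_mono (Set.image_mono h)

/-- a power series supported on the up-set of a finite set of exponents lies in the monomial
ideal. -/
theorem mem_monIdeal_of_support (G : Finset (σ →₀ ℕ)) (f : MvPowerSeries σ R)
    (hf : ∀ e, coeff e f ≠ 0 → ∃ g ∈ G, g ≤ e) : f ∈ monIdeal (R := R) (G : Set (σ →₀ ℕ)) := by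
  classical
  induction G using Finset.induction_on generalizing f with
  | empty =>
    have : f = 0 := by
      ext e
      by_contra h
      obtain ⟨g, hg, _⟩ := hf e h
      simp at hg
    rw [this]
    exact Submodule.zero_mem _
  | insert g G hgG ih =>
    let h : MvPowerSeries σ R := fun e => coeff (e + g) f
    have hh : ∀ e, coeff e h = coeff (e + g) f := fun e => rfl
    have h1 : ∀ e, coeff e (monomial g (1 : R) * h) = if g ≤ e then coeff e f else 0 := by
      intro e
      rw [coeff_monomial_mul]
      split_ifs with hge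
      · rw [one_mul, hh, tsub_add_cancel_of_le hge]
      · rfl
    have h2 : f - monomial g (1 : R) * h ∈ monIdeal (R := R) (G : Set (σ →₀ ℕ)) := by
      apply ih
      intro e he
      rw [map_sub, h1] at he
      split_ifs at he with hge
      · rw [sub_self] at he
        exact absurd rfl he
      · rw [sub_zero] at he
        obtain ⟨g', hg', hle⟩ := hf e he
        rw [Finset.mem_insert] at hg'
        rcases hg' with rfl | hg'
        · exact absurd hle hge
        · exact ⟨g', hg', hle⟩
    have h3 : monomial g (1 : R) * h ∈ monIdeal (R := R) ((insert g G : Finset _) : Set (σ →₀ ℕ)) :=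
      Ideal.mul_mem_right _ _ (monomial_mem_monIdeal (by simp))
    have h4 : f = (f - monomial g (1 : R) * h) + monomial g (1 : R) * h := by ring
    rw [h4]
    exact Ideal.add_mem _ (monIdeal_mono (by simp) h2) h3

/-- coefficient functionals at exponents outside the up-set vanish on the monomial ideal. -/
theorem coeff_eq_zero_of_mem_monIdeal (G : Set (σ →₀ ℕ)) (e : σ →₀ ℕ) (he : ∀ g ∈ G, ¬ g ≤ e)
    {t : MvPowerSeries σ R} (ht : t ∈ monIdeal (R := R) G) : coeff e t = 0 := by
  have key : ∀ h : MvPowerSeries σ R, coeff e (t * h) = 0 := by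
    unfold monIdeal at ht
    induction ht using Submodule.span_induction with
    | mem x hx =>
      obtain ⟨g, hg, rfl⟩ := hx
      intro h
      rw [coeff_monomial_mul, if_neg (he g hg)]
    | zero => intro h; rw [zero_mul, map_zero]
    | add x y _ _ hx hy => intro h; rw [add_mul, map_add, hx, hy, add_zero]
    | smul r x _ hx =>
      intro h
      rw [smul_eq_mul, mul_comm r x, mul_assoc]
      exact hx _
  simpa using key 1

/-- normal form modulo a monomial ideal: if every exponent is either above a generator or one of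
the (injectively indexed) standard exponents, every series is a combination of standard monomials
modulo the ideal. -/
theorem sub_sum_mem_monIdeal {ι : Type*} [Fintype ι] (G : Finset (σ →₀ ℕ)) (E : ι → (σ →₀ ℕ))
    (hE : Function.Injective E) (hcov : ∀ e, (∃ g ∈ G, g ≤ e) ∨ ∃ i, E i = e)
    (f : MvPowerSeries σ R) :
    f - ∑ i, coeff (E i) f • (monomial (E i) (1 : R) : MvPowerSeries σ R) ∈
      monIdeal (R := R) (G : Set (σ →₀ ℕ)) := by
  classical
  apply mem_monIdeal_of_support
  intro e he
  rcases hcov e with h | ⟨i₀, rfl⟩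
  · exact h
  · exfalso
    apply he
    rw [map_sub, map_sum, Finset.sum_eq_single i₀]
    · rw [coeff_smul, coeff_monomial_same, mul_one, sub_self]
    · intro j _ hj
      rw [coeff_smul, coeff_monomial_ne (fun h => hj (hE h).symm), mul_zero]
    · intro h
      exact absurd (Finset.mem_univ _) h

end General

section Three

variable {k : Type u} [CommRing k]

/-- exponent vectors in three variables. -/
noncomputable def ex (a b c : ℕ) : Fin 3 →₀ ℕ :=
  Finsupp.single 0 a + Finsupp.single 1 b + Finsupp.single 2 c

@[simp] lemma ex_zero (a b c : ℕ) : ex a b c 0 = a := by simp [ex]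
@[simp] lemma ex_one (a b c : ℕ) : ex a b c 1 = b := by simp [ex]
@[simp] lemma ex_two (a b c : ℕ) : ex a b c 2 = c := by simp [ex]

lemma ex_le_iff {a b c a' b' c' : ℕ} : ex a b c ≤ ex a' b' c' ↔ a ≤ a' ∧ b ≤ b' ∧ c ≤ c' := by
  rw [Finsupp.le_def]
  constructor
  · intro h
    exact ⟨by simpa using h 0, by simpa using h 1, by simpa using h 2⟩
  · rintro ⟨h0, h1, h2⟩ i
    fin_cases i
    · simpa using h0
    · simpa using h1
    · simpa using h2

lemma ex_inj {a b c a' b' c' : ℕ} : ex a b c = ex a' b' c' ↔ a = a' ∧ b = b' ∧ c = c' := by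
  constructor
  · intro h
    refine ⟨?_, ?_, ?_⟩
    · simpa using DFunLike.congr_fun h 0
    · simpa using DFunLike.congr_fun h 1
    · simpa using DFunLike.congr_fun h 2
  · rintro ⟨rfl, rfl, rfl⟩
    rfl

lemma ex_sub (a b c a' b' c' : ℕ) : ex a b c - ex a' b' c' = ex (a - a') (b - b') (c - c') := by
  ext i
  fin_cases i <;> simp

lemma ex_add (a b c a' b' c' : ℕ) : ex a b c + ex a' b' c' = ex (a + a') (b + b') (c + c') := by
  ext i
  fin_cases i <;> simp

lemma eq_ex (e : Fin 3 →₀ ℕ) : e = ex (e 0) (e 1) (e 2) := by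
  ext i
  fin_cases i <;> simp

/-- the monomial `x^a y^b t^c`. -/
noncomputable def mon (a b c : ℕ) : MvPowerSeries (Fin 3) k := monomial (ex a b c) (1 : k)

lemma mon_eq (a b c : ℕ) :
    (mon a b c : MvPowerSeries (Fin 3) k) = X 0 ^ a * X 1 ^ b * X 2 ^ c := by
  rw [X_pow_eq, X_pow_eq, X_pow_eq, monomial_mul_monomial, monomial_mul_monomial, one_mul, one_mul]
  rfl

lemma mon_mul_mon (a b c a' b' c' : ℕ) :
    (mon a b c : MvPowerSeries (Fin 3) k) * mon a' b' c' = mon (a + a') (b + b') (c + c') := by
  unfold mon
  rw [monomial_mul_monomial, one_mul, ex_add]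

lemma coeff_mon_mul (a b c a' b' c' : ℕ) (h : MvPowerSeries (Fin 3) k) :
    coeff (ex a' b' c') (mon a b c * h) =
      if a ≤ a' ∧ b ≤ b' ∧ c ≤ c' then coeff (ex (a' - a) (b' - b) (c' - c)) h else 0 := by
  unfold mon
  rw [coeff_monomial_mul]
  simp only [ex_le_iff, ex_sub, one_mul]

lemma coeff_mon (a b c a' b' c' : ℕ) :
    coeff (ex a' b' c') (mon a b c : MvPowerSeries (Fin 3) k) =
      if a' = a ∧ b' = b ∧ c' = c then 1 else 0 := by
  classical
  unfold mon
  rw [coeff_monomial]
  simp only [ex_inj]

end Three

end Groth.Agent.Lib.Helper90.MultEx
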