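import Mathlib
import Groth.Agent.Lib.Helper90.MultEx2

/-!
# Reduction functionals for `k[[x,y,t]]/(x^2 - y^n)`

The functionals `phi n a b c` (sum of the coefficients at `(a+2j, b-nj, c)`) vanish on multiples
of `x^2 - y^n`; they are shifted by multiplication with monomials in `y, t`.  They vanish on
`(x^2 - y^n) + (y^2, t^4)^m` whenever `b/2 + c/4 < m`, and are dual to the standard monomials.
-/

namespace Groth.Agent.Lib.Helper90.MultEx

universe u

open MvPowerSeries

variable {k : Type u} [CommRing k]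

/-- sum of the coefficients at `(a+2j, b-nj, c)` for `nj ≤ b`. -/
noncomputable def phi (n a b c : ℕ) : MvPowerSeries (Fin 3) k →ₗ[k] k :=
  ∑ j ∈ Finset.range (b / n + 1), coeff (ex (a + 2 * j) (b - n * j) c)

lemma phi_apply (n a b c : ℕ) (f : MvPowerSeries (Fin 3) k) :
    phi n a b c f = ∑ j ∈ Finset.range (b / n + 1), coeff (ex (a + 2 * j) (b - n * j) c) f := by
  unfold phi
  rw [LinearMap.sum_apply]

lemma mul_le_of_mem_range {n b j : ℕ} (hj : j ∈ Finset.range (b / n + 1)) : n * j ≤ b := by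
  rw [Finset.mem_range] at hj
  calc n * j ≤ n * (b / n) := Nat.mul_le_mul_left _ (by omega)
    _ ≤ b := Nat.mul_div_le b n

/-- `phi` kills multiples of `x^2 - y^n`. -/
theorem phi_rel (n a b c : ℕ) (hn : 0 < n) (ha : a < 2) (h : MvPowerSeries (Fin 3) k) :
    phi n a b c ((mon 2 0 0 - mon 0 n 0) * h) = 0 := by
  rw [sub_mul, map_sub, phi_apply, phi_apply, sub_eq_zero]
  rw [Finset.sum_range_succ', Finset.sum_range_succ]
  have h0 : coeff (ex (a + 2 * 0) (b - n * 0) c) (mon 2 0 0 * h) = 0 := by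
    rw [coeff_mon_mul, if_neg]
    omega
  have hJ : coeff (ex (a + 2 * (b / n)) (b - n * (b / n)) c) (mon 0 n 0 * h) = 0 := by
    rw [coeff_mon_mul, if_neg]
    have : b - n * (b / n) < n := by
      have h1 := Nat.div_add_mod b n
      have h2 := Nat.mod_lt b hn
      omega
    omega
  rw [h0, hJ, add_zero, add_zero]
  apply Finset.sum_congr rfl
  intro j hj
  rw [Finset.mem_range] at hj
  have hle : n * (j + 1) ≤ b := by
    calc n * (j + 1) ≤ n * (b / n) := Nat.mul_le_mul_left _ (by omega)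
      _ ≤ b := Nat.mul_div_le b n
  have hle' : n * j + n ≤ b := by rw [Nat.mul_succ] at hle; exact hle
  rw [coeff_mon_mul, coeff_mon_mul, if_pos, if_pos]
  · congr 2
    · have : a + 2 * (j + 1) - 2 = a + 2 * j - 0 := by omega
      rw [this]
      congr 1
      rw [Nat.mul_succ]
      omega
  · refine ⟨Nat.zero_le _, ?_, Nat.zero_le _⟩
    omega
  · refine ⟨?_, Nat.zero_le _, Nat.zero_le _⟩
    omega

/-- shifting `phi` by a monomial in `y, t`. -/
theorem phi_shift (n a b c β γ : ℕ) (hn : 0 < n) (h : MvPowerSeries (Fin 3) k) :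
    phi n a b c (mon 0 β γ * h) =
      if β ≤ b ∧ γ ≤ c then phi n a (b - β) (c - γ) h else 0 := by
  rw [phi_apply]
  split_ifs with hc
  · obtain ⟨hβ, hγ⟩ := hc
    rw [phi_apply]
    have hsub : Finset.range ((b - β) / n + 1) ⊆ Finset.range (b / n + 1) := by
      rw [Finset.range_subset_range]
      have := Nat.div_le_div_right (c := n) (Nat.sub_le b β)
      omega
    rw [← Finset.sum_subset hsub]
    · apply Finset.sum_congr rfl
      intro j hj
      have h1 := mul_le_of_mem_range hj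
      rw [coeff_mon_mul, if_pos]
      · congr 2
        have : b - n * j - β = b - β - n * j := by omega
        rw [this]
        congr 1
      · refine ⟨Nat.zero_le _, ?_, hγ⟩
        omega
    · intro j hj hj'
      have h1 := mul_le_of_mem_range hj
      rw [Finset.mem_range, not_lt] at hj'
      have h2 : (b - β) / n < j := by omega
      rw [Nat.div_lt_iff_lt_mul hn] at h2
      rw [coeff_mon_mul, if_neg]
      rintro ⟨_, h3, _⟩
      rw [mul_comm] at h2
      omega
  · apply Finset.sum_eq_zero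
    intro j hj
    have h1 := mul_le_of_mem_range hj
    rw [coeff_mon_mul, if_neg]
    rintro ⟨_, h3, h4⟩
    apply hc
    exact ⟨by omega, h4⟩

/-- `phi` on a standard monomial. -/
theorem phi_mon (n a b c a' b' c' : ℕ) (ha : a < 2) :
    phi n a' b' c' (mon a b c : MvPowerSeries (Fin 3) k) =
      if a' = a ∧ b' = b ∧ c' = c then 1 else 0 := by
  rw [phi_apply, Finset.sum_eq_single 0]
  · rw [coeff_mon]
    simp only [mul_zero, add_zero, Nat.sub_zero]
  · intro j _ hj
    rw [coeff_mon, if_neg]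
    rintro ⟨h1, _, _⟩
    omega
  · intro h
    exfalso
    apply h
    rw [Finset.mem_range]
    exact Nat.succ_pos _

/-- the joint kernel of the `phi n a b c` with `a < 2`, `b/2 + c/4 < m`. -/
def InK (n m : ℕ) (f : MvPowerSeries (Fin 3) k) : Prop :=
  ∀ a b c : ℕ, a < 2 → b / 2 + c / 4 < m → phi n a b c f = 0

lemma inK_add {n m : ℕ} {f g : MvPowerSeries (Fin 3) k} (hf : InK n m f) (hg : InK n m g) :
    InK n m (f + g) := by
  intro a b c ha hbc
  rw [map_add, hf a b c ha hbc, hg a b c ha hbc, add_zero]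

lemma inK_zero (n m : ℕ) : InK n m (0 : MvPowerSeries (Fin 3) k) := by
  intro a b c _ _
  rw [map_zero]

lemma inK_rel (n m : ℕ) (hn : 0 < n) (h : MvPowerSeries (Fin 3) k) :
    InK n m ((mon 2 0 0 - mon 0 n 0) * h) :=
  fun a b c ha _ => phi_rel n a b c hn ha h

lemma inK_y2 {n m : ℕ} (hn : 0 < n) {f : MvPowerSeries (Fin 3) k} (hf : InK n m f) :
    InK n (m + 1) (mon 0 2 0 * f) := by
  intro a b c ha hbc
  rw [phi_shift n a b c 2 0 hn]
  split_ifs with h
  · apply hf a _ _ ha
    omega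
  · rfl

lemma inK_t4 {n m : ℕ} (hn : 0 < n) {f : MvPowerSeries (Fin 3) k} (hf : InK n m f) :
    InK n (m + 1) (mon 0 0 4 * f) := by
  intro a b c ha hbc
  rw [phi_shift n a b c 0 4 hn]
  split_ifs with h
  · apply hf a _ _ ha
    omega
  · rfl

/-- `(y^2, t^4)^m` lies in the joint kernel. -/
theorem inK_of_mem_pow (n : ℕ) (hn : 0 < n) (m : ℕ) (f : MvPowerSeries (Fin 3) k)
    (hf : f ∈ (Ideal.span {(mon 0 2 0 : MvPowerSeries (Fin 3) k), mon 0 0 4}) ^ m) :
    InK n m f := by
  induction m generalizing f with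
  | zero =>
    intro a b c _ hbc
    omega
  | succ m ih =>
    rw [pow_succ] at hf
    refine Submodule.mul_induction_on hf ?_ ?_
    · intro r hr s hs
      obtain ⟨p, q, rfl⟩ := Ideal.mem_span_pair.mp hs
      have e : r * (p * mon 0 2 0 + q * mon 0 0 4) =
          mon 0 2 0 * (p * r) + mon 0 0 4 * (q * r) := by ring
      rw [e]
      exact inK_add (inK_y2 hn (ih _ (Ideal.mul_mem_left _ _ hr)))
        (inK_t4 hn (ih _ (Ideal.mul_mem_left _ _ hr)))
    · intro x y hx hy
      exact inK_add hx hy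

/-- `(x^2 - y^n) + (y^2, t^4)^m` lies in the joint kernel. -/
theorem inK_of_mem_sup (n : ℕ) (hn : 0 < n) (m : ℕ) (f : MvPowerSeries (Fin 3) k)
    (hf : f ∈ Ideal.span {(mon 2 0 0 - mon 0 n 0 : MvPowerSeries (Fin 3) k)} ⊔
      (Ideal.span {(mon 0 2 0 : MvPowerSeries (Fin 3) k), mon 0 0 4}) ^ m) :
    InK n m f := by
  obtain ⟨s, hs, t, ht, rfl⟩ := Submodule.mem_sup.mp hf
  obtain ⟨h, rfl⟩ := Ideal.mem_span_singleton'.mp hs
  rw [mul_comm]
  exact inK_add (inK_rel n m hn h) (inK_of_mem_pow n hn m t ht)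

end Groth.Agent.Lib.Helper90.MultEx
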