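import Mathlib
import Groth.Agent.Lib.Helper90.MultEx3

/-!
# The standard monomials of `(x^2 - y^n) + (y^2, t^4)^m`

An index type of cardinality `8 m (m+1)` and a surjective linear map onto functions on it that
vanishes on `(x^2 - y^n) + (y^2, t^4)^m`.
-/

namespace Groth.Agent.Lib.Helper90.MultEx

universe u

open MvPowerSeries

/-- index type of the standard monomials `x^a y^(2i+r) t^(4(d-i)+s)`, `a < 2`, `i ≤ d < m`,
`r < 2`, `s < 4`. -/
abbrev Idx (m : ℕ) := Fin 2 × (Σ d : Fin m, Fin (d.val + 1)) × Fin 2 × Fin 4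

namespace Idx

variable {m : ℕ}

/-- exponent of `x`. -/
def a (i : Idx m) : ℕ := i.1.val
/-- exponent of `y`. -/
def b (i : Idx m) : ℕ := 2 * i.2.1.2.val + i.2.2.1.val
/-- exponent of `t`. -/
def c (i : Idx m) : ℕ := 4 * (i.2.1.1.val - i.2.1.2.val) + i.2.2.2.val

lemma a_lt (i : Idx m) : i.a < 2 := i.1.2

lemma bc_lt (i : Idx m) : i.b / 2 + i.c / 4 < m := by
  obtain ⟨a, ⟨d, i⟩, r, s⟩ := i
  simp only [b, c]
  have h1 := d.2
  have h2 := i.2
  have h3 := r.2
  have h4 := s.2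
  omega

lemma ext' {i j : Idx m} (ha : i.a = j.a) (hb : i.b = j.b) (hc : i.c = j.c) : i = j := by
  obtain ⟨a, ⟨d, i⟩, r, s⟩ := i
  obtain ⟨a', ⟨d', i'⟩, r', s'⟩ := j
  simp only [Idx.a, Idx.b, Idx.c] at ha hb hc
  have h2 := i.2
  have h2' := i'.2
  have h3 := r.2
  have h3' := r'.2
  have h4 := s.2
  have h4' := s'.2
  have e1 : a = a' := Fin.ext ha
  have e2 : (i : ℕ) = i' := by omega
  have e3 : r = r' := Fin.ext (by omega)
  have e4 : s = s' := Fin.ext (by omega)
  have e5 : d = d' := Fin.ext (by omega)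
  subst e1 e3 e4 e5
  have e6 : i = i' := Fin.ext e2
  subst e6
  rfl

end Idx

lemma sum_succ_mul_two (m : ℕ) : (∑ d ∈ Finset.range m, (d + 1)) * 2 = m * (m + 1) := by
  induction m with
  | zero => simp
  | succ m ih =>
    rw [Finset.sum_range_succ, add_mul, ih]
    ring

lemma card_Idx (m : ℕ) : Fintype.card (Idx m) = 8 * (m * (m + 1)) := by
  have h1 : Fintype.card (Σ d : Fin m, Fin (d.val + 1)) = ∑ d ∈ Finset.range m, (d + 1) := by
    rw [Fintype.card_sigma]
    simp only [Fintype.card_fin]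
    exact Fin.sum_univ_eq_sum_range (fun d => d + 1) m
  rw [Fintype.card_prod, Fintype.card_prod, Fintype.card_prod, h1]
  simp only [Fintype.card_fin]
  have := sum_succ_mul_two m
  nlinarith

variable {k : Type u} [CommRing k]

/-- the family of reduction functionals indexed by the standard monomials. -/
noncomputable def Phi (n m : ℕ) : MvPowerSeries (Fin 3) k →ₗ[k] (Idx m → k) :=
  LinearMap.pi fun i => phi n i.a i.b i.c

lemma Phi_apply (n m : ℕ) (f : MvPowerSeries (Fin 3) k) (i : Idx m) :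
    Phi n m f i = phi n i.a i.b i.c f := rfl

theorem Phi_surjective (n m : ℕ) : Function.Surjective (Phi (k := k) n m) := by
  classical
  intro v
  refine ⟨∑ j : Idx m, v j • (mon j.a j.b j.c : MvPowerSeries (Fin 3) k), ?_⟩
  funext i
  rw [Phi_apply, map_sum, Finset.sum_eq_single i]
  · rw [map_smul, phi_mon _ _ _ _ _ _ _ i.a_lt, if_pos ⟨rfl, rfl, rfl⟩, smul_eq_mul, mul_one]
  · intro j _ hj
    rw [map_smul, phi_mon _ _ _ _ _ _ _ j.a_lt, if_neg, smul_zero]
    rintro ⟨h1, h2, h3⟩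
    exact hj (Idx.ext' h1 h2 h3).symm
  · intro h
    exact absurd (Finset.mem_univ _) h

theorem Phi_eq_zero (n : ℕ) (hn : 0 < n) (m : ℕ) (f : MvPowerSeries (Fin 3) k)
    (hf : f ∈ Ideal.span {(mon 2 0 0 - mon 0 n 0 : MvPowerSeries (Fin 3) k)} ⊔
      (Ideal.span {(mon 0 2 0 : MvPowerSeries (Fin 3) k), mon 0 0 4}) ^ m) :
    Phi n m f = 0 := by
  funext i
  rw [Phi_apply]
  exact inK_of_mem_sup n hn m f hf _ _ _ i.a_lt i.bc_lt

end Groth.Agent.Lib.Helper90.MultEx
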