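import Mathlib
import Groth.Agent.Lib.Helper90.HKMod1
import Groth.Agent.Lib.Helper90.Samuel

/-!
# Lengths of quotients by powers of a two-generated ideal

`ℓ(A/J^m) ≤ (1 + 2 + ... + m) ℓ(A/J)` for `J = (u, v)`.
-/

namespace Groth.Agent.Lib.Helper90.MultEx

universe u v

open Groth.Agent.Lib.Helper90.HK

variable {A : Type u} [CommRing A]

lemma pow_succ_pair (x y : A) (m : ℕ) :
    (Ideal.span {x, y}) ^ (m + 1) =
      Ideal.span {x} * (Ideal.span {x, y}) ^ m ⊔ Ideal.span {y ^ (m + 1)} := by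
  have hJ : (Ideal.span {x, y} : Ideal A) = Ideal.span {x} ⊔ Ideal.span {y} := Ideal.span_insert x {y}
  induction m with
  | zero =>
    rw [pow_zero, zero_add, pow_one, pow_one, mul_one, hJ]
  | succ m ih =>
    have h1 : (Ideal.span {x, y}) ^ (m + 1 + 1) =
        Ideal.span {x} * (Ideal.span {x, y}) ^ (m + 1) ⊔
          Ideal.span {y} * (Ideal.span {x, y}) ^ (m + 1) := by
      rw [pow_succ' _ (m + 1)]
      nth_rewrite 1 [hJ]
      rw [Ideal.sup_mul]
    have h2 : Ideal.span {y} * (Ideal.span {x, y}) ^ (m + 1) =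
        Ideal.span {x} * (Ideal.span {y} * (Ideal.span {x, y}) ^ m) ⊔
          Ideal.span {y ^ (m + 1 + 1)} := by
      rw [ih, Ideal.mul_sup, Ideal.span_singleton_mul_span_singleton, ← pow_succ']
      congr 1
      rw [← mul_assoc, ← mul_assoc, mul_comm (Ideal.span {y}) (Ideal.span {x})]
    have h3 : Ideal.span {x} * (Ideal.span {y} * (Ideal.span {x, y}) ^ m) ≤
        Ideal.span {x} * (Ideal.span {x, y}) ^ (m + 1) := by
      apply Ideal.mul_mono le_rfl
      rw [pow_succ']
      apply Ideal.mul_mono _ le_rfl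
      rw [hJ]
      exact le_sup_right
    rw [h1, h2, ← sup_assoc, sup_eq_left.mpr h3]

/-- generators of `(x,y)^m`. -/
noncomputable def gens (x y : A) : (m : ℕ) → Fin (m + 1) → A
  | 0 => fun _ => 1
  | (m + 1) => Fin.cons (y ^ (m + 1)) (fun i => x * gens x y m i)

lemma span_gens (x y : A) (m : ℕ) :
    Ideal.span (Set.range (gens x y m)) = (Ideal.span {x, y}) ^ m := by
  induction m with
  | zero =>
    rw [pow_zero, Ideal.one_eq_top, Ideal.eq_top_iff_one]
    exact Ideal.subset_span ⟨0, rfl⟩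
  | succ m ih =>
    rw [pow_succ_pair, ← ih]
    show Ideal.span (Set.range (Fin.cons (y ^ (m + 1)) (fun i => x * gens x y m i))) = _
    rw [Fin.range_cons, Ideal.span_insert, sup_comm]
    congr 1
    rw [Ideal.span_mul_span', Set.singleton_mul]
    congr 1
    ext z
    simp only [Set.mem_range, Set.mem_image]
    constructor
    · rintro ⟨i, rfl⟩
      exact ⟨_, ⟨i, rfl⟩, rfl⟩
    · rintro ⟨_, ⟨i, rfl⟩, rfl⟩
      exact ⟨i, rfl⟩

section Killed

variable {M : Type v} [AddCommGroup M] [Module A M]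

/-- a submodule killed by `J` and generated by `r` elements has length at most `r ℓ(A/J)`. -/
theorem length_le_of_killed (J : Ideal A) (N : Submodule A M)
    (hN : ∀ j ∈ J, ∀ x ∈ N, j • x = 0) {r : ℕ} (w : Fin r → M)
    (hw : Submodule.span A (Set.range w) = N) :
    Module.length A N ≤ r * Module.length A (A ⧸ J) := by
  have hwN : ∀ i, w i ∈ N := fun i => hw ▸ Submodule.subset_span ⟨i, rfl⟩
  let f : (Fin r → A) →ₗ[A] N :=
    (Fintype.linearCombination A w).codRestrict N (fun c => by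
      rw [Fintype.linearCombination_apply]
      exact Submodule.sum_mem _ fun i _ => Submodule.smul_mem _ _ (hwN i))
  have hf : Function.Surjective f := by
    rintro ⟨x, hx⟩
    rw [← hw, ← Fintype.range_linearCombination A] at hx
    obtain ⟨c, hc⟩ := hx
    exact ⟨c, Subtype.ext hc⟩
  have h1 := qlen_le_of_surjective J hf
  rw [qlen_fun] at h1
  have h2 : (J • (⊤ : Submodule A N)) = ⊥ := by
    rw [eq_bot_iff, Submodule.smul_le]
    intro j hj x _
    rw [Submodule.mem_bot]
    exact Subtype.ext (hN j hj x.1 x.2)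
  have h3 : qlen J N = Module.length A N := by
    unfold qlen
    exact (Submodule.quotEquivOfEqBot _ h2).length_eq
  rw [h3] at h1
  exact h1

end Killed

/-- one step: `ℓ(A/J^(m+1)) ≤ ℓ(A/J^m) + (m+1) ℓ(A/J)` for `J = (x,y)`. -/
theorem length_quot_pow_succ_le (x y : A) (m : ℕ) :
    Module.length A (A ⧸ (Ideal.span {x, y}) ^ (m + 1)) ≤
      Module.length A (A ⧸ (Ideal.span {x, y}) ^ m) +
        ((m + 1 : ℕ) : ℕ∞) * Module.length A (A ⧸ (Ideal.span {x, y} : Ideal A)) := by
  set J : Ideal A := Ideal.span {x, y} with hJ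
  let N : Submodule A (A ⧸ J ^ (m + 1)) := Submodule.map (Submodule.mkQ (J ^ (m + 1))) (J ^ m)
  have hlen : Module.length A (A ⧸ J ^ (m + 1)) =
      Module.length A N + Module.length A ((A ⧸ J ^ (m + 1)) ⧸ N) :=
    Module.length_eq_add_of_exact N.subtype N.mkQ (Submodule.subtype_injective _)
      (Submodule.mkQ_surjective _) (LinearMap.exact_subtype_mkQ N)
  have hquot : Module.length A ((A ⧸ J ^ (m + 1)) ⧸ N) = Module.length A (A ⧸ J ^ m) := by
    apply Groth.Agent.Lib.Helper90.Samuel.length_eq_of_surjective_of_ker_eq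
      (N.mkQ.comp (Submodule.mkQ (J ^ (m + 1)))) (Submodule.mkQ (J ^ m))
    · exact (Submodule.mkQ_surjective _).comp (Submodule.mkQ_surjective _)
    · exact Submodule.mkQ_surjective _
    · rw [LinearMap.ker_comp, Submodule.ker_mkQ, Submodule.ker_mkQ]
      show Submodule.comap _ (Submodule.map _ _) = _
      rw [Submodule.comap_map_eq, Submodule.ker_mkQ, sup_eq_left]
      exact Ideal.pow_le_pow_right (Nat.le_succ m)
  have hN : Module.length A N ≤ ((m + 1 : ℕ) : ℕ∞) * Module.length A (A ⧸ J) := by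
    apply length_le_of_killed J N _ (fun i => Submodule.mkQ (J ^ (m + 1)) (gens x y m i))
    · have : (fun i => Submodule.mkQ (J ^ (m + 1)) (gens x y m i)) =
          (Submodule.mkQ (J ^ (m + 1))) ∘ (gens x y m) := rfl
      rw [this, Set.range_comp, ← Submodule.map_span]
      congr 1
      exact span_gens x y m
    · rintro j hj _ ⟨z, hz, rfl⟩
      rw [← map_smul, Submodule.mkQ_apply, Submodule.Quotient.mk_eq_zero, smul_eq_mul, pow_succ']
      exact Ideal.mul_mem_mul hj hz
  rw [hlen, hquot, add_comm]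
  gcongr

/-- `ℓ(A/J^m) ≤ (1 + ... + m) ℓ(A/J)` for `J = (x,y)`. -/
theorem length_quot_pow_le (x y : A) (m : ℕ) :
    Module.length A (A ⧸ (Ideal.span {x, y}) ^ m) ≤
      ((∑ d ∈ Finset.range m, (d + 1) : ℕ) : ℕ∞) *
        Module.length A (A ⧸ (Ideal.span {x, y} : Ideal A)) := by
  induction m with
  | zero =>
    rw [pow_zero, Ideal.one_eq_top]
    have : Subsingleton (A ⧸ (⊤ : Ideal A)) := Ideal.Quotient.subsingleton_iff.mpr rfl
    rw [Module.length_eq_zero]
    exact bot_le
  | succ m ih =>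
    refine (length_quot_pow_succ_le x y m).trans ?_
    have e : ((∑ d ∈ Finset.range (m + 1), (d + 1) : ℕ) : ℕ∞) =
        ((∑ d ∈ Finset.range m, (d + 1) : ℕ) : ℕ∞) + ((m + 1 : ℕ) : ℕ∞) := by
      rw [Finset.sum_range_succ, Nat.cast_add]
    rw [e, add_mul]
    exact add_le_add ih le_rfl

end Groth.Agent.Lib.Helper90.MultEx
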