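import Mathlib
import Groth.Agent.Lib.Helper90.Reduction

/-!
# `(y^2, t^4)` is a reduction of `(x^2, xy, y^2, xt, yt^2, t^4)` when `x^2 = y^(n+3)`
-/

namespace Groth.Agent.Lib.Helper90.MultEx

universe u

variable {A : Type u} [CommRing A] (X Y T : A)

/-- the ideal `(x^2, xy, y^2, xt, yt^2, t^4)`. -/
def idI : Ideal A := Ideal.span {X ^ 2, X * Y, Y ^ 2, X * T, Y * T ^ 2, T ^ 4}

/-- the ideal `(y^2, t^4)`. -/
def idJ : Ideal A := Ideal.span {Y ^ 2, T ^ 4}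

/-- the ideal `(xy, xt, yt^2)`. -/
def idT : Ideal A := Ideal.span {X * Y, X * T, Y * T ^ 2}

lemma x2_mem_I : X ^ 2 ∈ idI X Y T := Ideal.subset_span (by simp)
lemma xy_mem_I : X * Y ∈ idI X Y T := Ideal.subset_span (by simp)
lemma y2_mem_I : Y ^ 2 ∈ idI X Y T := Ideal.subset_span (by simp)
lemma xt_mem_I : X * T ∈ idI X Y T := Ideal.subset_span (by simp)
lemma yt2_mem_I : Y * T ^ 2 ∈ idI X Y T := Ideal.subset_span (by simp)
lemma t4_mem_I : T ^ 4 ∈ idI X Y T := Ideal.subset_span (by simp)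
lemma y2_mem_J : Y ^ 2 ∈ idJ Y T := Ideal.subset_span (by simp)
lemma t4_mem_J : T ^ 4 ∈ idJ Y T := Ideal.subset_span (by simp)

lemma J_le_I : idJ Y T ≤ idI X Y T := by
  unfold idJ
  rw [Ideal.span_le]
  rintro _ (rfl | rfl)
  · exact y2_mem_I X Y T
  · exact t4_mem_I X Y T

lemma T_le_I : idT X Y T ≤ idI X Y T := by
  unfold idT
  rw [Ideal.span_le]
  rintro _ (rfl | rfl | rfl)
  · exact xy_mem_I X Y T
  · exact xt_mem_I X Y T
  · exact yt2_mem_I X Y T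

variable {X Y T}

lemma I_eq_sup {n : ℕ} (hrel : X ^ 2 = Y ^ (n + 3)) : idI X Y T = idJ Y T ⊔ idT X Y T := by
  apply le_antisymm
  · unfold idI
    rw [Ideal.span_le]
    rintro _ (rfl | rfl | rfl | rfl | rfl | rfl)
    · apply Ideal.mem_sup_left
      have : X ^ 2 = Y ^ (n + 1) * Y ^ 2 := by rw [hrel]; ring
      rw [this]
      exact Ideal.mul_mem_left _ _ (y2_mem_J Y T)
    · exact Ideal.mem_sup_right (Ideal.subset_span (by simp))
    · exact Ideal.mem_sup_left (y2_mem_J Y T)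
    · exact Ideal.mem_sup_right (Ideal.subset_span (by simp))
    · exact Ideal.mem_sup_right (Ideal.subset_span (by simp))
    · exact Ideal.mem_sup_left (t4_mem_J Y T)
  · exact sup_le (J_le_I X Y T) (T_le_I X Y T)

lemma mem_JI {K : Ideal A} (j i z : A) (hj : j ∈ idJ Y T) (hi : i ∈ idI X Y T) (h : z = j * i) :
    z ∈ idJ Y T * idI X Y T ⊔ K := by
  rw [h]
  exact Ideal.mem_sup_left (Ideal.mul_mem_mul hj hi)

lemma TT_le {n : ℕ} (hrel : X ^ 2 = Y ^ (n + 3)) :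
    idT X Y T * idT X Y T ≤ idJ Y T * idI X Y T ⊔ Ideal.span {X * Y * T ^ 3} := by
  have hw : ∀ z, z = X * Y * T ^ 3 → z ∈ idJ Y T * idI X Y T ⊔ Ideal.span {X * Y * T ^ 3} :=
    fun z hz => hz ▸ Ideal.mem_sup_right (Ideal.subset_span rfl)
  have hbd : X * Y * (X * T) = Y ^ 2 * (Y ^ 2 * (Y ^ n * T)) := by
    linear_combination (Y * T) * hrel
  have hdd : X * T * (X * T) = Y ^ 2 * (Y ^ n * (Y * T ^ 2)) := by
    linear_combination (T ^ 2) * hrel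
  unfold idT
  rw [Ideal.span_mul_span', Ideal.span_le, Set.mul_subset_iff]
  rintro _ (rfl | rfl | rfl) _ (rfl | rfl | rfl)
  · exact mem_JI (Y ^ 2) (X ^ 2) _ (y2_mem_J Y T) (x2_mem_I X Y T) (by ring)
  · exact mem_JI (Y ^ 2) (Y ^ 2 * (Y ^ n * T)) _ (y2_mem_J Y T)
      (Ideal.mul_mem_right _ _ (y2_mem_I X Y T)) hbd
  · exact mem_JI (Y ^ 2) (X * T * T) _ (y2_mem_J Y T)
      (Ideal.mul_mem_right _ _ (xt_mem_I X Y T)) (by ring)
  · exact mem_JI (Y ^ 2) (Y ^ 2 * (Y ^ n * T)) _ (y2_mem_J Y T)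
      (Ideal.mul_mem_right _ _ (y2_mem_I X Y T)) (by rw [← hbd]; ring)
  · exact mem_JI (Y ^ 2) (Y ^ n * (Y * T ^ 2)) _ (y2_mem_J Y T)
      (Ideal.mul_mem_left _ _ (yt2_mem_I X Y T)) hdd
  · exact hw _ (by ring)
  · exact mem_JI (Y ^ 2) (X * T * T) _ (y2_mem_J Y T)
      (Ideal.mul_mem_right _ _ (xt_mem_I X Y T)) (by ring)
  · exact hw _ (by ring)
  · exact mem_JI (Y ^ 2) (T ^ 4) _ (y2_mem_J Y T) (t4_mem_I X Y T) (by ring)

lemma II_le {n : ℕ} (hrel : X ^ 2 = Y ^ (n + 3)) :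
    idI X Y T * idI X Y T ≤ idJ Y T * idI X Y T ⊔ Ideal.span {X * Y * T ^ 3} := by
  nth_rewrite 1 [I_eq_sup hrel]
  rw [Ideal.sup_mul]
  apply sup_le le_sup_left
  nth_rewrite 1 [I_eq_sup (T := T) hrel]
  rw [Ideal.mul_sup]
  apply sup_le
  · rw [mul_comm]
    exact le_sup_of_le_left (Ideal.mul_mono le_rfl (T_le_I X Y T))
  · exact TT_le hrel

lemma w_mem_II : X * Y * T ^ 3 ∈ idI X Y T * idI X Y T := by
  have : X * Y * T ^ 3 = (X * T) * (Y * T ^ 2) := by ring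
  rw [this]
  exact Ideal.mul_mem_mul (xt_mem_I X Y T) (yt2_mem_I X Y T)

lemma wI_le {n : ℕ} (hrel : X ^ 2 = Y ^ (n + 3)) :
    Ideal.span {X * Y * T ^ 3} * idI X Y T ≤ idJ Y T * (idI X Y T * idI X Y T) := by
  nth_rewrite 1 [I_eq_sup hrel]
  rw [Ideal.mul_sup]
  apply sup_le
  · rw [mul_comm]
    apply Ideal.mul_mono le_rfl
    rw [Ideal.span_singleton_le_iff_mem]
    exact w_mem_II
  · unfold idT
    rw [Ideal.span_mul_span', Ideal.span_le, Set.mul_subset_iff]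
    rintro _ rfl _ (rfl | rfl | rfl)
    · have e : X * Y * T ^ 3 * (X * Y) = Y ^ 2 * (Y ^ 2 * (Y ^ n * T * (Y * T ^ 2))) := by
        linear_combination (Y ^ 2 * T ^ 3) * hrel
      rw [e]
      exact Ideal.mul_mem_mul (y2_mem_J Y T)
        (Ideal.mul_mem_mul (y2_mem_I X Y T) (Ideal.mul_mem_left _ _ (yt2_mem_I X Y T)))
    · have e : X * Y * T ^ 3 * (X * T) = T ^ 4 * (Y ^ 2 * (Y ^ 2 * Y ^ n)) := by
        linear_combination (Y * T ^ 4) * hrel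
      rw [e]
      exact Ideal.mul_mem_mul (t4_mem_J Y T)
        (Ideal.mul_mem_mul (y2_mem_I X Y T) (Ideal.mul_mem_right _ _ (y2_mem_I X Y T)))
    · have e : X * Y * T ^ 3 * (Y * T ^ 2) = Y ^ 2 * (X * T * T ^ 4) := by ring
      rw [e]
      exact Ideal.mul_mem_mul (y2_mem_J Y T)
        (Ideal.mul_mem_mul (xt_mem_I X Y T) (t4_mem_I X Y T))

theorem I_pow_three_le {n : ℕ} (hrel : X ^ 2 = Y ^ (n + 3)) :
    idI X Y T ^ (2 + 1) ≤ idJ Y T * idI X Y T ^ 2 := by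
  rw [pow_succ', pow_two]
  calc idI X Y T * (idI X Y T * idI X Y T)
      ≤ idI X Y T * (idJ Y T * idI X Y T ⊔ Ideal.span {X * Y * T ^ 3}) :=
        Ideal.mul_mono le_rfl (II_le hrel)
    _ = idJ Y T * (idI X Y T * idI X Y T) ⊔ Ideal.span {X * Y * T ^ 3} * idI X Y T := by
        rw [Ideal.mul_sup, mul_comm (idI X Y T) (Ideal.span _)]
        congr 1
        rw [← mul_assoc, mul_comm (idI X Y T) (idJ Y T), mul_assoc]
    _ ≤ idJ Y T * (idI X Y T * idI X Y T) := sup_le le_rfl (wI_le hrel)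

theorem I_pow_add_two_le {n : ℕ} (hrel : X ^ 2 = Y ^ (n + 3)) (m : ℕ) :
    idI X Y T ^ (m + 2) ≤ idJ Y T ^ m :=
  Groth.Agent.Lib.Helper90.Reduction.pow_add_le (I_pow_three_le hrel) m

end Groth.Agent.Lib.Helper90.MultEx
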