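import Mathlib
import Groth.Agent.Lib.Helper90.MultEx1

/-!
# Lengths of quotients of a quotient of a power series ring over a field

For a proper ideal `𝔤` of `P = k[[σ]]` and an ideal `𝔞₀` of `P`, the length of
`(P/𝔤)/(𝔞₀ (P/𝔤))` over `P/𝔤` is bounded below by surjective families of functionals vanishing on
`𝔤 + 𝔞₀` and above by families spanning modulo `𝔤 + 𝔞₀`.
-/

namespace Groth.Agent.Lib.Helper90.MultEx

universe u v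

open MvPowerSeries IsLocalRing

variable {k : Type u} [Field k] {σ : Type v} (𝔤 : Ideal (MvPowerSeries σ k))

lemma isLocalRing_quot (h𝔤 : 𝔤 ≠ ⊤) : IsLocalRing (MvPowerSeries σ k ⧸ 𝔤) := by
  haveI : Nontrivial (MvPowerSeries σ k ⧸ 𝔤) := Ideal.Quotient.nontrivial_iff.mpr h𝔤
  exact IsLocalRing.of_surjective' (Ideal.Quotient.mk 𝔤) Ideal.Quotient.mk_surjective

lemma exists_const_sub_mem [IsLocalRing (MvPowerSeries σ k ⧸ 𝔤)] (b : MvPowerSeries σ k ⧸ 𝔤) :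
    ∃ c : k, b - algebraMap k (MvPowerSeries σ k ⧸ 𝔤) c ∈
      maximalIdeal (MvPowerSeries σ k ⧸ 𝔤) := by
  obtain ⟨f, rfl⟩ := Ideal.Quotient.mk_surjective b
  refine ⟨constantCoeff f, ?_⟩
  haveI : IsLocalHom (Ideal.Quotient.mk 𝔤) :=
    IsLocalHom.of_surjective (Ideal.Quotient.mk 𝔤) Ideal.Quotient.mk_surjective
  have h1 : algebraMap k (MvPowerSeries σ k ⧸ 𝔤) (constantCoeff f) =
      Ideal.Quotient.mk 𝔤 (C (constantCoeff f)) := rfl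
  rw [h1, ← map_sub, mem_maximalIdeal, mem_nonunits_iff]
  intro hu
  have h2 := (isUnit_map_iff (Ideal.Quotient.mk 𝔤) _).mp hu
  rw [MvPowerSeries.isUnit_iff_constantCoeff, map_sub, constantCoeff_C, sub_self] at h2
  exact not_isUnit_zero h2

/-- the `k`-linear projection `P → (P/𝔤)/𝔞₀(P/𝔤)`. -/
noncomputable def projQ (𝔞₀ : Ideal (MvPowerSeries σ k)) :
    MvPowerSeries σ k →ₗ[k]
      ((MvPowerSeries σ k ⧸ 𝔤) ⧸ Ideal.map (Ideal.Quotient.mk 𝔤) 𝔞₀) :=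
  ((Ideal.Quotient.mkₐ k (Ideal.map (Ideal.Quotient.mk 𝔤) 𝔞₀)).comp
    (Ideal.Quotient.mkₐ k 𝔤)).toLinearMap

lemma projQ_surjective (𝔞₀ : Ideal (MvPowerSeries σ k)) : Function.Surjective (projQ 𝔤 𝔞₀) := by
  intro z
  obtain ⟨y, rfl⟩ := Ideal.Quotient.mk_surjective z
  obtain ⟨f, rfl⟩ := Ideal.Quotient.mk_surjective y
  exact ⟨f, rfl⟩

lemma mem_ker_projQ (𝔞₀ : Ideal (MvPowerSeries σ k)) (f : MvPowerSeries σ k) :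
    f ∈ LinearMap.ker (projQ 𝔤 𝔞₀) ↔ f ∈ 𝔤 ⊔ 𝔞₀ := by
  rw [LinearMap.mem_ker]
  have h1 : projQ 𝔤 𝔞₀ f =
      Ideal.Quotient.mk (Ideal.map (Ideal.Quotient.mk 𝔤) 𝔞₀) (Ideal.Quotient.mk 𝔤 f) := rfl
  rw [h1, Ideal.Quotient.eq_zero_iff_mem, ← Ideal.mem_comap,
    Ideal.comap_map_of_surjective _ Ideal.Quotient.mk_surjective]
  have h2 : Ideal.comap (Ideal.Quotient.mk 𝔤) ⊥ = 𝔤 := by
    rw [← RingHom.ker_eq_comap_bot, Ideal.mk_ker]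
  rw [h2, sup_comm]

theorem length_quot_eq_field (h𝔤 : 𝔤 ≠ ⊤) (𝔞 : Ideal (MvPowerSeries σ k ⧸ 𝔤)) :
    Module.length (MvPowerSeries σ k ⧸ 𝔤) ((MvPowerSeries σ k ⧸ 𝔤) ⧸ 𝔞) =
      Module.length k ((MvPowerSeries σ k ⧸ 𝔤) ⧸ 𝔞) := by
  haveI := isLocalRing_quot 𝔤 h𝔤
  exact (length_field_eq k (MvPowerSeries σ k ⧸ 𝔤) (exists_const_sub_mem 𝔤) _).symm

/-- lower bound by a surjective family of functionals vanishing on `𝔤 + 𝔞₀`. -/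
theorem le_length_quot (h𝔤 : 𝔤 ≠ ⊤) (𝔞₀ : Ideal (MvPowerSeries σ k)) {ι : Type*} [Fintype ι]
    (Φ : MvPowerSeries σ k →ₗ[k] (ι → k)) (hΦ : Function.Surjective Φ)
    (hker : ∀ f ∈ 𝔤 ⊔ 𝔞₀, Φ f = 0) :
    (Fintype.card ι : ℕ∞) ≤ Module.length (MvPowerSeries σ k ⧸ 𝔤)
      ((MvPowerSeries σ k ⧸ 𝔤) ⧸ Ideal.map (Ideal.Quotient.mk 𝔤) 𝔞₀) := by
  rw [length_quot_eq_field 𝔤 h𝔤]
  apply le_length_of_surjective (projQ 𝔤 𝔞₀) (projQ_surjective 𝔤 𝔞₀) Φ hΦ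
  intro f hf
  rw [LinearMap.mem_ker]
  exact hker f ((mem_ker_projQ 𝔤 𝔞₀ f).mp hf)

/-- upper bound by a family spanning modulo `𝔤 + 𝔞₀`. -/
theorem length_quot_le (h𝔤 : 𝔤 ≠ ⊤) (𝔞₀ : Ideal (MvPowerSeries σ k)) {ι : Type*} [Fintype ι]
    (v : ι → MvPowerSeries σ k)
    (hv : ∀ f : MvPowerSeries σ k, ∃ c : ι → k, f - ∑ i, c i • v i ∈ 𝔤 ⊔ 𝔞₀) :
    Module.length (MvPowerSeries σ k ⧸ 𝔤)
      ((MvPowerSeries σ k ⧸ 𝔤) ⧸ Ideal.map (Ideal.Quotient.mk 𝔤) 𝔞₀) ≤ (Fintype.card ι : ℕ∞) := by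
  rw [length_quot_eq_field 𝔤 h𝔤]
  apply length_le_of_span (projQ 𝔤 𝔞₀) (projQ_surjective 𝔤 𝔞₀) v
  intro f
  obtain ⟨c, hc⟩ := hv f
  exact ⟨c, (mem_ker_projQ 𝔤 𝔞₀ _).mpr hc⟩

end Groth.Agent.Lib.Helper90.MultEx
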