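import Mathlib
import Groth.Agent.Lib.Helper90.MultEx4
import Groth.Agent.Lib.Helper90.MultEx5
import Groth.Agent.Lib.Helper90.MultEx6
import Groth.Agent.Lib.Helper90.MultEx7
import Groth.Agent.Lib.Helper90.SamuelPrimary

/-!
# The ideal `(x^2, xy, y^2, xt, yt^2, t^4)` of `k[[x,y,t]]/(x^2 - y^n)`

Its colength is `7`, and `8 m (m+1) ≤ ℓ(A/I^(m+2))`, `ℓ(A/I^m) ≤ 8 m (m+1)`.
-/

namespace Groth.Agent.Lib.Helper90.MultEx

universe u

open MvPowerSeries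

variable (k : Type u) [Field k] (n : ℕ)

lemma mon200 : (mon 2 0 0 : MvPowerSeries (Fin 3) k) = X 0 ^ 2 := by simp [mon_eq]
lemma mon020 : (mon 0 2 0 : MvPowerSeries (Fin 3) k) = X 1 ^ 2 := by simp [mon_eq]
lemma mon004 : (mon 0 0 4 : MvPowerSeries (Fin 3) k) = X 2 ^ 4 := by simp [mon_eq]
lemma mon0n0 : (mon 0 n 0 : MvPowerSeries (Fin 3) k) = X 1 ^ n := by simp [mon_eq]

/-- the relation ideal `(x^2 - y^n)`. -/
noncomputable abbrev relI : Ideal (MvPowerSeries (Fin 3) k) :=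
  Ideal.span {(X 0 ^ 2 - X 1 ^ n : MvPowerSeries (Fin 3) k)}

/-- the ideal `(x^2, xy, y^2, xt, yt^2, t^4)` upstairs. -/
noncomputable abbrev I0 : Ideal (MvPowerSeries (Fin 3) k) :=
  Ideal.span {(X 0 ^ 2 : MvPowerSeries (Fin 3) k), X 0 * X 1, X 1 ^ 2, X 0 * X 2,
    X 1 * X 2 ^ 2, X 2 ^ 4}

/-- the ideal `(y^2, t^4)` upstairs. -/
noncomputable abbrev J0 : Ideal (MvPowerSeries (Fin 3) k) :=
  Ideal.span {(X 1 ^ 2 : MvPowerSeries (Fin 3) k), X 2 ^ 4}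

lemma relI_ne_top (hn : 0 < n) : relI k n ≠ ⊤ := by
  intro h
  rw [Ideal.span_singleton_eq_top, MvPowerSeries.isUnit_iff_constantCoeff, map_sub, map_pow,
    map_pow, constantCoeff_X, constantCoeff_X, zero_pow two_ne_zero, zero_pow hn.ne',
    sub_zero] at h
  exact not_isUnit_zero h

section Seven

open Classical in
/-- exponents of the generators of `I`. -/
noncomputable def GI : Finset (Fin 3 →₀ ℕ) :=
  {ex 2 0 0, ex 1 1 0, ex 0 2 0, ex 1 0 1, ex 0 1 2, ex 0 0 4}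

lemma monIdeal_GI : monIdeal (R := k) (GI : Set (Fin 3 →₀ ℕ)) = I0 k := by
  unfold monIdeal GI
  simp only [Finset.coe_insert, Finset.coe_singleton, Set.image_insert_eq, Set.image_singleton]
  have h : ∀ a b c, (monomial (ex a b c) (1 : k) : MvPowerSeries (Fin 3) k) =
      X 0 ^ a * X 1 ^ b * X 2 ^ c := mon_eq
  simp only [h, pow_zero, pow_one, mul_one, one_mul]

/-- the seven standard exponents. -/
def tri : Fin 7 → ℕ × ℕ × ℕ :=
  ![(0, 0, 0), (1, 0, 0), (0, 1, 0), (0, 0, 1), (0, 1, 1), (0, 0, 2), (0, 0, 3)]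

lemma tri_inj : Function.Injective tri := by decide

lemma tri_bounds : ∀ i, (tri i).1 < 2 ∧ (tri i).2.1 < 2 ∧ (tri i).2.2 < 4 := by decide

lemma tri_not : ∀ i, ¬ (2 ≤ (tri i).1) ∧ ¬ (1 ≤ (tri i).1 ∧ 1 ≤ (tri i).2.1) ∧
    ¬ (2 ≤ (tri i).2.1) ∧ ¬ (1 ≤ (tri i).1 ∧ 1 ≤ (tri i).2.2) ∧
    ¬ (1 ≤ (tri i).2.1 ∧ 2 ≤ (tri i).2.2) ∧ ¬ (4 ≤ (tri i).2.2) := by decide

/-- the seven standard exponent vectors. -/
noncomputable def E7 (i : Fin 7) : Fin 3 →₀ ℕ := ex (tri i).1 (tri i).2.1 (tri i).2.2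

lemma E7_inj : Function.Injective E7 := by
  intro i j h
  obtain ⟨h1, h2, h3⟩ := ex_inj.mp h
  exact tri_inj (Prod.ext h1 (Prod.ext h2 h3))

lemma cover7 (e : Fin 3 →₀ ℕ) : (∃ g ∈ GI, g ≤ e) ∨ ∃ i, E7 i = e := by
  rw [eq_ex e]
  generalize e 0 = a
  generalize e 1 = b
  generalize e 2 = c
  have : 2 ≤ a ∨ (1 ≤ a ∧ 1 ≤ b) ∨ 2 ≤ b ∨ (1 ≤ a ∧ 1 ≤ c) ∨ (1 ≤ b ∧ 2 ≤ c) ∨ 4 ≤ c ∨
      (a = 0 ∧ b = 0 ∧ c = 0) ∨ (a = 1 ∧ b = 0 ∧ c = 0) ∨ (a = 0 ∧ b = 1 ∧ c = 0) ∨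
      (a = 0 ∧ b = 0 ∧ c = 1) ∨ (a = 0 ∧ b = 1 ∧ c = 1) ∨ (a = 0 ∧ b = 0 ∧ c = 2) ∨
      (a = 0 ∧ b = 0 ∧ c = 3) := by omega
  rcases this with h | h | h | h | h | h | h | h | h | h | h | h | h
  · exact Or.inl ⟨ex 2 0 0, by simp [GI], ex_le_iff.mpr ⟨h, Nat.zero_le _, Nat.zero_le _⟩⟩
  · exact Or.inl ⟨ex 1 1 0, by simp [GI], ex_le_iff.mpr ⟨h.1, h.2, Nat.zero_le _⟩⟩
  · exact Or.inl ⟨ex 0 2 0, by simp [GI], ex_le_iff.mpr ⟨Nat.zero_le _, h, Nat.zero_le _⟩⟩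
  · exact Or.inl ⟨ex 1 0 1, by simp [GI], ex_le_iff.mpr ⟨h.1, Nat.zero_le _, h.2⟩⟩
  · exact Or.inl ⟨ex 0 1 2, by simp [GI], ex_le_iff.mpr ⟨Nat.zero_le _, h.1, h.2⟩⟩
  · exact Or.inl ⟨ex 0 0 4, by simp [GI], ex_le_iff.mpr ⟨Nat.zero_le _, Nat.zero_le _, h⟩⟩
  · obtain ⟨rfl, rfl, rfl⟩ := h; exact Or.inr ⟨0, rfl⟩
  · obtain ⟨rfl, rfl, rfl⟩ := h; exact Or.inr ⟨1, rfl⟩
  · obtain ⟨rfl, rfl, rfl⟩ := h; exact Or.inr ⟨2, rfl⟩
  · obtain ⟨rfl, rfl, rfl⟩ := h; exact Or.inr ⟨3, rfl⟩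
  · obtain ⟨rfl, rfl, rfl⟩ := h; exact Or.inr ⟨4, rfl⟩
  · obtain ⟨rfl, rfl, rfl⟩ := h; exact Or.inr ⟨5, rfl⟩
  · obtain ⟨rfl, rfl, rfl⟩ := h; exact Or.inr ⟨6, rfl⟩

lemma not_le_E7 (i : Fin 7) : ∀ g ∈ (GI : Set (Fin 3 →₀ ℕ)), ¬ g ≤ E7 i := by
  intro g hg
  obtain ⟨h1, h2, h3, h4, h5, h6⟩ := tri_not i
  simp only [GI, Finset.coe_insert, Finset.coe_singleton, Set.mem_insert_iff,
    Set.mem_singleton_iff] at hg
  unfold E7
  rcases hg with rfl | rfl | rfl | rfl | rfl | rfl <;> rw [ex_le_iff] <;> omega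

/-- the seven coefficient functionals. -/
noncomputable def Phi7 : MvPowerSeries (Fin 3) k →ₗ[k] (Fin 7 → k) :=
  LinearMap.pi fun i => coeff (E7 i)

lemma Phi7_apply (f : MvPowerSeries (Fin 3) k) (i : Fin 7) : Phi7 k f i = coeff (E7 i) f := rfl

lemma Phi7_surjective : Function.Surjective (Phi7 k) := by
  classical
  intro v
  refine ⟨∑ j : Fin 7, v j • (monomial (E7 j) (1 : k) : MvPowerSeries (Fin 3) k), ?_⟩
  funext i
  rw [Phi7_apply, map_sum, Finset.sum_eq_single i]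
  · rw [coeff_smul, coeff_monomial_same, mul_one]
  · intro j _ hj
    rw [coeff_smul, coeff_monomial_ne (fun h => hj (E7_inj h).symm), mul_zero]
  · intro h
    exact absurd (Finset.mem_univ _) h

lemma Phi7_eq_zero (hn : 3 ≤ n) (f : MvPowerSeries (Fin 3) k) (hf : f ∈ relI k n ⊔ I0 k) :
    Phi7 k f = 0 := by
  funext i
  rw [Phi7_apply, Pi.zero_apply]
  obtain ⟨s, hs, t, ht, rfl⟩ := Submodule.mem_sup.mp hf
  obtain ⟨h, rfl⟩ := Ideal.mem_span_singleton'.mp hs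
  rw [map_add]
  have h1 : coeff (E7 i) t = 0 := by
    rw [← monIdeal_GI] at ht
    exact coeff_eq_zero_of_mem_monIdeal _ _ (not_le_E7 i) ht
  have h2 : coeff (E7 i) (h * (X 0 ^ 2 - X 1 ^ n)) = 0 := by
    obtain ⟨b1, b2, _⟩ := tri_bounds i
    rw [← mon200, ← mon0n0, mul_comm, sub_mul, map_sub]
    unfold E7
    rw [coeff_mon_mul, coeff_mon_mul, if_neg, if_neg, sub_zero]
    · omega
    · omega
  rw [h1, h2, add_zero]

theorem length_quot_I0 (hn : 3 ≤ n) :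
    Module.length (MvPowerSeries (Fin 3) k ⧸ relI k n)
      ((MvPowerSeries (Fin 3) k ⧸ relI k n) ⧸
        Ideal.map (Ideal.Quotient.mk (relI k n)) (I0 k)) = 7 := by
  have hne := relI_ne_top k n (by omega)
  apply le_antisymm
  · have := length_quot_le (relI k n) hne (I0 k)
      (fun i : Fin 7 => (monomial (E7 i) (1 : k) : MvPowerSeries (Fin 3) k)) (fun f => by
        refine ⟨fun i => coeff (E7 i) f, ?_⟩
        apply Ideal.mem_sup_right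
        rw [← monIdeal_GI]
        exact sub_sum_mem_monIdeal GI E7 E7_inj cover7 f)
    simpa using this
  · have := le_length_quot (relI k n) hne (I0 k) (Phi7 k) (Phi7_surjective k)
      (Phi7_eq_zero k n hn)
    simpa using this

end Seven

section Sixteen

open Classical in
/-- exponents of `x^2, y^2, t^4`. -/
noncomputable def GJ : Finset (Fin 3 →₀ ℕ) := {ex 2 0 0, ex 0 2 0, ex 0 0 4}

lemma monIdeal_GJ : monIdeal (R := k) (GJ : Set (Fin 3 →₀ ℕ)) =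
    Ideal.span {(X 0 ^ 2 : MvPowerSeries (Fin 3) k), X 1 ^ 2, X 2 ^ 4} := by
  unfold monIdeal GJ
  simp only [Finset.coe_insert, Finset.coe_singleton, Set.image_insert_eq, Set.image_singleton]
  have h : ∀ a b c, (monomial (ex a b c) (1 : k) : MvPowerSeries (Fin 3) k) =
      X 0 ^ a * X 1 ^ b * X 2 ^ c := mon_eq
  simp only [h, pow_zero, mul_one, one_mul]

lemma monIdeal_GJ_le (hn : 3 ≤ n) :
    monIdeal (R := k) (GJ : Set (Fin 3 →₀ ℕ)) ≤ relI k n ⊔ J0 k := by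
  rw [monIdeal_GJ, Ideal.span_le]
  rintro _ (rfl | rfl | rfl)
  · have e : (X 0 ^ 2 : MvPowerSeries (Fin 3) k) =
        (X 0 ^ 2 - X 1 ^ n) + X 1 ^ (n - 2) * X 1 ^ 2 := by
      rw [← pow_add, Nat.sub_add_cancel (by omega)]
      ring
    rw [e]
    exact Ideal.add_mem _ (Ideal.mem_sup_left (Ideal.subset_span rfl))
      (Ideal.mem_sup_right (Ideal.mul_mem_left _ _ (Ideal.subset_span (by simp))))
  · exact Ideal.mem_sup_right (Ideal.subset_span (by simp))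
  · exact Ideal.mem_sup_right (Ideal.subset_span (by simp))

/-- the sixteen standard exponent vectors. -/
noncomputable def E16 (p : Fin 2 × Fin 2 × Fin 4) : Fin 3 →₀ ℕ := ex p.1 p.2.1 p.2.2

lemma E16_inj : Function.Injective E16 := by
  rintro ⟨a, b, c⟩ ⟨a', b', c'⟩ h
  obtain ⟨h1, h2, h3⟩ := ex_inj.mp h
  simp only at h1 h2 h3
  rw [Fin.ext h1, Fin.ext h2, Fin.ext h3]

lemma cover16 (e : Fin 3 →₀ ℕ) : (∃ g ∈ GJ, g ≤ e) ∨ ∃ p, E16 p = e := by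
  rw [eq_ex e]
  generalize e 0 = a
  generalize e 1 = b
  generalize e 2 = c
  by_cases h1 : 2 ≤ a
  · exact Or.inl ⟨ex 2 0 0, by simp [GJ], ex_le_iff.mpr ⟨h1, Nat.zero_le _, Nat.zero_le _⟩⟩
  by_cases h2 : 2 ≤ b
  · exact Or.inl ⟨ex 0 2 0, by simp [GJ], ex_le_iff.mpr ⟨Nat.zero_le _, h2, Nat.zero_le _⟩⟩
  by_cases h3 : 4 ≤ c
  · exact Or.inl ⟨ex 0 0 4, by simp [GJ], ex_le_iff.mpr ⟨Nat.zero_le _, Nat.zero_le _, h3⟩⟩
  exact Or.inr ⟨(⟨a, by omega⟩, ⟨b, by omega⟩, ⟨c, by omega⟩), rfl⟩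

theorem length_quot_J0_le (hn : 3 ≤ n) :
    Module.length (MvPowerSeries (Fin 3) k ⧸ relI k n)
      ((MvPowerSeries (Fin 3) k ⧸ relI k n) ⧸
        Ideal.map (Ideal.Quotient.mk (relI k n)) (J0 k)) ≤ 16 := by
  have hne := relI_ne_top k n (by omega)
  have := length_quot_le (relI k n) hne (J0 k)
    (fun p : Fin 2 × Fin 2 × Fin 4 => (monomial (E16 p) (1 : k) : MvPowerSeries (Fin 3) k))
    (fun f => by
      refine ⟨fun p => coeff (E16 p) f, ?_⟩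
      exact monIdeal_GJ_le k n hn (sub_sum_mem_monIdeal GJ E16 E16_inj cover16 f))
  simpa using this

end Sixteen

section Powers

theorem le_length_quot_J0_pow (hn : 3 ≤ n) (m : ℕ) :
    ((8 * (m * (m + 1)) : ℕ) : ℕ∞) ≤
      Module.length (MvPowerSeries (Fin 3) k ⧸ relI k n)
        ((MvPowerSeries (Fin 3) k ⧸ relI k n) ⧸
          Ideal.map (Ideal.Quotient.mk (relI k n)) (J0 k ^ m)) := by
  have hne := relI_ne_top k n (by omega)
  have := le_length_quot (relI k n) hne (J0 k ^ m) (Phi (k := k) n m) (Phi_surjective n m)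
    (fun f hf => by
      apply Phi_eq_zero n (by omega) m f
      rw [mon200, mon0n0, mon020, mon004]
      exact hf)
  rw [card_Idx] at this
  exact this

end Powers

end Groth.Agent.Lib.Helper90.MultEx
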