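import Mathlib
import Groth.Agent.Lib.Helper90.MultEx8

/-!
# The Samuel multiplicity of `(x^2, xy, y^2, xt, yt^2, t^4)` in `k[[x,y,t]]/(x^2 - y^n)` is `16`
-/

namespace Groth.Agent.Lib.Helper90.MultEx

universe u

open MvPowerSeries Filter

section Real

/-- the squeeze giving the limit `16`. -/
theorem tendsto_sixteen (ℓ : ℕ → ℕ) (h1 : ∀ m, 8 * (m * (m + 1)) ≤ ℓ (m + 2))
    (h2 : ∀ m, ℓ m ≤ 8 * (m * (m + 1))) :
    Tendsto (fun m : ℕ => (2 : ℝ) * (ℓ m : ℝ) / (m : ℝ) ^ 2) atTop (nhds 16) := by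
  have hlo : Tendsto (fun m : ℕ => (16 : ℝ) - 48 / (m : ℝ)) atTop (nhds 16) := by
    have := (tendsto_const_nhds (x := (16 : ℝ)) (f := (atTop : Filter ℕ))).sub
      (tendsto_const_div_atTop_nhds_zero_nat (48 : ℝ))
    simpa using this
  have hhi : Tendsto (fun m : ℕ => (16 : ℝ) + 16 / (m : ℝ)) atTop (nhds 16) := by
    have := (tendsto_const_nhds (x := (16 : ℝ)) (f := (atTop : Filter ℕ))).add
      (tendsto_const_div_atTop_nhds_zero_nat (16 : ℝ))
    simpa using this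
  refine tendsto_of_tendsto_of_tendsto_of_le_of_le' hlo hhi ?_ ?_
  · filter_upwards [eventually_ge_atTop 2] with m hm
    obtain ⟨m', rfl⟩ := Nat.exists_eq_add_of_le' hm
    have hb := h1 m'
    have hb' : (8 * ((m' : ℝ) * ((m' : ℝ) + 1))) ≤ (ℓ (m' + 2) : ℝ) := by exact_mod_cast hb
    have hpos : (0 : ℝ) < ((m' + 2 : ℕ) : ℝ) := by positivity
    rw [le_div_iff₀ (by positivity), sub_mul, div_mul_eq_mul_div]
    have e : (48 : ℝ) * ((m' + 2 : ℕ) : ℝ) ^ 2 / ((m' + 2 : ℕ) : ℝ) = 48 * ((m' + 2 : ℕ) : ℝ) := by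
      field_simp
    rw [e]
    push_cast
    nlinarith
  · filter_upwards [eventually_ge_atTop 1] with m hm
    have hb := h2 m
    have hb' : (ℓ m : ℝ) ≤ 8 * ((m : ℝ) * ((m : ℝ) + 1)) := by exact_mod_cast hb
    have hpos : (0 : ℝ) < (m : ℝ) := by
      have : (1 : ℝ) ≤ (m : ℝ) := by exact_mod_cast hm
      linarith
    rw [div_le_iff₀ (by positivity), add_mul, div_mul_eq_mul_div]
    have e : (16 : ℝ) * (m : ℝ) ^ 2 / (m : ℝ) = 16 * (m : ℝ) := by
      field_simp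
    rw [e]
    nlinarith

end Real

variable (k : Type u) [Field k] (n : ℕ)

section Bounds

lemma map_I0 : Ideal.map (Ideal.Quotient.mk (relI k n)) (I0 k) =
    idI (Ideal.Quotient.mk (relI k n) (X 0)) (Ideal.Quotient.mk (relI k n) (X 1))
      (Ideal.Quotient.mk (relI k n) (X 2)) := by
  unfold idI
  rw [Ideal.map_span]
  simp only [Set.image_insert_eq, Set.image_singleton, map_pow, map_mul]

lemma map_J0 : Ideal.map (Ideal.Quotient.mk (relI k n)) (J0 k) =
    idJ (Ideal.Quotient.mk (relI k n) (X 1)) (Ideal.Quotient.mk (relI k n) (X 2)) := by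
  unfold idJ
  rw [Ideal.map_span]
  simp only [Set.image_insert_eq, Set.image_singleton, map_pow]

lemma rel_quot (n' : ℕ) :
    (Ideal.Quotient.mk (relI k (n' + 3)) (X 0)) ^ 2 =
      (Ideal.Quotient.mk (relI k (n' + 3)) (X 1)) ^ (n' + 3) := by
  have h : Ideal.Quotient.mk (relI k (n' + 3))
      ((X 0 ^ 2 - X 1 ^ (n' + 3) : MvPowerSeries (Fin 3) k)) = 0 :=
    Ideal.Quotient.eq_zero_iff_mem.mpr (Ideal.subset_span rfl)
  rw [map_sub, map_pow, map_pow, sub_eq_zero] at h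
  exact h

theorem length_quot_I0_pow_le (hn : 3 ≤ n) (m : ℕ) :
    Module.length (MvPowerSeries (Fin 3) k ⧸ relI k n)
      ((MvPowerSeries (Fin 3) k ⧸ relI k n) ⧸
        Ideal.map (Ideal.Quotient.mk (relI k n)) (I0 k) ^ m) ≤ ((8 * (m * (m + 1)) : ℕ) : ℕ∞) := by
  have hJI : Ideal.map (Ideal.Quotient.mk (relI k n)) (J0 k) ^ m ≤
      Ideal.map (Ideal.Quotient.mk (relI k n)) (I0 k) ^ m := by
    apply Ideal.pow_right_mono
    rw [map_I0, map_J0]
    exact J_le_I _ _ _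
  refine (Groth.Agent.Lib.Helper90.SamuelPrimary.length_quot_le_of_le hJI).trans ?_
  have h1 := length_quot_pow_le
    ((Ideal.Quotient.mk (relI k n) (X 1)) ^ 2) ((Ideal.Quotient.mk (relI k n) (X 2)) ^ 4) m
  have h2 := length_quot_J0_le k n hn
  rw [map_J0] at h2 ⊢
  unfold idJ at h2 ⊢
  refine h1.trans ?_
  calc ((∑ d ∈ Finset.range m, (d + 1) : ℕ) : ℕ∞) * _
      ≤ ((∑ d ∈ Finset.range m, (d + 1) : ℕ) : ℕ∞) * 16 := by gcongr
    _ = ((8 * (m * (m + 1)) : ℕ) : ℕ∞) := by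
      have := sum_succ_mul_two m
      have e : (∑ d ∈ Finset.range m, (d + 1)) * 16 = 8 * (m * (m + 1)) := by omega
      rw [← e]
      push_cast
      rfl

theorem le_length_quot_I0_pow (hn : 3 ≤ n) (m : ℕ) :
    ((8 * (m * (m + 1)) : ℕ) : ℕ∞) ≤
      Module.length (MvPowerSeries (Fin 3) k ⧸ relI k n)
        ((MvPowerSeries (Fin 3) k ⧸ relI k n) ⧸
          Ideal.map (Ideal.Quotient.mk (relI k n)) (I0 k) ^ (m + 2)) := by
  refine (le_length_quot_J0_pow k n hn m).trans ?_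
  apply Groth.Agent.Lib.Helper90.SamuelPrimary.length_quot_le_of_le
  rw [Ideal.map_pow, map_I0, map_J0]
  obtain ⟨n', rfl⟩ := Nat.exists_eq_add_of_le' hn
  exact I_pow_add_two_le (rel_quot k n') m

end Bounds

theorem tendsto_mult (hn : 3 ≤ n) :
    Tendsto (fun m : ℕ => (2 : ℝ) *
      ((Module.length (MvPowerSeries (Fin 3) k ⧸ relI k n)
        ((MvPowerSeries (Fin 3) k ⧸ relI k n) ⧸
          Ideal.map (Ideal.Quotient.mk (relI k n)) (I0 k) ^ m)).toNat : ℝ) / (m : ℝ) ^ 2)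
      atTop (nhds 16) := by
  apply tendsto_sixteen
  · intro m
    have h := le_length_quot_I0_pow k n hn m
    have hfin := length_quot_I0_pow_le k n hn (m + 2)
    have hne : Module.length (MvPowerSeries (Fin 3) k ⧸ relI k n)
        ((MvPowerSeries (Fin 3) k ⧸ relI k n) ⧸
          Ideal.map (Ideal.Quotient.mk (relI k n)) (I0 k) ^ (m + 2)) ≠ ⊤ :=
      ne_top_of_le_ne_top (ENat.coe_ne_top _) hfin
    rw [← ENat.coe_toNat hne] at h
    exact_mod_cast h
  · intro m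
    have hfin := length_quot_I0_pow_le k n hn m
    have hne : Module.length (MvPowerSeries (Fin 3) k ⧸ relI k n)
        ((MvPowerSeries (Fin 3) k ⧸ relI k n) ⧸
          Ideal.map (Ideal.Quotient.mk (relI k n)) (I0 k) ^ m) ≠ ⊤ :=
      ne_top_of_le_ne_top (ENat.coe_ne_top _) hfin
    rw [← ENat.coe_toNat hne] at hfin
    exact_mod_cast hfin

end Groth.Agent.Lib.Helper90.MultEx
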