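import Mathlib
set_option autoImplicit false
universe u
open TensorProduct

namespace Groth.Agent.Lib.Helper90.PrimKR

/-- naturality of the coordinates w.r.t. the right factor -/
theorem equivFinsupp_lTensor {k : Type u} [Field k] {K : Type u} [AddCommGroup K] [Module k K]
    {ι : Type u} [DecidableEq ι] (b : Module.Basis ι k K) {V W : Type u} [AddCommGroup V] [Module k V]
    [AddCommGroup W] [Module k W] (f : V →ₗ[k] W) (w : K ⊗[k] V) (i : ι) :
    TensorProduct.equivFinsuppOfBasisLeft b (LinearMap.lTensor K f w) i =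
      f (TensorProduct.equivFinsuppOfBasisLeft b w i) := by
  induction w using TensorProduct.induction_on with
  | zero => simp
  | tmul x v =>
    simp
  | add x y hx hy =>
    simp only [map_add, Finsupp.add_apply, hx, hy]

theorem kr {k : Type u} [Field k] (K : Type u) [AddCommGroup K] [Module k K] {R : Type u}
    [CommRing R] [IsLocalRing R] [IsNoetherianRing R] [Algebra k R] (V : Type u) [AddCommGroup V]
    [Module R V] [Module k V] [IsScalarTower k R V] [Module.Finite R V] (w : K ⊗[k] V)
    (hw : w ≠ 0) :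
    ∃ n : ℕ, LinearMap.lTensor K ((Submodule.mkQ ((IsLocalRing.maximalIdeal R ^ n) •
      (⊤ : Submodule R V))).restrictScalars k) w ≠ 0 := by
  classical
  let b := Module.Free.chooseBasis k K
  have h1 : TensorProduct.equivFinsuppOfBasisLeft b w ≠ 0 := by
    intro h
    exact hw ((TensorProduct.equivFinsuppOfBasisLeft b).map_eq_zero_iff.mp h)
  obtain ⟨i, hi⟩ : ∃ i, TensorProduct.equivFinsuppOfBasisLeft b w i ≠ 0 := by
    by_contra hcon
    push_neg at hcon
    exact h1 (Finsupp.ext hcon)
  -- Krull intersection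
  have hK : (⨅ n : ℕ, (IsLocalRing.maximalIdeal R ^ n) • (⊤ : Submodule R V)) = ⊥ :=
    Ideal.iInf_pow_smul_eq_bot_of_isLocalRing (IsLocalRing.maximalIdeal R)
      (IsLocalRing.maximalIdeal.isMaximal R).ne_top
  obtain ⟨n, hn⟩ : ∃ n : ℕ, TensorProduct.equivFinsuppOfBasisLeft b w i ∉
      (IsLocalRing.maximalIdeal R ^ n) • (⊤ : Submodule R V) := by
    by_contra hcon
    push_neg at hcon
    have : TensorProduct.equivFinsuppOfBasisLeft b w i ∈
        (⨅ n : ℕ, (IsLocalRing.maximalIdeal R ^ n) • (⊤ : Submodule R V)) :=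
      (Submodule.mem_iInf _).mpr hcon
    rw [hK] at this
    exact hi ((Submodule.mem_bot R).mp this)
  refine ⟨n, fun h0 => hn ?_⟩
  have h2 := equivFinsupp_lTensor b ((Submodule.mkQ ((IsLocalRing.maximalIdeal R ^ n) •
      (⊤ : Submodule R V))).restrictScalars k) w i
  rw [h0] at h2
  simp only [map_zero, Finsupp.zero_apply] at h2
  have h3 : Submodule.mkQ ((IsLocalRing.maximalIdeal R ^ n) • (⊤ : Submodule R V))
      (TensorProduct.equivFinsuppOfBasisLeft b w i) = 0 := h2.symm
  exact (Submodule.Quotient.mk_eq_zero _).mp h3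

end Groth.Agent.Lib.Helper90.PrimKR
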