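import Mathlib
import Groth.Prelude.Def_GSzH1

/-!
# Locally constant cocycles of a "procyclic" topological group

`Γ` is a topological group, `π : Γ` an element whose natural powers are dense and such that for
every `N > 0` there is an open normal subgroup `U` with `π ^ n ∈ U → N ∣ n` (i.e. `Γ ≅ Ẑ`).
For a `Γ`-group `A` with open stabilisers in which every element lies in a finite stable subgroup,
evaluation at `π` is a bijection from locally constant cocycles onto `A`.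
-/

namespace Groth.Agent.Lib.Helper90.Procyclic

open GpH1

section Abstract

variable {Γ : Type*} [Group Γ] {A : Type*} [Group A] [MulDistribMulAction Γ A]

/-- twisted powers: `tw π a n = a * π • a * ... * π^(n-1) • a`. -/
def tw (π : Γ) (a : A) : ℕ → A
  | 0 => 1
  | n + 1 => tw π a n * (π ^ n) • a

@[simp] lemma tw_zero (π : Γ) (a : A) : tw π a 0 = 1 := rfl

lemma tw_succ (π : Γ) (a : A) (n : ℕ) : tw π a (n + 1) = tw π a n * (π ^ n) • a := rfl

lemma tw_one (π : Γ) (a : A) : tw π a 1 = a := by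
  rw [tw_succ, tw_zero, pow_zero, one_smul, one_mul]

lemma tw_add (π : Γ) (a : A) (m n : ℕ) :
    tw π a (m + n) = tw π a m * (π ^ m) • tw π a n := by
  induction n with
  | zero => simp
  | succ n ih =>
    rw [← add_assoc, tw_succ, ih, tw_succ, smul_mul', mul_assoc, pow_add, mul_smul]

lemma tw_mem (π : Γ) (a : A) (H : Subgroup A) (ha : a ∈ H)
    (hst : ∀ (σ : Γ) (x : A), x ∈ H → σ • x ∈ H) (n : ℕ) : tw π a n ∈ H := by
  induction n with
  | zero => exact H.one_mem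
  | succ n ih => exact H.mul_mem ih (hst _ _ ha)

lemma tw_periodic (π : Γ) (a : A) (N : ℕ) (hN : tw π a N = 1) (m c : ℕ) :
    tw π a (m + c * N) = tw π a m := by
  induction c with
  | zero => simp
  | succ c ih =>
    rw [Nat.succ_mul, ← add_assoc, tw_add, hN, smul_one, mul_one, ih]

lemma cocycle_one (z : OneCocycle Γ A) : z 1 = 1 := by
  have h := z.2 1 1
  rw [one_mul, one_smul] at h
  exact (mul_eq_left.mp h.symm)

lemma cocycle_pow (π : Γ) (z : OneCocycle Γ A) (n : ℕ) : z (π ^ n) = tw π (z π) n := by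
  induction n with
  | zero => rw [pow_zero, cocycle_one, tw_zero]
  | succ n ih => rw [pow_succ, z.2, ih, tw_succ]


/-- the pointwise stabiliser of a subgroup `H` of `A`. -/
def fixer (Γ : Type*) [Group Γ] {A : Type*} [Group A] [MulDistribMulAction Γ A]
    (H : Subgroup A) : Subgroup Γ where
  carrier := {σ | ∀ x ∈ H, σ • x = x}
  mul_mem' := by
    intro σ τ hσ hτ x hx
    rw [mul_smul, hτ x hx, hσ x hx]
  one_mem' := by
    intro x _
    exact one_smul _ _
  inv_mem' := by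
    intro σ hσ x hx
    have h := hσ x hx
    rw [inv_smul_eq_iff, h]

lemma mem_fixer {H : Subgroup A} {σ : Γ} : σ ∈ fixer Γ H ↔ ∀ x ∈ H, σ • x = x := Iff.rfl

lemma fixer_normal (H : Subgroup A) (hst : ∀ (σ : Γ) (x : A), x ∈ H → σ • x ∈ H) :
    (fixer Γ H).Normal := by
  constructor
  intro σ hσ g x hx
  rw [mul_smul, mul_smul, hσ _ (hst g⁻¹ x hx), smul_inv_smul]

lemma exists_pow_mem_fixer (π : Γ) (H : Subgroup A) (hH : (H : Set A).Finite)
    (hst : ∀ (σ : Γ) (x : A), x ∈ H → σ • x ∈ H) : ∃ d : ℕ, 0 < d ∧ π ^ d ∈ fixer Γ H := by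
  haveI : Finite H := hH.to_subtype
  let f : ℕ → (H → H) := fun n x => ⟨π ^ n • (x : A), hst _ _ x.2⟩
  obtain ⟨n, m, hne, hf⟩ := Finite.exists_ne_map_eq_of_infinite f
  have key : ∀ n m : ℕ, n < m → f n = f m → ∃ d : ℕ, 0 < d ∧ π ^ d ∈ fixer Γ H := by
    intro n m hnm hf
    refine ⟨m - n, Nat.sub_pos_of_lt hnm, ?_⟩
    intro x hx
    have h1 := congrArg Subtype.val (congrFun hf ⟨x, hx⟩)
    simp only [f] at h1
    have h2 : m = n + (m - n) := by omega
    rw [h2, pow_add, mul_smul] at h1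
    exact (smul_left_cancel _ h1).symm
  rcases lt_or_gt_of_ne hne with h | h
  · exact key n m h hf
  · exact key m n h hf.symm

lemma tw_mul_of_fixer (π : Γ) (a : A) (H : Subgroup A) (ha : a ∈ H)
    (hst : ∀ (σ : Γ) (x : A), x ∈ H → σ • x ∈ H) (d : ℕ) (hd : π ^ d ∈ fixer Γ H) (n : ℕ) :
    tw π a (n * d) = tw π a d ^ n := by
  induction n with
  | zero => simp
  | succ n ih =>
    rw [Nat.succ_mul, tw_add, ih, pow_succ]
    congr 1
    have : π ^ (n * d) ∈ fixer Γ H := by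
      rw [mul_comm, pow_mul]
      exact (fixer Γ H).pow_mem hd n
    exact this _ (tw_mem π a H ha hst d)

lemma exists_period (π : Γ) (a : A) (H : Subgroup A) (hH : (H : Set A).Finite) (ha : a ∈ H)
    (hst : ∀ (σ : Γ) (x : A), x ∈ H → σ • x ∈ H) : ∃ N : ℕ, 0 < N ∧ tw π a N = 1 := by
  obtain ⟨d, hd0, hd⟩ := exists_pow_mem_fixer π H hH hst
  haveI : Finite H := hH.to_subtype
  let b : H := ⟨tw π a d, tw_mem π a H ha hst d⟩
  have he : 0 < orderOf b := orderOf_pos b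
  refine ⟨orderOf b * d, Nat.mul_pos he hd0, ?_⟩
  rw [tw_mul_of_fixer π a H ha hst d hd]
  have := congrArg Subtype.val (pow_orderOf_eq_one b)
  simpa [b] using this

end Abstract

section Top

variable {Γ : Type*} [Group Γ] [TopologicalSpace Γ] [IsTopologicalGroup Γ]
  {A : Type*} [Group A] [MulDistribMulAction Γ A]

lemma fixer_isOpen (H : Subgroup A) (hH : (H : Set A).Finite)
    (hcont : ∀ a : A, IsOpen {σ : Γ | σ • a = a}) : IsOpen (fixer Γ H : Set Γ) := by
  have : (fixer Γ H : Set Γ) = ⋂ x ∈ (H : Set A), {σ : Γ | σ • x = x} := by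
    ext σ
    simp only [Set.mem_iInter, Set.mem_setOf_eq, SetLike.mem_coe]
    rfl
  rw [this]
  exact hH.isOpen_biInter (fun x _ => hcont x)

lemma eq_of_dense (π : Γ) (hd : Dense (Set.range fun n : ℕ => π ^ n))
    (z z' : OneCocycleLC Γ A) (h : z.1 π = z'.1 π) : z = z' := by
  have hg : IsLocallyConstant (fun σ : Γ => ((z.1 : Γ → A) σ, (z'.1 : Γ → A) σ)) :=
    z.2.prodMk z'.2
  have hcl : IsClosed {σ : Γ | (z.1 : Γ → A) σ = (z'.1 : Γ → A) σ} := by
    have h1 := hg {q : A × A | q.1 = q.2}ᶜ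
    rw [Set.preimage_compl, isOpen_compl_iff] at h1
    exact h1
  have hsub : (Set.range fun n : ℕ => π ^ n) ⊆ {σ : Γ | (z.1 : Γ → A) σ = (z'.1 : Γ → A) σ} := by
    rintro _ ⟨n, rfl⟩
    show (z.1 : Γ → A) (π ^ n) = (z'.1 : Γ → A) (π ^ n)
    rw [cocycle_pow, cocycle_pow, h]
  have hall := closure_minimal hsub hcl
  rw [hd.closure_eq] at hall
  apply Subtype.ext
  apply OneCocycle.ext
  intro σ
  exact hall (Set.mem_univ σ)


lemma exists_cocycle (π : Γ) (hd : Dense (Set.range fun n : ℕ => π ^ n))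
    (hZ : ∀ N : ℕ, 0 < N → ∃ U : Subgroup Γ, U.Normal ∧ IsOpen (U : Set Γ) ∧
      ∀ n : ℕ, π ^ n ∈ U → N ∣ n)
    (hcont : ∀ a : A, IsOpen {σ : Γ | σ • a = a})
    (a : A) (H : Subgroup A) (hH : (H : Set A).Finite) (ha : a ∈ H)
    (hst : ∀ (σ : Γ) (x : A), x ∈ H → σ • x ∈ H) :
    ∃ z : OneCocycleLC Γ A, z.1 π = a := by
  obtain ⟨N, hN0, hN⟩ := exists_period π a H hH ha hst
  obtain ⟨U₀, hU₀n, hU₀o, hU₀⟩ := hZ N hN0
  haveI := hU₀n
  haveI := fixer_normal (Γ := Γ) H hst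
  let U : Subgroup Γ := U₀ ⊓ fixer Γ H
  have hUn : U.Normal := inferInstance
  have hUo : IsOpen (U : Set Γ) := by
    show IsOpen ((U₀ : Set Γ) ∩ (fixer Γ H : Set Γ))
    exact hU₀o.inter (fixer_isOpen H hH hcont)
  -- existence of exponents
  have hex : ∀ σ : Γ, ∃ n : ℕ, σ⁻¹ * π ^ n ∈ U := by
    intro σ
    have ho : IsOpen {τ : Γ | σ⁻¹ * τ ∈ U} := hUo.preimage (continuous_const_mul σ⁻¹)
    have hne : {τ : Γ | σ⁻¹ * τ ∈ U}.Nonempty := ⟨σ, by simp [U.one_mem]⟩
    obtain ⟨τ, hτ, hτ'⟩ := hd.exists_mem_open ho hne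
    obtain ⟨n, rfl⟩ := hτ
    exact ⟨n, hτ'⟩
  choose e he using hex
  -- key uniqueness
  have key0 : ∀ (σ : Γ) (n m : ℕ), n ≤ m → σ⁻¹ * π ^ n ∈ U → σ⁻¹ * π ^ m ∈ U →
      tw π a m = tw π a n := by
    intro σ n m hnm h1 h2
    have h3 : π ^ (m - n) ∈ U := by
      have h4 := U.mul_mem (U.inv_mem h1) h2
      have h5 : (σ⁻¹ * π ^ n)⁻¹ * (σ⁻¹ * π ^ m) = π ^ (m - n) := by
        have : m = n + (m - n) := by omega
        conv_lhs => rw [this, pow_add]
        group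
      rwa [h5] at h4
    obtain ⟨c, hc⟩ := hU₀ _ h3.1
    have h6 : m = n + c * N := by
      rw [mul_comm] ; omega
    rw [h6, tw_periodic π a N hN]
  have key : ∀ (σ : Γ) (n m : ℕ), σ⁻¹ * π ^ n ∈ U → σ⁻¹ * π ^ m ∈ U →
      tw π a m = tw π a n := by
    intro σ n m h1 h2
    rcases le_total n m with h | h
    · exact key0 σ n m h h1 h2
    · exact (key0 σ m n h h2 h1).symm
  have hcoc : IsOneCocycle (fun σ : Γ => tw π a (e σ)) := by
    intro σ τ
    show tw π a (e (σ * τ)) = tw π a (e σ) * σ • tw π a (e τ)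
    have h1 : (σ * τ)⁻¹ * π ^ (e σ + e τ) ∈ U := by
      have h2 : (σ * τ)⁻¹ * π ^ (e σ + e τ) =
          (τ⁻¹ * (σ⁻¹ * π ^ e σ) * τ⁻¹⁻¹) * (τ⁻¹ * π ^ e τ) := by
        rw [pow_add]; group
      rw [h2]
      exact U.mul_mem (hUn.conj_mem _ (he σ) τ⁻¹) (he τ)
    rw [key (σ * τ) _ _ h1 (he (σ * τ)), tw_add]
    congr 1
    have h3 : π ^ e σ = σ * (σ⁻¹ * π ^ e σ) := by group
    rw [h3, mul_smul]
    congr 1
    exact (he σ).2 _ (tw_mem π a H ha hst _)
  have hlc : IsLocallyConstant (fun σ : Γ => tw π a (e σ)) := by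
    rw [IsLocallyConstant.iff_exists_open]
    intro σ
    refine ⟨{τ : Γ | σ⁻¹ * τ ∈ U}, hUo.preimage (continuous_const_mul σ⁻¹), by simp [U.one_mem], ?_⟩
    intro τ hτ
    have h1 : σ⁻¹ * π ^ e τ ∈ U := by
      have h2 : σ⁻¹ * π ^ e τ = (σ⁻¹ * τ) * (τ⁻¹ * π ^ e τ) := by group
      rw [h2]
      exact U.mul_mem hτ (he τ)
    exact key σ _ _ (he σ) h1
  refine ⟨⟨⟨fun σ : Γ => tw π a (e σ), hcoc⟩, hlc⟩, ?_⟩
  show tw π a (e π) = a
  have h1 : π⁻¹ * π ^ 1 ∈ U := by simp [U.one_mem]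
  rw [← key π _ _ (he π) h1, tw_one]


lemma isLocallyConstant_smul (hcont : ∀ a : A, IsOpen {σ : Γ | σ • a = a}) (g : A) :
    IsLocallyConstant (fun σ : Γ => σ • g) := by
  rw [IsLocallyConstant.iff_exists_open]
  intro σ
  refine ⟨{τ : Γ | σ⁻¹ * τ ∈ {ρ : Γ | ρ • g = g}},
    (hcont g).preimage (continuous_const_mul σ⁻¹), by simp, ?_⟩
  intro τ hτ
  have h1 : (σ⁻¹ * τ) • g = g := hτ
  have h2 : τ = σ * (σ⁻¹ * τ) := by group
  rw [h2, mul_smul, h1]

theorem main (π : Γ) (hd : Dense (Set.range fun n : ℕ => π ^ n))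
    (hZ : ∀ N : ℕ, 0 < N → ∃ U : Subgroup Γ, U.Normal ∧ IsOpen (U : Set Γ) ∧
      ∀ n : ℕ, π ^ n ∈ U → N ∣ n)
    (hcont : ∀ a : A, IsOpen {σ : Γ | σ • a = a})
    (hfin : ∀ a : A, ∃ H : Subgroup A, (H : Set A).Finite ∧ a ∈ H ∧
      ∀ (σ : Γ) (x : A), x ∈ H → σ • x ∈ H) :
    Function.Bijective (fun z : OneCocycleLC Γ A => z.1 π) ∧
      ∀ z z' : OneCocycleLC Γ A,
        z.cl = z'.cl ↔ ∃ g : A, z'.1 π = g * z.1 π * (π • g)⁻¹ := by
  have hinj : Function.Injective (fun z : OneCocycleLC Γ A => z.1 π) :=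
    fun z z' h => eq_of_dense π hd z z' h
  refine ⟨⟨hinj, ?_⟩, ?_⟩
  · intro a
    obtain ⟨H, hH, ha, hst⟩ := hfin a
    exact exists_cocycle π hd hZ hcont a H hH ha hst
  · intro z z'
    rw [OneCocycleLC.cl_eq_cl_iff]
    constructor
    · rintro ⟨c, hc⟩
      refine ⟨c, ?_⟩
      rw [hc π]
      group
    · rintro ⟨g, hg⟩
      have hcoc : IsOneCocycle (fun σ : Γ => g⁻¹ * (z'.1 : Γ → A) σ * σ • g) := by
        intro σ τ
        show g⁻¹ * (z'.1 : Γ → A) (σ * τ) * (σ * τ) • g =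
          g⁻¹ * (z'.1 : Γ → A) σ * σ • g * σ • (g⁻¹ * (z'.1 : Γ → A) τ * τ • g)
        rw [z'.1.2 σ τ, smul_mul', smul_mul', smul_inv', mul_smul]
        group
      have hlc : IsLocallyConstant (fun σ : Γ => g⁻¹ * (z'.1 : Γ → A) σ * σ • g) :=
        ((IsLocallyConstant.const g⁻¹).mul z'.2).mul (isLocallyConstant_smul hcont g)
      let z'' : OneCocycleLC Γ A := ⟨⟨_, hcoc⟩, hlc⟩
      have h1 : z''.1 π = z.1 π := by
        show g⁻¹ * (z'.1 : Γ → A) π * π • g = z.1 π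
        rw [hg]
        group
      have h2 : z'' = z := hinj h1
      refine ⟨g, fun σ => ?_⟩
      rw [← h2]

end Top


section FiniteField

variable (k : Type*) [Field k] [Finite k]

lemma frob_pow_apply (π : AlgebraicClosure k ≃ₐ[k] AlgebraicClosure k)
    (hπ : ∀ x : AlgebraicClosure k, π x = x ^ Nat.card k) (n : ℕ) (x : AlgebraicClosure k) :
    (π ^ n) x = x ^ (Nat.card k ^ n) := by
  induction n generalizing x with
  | zero => simp
  | succ n ih =>
    rw [pow_succ, AlgEquiv.mul_apply, ih, hπ, ← pow_mul, pow_succ']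

lemma frob_dense (π : AlgebraicClosure k ≃ₐ[k] AlgebraicClosure k)
    (hπ : ∀ x : AlgebraicClosure k, π x = x ^ Nat.card k) :
    Dense (Set.range fun n : ℕ => π ^ n) := by
  classical
  rw [dense_iff_inter_open]
  intro U hU ⟨σ, hσ⟩
  have hnb : {τ : AlgebraicClosure k ≃ₐ[k] AlgebraicClosure k | σ * τ ∈ U} ∈ nhds 1 := by
    apply IsOpen.mem_nhds (hU.preimage (continuous_const_mul σ))
    simpa using hσ
  rw [krullTopology_mem_nhds_one_iff] at hnb
  obtain ⟨E, hEfd, hE⟩ := hnb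
  haveI := hEfd
  haveI : Finite E := Module.finite_of_finite k
  letI := Fintype.ofFinite k
  obtain ⟨⟨i, hi⟩, hi'⟩ :=
    (FiniteField.bijective_frobeniusAlgEquivOfAlgebraic_pow k E).2 (σ.restrictNormal E)
  have hmem : σ⁻¹ * π ^ i ∈ E.fixingSubgroup := by
    rw [IntermediateField.mem_fixingSubgroup_iff]
    intro x hx
    have h1 : (FiniteField.frobeniusAlgEquivOfAlgebraic k E ^ i) ⟨x, hx⟩ =
        σ.restrictNormal E ⟨x, hx⟩ := by
      have := hi'
      simp only at this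
      rw [this]
    have h2 := congrArg (algebraMap E (AlgebraicClosure k)) h1
    rw [AlgEquiv.restrictNormal_commutes, AlgEquiv.coe_pow,
      FiniteField.coe_frobeniusAlgEquivOfAlgebraic_iterate] at h2
    simp only [IntermediateField.algebraMap_apply, SubmonoidClass.coe_pow] at h2
    rw [AlgEquiv.mul_apply, frob_pow_apply k π hπ, Nat.card_eq_fintype_card, h2]
    exact σ.symm_apply_apply x
  refine ⟨π ^ i, ?_, ⟨i, rfl⟩⟩
  have := hE hmem
  simpa using this

lemma frob_exists_open (π : AlgebraicClosure k ≃ₐ[k] AlgebraicClosure k)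
    (hπ : ∀ x : AlgebraicClosure k, π x = x ^ Nat.card k) (N : ℕ) (hN : 0 < N) :
    ∃ U : Subgroup (AlgebraicClosure k ≃ₐ[k] AlgebraicClosure k), U.Normal ∧
      IsOpen (U : Set (AlgebraicClosure k ≃ₐ[k] AlgebraicClosure k)) ∧
      ∀ n : ℕ, π ^ n ∈ U → N ∣ n := by
  classical
  obtain ⟨p, hp⟩ := CharP.exists k
  haveI := hp
  haveI : Fact p.Prime := ⟨CharP.char_is_prime k p⟩
  haveI : NeZero N := ⟨hN.ne'⟩
  let L := FiniteField.Extension k p N
  haveI : Algebra.IsAlgebraic k L := Algebra.IsAlgebraic.of_finite k L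
  let φ : L →ₐ[k] AlgebraicClosure k := IsAlgClosed.lift
  let E : IntermediateField k (AlgebraicClosure k) := φ.fieldRange
  let eE : L ≃ₐ[k] E := AlgEquiv.ofInjectiveField φ
  haveI : FiniteDimensional k E := Module.Finite.equiv eE.toLinearEquiv
  have hrank : Module.finrank k E = N := by
    rw [← eE.toLinearEquiv.finrank_eq, FiniteField.finrank_extension]
  haveI : Finite E := Module.finite_of_finite k
  haveI : Normal k E := inferInstance
  refine ⟨E.fixingSubgroup, ?_, E.fixingSubgroup_isOpen, ?_⟩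
  · rw [← E.restrictNormalHom_ker]
    exact MonoidHom.normal_ker _
  · intro n hn
    rw [IntermediateField.mem_fixingSubgroup_iff] at hn
    letI := Fintype.ofFinite k
    rw [← hrank, ← FiniteField.orderOf_frobeniusAlgEquivOfAlgebraic k E,
      orderOf_dvd_iff_pow_eq_one]
    ext x
    rw [AlgEquiv.coe_pow, FiniteField.coe_frobeniusAlgEquivOfAlgebraic_iterate]
    simp only [SubmonoidClass.coe_pow, AlgEquiv.one_apply]
    have := hn x.1 x.2
    rw [frob_pow_apply k π hπ, Nat.card_eq_fintype_card] at this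
    exact this

end FiniteField

end Groth.Agent.Lib.Helper90.Procyclic
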