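import Mathlib
import Groth.Prelude.Def_GrSeg
import Groth.Agent.Lib.Helper90.SegG

/-!
# The Segre product of finitely generated graded modules is finitely generated
-/

namespace Groth.Agent.Lib.Helper90.Seg

universe u

open DirectSum Module TensorProduct GrSeg

section Fin

variable {k : Type u} [Field k] {R : Type u} [CommRing R] [Algebra k R]
  {𝒜 : ℤ → Submodule k R} [GradedAlgebra 𝒜]
  {S : Type u} [CommRing S] [Algebra k S] {ℬ : ℤ → Submodule k S} [GradedAlgebra ℬ]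
  {T : Type u} [CommRing T] [Algebra k T] {𝒯 : ℤ → Submodule k T} [GradedAlgebra 𝒯]
  {ψ : T →ₐ[k] R ⊗[k] S}
  {M : Type u} [AddCommGroup M] [Module R M] [Module k M] [IsScalarTower k R M]
  {ℳ : ℤ → AddSubgroup M} [DirectSum.Decomposition ℳ] [SetLike.GradedSMul 𝒜 ℳ]
  {N : Type u} [AddCommGroup N] [Module S N] [Module k N] [IsScalarTower k S N]
  {𝒩 : ℤ → AddSubgroup N} [DirectSum.Decomposition 𝒩] [SetLike.GradedSMul ℬ 𝒩]
  {P : Type u} [AddCommGroup P] [Module T P] [Module k P] [IsScalarTower k T P]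
  {𝒬 : ℤ → AddSubgroup P} [DirectSum.Decomposition 𝒬]
  {φ : P →ₗ[k] M ⊗[k] N} [SetLike.GradedSMul 𝒯 𝒬]

omit [GradedAlgebra 𝒜] [GradedAlgebra ℬ] [DirectSum.Decomposition ℳ] [SetLike.GradedSMul 𝒜 ℳ]
  [DirectSum.Decomposition 𝒩] [SetLike.GradedSMul ℬ 𝒩] [GradedAlgebra 𝒯]
  [SetLike.GradedSMul 𝒯 𝒬] in
lemma segMod_eq_bot (hP : IsSegreMod ψ ℳ 𝒩 𝒬 φ) {n : ℤ} (hn : ℳ n = ⊥) : 𝒬 n = ⊥ := by
  rw [eq_bot_iff]
  intro q hq
  have h1 := segMod_map_mem hP hq
  have h2 : segrePiece k ℳ 𝒩 n = ⊥ := by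
    unfold segrePiece
    rw [Submodule.span_eq_bot]
    rintro _ ⟨a, ha, b, -, rfl⟩
    rw [hn] at ha
    rw [AddSubgroup.mem_bot.mp ha, TensorProduct.zero_tmul]
  rw [h2, Submodule.mem_bot] at h1
  rw [AddSubgroup.mem_bot]
  exact hP.injective (by rw [map_zero]; exact h1)

include 𝒯 in
/-- high pieces of the Segre product are generated by the previous piece. -/
lemma segMod_exists_succ (hP : IsSegreMod ψ ℳ 𝒩 𝒬 φ)
    {m m' : ℕ} {x : Fin m → R} {y : Fin m' → S} (hx : IsStd 𝒜 x) (hy : IsStd ℬ y)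
    {z : Fin (m * m') → T}
    (hz : ∀ l, ψ (z l) = x (finProdFinEquiv.symm l).1 ⊗ₜ[k] y (finProdFinEquiv.symm l).2)
    {SM : Finset (ℤ × M)} (hSM : IsHomGen (R := R) ℳ SM)
    {SN : Finset (ℤ × N)} (hSN : IsHomGen (R := S) 𝒩 SN)
    {n : ℤ} (hnM : degBound SM ≤ n) (hnN : degBound SN ≤ n) {q : P} (hq : q ∈ 𝒬 (n + 1)) :
    ∃ G : Fin (m * m') → P, (∀ l, G l ∈ 𝒬 n) ∧ q = ∑ l, z l • G l := by
  classical
  have key : ∀ v ∈ segrePiece k ℳ 𝒩 (n + 1), ∃ G : Fin (m * m') → P,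
      (∀ l, G l ∈ 𝒬 n) ∧ v = ∑ l, act k R S M N (ψ (z l)) (φ (G l)) := by
    intro v hv
    induction hv using Submodule.span_induction with
    | mem v hv =>
      obtain ⟨u, hu, w, hw, rfl⟩ := hv
      obtain ⟨g, hg, rfl⟩ := hSM.exists_succ 𝒜 hx hnM hu
      obtain ⟨g', hg', rfl⟩ := hSN.exists_succ ℬ hy hnN hw
      have hex : ∀ l : Fin (m * m'), ∃ q ∈ 𝒬 n,
          φ q = g (finProdFinEquiv.symm l).1 ⊗ₜ[k] g' (finProdFinEquiv.symm l).2 := fun l =>
        segMod_exists_of_mem hP (tmul_mem_segrePiece ℳ 𝒩 (hg _) (hg' _))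
      choose G hG1 hG2 using hex
      refine ⟨G, hG1, ?_⟩
      rw [TensorProduct.sum_tmul]
      simp only [TensorProduct.tmul_sum]
      rw [← Finset.sum_product', Finset.univ_product_univ]
      rw [← Equiv.sum_comp finProdFinEquiv.symm
        (fun p : Fin m × Fin m' => (x p.1 • g p.1) ⊗ₜ[k] (y p.2 • g' p.2))]
      apply Finset.sum_congr rfl
      intro l _
      rw [hz, hG2, act_tmul]
    | zero => exact ⟨0, fun l => AddSubgroup.zero_mem _, by simp⟩
    | add v v' _ _ hv hv' =>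
      obtain ⟨G, hG, rfl⟩ := hv
      obtain ⟨G', hG', rfl⟩ := hv'
      refine ⟨G + G', fun l => AddSubgroup.add_mem _ (hG l) (hG' l), ?_⟩
      simp [Finset.sum_add_distrib]
    | smul c v _ hv =>
      obtain ⟨G, hG, rfl⟩ := hv
      refine ⟨c • G, fun l => (pc 𝒯 𝒬 n).smul_mem c (hG l), ?_⟩
      simp [Finset.smul_sum]
  obtain ⟨G, hG, hGv⟩ := key (φ q) (segMod_map_mem hP hq)
  refine ⟨G, hG, hP.injective ?_⟩
  rw [hGv, map_sum]
  apply Finset.sum_congr rfl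
  intro l _
  rw [hP.map_smul]

include 𝒯 in
/-- the Segre product of finitely generated graded modules over standard graded algebras is
finitely generated. -/
theorem segMod_finite (hP : IsSegreMod ψ ℳ 𝒩 𝒬 φ)
    {m m' : ℕ} {x : Fin m → R} {y : Fin m' → S} (hx : IsStd 𝒜 x) (hy : IsStd ℬ y)
    {z : Fin (m * m') → T}
    (hz : ∀ l, ψ (z l) = x (finProdFinEquiv.symm l).1 ⊗ₜ[k] y (finProdFinEquiv.symm l).2)
    [Module.Finite R M] [Module.Finite S N]
    (hfinM : ∀ n, Module.Finite k (pc 𝒜 ℳ n)) (hfinN : ∀ n, Module.Finite k (pc ℬ 𝒩 n)) :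
    Module.Finite T P := by
  classical
  obtain ⟨SM, hSM⟩ := exists_isHomGen (R := R) ℳ
  obtain ⟨SN, hSN⟩ := exists_isHomGen (R := S) 𝒩
  set c : ℤ := max (degBound SM) (degBound SN) with hc
  set a : ℤ := -degBound SM with ha
  have hbot : ∀ n, n < a → 𝒬 n = ⊥ := fun n hn =>
    segMod_eq_bot hP (hSM.eq_bot_of_lt 𝒜 hx.neg hn)
  have hfinQ : ∀ n, Module.Finite k (pc 𝒯 𝒬 n) := fun n => by
    haveI := hfinM n
    haveI := hfinN n
    exact finite_pc_segre (𝒜 := 𝒜) (ℬ := ℬ) hP n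
  have hVfg : ((Finset.Icc a c).sup (fun n => pc 𝒯 𝒬 n)).FG :=
    Submodule.fg_finset_sup _ _ (fun n _ => Module.Finite.iff_fg.mp (hfinQ n))
  obtain ⟨s, hs⟩ := hVfg
  have hle : ∀ n, n ≤ c → ∀ q ∈ 𝒬 n, q ∈ Submodule.span T (s : Set P) := by
    intro n hn q hq
    by_cases hna : n < a
    · rw [hbot n hna] at hq
      rw [AddSubgroup.mem_bot.mp hq]
      exact Submodule.zero_mem _
    · have h1 : q ∈ (Finset.Icc a c).sup (fun n => pc 𝒯 𝒬 n) :=
        (Finset.le_sup (f := fun n => pc 𝒯 𝒬 n) (Finset.mem_Icc.mpr ⟨by omega, hn⟩)) hq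
      rw [← hs] at h1
      exact Submodule.span_le_restrictScalars k T (s : Set P) h1
  have hind : ∀ i : ℕ, ∀ q ∈ 𝒬 (c + i), q ∈ Submodule.span T (s : Set P) := by
    intro i
    induction i with
    | zero =>
      intro q hq
      exact hle c le_rfl q (by simpa using hq)
    | succ i ih =>
      intro q hq
      have e : c + ((i + 1 : ℕ) : ℤ) = (c + i) + 1 := by push_cast; ring
      rw [e] at hq
      obtain ⟨G, hG, rfl⟩ := segMod_exists_succ (𝒯 := 𝒯) hP hx hy hz hSM hSN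
        (n := c + i) (by have := le_max_left (degBound SM) (degBound SN); omega)
        (by have := le_max_right (degBound SM) (degBound SN); omega) hq
      apply Submodule.sum_mem
      intro l _
      exact Submodule.smul_mem _ _ (ih _ (hG l))
  have hall : ∀ n, ∀ q ∈ 𝒬 n, q ∈ Submodule.span T (s : Set P) := by
    intro n q hq
    by_cases hn : n ≤ c
    · exact hle n hn q hq
    · have e : n = c + ((n - c).toNat : ℤ) := by omega
      rw [e] at hq
      exact hind _ q hq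
  refine ⟨⟨s, ?_⟩⟩
  rw [eq_top_iff]
  intro u _
  obtain ⟨t, ht⟩ := sum_comp 𝒬 u
  rw [ht]
  apply Submodule.sum_mem
  intro j _
  exact hall j _ (comp_mem 𝒬 j u)

end Fin

end Groth.Agent.Lib.Helper90.Seg
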