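import Mathlib
import Groth.Agent.Lib.Lead.SekGeom
import Groth.Agent.Lib.Lead.GmTorsor
import Groth.Agent.Lib.Helper84.SekFlat

/-!
# Finite presentation / smoothness of base changes of `G^(λ)` and the split `G_m` (helper90, A4 for lead's S14684)
-/

set_option autoImplicit false
universe u
open CategoryTheory CategoryTheory.Limits AlgebraicGeometry

namespace Groth.Agent.Lib.Helper90.SekSmooth

section Alg
variable (R : Type u) [CommRing R] (lam : R)

/-- the coordinate ring of `G^(λ)` is finitely presented over `R`. -/
instance finitePresentation_A : Algebra.FinitePresentation R (SekSuwa.A R lam) := by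
  have : Algebra.FinitePresentation R (SekSuwa.Poly R lam) :=
    inferInstanceAs (Algebra.FinitePresentation R (MvPolynomial (Fin 2) R))
  have hfg : (SekSuwa.Poly.relIdeal R lam).FG := ⟨{SekSuwa.Poly.rel R lam}, by
    rw [Finset.coe_singleton]; rfl⟩
  have h : Algebra.FinitePresentation R (SekSuwa.Poly R lam ⧸ SekSuwa.Poly.relIdeal R lam) :=
    Algebra.FinitePresentation.quotient hfg
  exact h

end Alg

section Geom
variable {X : Scheme.{u}} (R : Type u) [CommRing R] (lam : R) (f : X ⟶ Spec (CommRingCat.of R))

instance locallyOfFinitePresentation_G : LocallyOfFinitePresentation (SekSuwa.G R lam).hom := by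
  change LocallyOfFinitePresentation
    (Spec.map (CommRingCat.ofHom (algebraMap R (SekSuwa.A R lam))))
  rw [HasRingHomProperty.Spec_iff (P := @LocallyOfFinitePresentation)]
  change (algebraMap R (SekSuwa.A R lam)).FinitePresentation
  rw [RingHom.finitePresentation_algebraMap]
  exact finitePresentation_A R lam

/-- every base change of `G^(λ)` is locally of finite presentation over the base. -/
instance locallyOfFinitePresentation_bc :
    LocallyOfFinitePresentation (Red.bc f (SekSuwa.G R lam)).hom := by
  change LocallyOfFinitePresentation (pullback.snd (SekSuwa.G R lam).hom f)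
  infer_instance

instance smooth_diag : Smooth (Red.diag R ℤ).hom := by
  change Smooth (Spec.map (CommRingCat.ofHom (algebraMap R (MonoidAlgebra R (Multiplicative ℤ)))))
  rw [HasRingHomProperty.Spec_iff (P := @Smooth)]
  exact RingHom.smooth_algebraMap.mpr (Groth.Agent.Lib.Lead.GmTorsor.smooth_monoidAlgebra R)

/-- every base change of the split multiplicative group is smooth over the base. -/
instance smooth_bc_Gm : Smooth (Red.bc f (Red.diag R ℤ)).hom := by
  change Smooth (pullback.snd (Red.diag R ℤ).hom f)
  infer_instance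

/-- `Spec 𝒪_{X,x} ⟶ X` is flat. -/
theorem flat_fromSpecStalk (Y : Scheme.{u}) (y : Y) : Flat (Y.fromSpecStalk y) := by
  obtain ⟨_, ⟨U : Y.Opens, hU : IsAffineOpen U, rfl⟩, hyU, -⟩ :=
    Y.isBasis_affineOpens.exists_subset_of_mem_open (Set.mem_univ y) isOpen_univ
  rw [← hU.fromSpecStalk_eq_fromSpecStalk hyU, IsAffineOpen.fromSpecStalk]
  have : Flat (Spec.map (Y.presheaf.germ U y hyU)) := by
    rw [Flat.SpecMap_iff]
    let _ : Algebra Γ(Y, U) (Y.presheaf.stalk y) :=
      TopCat.Presheaf.algebra_section_stalk Y.presheaf ⟨y, hyU⟩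
    have := hU.isLocalization_stalk ⟨y, hyU⟩
    have hfl : Module.Flat Γ(Y, U) (Y.presheaf.stalk y) :=
      IsLocalization.flat _ (hU.primeIdealOf ⟨y, hyU⟩).asIdeal.primeCompl
    exact hfl
  infer_instance

instance flat_fromSpecStalk_inst (x : X) : Flat (X.fromSpecStalk x) := flat_fromSpecStalk X x

end Geom

end Groth.Agent.Lib.Helper90.SekSmooth
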