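import Groth.Agent.Lib.Helper90.Isoc20

/-!
# Lang's theorem (linear form) over separably closed fields

Versions of `lang_surj`, `lang_fixed`, `lang_span` of `Isoc20` for separably closed fields:
the polynomials whose roots are needed are separable.
-/

set_option autoImplicit false

open Polynomial

universe u v w

namespace Groth.Agent.Lib.Helper90.IsocLib

section SepLang

variable {k : Type*} [Field k] [IsSepClosed k] (p : ℕ) [Fact p.Prime] [CharP k p]
variable {V : Type*} [AddCommGroup V] [Module k V]

/-- `1 - φ` is surjective for a Frobenius-semilinear endomorphism of a finite dimensional space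
over a separably closed field. -/
theorem sep_lang_surj [FiniteDimensional k V] {ψ : k →+* k} {c : ℕ} (hc : 0 < c)
    (hψ : ∀ t, ψ t = t ^ (p ^ c)) (φ : V →ₛₗ[ψ] V) (y : V) : ∃ x, x - φ x = y := by
  classical
  set q := p ^ c with hq
  have hq0 : ((q : ℕ) : k) = 0 := by
    rw [hq, Nat.cast_pow, CharP.cast_eq_zero k p, zero_pow hc.ne']
  obtain ⟨r, a, -, hrel⟩ := exists_cyclic_relation (k := k) (fun i => (⇑φ)^[i] y)
  cases r with
  | zero =>
    refine ⟨0, ?_⟩
    simp only [Function.iterate_zero, id_eq, Finset.univ_eq_empty, Finset.sum_empty] at hrel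
    rw [hrel, map_zero, sub_zero]
  | succ m =>
    set a' : ℕ → k := fun i => if h : i < m + 1 then a ⟨i, h⟩ else 0 with ha'
    have hrel' : (⇑φ)^[m + 1] y = ∑ i ∈ Finset.range (m + 1), a' i • (⇑φ)^[i] y := by
      rw [hrel, ← Fin.sum_univ_eq_sum_range (fun i => a' i • (⇑φ)^[i] y)]
      refine Finset.sum_congr rfl fun i _ => ?_
      simp only [ha', i.2, dif_pos, Fin.eta]
    -- the polynomials
    let Cp : ℕ → k[X] := fun i =>
      Nat.rec (1 + C (a' 0) * X) (fun j P => P ^ q + C (a' (j + 1)) * X) i
    have hCp0 : Cp 0 = 1 + C (a' 0) * X := rfl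
    have hCps : ∀ i, Cp (i + 1) = Cp i ^ q + C (a' (i + 1)) * X := fun i => rfl
    let P : k[X] := Cp m ^ q - X
    have hP : P.degree ≠ 0 := by
      intro h0
      have h1 : P = C (P.coeff 0) := Polynomial.eq_C_of_degree_eq_zero h0
      have h2 : Polynomial.derivative P = 0 := by rw [h1, Polynomial.derivative_C]
      have h3 : Polynomial.derivative P = -1 := by
        simp only [P, Polynomial.derivative_sub, Polynomial.derivative_pow, Polynomial.derivative_X]
        rw [hq0]
        simp
      rw [h3] at h2
      exact one_ne_zero (neg_eq_zero.mp h2)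
    have hPsep : P.Separable := by
      have h3 : Polynomial.derivative P = -1 := by
        simp only [P, Polynomial.derivative_sub, Polynomial.derivative_pow, Polynomial.derivative_X]
        rw [hq0]
        simp
      rw [Polynomial.separable_def, h3]
      exact ⟨0, -1, by ring⟩
    obtain ⟨u, hu⟩ := IsSepClosed.exists_root P hP hPsep
    set cc : ℕ → k := fun i => (Cp i).eval u with hcc
    have hc0 : cc 0 = 1 + u * a' 0 := by
      simp only [hcc, hCp0, Polynomial.eval_add, Polynomial.eval_one, Polynomial.eval_mul,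
        Polynomial.eval_C, Polynomial.eval_X]
      ring
    have hcs : ∀ i, cc (i + 1) = ψ (cc i) + u * a' (i + 1) := by
      intro i
      simp only [hcc, hCps, Polynomial.eval_add, Polynomial.eval_pow, Polynomial.eval_mul,
        Polynomial.eval_C, Polynomial.eval_X, hψ]
      ring
    have hcu : ψ (cc m) = u := by
      have h1 : (Cp m).eval u ^ q - u = 0 := by
        have := hu
        simp only [P, Polynomial.IsRoot.def, Polynomial.eval_sub, Polynomial.eval_pow,
          Polynomial.eval_X] at this
        exact this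
      rw [hψ]
      exact sub_eq_zero.mp h1
    have key := lang_computation φ (fun i => (⇑φ)^[i] y)
      (fun i => (Function.iterate_succ_apply' _ _ _).symm) m a' cc u hrel' hcs hcu
    refine ⟨∑ i ∈ Finset.range (m + 1), cc i • (⇑φ)^[i] y, ?_⟩
    rw [key, hc0]
    simp

/-- a bijective Frobenius-semilinear endomorphism of a non-zero finite dimensional space over an
separably closed field has a non-zero fixed vector. -/
theorem sep_lang_fixed [FiniteDimensional k V] [Nontrivial V] {ψ : k →+* k} {c : ℕ} (hc : 0 < c)
    (hψ : ∀ t, ψ t = t ^ (p ^ c)) (φ : V →ₛₗ[ψ] V) (hφ : Function.Injective φ) :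
    ∃ x, x ≠ 0 ∧ φ x = x := by
  classical
  set q := p ^ c with hq
  have hq2 : 2 ≤ q := by
    have h1 : p ^ 1 ≤ p ^ c := Nat.pow_le_pow_right (Fact.out : p.Prime).pos hc
    have h2 := (Fact.out : p.Prime).two_le
    rw [pow_one] at h1
    omega
  obtain ⟨s, hs⟩ : ∃ s, q = s + 1 := ⟨q - 1, by omega⟩
  have hs1 : 1 ≤ s := by omega
  obtain ⟨y, hy⟩ := exists_ne (0 : V)
  obtain ⟨r, a, hli, hrel⟩ := exists_cyclic_relation (k := k) (fun i => (⇑φ)^[i] y)
  cases r with
  | zero =>
    exfalso
    simp only [Function.iterate_zero, id_eq, Finset.univ_eq_empty, Finset.sum_empty] at hrel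
    exact hy hrel
  | succ m =>
    set a' : ℕ → k := fun i => if h : i < m + 1 then a ⟨i, h⟩ else 0 with ha'
    have hrel' : (⇑φ)^[m + 1] y = ∑ i ∈ Finset.range (m + 1), a' i • (⇑φ)^[i] y := by
      rw [hrel, ← Fin.sum_univ_eq_sum_range (fun i => a' i • (⇑φ)^[i] y)]
      refine Finset.sum_congr rfl fun i _ => ?_
      simp only [ha', i.2, dif_pos, Fin.eta]
    have hnz : ¬ ∀ j ≤ m, a' j = 0 := by
      intro hall
      have h1 : (⇑φ)^[m + 1] y = 0 := by
        rw [hrel']
        refine Finset.sum_eq_zero fun i hi => ?_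
        rw [hall i (Nat.lt_succ_iff.mp (Finset.mem_range.mp hi)), zero_smul]
      have h2 : (⇑φ)^[m + 1] y = (⇑φ)^[m + 1] 0 := by
        rw [h1, Function.iterate_fixed (map_zero φ)]
      exact hy (hφ.iterate (m + 1) h2)
    -- the polynomials
    let Y : ℕ → k[X] := fun i =>
      Nat.rec (C (a' 0)) (fun j P => X ^ (q * s) * P ^ q + C (a' (j + 1))) i
    have hY0 : Y 0 = C (a' 0) := rfl
    have hYs : ∀ i, Y (i + 1) = X ^ (q * s) * Y i ^ q + C (a' (i + 1)) := fun i => rfl
    have hqs : 0 < q * s := Nat.mul_pos (by omega) hs1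
    have hYzero : ∀ i, (∀ j ≤ i, a' j = 0) → Y i = 0 := by
      intro i
      induction i with
      | zero => intro h; rw [hY0, h 0 le_rfl, map_zero]
      | succ i ih2 =>
        intro h
        rw [hYs, ih2 (fun j hj => h j (Nat.le_succ_of_le hj)), h (i + 1) le_rfl]
        simp [zero_pow (by omega : q ≠ 0)]
    have hYne : ∀ i, Y i ≠ 0 ∨ ∀ j ≤ i, a' j = 0 := by
      intro i
      induction i with
      | zero =>
        by_cases h0 : a' 0 = 0
        · right
          intro j hj
          rw [Nat.le_zero.mp hj, h0]
        · left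
          rw [hY0]
          exact Polynomial.C_ne_zero.mpr h0
      | succ i ih =>
        rcases ih with h | h
        · left
          intro h0
          rw [hYs] at h0
          have h1 := congrArg (Polynomial.eval 0) h0
          simp only [Polynomial.eval_add, Polynomial.eval_mul, Polynomial.eval_pow,
            Polynomial.eval_X, Polynomial.eval_C, Polynomial.eval_zero, zero_pow hqs.ne',
            zero_mul, zero_add] at h1
          rw [h1, map_zero, add_zero] at h0
          rcases mul_eq_zero.mp h0 with h2 | h2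
          · exact (pow_ne_zero _ Polynomial.X_ne_zero) h2
          · exact h (pow_eq_zero_iff (by omega) |>.mp h2)
        · by_cases h0 : a' (i + 1) = 0
          · right
            intro j hj
            rcases Nat.lt_or_eq_of_le hj with h1 | h1
            · exact h j (Nat.lt_succ_iff.mp h1)
            · rw [h1, h0]
          · left
            have hYi : Y i = 0 := hYzero i h
            rw [hYs, hYi, zero_pow (by omega : q ≠ 0), mul_zero, zero_add]
            exact Polynomial.C_ne_zero.mpr h0
    have hYm : Y m ≠ 0 := (hYne m).resolve_right hnz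
    let R : k[X] := X ^ s * Y m - 1
    have hR : R.degree ≠ 0 := by
      intro h0
      have h1 : R = C (R.coeff 0) := Polynomial.eq_C_of_degree_eq_zero h0
      have h2 : X ^ s * Y m = C (R.coeff 0 + 1) := by
        rw [map_add, ← h1]
        simp [R]
      have h3 := congrArg (Polynomial.eval 0) h2
      simp only [Polynomial.eval_mul, Polynomial.eval_pow, Polynomial.eval_X,
        zero_pow (by omega : s ≠ 0), zero_mul, Polynomial.eval_C] at h3
      rw [← h3, map_zero] at h2
      rcases mul_eq_zero.mp h2 with h4 | h4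
      · exact (pow_ne_zero _ Polynomial.X_ne_zero) h4
      · exact hYm h4
    have hq0 : ((q : ℕ) : k[X]) = 0 := by
      rw [hq, Nat.cast_pow]
      have : ((p : ℕ) : k[X]) = 0 := by
        rw [← Polynomial.C_eq_natCast, CharP.cast_eq_zero k p, map_zero]
      rw [this, zero_pow hc.ne']
    have hYd : ∀ i, Polynomial.derivative (Y i) = 0 := by
      intro i
      cases i with
      | zero => rw [hY0, Polynomial.derivative_C]
      | succ i =>
        rw [hYs, Polynomial.derivative_add, Polynomial.derivative_C, add_zero,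
          Polynomial.derivative_mul, Polynomial.derivative_X_pow, Polynomial.derivative_pow]
        rw [Polynomial.C_eq_natCast, Polynomial.C_eq_natCast, Nat.cast_mul, hq0]
        ring
    have hRsep : R.Separable := by
      have hsk : ((s : ℕ) : k[X]) = -1 := by
        have h1 : ((q : ℕ) : k[X]) = ((s : ℕ) : k[X]) + 1 := by rw [hs, Nat.cast_add, Nat.cast_one]
        rw [hq0] at h1
        exact eq_neg_of_add_eq_zero_left h1.symm
      have h3 : Polynomial.derivative R = -(X ^ (s - 1) * Y m) := by
        simp only [R, Polynomial.derivative_sub, Polynomial.derivative_mul,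
          Polynomial.derivative_X_pow, Polynomial.derivative_one, hYd m, sub_zero, mul_zero,
          add_zero]
        rw [Polynomial.C_eq_natCast, hsk]
        ring
      rw [Polynomial.separable_def, h3]
      refine ⟨-1, -X, ?_⟩
      have h4 : (X : k[X]) ^ s = X * X ^ (s - 1) := by
        rw [← pow_succ']
        congr 1
        omega
      simp only [R]
      rw [h4]
      ring
    obtain ⟨t, ht⟩ := IsSepClosed.exists_root R hR hRsep
    have ht1 : t ^ s * (Y m).eval t = 1 := by
      have := ht
      simp only [R, Polynomial.IsRoot.def, Polynomial.eval_sub, Polynomial.eval_mul,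
        Polynomial.eval_pow, Polynomial.eval_X, Polynomial.eval_one] at this
      exact sub_eq_zero.mp this
    have ht0 : t ≠ 0 := by
      intro h0
      rw [h0, zero_pow (by omega : s ≠ 0), zero_mul] at ht1
      exact zero_ne_one ht1
    set cc : ℕ → k := fun i => t ^ q * (Y i).eval t with hcc
    have hc0 : cc 0 = t ^ q * a' 0 := by
      simp only [hcc, hY0, Polynomial.eval_C]
    have hcs : ∀ i, cc (i + 1) = ψ (cc i) + t ^ q * a' (i + 1) := by
      intro i
      simp only [hcc, hYs, Polynomial.eval_add, Polynomial.eval_pow, Polynomial.eval_mul,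
        Polynomial.eval_C, Polynomial.eval_X, hψ]
      rw [hs]
      ring
    have hcu : ψ (cc m) = t ^ q := by
      rw [hψ]
      simp only [hcc]
      have h1 : (t ^ q * Polynomial.eval t (Y m)) ^ q =
          t ^ q * (t ^ s * Polynomial.eval t (Y m)) ^ q := by
        rw [hs]; ring
      rw [h1, ht1, one_pow, mul_one]
    have key := lang_computation φ (fun i => (⇑φ)^[i] y)
      (fun i => (Function.iterate_succ_apply' _ _ _).symm) m a' cc (t ^ q) hrel' hcs hcu
    refine ⟨∑ i ∈ Finset.range (m + 1), cc i • (⇑φ)^[i] y, ?_, ?_⟩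
    · intro h0
      have h1 : ∑ i : Fin (m + 1), cc i • (⇑φ)^[i] y = 0 := by
        rw [Fin.sum_univ_eq_sum_range (fun i => cc i • (⇑φ)^[i] y)]
        exact h0
      have h2 := Fintype.linearIndependent_iff.mp hli (fun i => cc i) h1 (Fin.last m)
      simp only [Fin.val_last] at h2
      have h3 : ψ (cc m) = 0 := by rw [h2, map_zero]
      rw [hcu] at h3
      exact pow_ne_zero _ ht0 h3
    · rw [hc0, sub_self, zero_smul, sub_eq_zero] at key
      exact key.symm


omit [IsSepClosed k] in
/-- a semilinear endomorphism (w.r.t. a ring endomorphism of the field) of a finite dimensional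
space whose image spans the space maps a basis to a basis. -/
theorem span_range_basis [FiniteDimensional k V] {ψ : k →+* k} (φ : V →ₛₗ[ψ] V)
    (hss : Submodule.span k (Set.range φ) = ⊤) {ι : Type*} [Fintype ι] (b : Module.Basis ι k V) :
    ⊤ ≤ Submodule.span k (Set.range fun i => φ (b i)) := by
  rw [← hss, Submodule.span_le]
  rintro _ ⟨x, rfl⟩
  have h1 : φ x = ∑ i, ψ (b.repr x i) • φ (b i) := by
    conv_lhs => rw [← b.sum_repr x, map_sum]
    refine Finset.sum_congr rfl fun i _ => ?_
    rw [map_smulₛₗ]
  rw [SetLike.mem_coe, h1]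
  exact Submodule.sum_mem _ fun i _ =>
    Submodule.smul_mem _ _ (Submodule.subset_span ⟨i, rfl⟩)

omit [IsSepClosed k] in
theorem inj_of_span_range [FiniteDimensional k V] {ψ : k →+* k} (φ : V →ₛₗ[ψ] V)
    (hss : Submodule.span k (Set.range φ) = ⊤) : Function.Injective φ := by
  classical
  let b := Module.finBasis k V
  have hsp := span_range_basis φ hss b
  have hli : LinearIndependent k fun i => φ (b i) :=
    linearIndependent_of_top_le_span_of_card_eq_finrank hsp (by simp)
  rw [injective_iff_map_eq_zero]
  intro x hx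
  have h1 : φ x = ∑ i, ψ (b.repr x i) • φ (b i) := by
    conv_lhs => rw [← b.sum_repr x, map_sum]
    refine Finset.sum_congr rfl fun i _ => ?_
    rw [map_smulₛₗ]
  rw [h1] at hx
  have h2 := Fintype.linearIndependent_iff.mp hli _ hx
  apply b.repr.injective
  refine Finsupp.ext fun i => ?_
  rw [map_zero, Finsupp.zero_apply]
  exact (map_eq_zero ψ).mp (h2 i)

/-- Lang's theorem in linear form over a separably closed field: the fixed vectors of a
Frobenius-semilinear endomorphism whose image spans the space span the space. -/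
theorem sep_lang_span [FiniteDimensional k V] {ψ : k →+* k} {c : ℕ} (hc : 0 < c)
    (hψ : ∀ t, ψ t = t ^ (p ^ c)) (φ : V →ₛₗ[ψ] V)
    (hss : Submodule.span k (Set.range φ) = ⊤) :
    Submodule.span k {x : V | φ x = x} = ⊤ := by
  classical
  set U := Submodule.span k {x : V | φ x = x} with hU
  have hUst : ∀ x ∈ U, φ x ∈ U := by
    intro x hx
    induction hx using Submodule.span_induction with
    | mem x hx =>
      have hx' : φ x = x := hx
      rw [hx']; exact Submodule.subset_span hx
    | zero => rw [map_zero]; exact U.zero_mem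
    | add a b _ _ ha hb => rw [map_add]; exact U.add_mem ha hb
    | smul t a _ ha => rw [map_smulₛₗ]; exact U.smul_mem _ ha
  by_contra hne
  have hcomap : U ≤ U.comap φ := fun x hx => hUst x hx
  let φq : (V ⧸ U) →ₛₗ[ψ] (V ⧸ U) := U.mapQ U φ hcomap
  have hφq_mk : ∀ x, φq (Submodule.Quotient.mk x) = Submodule.Quotient.mk (φ x) := fun _ => rfl
  have hssq : Submodule.span k (Set.range φq) = ⊤ := by
    rw [eq_top_iff]
    rintro z -
    obtain ⟨x, rfl⟩ := Submodule.Quotient.mk_surjective U z
    have hx : x ∈ Submodule.span k (Set.range φ) := by rw [hss]; trivial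
    induction hx using Submodule.span_induction with
    | mem x hx =>
      obtain ⟨x', rfl⟩ := hx
      exact Submodule.subset_span ⟨Submodule.Quotient.mk x', hφq_mk x'⟩
    | zero => exact Submodule.zero_mem _
    | add a b _ _ ha hb =>
      rw [Submodule.Quotient.mk_add]; exact Submodule.add_mem _ ha hb
    | smul t a _ ha =>
      rw [Submodule.Quotient.mk_smul]; exact Submodule.smul_mem _ _ ha
  have hφq : Function.Injective φq := inj_of_span_range φq hssq
  haveI : Nontrivial (V ⧸ U) :=
    Submodule.Quotient.nontrivial_iff.mpr hne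
  obtain ⟨z, hz0, hz⟩ := sep_lang_fixed p hc hψ φq hφq
  obtain ⟨x, rfl⟩ := Submodule.Quotient.mk_surjective U z
  have h1 : φ x - x ∈ U := by
    rw [hφq_mk] at hz
    rw [← Submodule.Quotient.mk_eq_zero U, Submodule.Quotient.mk_sub, hz, sub_self]
  let φU : U →ₛₗ[ψ] U := φ.restrict hUst
  obtain ⟨u, hu⟩ := sep_lang_surj p hc hψ φU ⟨φ x - x, h1⟩
  have hu' : (u : V) - φ u = φ x - x := by
    have := congrArg Subtype.val hu
    exact this
  have h2 : φ (x + u) = x + u := by
    rw [map_add]
    calc φ x + φ u = (φ x - x) + x + φ u := by abel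
      _ = ((u : V) - φ u) + x + φ u := by rw [hu']
      _ = x + u := by abel
  have h3 : x + u ∈ U := Submodule.subset_span h2
  have h4 : x ∈ U := by
    have := U.sub_mem h3 u.2
    simpa using this
  exact hz0 ((Submodule.Quotient.mk_eq_zero U).mpr h4)

/-- a basis of fixed vectors. -/
theorem sep_lang_basis [FiniteDimensional k V] {ψ : k →+* k} {c : ℕ} (hc : 0 < c)
    (hψ : ∀ t, ψ t = t ^ (p ^ c)) (φ : V →ₛₗ[ψ] V)
    (hss : Submodule.span k (Set.range φ) = ⊤) :
    ∃ b : Module.Basis (Fin (Module.finrank k V)) k V, ∀ i, φ (b i) = b i := by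
  classical
  have hs : (⊤ : Submodule k V) ≤ Submodule.span k {x : V | φ x = x} :=
    (sep_lang_span p hc hψ φ hss).ge
  let b0 := Module.Basis.ofSpan hs
  have hb0 : ∀ i, φ (b0 i) = b0 i := fun i => by
    have h1 : b0 i ∈ {x : V | φ x = x} := Module.Basis.ofSpan_subset hs ⟨i, rfl⟩
    exact h1
  haveI : Fintype ↑((linearIndepOn_empty k id).extend (Set.empty_subset {x : V | φ x = x})) :=
    FiniteDimensional.fintypeBasisIndex b0
  let e := Fintype.equivFinOfCardEq (Module.finrank_eq_card_basis b0).symm
  exact ⟨b0.reindex e, fun i => by rw [Module.Basis.reindex_apply]; exact hb0 _⟩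

/-- coordinates of a fixed vector in a fixed basis are fixed by `ψ`. -/
theorem fixed_coord {ψ : k →+* k} (φ : V →ₛₗ[ψ] V) {ι : Type*} [Fintype ι]
    (b : Module.Basis ι k V) (hb : ∀ i, φ (b i) = b i) (x : V) (i : ι) :
    b.repr (φ x) i = ψ (b.repr x i) := by
  classical
  have h1 : φ x = ∑ j, ψ (b.repr x j) • b j := by
    conv_lhs => rw [← b.sum_repr x, map_sum]
    refine Finset.sum_congr rfl fun j _ => ?_
    rw [map_smulₛₗ, hb]
  rw [h1, map_sum, Finsupp.coe_finsetSum, Finset.sum_apply]
  simp only [map_smul, Module.Basis.repr_self, Finsupp.smul_apply, smul_eq_mul]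
  rw [Finset.sum_eq_single i]
  · rw [Finsupp.single_eq_same, mul_one]
  · intro j _ hji
    rw [Finsupp.single_eq_of_ne hji.symm, mul_zero]
  · intro hi; exact absurd (Finset.mem_univ i) hi

end SepLang

end Groth.Agent.Lib.Helper90.IsocLib
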