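import Groth.Agent.Lib.Helper90.SepLang

/-!
# Cyclic vectors for Frobenius-semilinear maps over separably closed fields
-/

set_option autoImplicit false

open Polynomial

universe u v w

namespace Groth.Agent.Lib.Helper90.IsocLib

section Infinite

theorem isSepClosed_infinite (K : Type*) [Field K] [IsSepClosed K] : Infinite K := by
  apply Infinite.of_not_fintype
  intro hfin
  set n := Fintype.card K
  set f := (X : K[X]) ^ (n + 1) - 1
  have hfsep : Separable f := separable_X_pow_sub_C 1 (by simp [n]) one_ne_zero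
  apply Nat.not_succ_le_self (Fintype.card K)
  have hroot : n.succ = Fintype.card (f.rootSet K) := by
    rw [card_rootSet_eq_natDegree hfsep (IsSepClosed.splits_domain _ hfsep)]
    unfold f
    rw [← C_1, natDegree_X_pow_sub_C]
  rw [hroot]
  exact Fintype.card_le_of_injective _ Subtype.coe_injective

end Infinite

section Cyclic

variable {k : Type u} [Field k] [IsSepClosed k] (p : ℕ) [Fact p.Prime] [CharP k p]

omit [IsSepClosed k] [Fact p.Prime] [CharP k p] in
theorem iterate_smul_sl {V : Type*} [AddCommGroup V] [Module k V] {ψ : k →+* k}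
    (φ : V →ₛₗ[ψ] V) (j : ℕ) (t : k) (x : V) :
    (⇑φ)^[j] (t • x) = (⇑ψ)^[j] t • (⇑φ)^[j] x := by
  induction j generalizing t x with
  | zero => rfl
  | succ j ih =>
    rw [Function.iterate_succ_apply, Function.iterate_succ_apply, Function.iterate_succ_apply,
      map_smulₛₗ, ih]

omit [IsSepClosed k] [Fact p.Prime] [CharP k p] in
theorem iterate_add_sl {V : Type*} [AddCommGroup V] [Module k V] {ψ : k →+* k}
    (φ : V →ₛₗ[ψ] V) (j : ℕ) (x y : V) :
    (⇑φ)^[j] (x + y) = (⇑φ)^[j] x + (⇑φ)^[j] y := by
  induction j generalizing x y with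
  | zero => rfl
  | succ j ih =>
    rw [Function.iterate_succ_apply, Function.iterate_succ_apply, Function.iterate_succ_apply,
      map_add, ih]

/-- existence of a cyclic vector. -/
theorem sep_exists_cyclic {c : ℕ} (hc : 0 < c) {ψ : k →+* k} (hψ : ∀ t, ψ t = t ^ (p ^ c)) :
    ∀ (n : ℕ) (V : Type v) [AddCommGroup V] [Module k V] [FiniteDimensional k V]
      (φ : V →ₛₗ[ψ] V), Submodule.span k (Set.range φ) = ⊤ → Module.finrank k V = n →
      ∃ v : V, ⊤ ≤ Submodule.span k (Set.range fun j : Fin n => (⇑φ)^[j] v) := by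
  classical
  intro n
  induction n with
  | zero =>
    intro V _ _ _ φ _ hn
    haveI : Subsingleton V := Module.finrank_zero_iff.mp hn
    exact ⟨0, fun x _ => by rw [Subsingleton.elim x 0]; exact Submodule.zero_mem _⟩
  | succ n ih =>
    intro V _ _ _ φ hss hn
    haveI : Nontrivial V := Module.nontrivial_of_finrank_pos (R := k) (by omega)
    have hinj := inj_of_span_range φ hss
    obtain ⟨e, he0, he⟩ := sep_lang_fixed p hc hψ φ hinj
    set L : Submodule k V := Submodule.span k {e} with hL
    have heL : e ∈ L := Submodule.mem_span_singleton_self e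
    have hLst : L ≤ L.comap φ := by
      intro x hx
      obtain ⟨t, rfl⟩ := Submodule.mem_span_singleton.mp hx
      rw [Submodule.mem_comap, map_smulₛₗ, he]
      exact L.smul_mem _ heL
    let φq : (V ⧸ L) →ₛₗ[ψ] (V ⧸ L) := L.mapQ L φ hLst
    have hφq_mk : ∀ x, φq (Submodule.Quotient.mk x) = Submodule.Quotient.mk (φ x) := fun _ => rfl
    have hφq_it : ∀ (j : ℕ) (x : V), (⇑φq)^[j] (Submodule.Quotient.mk x) =
        Submodule.Quotient.mk ((⇑φ)^[j] x) := by
      intro j
      induction j with
      | zero => intro x; rfl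
      | succ j ihj =>
        intro x
        rw [Function.iterate_succ_apply', Function.iterate_succ_apply', ihj, hφq_mk]
    have hssq : Submodule.span k (Set.range φq) = ⊤ := by
      rw [eq_top_iff]
      rintro z -
      obtain ⟨x, rfl⟩ := Submodule.Quotient.mk_surjective L z
      have hx : x ∈ Submodule.span k (Set.range φ) := by rw [hss]; trivial
      induction hx using Submodule.span_induction with
      | mem x hx =>
        obtain ⟨x', rfl⟩ := hx
        exact Submodule.subset_span ⟨Submodule.Quotient.mk x', hφq_mk x'⟩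
      | zero => exact Submodule.zero_mem _
      | add a b _ _ ha hb =>
        rw [Submodule.Quotient.mk_add]; exact Submodule.add_mem _ ha hb
      | smul t a _ ha =>
        rw [Submodule.Quotient.mk_smul]; exact Submodule.smul_mem _ _ ha
    have hfr : Module.finrank k (V ⧸ L) = n := by
      have h1 := Submodule.finrank_quotient_add_finrank L
      rw [hL, finrank_span_singleton he0, hn] at h1
      rw [hL]
      omega
    obtain ⟨z, hz⟩ := ih (V ⧸ L) φq hssq hfr
    obtain ⟨v', rfl⟩ := Submodule.Quotient.mk_surjective L z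
    -- the relation
    have hmem : (⇑φq)^[n] (Submodule.Quotient.mk v') ∈
        Submodule.span k (Set.range fun j : Fin n => (⇑φq)^[j] (Submodule.Quotient.mk v')) :=
      hz Submodule.mem_top
    obtain ⟨a, ha⟩ := (Submodule.mem_span_range_iff_exists_fun k).mp hmem
    have hrel : (⇑φ)^[n] v' - ∑ j : Fin n, a j • (⇑φ)^[j] v' ∈ L := by
      rw [← Submodule.Quotient.mk_eq_zero L, Submodule.Quotient.mk_sub, ← hφq_it, ← ha,
        sub_eq_zero]
      show _ = L.mkQ (∑ j : Fin n, a j • (⇑φ)^[j] v')
      rw [map_sum (Submodule.mkQ L)]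
      refine Finset.sum_congr rfl fun j _ => ?_
      rw [Submodule.mkQ_apply, Submodule.Quotient.mk_smul, hφq_it]
    obtain ⟨μ, hμ⟩ := Submodule.mem_span_singleton.mp hrel
    -- the polynomial
    set q := p ^ c with hq
    have hq2 : 2 ≤ q := by
      have h1 : p ^ 1 ≤ p ^ c := Nat.pow_le_pow_right (Fact.out : p.Prime).pos hc
      have h2 := (Fact.out : p.Prime).two_le
      rw [pow_one] at h1
      omega
    have hψit : ∀ (j : ℕ) (t : k), (⇑ψ)^[j] t = t ^ (q ^ j) := by
      intro j
      induction j with
      | zero => intro t; simp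
      | succ j ihj =>
        intro t
        rw [Function.iterate_succ_apply', ihj, hψ, ← pow_mul, pow_succ]
    let P : k[X] := X ^ (q ^ n) - ∑ j : Fin n, C (a j) * X ^ (q ^ (j : ℕ)) + C μ
    have hPne : P ≠ 0 := by
      intro h0
      have h1 : P.coeff (q ^ n) = 1 := by
        have hlt : ∀ j : Fin n, q ^ (j : ℕ) ≠ q ^ n := fun j =>
          (Nat.pow_lt_pow_right (by omega) j.2).ne
        simp only [P, Polynomial.coeff_add, Polynomial.coeff_sub, Polynomial.coeff_X_pow,
          Polynomial.finset_sum_coeff, Polynomial.coeff_C_mul, Polynomial.coeff_C]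
        have hs : ∑ x : Fin n, a x * (if q ^ n = q ^ (x : ℕ) then (1 : k) else 0) = 0 :=
          Finset.sum_eq_zero fun j _ => by rw [if_neg (hlt j).symm, mul_zero]
        rw [hs, if_neg (pow_pos (by omega) n).ne']
        simp
      rw [h0, Polynomial.coeff_zero] at h1
      exact zero_ne_one h1
    haveI := isSepClosed_infinite k
    obtain ⟨lam, hlam⟩ : ∃ lam : k, P.eval lam ≠ 0 := by
      by_contra hcon
      push_neg at hcon
      exact hPne (Polynomial.funext fun t => by rw [hcon t, Polynomial.eval_zero])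
    refine ⟨v' + lam • e, ?_⟩
    set v := v' + lam • e with hv
    set S := Submodule.span k (Set.range fun j : Fin (n + 1) => (⇑φ)^[j] v) with hS
    have hit : ∀ j : ℕ, (⇑φ)^[j] v = (⇑φ)^[j] v' + lam ^ (q ^ j) • e := by
      intro j
      rw [hv, iterate_add_sl, iterate_smul_sl, hψit, Function.iterate_fixed he]
    have hSmem : ∀ j : ℕ, j < n + 1 → (⇑φ)^[j] v ∈ S := fun j hj =>
      Submodule.subset_span ⟨⟨j, hj⟩, rfl⟩
    -- e ∈ S
    have hPe : P.eval lam • e ∈ S := by
      have h1 : P.eval lam • e = (⇑φ)^[n] v - ∑ j : Fin n, a j • (⇑φ)^[j] v := by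
        rw [hit n]
        have h2 : ∑ j : Fin n, a j • (⇑φ)^[j] v =
            ∑ j : Fin n, a j • (⇑φ)^[j] v' + (∑ j : Fin n, a j * lam ^ (q ^ (j : ℕ))) • e := by
          rw [Finset.sum_smul, ← Finset.sum_add_distrib]
          refine Finset.sum_congr rfl fun j _ => ?_
          rw [hit, smul_add, mul_smul]
        rw [h2]
        have h3 : (⇑φ)^[n] v' = ∑ j : Fin n, a j • (⇑φ)^[j] v' + μ • e := by
          rw [hμ]; abel
        rw [h3]
        simp only [P, Polynomial.eval_add, Polynomial.eval_sub, Polynomial.eval_pow,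
          Polynomial.eval_X, Polynomial.eval_finset_sum, Polynomial.eval_mul, Polynomial.eval_C]
        rw [add_smul, sub_smul]
        abel
      rw [h1]
      exact S.sub_mem (hSmem n (Nat.lt_succ_self n))
        (S.sum_mem fun j _ => S.smul_mem _ (hSmem j (Nat.lt_succ_of_lt j.2)))
    have heS : e ∈ S := by
      have := S.smul_mem (P.eval lam)⁻¹ hPe
      rwa [smul_smul, inv_mul_cancel₀ hlam, one_smul] at this
    have hLS : L ≤ S := by
      rw [hL, Submodule.span_le, Set.singleton_subset_iff]
      exact heS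
    -- everything
    intro x _
    have hx : (Submodule.Quotient.mk x : V ⧸ L) ∈
        Submodule.span k (Set.range fun j : Fin n => (⇑φq)^[j] (Submodule.Quotient.mk v')) :=
      hz Submodule.mem_top
    obtain ⟨b, hb⟩ := (Submodule.mem_span_range_iff_exists_fun k).mp hx
    have hmk : (Submodule.Quotient.mk v : V ⧸ L) = Submodule.Quotient.mk v' := by
      rw [hv, Submodule.Quotient.mk_add, (Submodule.Quotient.mk_eq_zero L).mpr (L.smul_mem _ heL),
        add_zero]
    have h1 : x - ∑ j : Fin n, b j • (⇑φ)^[j] v ∈ L := by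
      rw [← Submodule.Quotient.mk_eq_zero L, Submodule.Quotient.mk_sub, ← hb, sub_eq_zero]
      show _ = L.mkQ (∑ j : Fin n, b j • (⇑φ)^[j] v)
      rw [map_sum (Submodule.mkQ L)]
      refine Finset.sum_congr rfl fun j _ => ?_
      rw [Submodule.mkQ_apply, Submodule.Quotient.mk_smul, ← hφq_it, hmk]
    have h2 : ∑ j : Fin n, b j • (⇑φ)^[j] v ∈ S :=
      S.sum_mem fun j _ => S.smul_mem _ (hSmem j (Nat.lt_succ_of_lt j.2))
    have := S.add_mem (hLS h1) h2
    rwa [sub_add_cancel] at this

end Cyclic

end Groth.Agent.Lib.Helper90.IsocLib
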