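import Groth.Agent.Lib.Helper90.SepLang2

/-!
# Roots of monic polynomials with unit constant derivative over strictly henselian local rings
-/

set_option autoImplicit false

open Polynomial IsLocalRing

universe u v w

namespace Groth.Agent.Lib.Helper90.IsocLib

section Hensel

variable {R : Type u} [CommRing R] [HenselianLocalRing R] [IsSepClosed (ResidueField R)]

/-- the reduction of a monic polynomial with constant unit derivative is separable. -/
theorem map_residue_separable (f : R[X]) (u : R) (hu : IsUnit u) (hder : derivative f = C u) :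
    (f.map (residue R)).Separable := by
  rw [Polynomial.separable_def, Polynomial.derivative_map, hder, Polynomial.map_C]
  have hu' : IsUnit (residue R u) := hu.map (residue R)
  have : IsUnit (C (residue R u) : (ResidueField R)[X]) := Polynomial.isUnit_C.mpr hu'
  obtain ⟨w, hw⟩ := this.exists_left_inv
  exact ⟨0, w, by rw [zero_mul, zero_add, hw]⟩

theorem hensel_lift_root (f : R[X]) (hf : f.Monic) (u : R) (hu : IsUnit u)
    (hder : derivative f = C u) (a₀ : ResidueField R) (ha₀ : (f.map (residue R)).IsRoot a₀) :
    ∃ a : R, f.IsRoot a ∧ residue R a = a₀ := by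
  have H := ((HenselianLocalRing.TFAE R).out 0 1).mp ‹HenselianLocalRing R›
  refine H f hf a₀ ?_ ?_
  · rw [Polynomial.aeval_def, ResidueField.algebraMap_eq, Polynomial.eval₂_eq_eval_map]
    exact ha₀
  · rw [hder, Polynomial.aeval_C, ResidueField.algebraMap_eq]
    exact (hu.map (residue R)).ne_zero

theorem hensel_root_unique (f : R[X]) (u : R) (hu : IsUnit u)
    (hder : derivative f = C u) {a b : R} (ha : f.IsRoot a) (hb : f.IsRoot b)
    (hab : residue R a = residue R b) : a = b := by
  refine IsLocalRing.eq_of_eval_eq_zero_of_not_isUnit_sub ha hb ?_ ?_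
  · have h1 : residue R (a - b) = 0 := by rw [map_sub, hab, sub_self]
    have h2 : a - b ∈ maximalIdeal R := (IsLocalRing.residue_eq_zero_iff _).mp h1
    exact (IsLocalRing.mem_maximalIdeal _).mp h2
  · rw [hder, Polynomial.eval_C]
    exact hu

theorem hensel_exists_root (f : R[X]) (hf : f.Monic) (u : R) (hu : IsUnit u)
    (hder : derivative f = C u) (hdeg : f.natDegree ≠ 0) : ∃ a : R, f.IsRoot a := by
  have hsep := map_residue_separable f u hu hder
  have hd : (f.map (residue R)).degree ≠ 0 := by
    rw [hf.degree_map]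
    intro h0
    exact hdeg (Polynomial.natDegree_eq_of_degree_eq_some h0)
  obtain ⟨a₀, ha₀⟩ := IsSepClosed.exists_root _ hd hsep
  obtain ⟨a, ha, -⟩ := hensel_lift_root f hf u hu hder a₀ ha₀
  exact ⟨a, ha⟩

theorem hensel_card_roots (f : R[X]) (hf : f.Monic) (u : R) (hu : IsUnit u)
    (hder : derivative f = C u) : Nat.card {a : R // f.IsRoot a} = f.natDegree := by
  classical
  set g := f.map (residue R) with hg
  have hsep : g.Separable := map_residue_separable f u hu hder
  have hgm : g.Monic := hf.map _
  have hroot : ∀ a : R, f.IsRoot a → g.IsRoot (residue R a) := by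
    intro a ha
    rw [Polynomial.IsRoot.def, hg, Polynomial.eval_map, Polynomial.eval₂_hom, ha, map_zero]
  let Φ : {a : R // f.IsRoot a} → {a₀ : ResidueField R // g.IsRoot a₀} :=
    fun a => ⟨residue R a.1, hroot a.1 a.2⟩
  have hΦ : Function.Bijective Φ := by
    constructor
    · intro a b hab
      apply Subtype.ext
      exact hensel_root_unique f u hu hder a.2 b.2 (congrArg Subtype.val hab)
    · rintro ⟨a₀, ha₀⟩
      obtain ⟨a, ha, haa⟩ := hensel_lift_root f hf u hu hder a₀ ha₀
      exact ⟨⟨a, ha⟩, Subtype.ext haa⟩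
  rw [Nat.card_congr (Equiv.ofBijective Φ hΦ)]
  have h1 : Fintype.card (g.rootSet (ResidueField R)) = g.natDegree :=
    Polynomial.card_rootSet_eq_natDegree hsep (by
      rw [Algebra.algebraMap_self, Polynomial.map_id]
      exact IsSepClosed.splits_of_separable g hsep)
  have h2 : ∀ a₀ : ResidueField R, a₀ ∈ g.rootSet (ResidueField R) ↔ g.IsRoot a₀ := by
    intro a₀
    rw [Polynomial.mem_rootSet, Polynomial.coe_aeval_eq_eval]
    exact ⟨fun h => h.2, fun h => ⟨hgm.ne_zero, h⟩⟩
  rw [← hf.natDegree_map (residue R), ← h1, ← Nat.card_eq_fintype_card]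
  exact Nat.card_congr (Equiv.subtypeEquivRight fun a₀ => (h2 a₀).symm)

end Hensel

end Groth.Agent.Lib.Helper90.IsocLib
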