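import Groth.Agent.Lib.Helper90.SepLang3

set_option autoImplicit false

open Polynomial IsLocalRing

universe u v w

namespace Groth.Agent.Lib.Helper90.IsocLib

section CyclicBasis

variable {R : Type u} [CommRing R] (p : ℕ)

/-- the companion-type semilinear map in coordinates. -/
def cycT {d : ℕ} (a : Fin (d + 1) → R) (c : Fin (d + 1) → R) : Fin (d + 1) → R :=
  Fin.cases (c (Fin.last d) ^ p * a 0) (fun i => c i.castSucc ^ p + c (Fin.last d) ^ p * a i.succ)

theorem cycT_zero {d : ℕ} (a c : Fin (d + 1) → R) :
    cycT p a c 0 = c (Fin.last d) ^ p * a 0 := rfl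

theorem cycT_succ {d : ℕ} (a c : Fin (d + 1) → R) (i : Fin d) :
    cycT p a c i.succ = c i.castSucc ^ p + c (Fin.last d) ^ p * a i.succ := by
  simp [cycT]

variable {M : Type v} [AddCommGroup M] [Module R M]

theorem cyc_coord (T : M →+ M) (hT : ∀ (r : R) (m : M), T (r • m) = r ^ p • T m)
    {d : ℕ} (e : Module.Basis (Fin (d + 1)) R M)
    (he : ∀ i : Fin d, T (e i.castSucc) = e i.succ) (x : M) :
    e.equivFun (T x) = cycT p (e.equivFun (T (e (Fin.last d)))) (e.equivFun x) := by
  classical
  set c := e.equivFun x with hc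
  set a := e.equivFun (T (e (Fin.last d))) with ha
  have hx : x = ∑ i, c i • e i := (e.sum_equivFun x).symm
  have hTx : T x = ∑ i : Fin d, c i.castSucc ^ p • e i.succ + c (Fin.last d) ^ p • T (e (Fin.last d)) := by
    conv_lhs => rw [hx, map_sum, Fin.sum_univ_castSucc]
    congr 1
    · refine Finset.sum_congr rfl fun i _ => ?_
      rw [hT, he]
    · rw [hT]
  rw [hTx, map_add, map_sum]
  funext j
  simp only [Pi.add_apply, Finset.sum_apply, map_smul, Pi.smul_apply, smul_eq_mul,
    Module.Basis.equivFun_self]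
  refine Fin.cases ?_ (fun i₀ => ?_) j
  · rw [cycT_zero, Finset.sum_eq_zero, zero_add]
    intro i _
    rw [if_neg (Fin.succ_ne_zero i), mul_zero]
  · rw [cycT_succ, Finset.sum_eq_single i₀]
    · rw [if_pos rfl, mul_one]
    · intro i _ hi
      rw [if_neg (fun h => hi (Fin.succ_injective _ h)), mul_zero]
    · intro h; exact absurd (Finset.mem_univ _) h

end CyclicBasis

section CycPoly

variable {R : Type u} [CommRing R] (p : ℕ) {d : ℕ} (a y : Fin (d + 1) → R) (b : R)

/-- the polynomial giving `u = x_d ^ p` in terms of `w = x_0`. -/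
noncomputable def cycU : R[X] := C b * (X + C (y 0))

/-- the polynomials giving the coordinates in terms of `w = x_0`. -/
noncomputable def cycX : Fin (d + 1) → R[X] :=
  Fin.induction X (fun i P => P ^ p + C (a i.succ) * cycU y b - C (y i.succ))

/-- the final equation. -/
noncomputable def cycQ : R[X] := cycX p a y b (Fin.last d) ^ p - cycU y b

theorem cycX_zero : cycX p a y b 0 = X := rfl

theorem cycX_succ (i : Fin d) : cycX p a y b i.succ =
    cycX p a y b i.castSucc ^ p + C (a i.succ) * cycU y b - C (y i.succ) := by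
  simp [cycX]

theorem natDegree_cycU_le : (cycU y b).natDegree ≤ 1 := by
  unfold cycU
  refine (Polynomial.natDegree_C_mul_le _ _).trans ?_
  exact (Polynomial.natDegree_add_le _ _).trans (max_le Polynomial.natDegree_X_le (by simp))

theorem cycX_monic [Nontrivial R] (hp : 2 ≤ p) (i : Fin (d + 1)) :
    (cycX p a y b i).Monic ∧ (cycX p a y b i).natDegree = p ^ (i : ℕ) := by
  induction i using Fin.induction with
  | zero =>
    rw [cycX_zero]
    exact ⟨Polynomial.monic_X, by simp⟩
  | succ i ih =>
    obtain ⟨hm, hd⟩ := ih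
    rw [cycX_succ, add_sub_assoc]
    set E := C (a i.succ) * cycU y b - C (y i.succ) with hE
    have hE1 : E.natDegree ≤ 1 := by
      refine (Polynomial.natDegree_sub_le _ _).trans (max_le ?_ (by simp))
      exact (Polynomial.natDegree_C_mul_le _ _).trans (natDegree_cycU_le y b)
    have hPm : (cycX p a y b i.castSucc ^ p).Monic := hm.pow p
    have hPd : (cycX p a y b i.castSucc ^ p).natDegree = p ^ ((i : ℕ) + 1) := by
      rw [hm.natDegree_pow, hd, pow_succ, mul_comm]
      rfl
    have h2 : 2 ≤ p ^ ((i : ℕ) + 1) := by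
      calc 2 ≤ p := hp
        _ = p ^ 1 := (pow_one p).symm
        _ ≤ p ^ ((i : ℕ) + 1) := Nat.pow_le_pow_right (by omega) (by omega)
    have hlt : E.natDegree < (cycX p a y b i.castSucc ^ p).natDegree := by rw [hPd]; omega
    refine ⟨hPm.add_of_left (Polynomial.degree_lt_degree hlt), ?_⟩
    rw [Polynomial.natDegree_add_eq_left_of_natDegree_lt hlt, hPd]
    rfl

theorem cycQ_monic [Nontrivial R] (hp : 2 ≤ p) :
    (cycQ p a y b).Monic ∧ (cycQ p a y b).natDegree = p ^ (d + 1) := by
  obtain ⟨hm, hd⟩ := cycX_monic p a y b hp (Fin.last d)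
  unfold cycQ
  have hPm : (cycX p a y b (Fin.last d) ^ p).Monic := hm.pow p
  have hPd : (cycX p a y b (Fin.last d) ^ p).natDegree = p ^ (d + 1) := by
    rw [hm.natDegree_pow, hd, pow_succ, mul_comm]
    rfl
  have h2 : 2 ≤ p ^ (d + 1) := by
    calc 2 ≤ p := hp
      _ = p ^ 1 := (pow_one p).symm
      _ ≤ p ^ (d + 1) := Nat.pow_le_pow_right (by omega) (by omega)
  have hlt : (cycU y b).natDegree < (cycX p a y b (Fin.last d) ^ p).natDegree := by
    rw [hPd]
    have := natDegree_cycU_le y b
    omega
  refine ⟨hPm.sub_of_left (Polynomial.degree_lt_degree hlt), ?_⟩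
  rw [Polynomial.natDegree_sub_eq_left_of_natDegree_lt hlt, hPd]

theorem derivative_cycQ [CharP R p] : derivative (cycQ p a y b) = C (-b) := by
  unfold cycQ cycU
  rw [Polynomial.derivative_sub, Polynomial.derivative_pow, Polynomial.derivative_mul,
    Polynomial.derivative_C, Polynomial.derivative_add, Polynomial.derivative_X,
    Polynomial.derivative_C, CharP.cast_eq_zero R p, map_zero]
  simp

theorem cyc_root_sol (hb : b * a 0 = 1) (w : R) (hw : (cycQ p a y b).IsRoot w) (j : Fin (d + 1)) :
    cycT p a (fun j => (cycX p a y b j).eval w) j - (cycX p a y b j).eval w = y j := by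
  have hlast : (cycX p a y b (Fin.last d)).eval w ^ p = (cycU y b).eval w := by
    have := hw
    unfold cycQ at this
    rw [Polynomial.IsRoot.def, Polynomial.eval_sub, Polynomial.eval_pow] at this
    exact sub_eq_zero.mp this
  have hU : (cycU y b).eval w = b * (w + y 0) := by
    unfold cycU
    simp
  refine Fin.cases ?_ (fun i => ?_) j
  · rw [cycT_zero, hlast, hU, cycX_zero, Polynomial.eval_X]
    linear_combination (w + y 0) * hb
  · rw [cycT_succ, hlast, cycX_succ]
    simp only [Polynomial.eval_sub, Polynomial.eval_add, Polynomial.eval_pow, Polynomial.eval_mul,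
      Polynomial.eval_C]
    ring

theorem cyc_sol_root (hb : b * a 0 = 1) (c : Fin (d + 1) → R) (hc : cycT p a c = c) :
    (∀ j, c j = (cycX p a 0 b j).eval (c 0)) ∧ (cycQ p a 0 b).IsRoot (c 0) := by
  have h0 : c (Fin.last d) ^ p * a 0 = c 0 := by
    have := congrFun hc 0
    rwa [cycT_zero] at this
  have hlast : c (Fin.last d) ^ p = b * c 0 := by
    linear_combination (-(c (Fin.last d) ^ p)) * hb + b * h0
  have hU : (cycU (0 : Fin (d + 1) → R) b).eval (c 0) = b * c 0 := by
    unfold cycU
    simp
  have hall : ∀ j, c j = (cycX p a 0 b j).eval (c 0) := by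
    intro j
    induction j using Fin.induction with
    | zero => rw [cycX_zero, Polynomial.eval_X]
    | succ i ih =>
      have h1 := congrFun hc i.succ
      rw [cycT_succ] at h1
      rw [cycX_succ]
      simp only [Polynomial.eval_sub, Polynomial.eval_add, Polynomial.eval_pow,
        Polynomial.eval_mul, Polynomial.eval_C, hU, Pi.zero_apply, sub_zero]
      rw [← ih, ← h1, hlast]
      ring
  refine ⟨hall, ?_⟩
  unfold cycQ
  rw [Polynomial.IsRoot.def, Polynomial.eval_sub, Polynomial.eval_pow, ← hall, hlast, hU, sub_self]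

end CycPoly

section CycConclusion

variable {R : Type u} [CommRing R] [HenselianLocalRing R] [IsSepClosed (ResidueField R)]
variable (p : ℕ) [Fact p.Prime] [CharP R p]
variable {M : Type v} [AddCommGroup M] [Module R M]

theorem cyclic_basis_conclusion (T : M →+ M) (hT : ∀ (r : R) (m : M), T (r • m) = r ^ p • T m)
    (hspan : Submodule.span R (Set.range T) = ⊤)
    {d : ℕ} (e : Module.Basis (Fin (d + 1)) R M)
    (he : ∀ i : Fin d, T (e i.castSucc) = e i.succ) :
    Function.Surjective (fun m => T m - m) ∧ Nat.card {m : M // T m = m} = p ^ (d + 1) := by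
  classical
  have hp2 : 2 ≤ p := (Fact.out : p.Prime).two_le
  set a := e.equivFun (T (e (Fin.last d))) with ha
  have hcoord := cyc_coord p T hT e he
  -- a 0 is a unit
  obtain ⟨b, hb⟩ : ∃ b : R, b * a 0 = 1 := by
    let N : Submodule R M := Submodule.comap (e.coord 0) (Ideal.span {a 0})
    have hN : Submodule.span R (Set.range T) ≤ N := by
      rw [Submodule.span_le]
      rintro _ ⟨x, rfl⟩
      show e.coord 0 (T x) ∈ Ideal.span {a 0}
      have h1 : e.coord 0 (T x) = e.equivFun (T x) 0 := rfl
      rw [h1, hcoord, cycT_zero]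
      exact Ideal.mul_mem_left _ _ (Ideal.subset_span rfl)
    rw [hspan] at hN
    have h2 : e 0 ∈ N := hN Submodule.mem_top
    have h3 : e.coord 0 (e 0) ∈ Ideal.span {a 0} := h2
    rw [Module.Basis.coord_apply, Module.Basis.repr_self, Finsupp.single_eq_same] at h3
    exact Ideal.mem_span_singleton'.mp h3
  have hbu : IsUnit (-b) := (IsUnit.of_mul_eq_one _ hb).neg
  constructor
  · intro y'
    set y := e.equivFun y' with hy
    obtain ⟨hQm, hQd⟩ := cycQ_monic p a y b hp2
    have hQ0 : (cycQ p a y b).natDegree ≠ 0 := by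
      rw [hQd]; exact (pow_pos (by omega) _).ne'
    obtain ⟨w, hw⟩ := hensel_exists_root (cycQ p a y b) hQm (-b) hbu (derivative_cycQ p a y b) hQ0
    refine ⟨e.equivFun.symm (fun j => (cycX p a y b j).eval w), ?_⟩
    apply e.equivFun.injective
    show e.equivFun (T _ - _) = y
    rw [map_sub, hcoord, LinearEquiv.apply_symm_apply]
    funext j
    exact cyc_root_sol p a y b hb w hw j
  · obtain ⟨hQm, hQd⟩ := cycQ_monic p a 0 b hp2
    rw [← hQd, ← hensel_card_roots (cycQ p a 0 b) hQm (-b) hbu (derivative_cycQ p a 0 b)]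
    have hfix : ∀ m : M, T m = m → cycT p a (e.equivFun m) = e.equivFun m := by
      intro m hm
      rw [← hcoord, hm]
    let Φ : {m : M // T m = m} → {w : R // (cycQ p a 0 b).IsRoot w} :=
      fun m => ⟨e.equivFun m.1 0, (cyc_sol_root p a b hb _ (hfix m.1 m.2)).2⟩
    have hΦ : Function.Bijective Φ := by
      constructor
      · intro m m' hmm
        have h0 : e.equivFun m.1 0 = e.equivFun m'.1 0 := congrArg Subtype.val hmm
        apply Subtype.ext
        apply e.equivFun.injective
        funext j
        rw [(cyc_sol_root p a b hb _ (hfix m.1 m.2)).1 j,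
          (cyc_sol_root p a b hb _ (hfix m'.1 m'.2)).1 j, h0]
      · rintro ⟨w, hw⟩
        have hT' : T (e.equivFun.symm (fun j => (cycX p a 0 b j).eval w)) =
            e.equivFun.symm (fun j => (cycX p a 0 b j).eval w) := by
          apply e.equivFun.injective
          rw [hcoord, LinearEquiv.apply_symm_apply]
          funext j
          have := cyc_root_sol p a 0 b hb w hw j
          rw [Pi.zero_apply, sub_eq_zero] at this
          exact this
        refine ⟨⟨_, hT'⟩, Subtype.ext ?_⟩
        show e.equivFun (e.equivFun.symm (fun j => (cycX p a 0 b j).eval w)) 0 = w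
        rw [LinearEquiv.apply_symm_apply, cycX_zero, Polynomial.eval_X]
    exact Nat.card_congr (Equiv.ofBijective Φ hΦ)

end CycConclusion

end Groth.Agent.Lib.Helper90.IsocLib
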