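import Groth.Agent.Lib.Helper90.SepLang4

/-!
# Frobenius modules over strictly henselian local rings
-/

set_option autoImplicit false

open Polynomial IsLocalRing

universe u v w

namespace Groth.Agent.Lib.Helper90.IsocLib

section FrobMod

variable {R : Type u} [CommRing R] [HenselianLocalRing R] [IsSepClosed (ResidueField R)]
variable (p : ℕ) [Fact p.Prime] [CharP R p]
variable {M : Type v} [AddCommGroup M] [Module R M]

omit [HenselianLocalRing R] [IsSepClosed (ResidueField R)] in
theorem residueField_charP [IsLocalRing R] : CharP (ResidueField R) p := by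
  refine (CharP.charP_iff_prime_eq_zero (Fact.out : p.Prime)).mpr ?_
  have h1 : ((p : ℕ) : ResidueField R) = residue R ((p : ℕ) : R) := (map_natCast (residue R) p).symm
  rw [h1, CharP.cast_eq_zero R p, map_zero]

/-- existence of a cyclic basis. -/
theorem exists_cyclic_basis (T : M →+ M) (hT : ∀ (r : R) (m : M), T (r • m) = r ^ p • T m)
    (hspan : Submodule.span R (Set.range T) = ⊤) {d : ℕ} (b : Module.Basis (Fin (d + 1)) R M) :
    ∃ e : Module.Basis (Fin (d + 1)) R M, ∀ i : Fin d, T (e i.castSucc) = e i.succ := by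
  classical
  haveI : CharP (ResidueField R) p := residueField_charP p
  haveI : Module.Finite R M := Module.Finite.of_basis b
  set κ := ResidueField R with hκ
  let V := Fin (d + 1) → κ
  let ρ : M →ₗ[R] V := (Algebra.linearMap R κ).compLeft (Fin (d + 1)) ∘ₗ b.equivFun.toLinearMap
  have hρ : ∀ m i, ρ m i = residue R (b.equivFun m i) := fun m i => rfl
  have hρsmul : ∀ (r : R) (m : M), ρ (r • m) = residue R r • ρ m := by
    intro r m
    rw [map_smul]
    funext i
    rw [Pi.smul_apply, Pi.smul_apply, Algebra.smul_def, ResidueField.algebraMap_eq, smul_eq_mul]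
  have hρsurj : Function.Surjective ρ := by
    intro x
    choose r hr using fun i => residue_surjective (x i)
    refine ⟨b.equivFun.symm r, ?_⟩
    funext i
    rw [hρ, LinearEquiv.apply_symm_apply, hr]
  have hρker : ∀ m, ρ m = 0 → m ∈ (maximalIdeal R) • (⊤ : Submodule R M) := by
    intro m hm
    rw [← b.sum_equivFun m]
    refine Submodule.sum_mem _ fun i _ => Submodule.smul_mem_smul ?_ Submodule.mem_top
    have h1 : residue R (b.equivFun m i) = 0 := by rw [← hρ, hm]; rfl
    exact (residue_eq_zero_iff _).mp h1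
  -- the reduction of T
  let ψ : κ →+* κ := frobenius κ p
  have hψ : ∀ t : κ, ψ t = t ^ (p ^ 1) := fun t => by rw [pow_one]; rfl
  let Tbar : V →ₛₗ[ψ] V :=
    { toFun := fun x => ∑ j, (x j) ^ p • ρ (T (b j))
      map_add' := fun x y => by
        rw [← Finset.sum_add_distrib]
        refine Finset.sum_congr rfl fun j _ => ?_
        rw [Pi.add_apply, add_pow_char, add_smul]
      map_smul' := fun t x => by
        rw [Finset.smul_sum]
        refine Finset.sum_congr rfl fun j _ => ?_
        rw [Pi.smul_apply, smul_eq_mul, mul_pow, mul_smul]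
        rfl }
  have hTbar : ∀ x, Tbar x = ∑ j, (x j) ^ p • ρ (T (b j)) := fun _ => rfl
  have hρT : ∀ m, ρ (T m) = Tbar (ρ m) := by
    intro m
    conv_lhs => rw [← b.sum_equivFun m, map_sum, map_sum]
    rw [hTbar]
    refine Finset.sum_congr rfl fun j _ => ?_
    rw [hT, hρsmul, map_pow, hρ]
  have hρTit : ∀ (j : ℕ) (m : M), ρ ((⇑T)^[j] m) = (⇑Tbar)^[j] (ρ m) := by
    intro j
    induction j with
    | zero => intro m; rfl
    | succ j ih =>
      intro m
      rw [Function.iterate_succ_apply', Function.iterate_succ_apply', hρT, ih]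
  have hss : Submodule.span κ (Set.range Tbar) = ⊤ := by
    rw [eq_top_iff]
    rintro x -
    obtain ⟨m, rfl⟩ := hρsurj x
    have hm : m ∈ Submodule.span R (Set.range T) := by rw [hspan]; trivial
    induction hm using Submodule.span_induction with
    | mem m hm =>
      obtain ⟨m', rfl⟩ := hm
      rw [hρT]
      exact Submodule.subset_span ⟨_, rfl⟩
    | zero => rw [map_zero]; exact Submodule.zero_mem _
    | add x y _ _ hx hy => rw [map_add]; exact Submodule.add_mem _ hx hy
    | smul r x _ hx => rw [hρsmul]; exact Submodule.smul_mem _ _ hx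
  have hfr : Module.finrank κ V = d + 1 := Module.finrank_fin_fun κ
  obtain ⟨vbar, hvbar⟩ := sep_exists_cyclic p Nat.one_pos hψ (d + 1) V Tbar hss hfr
  obtain ⟨v, rfl⟩ := hρsurj vbar
  set N := Submodule.span R (Set.range fun j : Fin (d + 1) => (⇑T)^[j] v) with hN
  have hsup : (⊤ : Submodule R M) ≤ N ⊔ (maximalIdeal R) • (⊤ : Submodule R M) := by
    intro m _
    have h1 : ρ m ∈ Submodule.span κ (Set.range fun j : Fin (d + 1) => (⇑Tbar)^[j] (ρ v)) :=
      hvbar Submodule.mem_top
    obtain ⟨t, ht⟩ := (Submodule.mem_span_range_iff_exists_fun κ).mp h1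
    choose r hr using fun j => residue_surjective (t j)
    have h2 : ρ (m - ∑ j : Fin (d + 1), r j • (⇑T)^[j] v) = 0 := by
      rw [map_sub, map_sum, ← ht, sub_eq_zero]
      refine Finset.sum_congr rfl fun j _ => ?_
      rw [hρsmul, hr, hρTit]
    have h3 := hρker _ h2
    have h4 : ∑ j : Fin (d + 1), r j • (⇑T)^[j] v ∈ N :=
      N.sum_mem fun j _ => N.smul_mem _ (Submodule.subset_span ⟨j, rfl⟩)
    have h5 : m = ∑ j : Fin (d + 1), r j • (⇑T)^[j] v +
        (m - ∑ j : Fin (d + 1), r j • (⇑T)^[j] v) := by abel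
    rw [h5]
    exact Submodule.add_mem_sup h4 h3
  have hNtop : (⊤ : Submodule R M) ≤ N :=
    Submodule.le_of_le_smul_of_le_jacobson_bot Module.Finite.fg_top
      (by rw [IsLocalRing.jacobson_eq_maximalIdeal ⊥ bot_ne_top]) hsup
  have hcard : Fintype.card (Fin (d + 1)) = Module.finrank R M := by
    rw [Module.finrank_eq_card_basis b]
  refine ⟨basisOfTopLeSpanOfCardEqFinrank (fun j : Fin (d + 1) => (⇑T)^[j] v) hNtop hcard,
    fun i => ?_⟩
  rw [coe_basisOfTopLeSpanOfCardEqFinrank]
  show T ((⇑T)^[(i.castSucc : ℕ)] v) = (⇑T)^[(i.succ : ℕ)] v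
  rw [Fin.val_succ, Fin.val_castSucc, Function.iterate_succ_apply']

/-- main theorem on Frobenius modules over a strictly henselian local ring of characteristic `p`. -/
theorem frobmod_main [Module.Free R M] [Module.Finite R M]
    (T : M →+ M) (hT : ∀ (r : R) (m : M), T (r • m) = r ^ p • T m)
    (hspan : Submodule.span R (Set.range T) = ⊤) :
    Function.Surjective (fun m => T m - m) ∧
      Nat.card {m : M // T m = m} = p ^ Module.finrank R M := by
  classical
  obtain ⟨n, hn⟩ : ∃ n, Module.finrank R M = n := ⟨_, rfl⟩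
  let b0 := Module.finBasis R M
  cases n with
  | zero =>
    haveI : IsEmpty (Fin (Module.finrank R M)) := by rw [hn]; exact Fin.isEmpty
    haveI : Subsingleton M := b0.repr.toEquiv.subsingleton
    refine ⟨fun y => ⟨0, Subsingleton.elim _ _⟩, ?_⟩
    rw [hn, pow_zero]
    haveI : Unique {m : M // T m = m} := ⟨⟨⟨0, map_zero T⟩⟩, fun x => Subsingleton.elim _ _⟩
    exact Nat.card_unique
  | succ d =>
    let b : Module.Basis (Fin (d + 1)) R M := b0.reindex (finCongr hn)
    obtain ⟨e, he⟩ := exists_cyclic_basis p T hT hspan b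
    rw [hn]
    exact cyclic_basis_conclusion p T hT hspan e he

end FrobMod

end Groth.Agent.Lib.Helper90.IsocLib
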