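import Groth.Agent.Lib.Helper90.SepLang5

/-!
# Frobenius modules over strictly henselian noetherian local rings: finitely generated modules
with surjective Frobenius-semilinear endomorphism are killed by the maximal ideal.
-/

set_option autoImplicit false

open Polynomial IsLocalRing TensorProduct

universe u v w

namespace Groth.Agent.Lib.Helper90.IsocLib

theorem isSepClosed_of_ringEquiv {K K' : Type*} [Field K] [Field K'] (e : K ≃+* K')
    [IsSepClosed K] : IsSepClosed K' := by
  apply IsSepClosed.of_exists_root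
  intro q _ hq hsep
  have hqe : degree (q.map e.symm.toRingHom) ≠ 0 := by
    rw [degree_map]
    exact ne_of_gt (degree_pos_of_irreducible hq)
  obtain ⟨x, hx⟩ := IsSepClosed.exists_root (q.map e.symm.toRingHom) hqe hsep.map
  refine ⟨e x, ?_⟩
  rw [IsRoot.def, Polynomial.eval_map, Polynomial.eval₂_eq_sum_range] at hx
  rw [Polynomial.eval_eq_sum_range]
  apply e.symm.injective
  rw [map_zero, ← hx, map_sum]
  refine Finset.sum_congr rfl fun i _ => ?_
  rw [map_mul, map_pow, RingEquiv.symm_apply_apply]
  rfl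

section Torsion

variable {R : Type u} [CommRing R] [IsLocalRing R] [IsNoetherianRing R]
variable (p : ℕ) [Fact p.Prime]
variable {M : Type v} [AddCommGroup M] [Module R M] [Module.Finite R M]

theorem smul_top_eq_bot_of_surjective
    (T : M →+ M) (hT : ∀ (r : R) (m : M), T (r • m) = r ^ p • T m)
    (hsurj : Function.Surjective T) :
    (maximalIdeal R) • (⊤ : Submodule R M) = ⊥ := by
  classical
  have hp2 : 2 ≤ p := (Fact.out : p.Prime).two_le
  set k := ResidueField R with hk
  set N : Submodule R M := (maximalIdeal R) • (⊤ : Submodule R M) with hN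
  let π₁ : M →ₗ[R] k ⊗[R] M := TensorProduct.mk R k M 1
  have hπsurj : Function.Surjective π₁ :=
    TensorProduct.mk_surjective R M k Ideal.Quotient.mk_surjective
  have hπsmul : ∀ (r : R) (m : M), π₁ (r • m) = residue R r • π₁ m := by
    intro r m
    rw [map_smul]
    exact (algebraMap_smul k r (π₁ m)).symm
  let β := Module.finBasis k (k ⊗[R] M)
  set n := Module.finrank k (k ⊗[R] M) with hn
  choose e he using fun i => hπsurj (β i)
  have hespan : Submodule.span R (Set.range e) = ⊤ :=
    IsLocalRing.span_eq_top_of_tmul_eq_basis e β he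
  let g : Fin n → M := fun i => T (e i)
  have hgen : ∀ m : M, ∃ r : Fin n → R, m = ∑ i, r i ^ p • g i := by
    intro m
    obtain ⟨m', rfl⟩ := hsurj m
    have hm' : m' ∈ Submodule.span R (Set.range e) := by rw [hespan]; trivial
    obtain ⟨r, rfl⟩ := (Submodule.mem_span_range_iff_exists_fun R).mp hm'
    refine ⟨r, ?_⟩
    rw [map_sum]
    refine Finset.sum_congr rfl fun i _ => ?_
    rw [hT]
  let γ : Fin n → k ⊗[R] M := fun i => π₁ (g i)
  have hγspan : ⊤ ≤ Submodule.span k (Set.range γ) := by
    intro z _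
    obtain ⟨m, rfl⟩ := hπsurj z
    obtain ⟨r, rfl⟩ := hgen m
    rw [map_sum]
    refine Submodule.sum_mem _ fun i _ => ?_
    rw [hπsmul]
    exact Submodule.smul_mem _ _ (Submodule.subset_span ⟨i, rfl⟩)
  have hγli : LinearIndependent k γ :=
    linearIndependent_of_top_le_span_of_card_eq_finrank hγspan (by simp [hn])
  -- key: x • g i ∈ 𝔪 • N
  have hkey : ∀ x ∈ maximalIdeal R, ∀ i, x • g i ∈ (maximalIdeal R) • N := by
    intro x hx i
    obtain ⟨r, hr⟩ := hgen (x • g i)
    have h1 : ∑ j, (residue R (r j)) ^ p • γ j = 0 := by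
      have h2 := congrArg π₁ hr
      rw [hπsmul, (residue_eq_zero_iff x).mpr hx, zero_smul, map_sum] at h2
      rw [h2]
      refine Finset.sum_congr rfl fun j _ => ?_
      rw [hπsmul, map_pow]
    have h3 := Fintype.linearIndependent_iff.mp hγli _ h1
    have h4 : ∀ j, r j ∈ maximalIdeal R := fun j =>
      (residue_eq_zero_iff _).mp (pow_eq_zero_iff (by omega : p ≠ 0) |>.mp (h3 j))
    rw [hr]
    refine Submodule.sum_mem _ fun j _ => ?_
    obtain ⟨s, hs⟩ : ∃ s, p = s + 2 := ⟨p - 2, by omega⟩
    have h5 : r j ^ p • g j = r j • (r j • (r j ^ s • g j)) := by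
      rw [smul_smul, smul_smul, hs]
      congr 1
      ring
    rw [h5]
    exact Submodule.smul_mem_smul (h4 j)
      (Submodule.smul_mem_smul (h4 j) Submodule.mem_top)
  have hle : N ≤ (maximalIdeal R) • N := by
    rw [hN, Submodule.smul_le]
    intro x hx m _
    obtain ⟨r, rfl⟩ := hgen m
    rw [Finset.smul_sum]
    refine Submodule.sum_mem _ fun i _ => ?_
    rw [smul_comm x (r i ^ p) (g i)]
    exact Submodule.smul_mem _ _ (hkey x hx i)
  exact Submodule.eq_bot_of_le_smul_of_le_jacobson_bot (maximalIdeal R) N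
    (IsNoetherian.noetherian N) hle
    (by rw [IsLocalRing.jacobson_eq_maximalIdeal ⊥ bot_ne_top])

end Torsion

section FrobModFG

variable {R : Type u} [CommRing R] [HenselianLocalRing R] [IsNoetherianRing R]
  [IsSepClosed (ResidueField R)]
variable (p : ℕ) [Fact p.Prime] [CharP R p]
variable {M : Type v} [AddCommGroup M] [Module R M] [Module.Finite R M]

theorem frobmod_fg (T : M →+ M) (hT : ∀ (r : R) (m : M), T (r • m) = r ^ p • T m)
    (hsurj : Function.Surjective T) :
    Function.Surjective (fun m => T m - m) ∧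
      Nat.card {m : M // T m = m} =
        p ^ Module.finrank (ResidueField R) (ResidueField R ⊗[R] M) := by
  classical
  set k := ResidueField R with hk
  haveI : CharP k p := residueField_charP p
  haveI : IsSepClosed (ResidueField k) :=
    isSepClosed_of_ringEquiv (RingEquiv.ofBijective (residue k)
      ⟨(residue k).injective, residue_surjective⟩)
  have htors := smul_top_eq_bot_of_surjective p T hT hsurj
  let π₁ : M →ₗ[R] k ⊗[R] M := TensorProduct.mk R k M 1
  have hπsurj : Function.Surjective π₁ :=
    TensorProduct.mk_surjective R M k Ideal.Quotient.mk_surjective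
  have hπinj : Function.Injective π₁ := by
    rw [← LinearMap.ker_eq_bot]
    have h1 : LinearMap.ker π₁ = (maximalIdeal R) • (⊤ : Submodule R M) :=
      LinearMap.ker_tensorProductMk M
    rw [h1, htors]
  have hπsmul : ∀ (r : R) (m : M), π₁ (r • m) = residue R r • π₁ m := by
    intro r m
    rw [map_smul]
    exact (algebraMap_smul k r (π₁ m)).symm
  let E : M ≃+ k ⊗[R] M := AddEquiv.ofBijective π₁.toAddMonoidHom ⟨hπinj, hπsurj⟩
  have hE : ∀ m, E m = π₁ m := fun _ => rfl
  let T' : k ⊗[R] M →+ k ⊗[R] M := (E.toAddMonoidHom.comp T).comp E.symm.toAddMonoidHom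
  have hT'E : ∀ m, T' (E m) = E (T m) := by
    intro m
    show E (T (E.symm (E m))) = E (T m)
    rw [AddEquiv.symm_apply_apply]
  have hT' : ∀ (t : k) (z : k ⊗[R] M), T' (t • z) = t ^ p • T' z := by
    intro t z
    obtain ⟨r, rfl⟩ := residue_surjective t
    obtain ⟨m, rfl⟩ := E.surjective z
    calc T' (residue R r • E m) = T' (E (r • m)) := by rw [hE, hE, hπsmul]
      _ = E (T (r • m)) := hT'E _
      _ = E (r ^ p • T m) := by rw [hT]
      _ = residue R r ^ p • E (T m) := by rw [hE, hE, hπsmul, map_pow]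
      _ = residue R r ^ p • T' (E m) := by rw [hT'E]
  have hspan' : Submodule.span k (Set.range T') = ⊤ := by
    rw [eq_top_iff]
    intro z _
    obtain ⟨m, rfl⟩ := E.surjective z
    obtain ⟨m', rfl⟩ := hsurj m
    exact Submodule.subset_span ⟨E m', hT'E m'⟩
  obtain ⟨h1, h2⟩ := frobmod_main (R := k) p T' hT' hspan'
  refine ⟨fun y => ?_, ?_⟩
  · obtain ⟨z, hz⟩ := h1 (E y)
    obtain ⟨m, rfl⟩ := E.surjective z
    refine ⟨m, E.injective ?_⟩
    rw [map_sub, ← hT'E]
    exact hz
  · rw [← h2]
    refine Nat.card_congr ⟨fun m => ⟨E m.1, by rw [hT'E, m.2]⟩,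
      fun z => ⟨E.symm z.1, E.injective (by rw [← hT'E, AddEquiv.apply_symm_apply, z.2])⟩,
      fun m => Subtype.ext (E.symm_apply_apply _), fun z => Subtype.ext (E.apply_symm_apply _)⟩

end FrobModFG

end Groth.Agent.Lib.Helper90.IsocLib
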