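import Mathlib
import Groth.Agent.Lib.Helper80.TorBalance
import Groth.Agent.Lib.Helper67.Depth

/-!
# Tor via the first variable: presentations, finiteness and annihilators

`L N i M = ((tensorRight N).leftDerived i).obj M` (helper80), for concrete modules.
-/

namespace Groth.Agent.Lib.Helper90.TorVanish

open CategoryTheory CategoryTheory.Limits MonoidalCategory Groth.Agent.Lib.Helper80.TorBalance
open scoped TensorProduct

universe u

variable {R : Type u} [CommRing R]

/-- The presentation short exact sequence of a surjection. -/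
noncomputable abbrev presSC {F M : Type u} [AddCommGroup F] [Module R F] [AddCommGroup M]
    [Module R M] (f : F →ₗ[R] M) : ShortComplex (ModuleCat.{u} R) :=
  ShortComplex.mk (ModuleCat.ofHom (LinearMap.ker f).subtype) (ModuleCat.ofHom f)
    (by ext x; exact x.2)

lemma presSC_shortExact {F M : Type u} [AddCommGroup F] [Module R F] [AddCommGroup M]
    [Module R M] (f : F →ₗ[R] M) (hf : Function.Surjective f) : (presSC f).ShortExact :=
  Groth.Agent.Lib.Helper67.shortExact_of_linearMaps _ _ _ _ _ (Submodule.subtype_injective _) hf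
    (LinearMap.exact_subtype_ker_map f)

instance projective_of_free (F : Type u) [AddCommGroup F] [Module R F] [Module.Projective R F] :
    Projective (ModuleCat.of R F) :=
  (IsProjective.iff_projective (R := R) (P := F)).mp inferInstance

/-- `a` kills `X ⊗ N` if it kills `N`. -/
lemma kills_tensor_right (X N : Type u) [AddCommGroup X] [Module R X] [AddCommGroup N]
    [Module R N] (a : R) (ha : ∀ y : N, a • y = 0) (t : X ⊗[R] N) : a • t = 0 := by
  induction t using TensorProduct.induction_on with
  | zero => simp
  | tmul x y => rw [TensorProduct.smul_tmul', TensorProduct.smul_tmul, ha, TensorProduct.tmul_zero]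
  | add x y hx hy => rw [smul_add, hx, hy, add_zero]

/-- `a` kills `X ⊗ N` if it kills `X`. -/
lemma kills_tensor_left (X N : Type u) [AddCommGroup X] [Module R X] [AddCommGroup N]
    [Module R N] (a : R) (ha : ∀ x : X, a • x = 0) (t : X ⊗[R] N) : a • t = 0 := by
  induction t using TensorProduct.induction_on with
  | zero => simp
  | tmul x y => rw [TensorProduct.smul_tmul', ha, TensorProduct.zero_tmul]
  | add x y hx hy => rw [smul_add, hx, hy, add_zero]

lemma finite_of_iso {X Y : ModuleCat.{u} R} (e : X ≅ Y) [Module.Finite R Y] : Module.Finite R X :=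
  Module.Finite.equiv e.toLinearEquiv.symm

lemma kills_of_iso {X Y : ModuleCat.{u} R} (e : X ≅ Y) (a : R) (h : ∀ y : Y, a • y = 0) (x : X) :
    a • x = 0 := by
  have h1 : e.toLinearEquiv (a • x) = 0 := by rw [map_smul]; exact h _
  exact e.toLinearEquiv.injective (by rw [h1, map_zero])

variable [IsNoetherianRing R]

/-- `L N i M` is finitely generated and killed by the annihilator of `N`. -/
theorem finite_and_kills (N : Type u) [AddCommGroup N] [Module R N] [Module.Finite R N] (i : ℕ) :
    ∀ (M : Type u) [AddCommGroup M] [Module R M] [Module.Finite R M],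
      Module.Finite R (L (ModuleCat.of R N) i (ModuleCat.of R M)) ∧
        ∀ a : R, (∀ y : N, a • y = 0) →
          ∀ t : L (ModuleCat.of R N) i (ModuleCat.of R M), a • t = 0 := by
  induction i using Nat.twoStepInduction with
  | zero =>
    intro M _ _ _
    let e : L (ModuleCat.of R N) 0 (ModuleCat.of R M) ≅ ModuleCat.of R (M ⊗[R] N) :=
      (tensorRight (ModuleCat.of R N)).leftDerivedZeroIsoSelf.app (ModuleCat.of R M)
    haveI : Module.Finite R (ModuleCat.of R (M ⊗[R] N)) :=
      inferInstanceAs (Module.Finite R (M ⊗[R] N))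
    exact ⟨finite_of_iso e, fun a ha t => kills_of_iso e a (kills_tensor_right M N a ha) t⟩
  | one =>
    intro M _ _ _
    obtain ⟨n, f, hf⟩ := Module.Finite.exists_fin' R M
    have hS := presSC_shortExact f hf
    obtain ⟨e⟩ := nonempty_L_one_iso (ModuleCat.of R N) hS
    -- the kernel injects into `ker f ⊗ N`
    let K := kernel ((presSC f).f ▷ ModuleCat.of R N)
    let ι : K ⟶ ModuleCat.of R (↥(LinearMap.ker f) ⊗[R] N) :=
      kernel.ι ((presSC f).f ▷ ModuleCat.of R N)
    have hι : Function.Injective ι.hom := (ModuleCat.mono_iff_injective ι).mp inferInstance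
    haveI : Module.Finite R (↥(LinearMap.ker f) ⊗[R] N) := inferInstance
    haveI : IsNoetherian R (↥(LinearMap.ker f) ⊗[R] N) :=
      isNoetherian_of_isNoetherianRing_of_finite R (↥(LinearMap.ker f) ⊗[R] N)
    haveI hKfin : Module.Finite R K := Module.Finite.of_injective ι.hom hι
    have hKkill : ∀ a : R, (∀ y : N, a • y = 0) → ∀ t : K, a • t = 0 := by
      intro a ha t
      apply hι
      rw [map_smul, map_zero]
      exact kills_tensor_right _ N a ha _
    exact ⟨finite_of_iso e, fun a ha t => kills_of_iso e a (hKkill a ha) t⟩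
  | more i _ ih =>
    intro M _ _ _
    obtain ⟨n, f, hf⟩ := Module.Finite.exists_fin' R M
    have hS := presSC_shortExact f hf
    obtain ⟨e⟩ := nonempty_L_succ_iso (ModuleCat.of R N) hS i
    haveI : IsNoetherian R (Fin n → R) := isNoetherian_of_isNoetherianRing_of_finite R _
    obtain ⟨h1, h2⟩ := ih ↥(LinearMap.ker f)
    exact ⟨finite_of_iso e, fun a ha t => kills_of_iso e a (h2 a ha) t⟩

end Groth.Agent.Lib.Helper90.TorVanish
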