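import Mathlib
import Groth.Agent.Lib.Helper90.TorVanish1
import Groth.Agent.Lib.Helper90.TorSymm
import Groth.Agent.Lib.Helper90.FrobPow2
import Groth.Agent.Lib.Helper98.KoszulEuler

/-!
# Tor via the first variable: symmetry and finite length
-/

namespace Groth.Agent.Lib.Helper90.TorVanish

open CategoryTheory CategoryTheory.Limits MonoidalCategory Groth.Agent.Lib.Helper80.TorBalance
open scoped TensorProduct

universe u

variable {R : Type u} [CommRing R]

theorem nonempty_L_symm (M N : ModuleCat.{u} R) (i : ℕ) : Nonempty (L N i M ≅ L M i N) := by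
  obtain ⟨e2⟩ := nonempty_tor_iso_leftDerived_tensorRight N M i
  exact ⟨(TorSymm.leftDerivedIso (BraidedCategory.tensorLeftIsoTensorRight N).symm i).app M ≪≫ e2⟩

theorem nonempty_tor_iso_L (M N : ModuleCat.{u} R) (i : ℕ) :
    Nonempty (((Tor (ModuleCat.{u} R) i).obj M).obj N ≅ L N i M) :=
  nonempty_tor_iso_leftDerived_tensorRight M N i

variable [IsNoetherianRing R]

theorem kills_left (M N : Type u) [AddCommGroup M] [Module R M] [Module.Finite R M]
    [AddCommGroup N] [Module R N] [Module.Finite R N] (i : ℕ) (a : R) (ha : ∀ x : M, a • x = 0)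
    (t : L (ModuleCat.of R N) i (ModuleCat.of R M)) : a • t = 0 := by
  obtain ⟨e⟩ := nonempty_L_symm (ModuleCat.of R M) (ModuleCat.of R N) i
  exact kills_of_iso e a ((finite_and_kills (R := R) M i N).2 a ha) t

theorem isFiniteLength_L (M N : Type u) [AddCommGroup M] [Module R M] [Module.Finite R M]
    [AddCommGroup N] [Module R N] [Module.Finite R N] (IM IN : Ideal R)
    (hM : ∀ a ∈ IM, ∀ x : M, a • x = 0) (hN : ∀ a ∈ IN, ∀ y : N, a • y = 0)
    (hfl : IsFiniteLength R (R ⧸ (IM ⊔ IN))) (i : ℕ) :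
    IsFiniteLength R (L (ModuleCat.of R N) i (ModuleCat.of R M)) := by
  haveI : Module.Finite R (L (ModuleCat.of R N) i (ModuleCat.of R M)) :=
    (finite_and_kills (R := R) N i M).1
  have hfl' : IsFiniteLength R ((R ⧸ IN) ⧸ (Ideal.span (IM : Set R) • (⊤ : Submodule R (R ⧸ IN)))) := by
    rw [Ideal.span_eq, ← Module.length_ne_top_iff, ← FrobPow.length_quot_sup_eq,
      Module.length_ne_top_iff]
    exact hfl
  refine Groth.Agent.Lib.Helper98.KoszulEuler.isFiniteLength_of_kills (R ⧸ IN) (IM : Set R) hfl' _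
    (fun a ha x => ?_) (fun s hs => ⟨1, fun x => ?_⟩)
  · have haN : a ∈ IN := by
      have := ha (Ideal.Quotient.mk IN 1)
      rw [← Ideal.Quotient.mk_eq_mk, ← Submodule.Quotient.mk_smul, smul_eq_mul, mul_one] at this
      exact (Submodule.Quotient.mk_eq_zero IN).mp this
    exact (finite_and_kills (R := R) N i M).2 a (hN a haN) x
  · rw [pow_one]
    exact kills_left M N i s (hM s hs) x

end Groth.Agent.Lib.Helper90.TorVanish
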