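import Mathlib
import Groth.Agent.Lib.Helper90.TorVanish2
import Groth.Agent.Lib.Helper67.Depth2
import Groth.Agent.Lib.Helper77.AuslanderBuchsbaum

/-!
# Vanishing of Tor from depth (Auslander's depth formula, inequality form)

`R` Noetherian local, `M` f.g. of projective dimension `≤ p`, `B` f.g. with `p ≤ depth B` and
`Tor_i(M, B)` of finite length for `i ≥ 1`. Then `Tor_i(M, B) = 0` for `i ≥ 1` and
`depth B ≤ depth (M ⊗ B) + p`.
-/

namespace Groth.Agent.Lib.Helper90.TorVanish

open CategoryTheory CategoryTheory.Limits MonoidalCategory Groth.Agent.Lib.Helper80.TorBalance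
open LocCoh IsLocalRing Groth.Agent.Lib.Helper67
open scoped TensorProduct

universe u

variable {R : Type u} [CommRing R] [IsNoetherianRing R] [IsLocalRing R]

/-- A finite length module injecting into a finite module of positive depth is zero. -/
lemma subsingleton_of_injective_of_depth (N K : Type u) [AddCommGroup N] [Module R N]
    [Module.Finite R N] [AddCommGroup K] [Module R K] (ι : K →ₗ[R] N)
    (hι : Function.Injective ι) (hK : IsFiniteLength R K) (hd : 1 ≤ depth R N) :
    Subsingleton K := by
  unfold depth at hd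
  rw [one_le_idealDepth_iff] at hd
  rcases hd with htop | ⟨x, hxm, hx⟩
  · have hN : Subsingleton N := by
      by_contra hcon
      rw [not_subsingleton_iff_nontrivial] at hcon
      exact maximalIdeal_smul_top_ne_top (R := R) N htop
    exact hι.subsingleton
  · obtain ⟨hnoeth, hart⟩ := isFiniteLength_iff_isNoetherian_isArtinian.mp hK
    have hxK : Function.Injective (LinearMap.lsmul R K x) := by
      intro a b hab
      apply hι
      apply hx
      change x • ι a = x • ι b
      rw [← map_smul, ← map_smul]
      exact congrArg ι hab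
    have hsurj := IsArtinian.surjective_of_injective_endomorphism (LinearMap.lsmul R K x) hxK
    have hle : (⊤ : Submodule R K) ≤ maximalIdeal R • (⊤ : Submodule R K) := by
      rintro y -
      obtain ⟨z, rfl⟩ := hsurj y
      exact Submodule.smul_mem_smul hxm trivial
    have hfg : (⊤ : Submodule R K).FG := by
      haveI : Module.Finite R K := Module.IsNoetherian.finite R K
      exact Module.Finite.fg_top
    have := Submodule.eq_bot_of_le_smul_of_le_jacobson_bot (maximalIdeal R)
      (⊤ : Submodule R K) hfg hle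
      (by rw [IsLocalRing.jacobson_eq_maximalIdeal ⊥ bot_ne_top])
    refine ⟨fun a b => ?_⟩
    have ha : a ∈ (⊥ : Submodule R K) := this ▸ Submodule.mem_top
    have hb : b ∈ (⊥ : Submodule R K) := this ▸ Submodule.mem_top
    rw [Submodule.mem_bot] at ha hb
    rw [ha, hb]

/-- `depth B ≤ depth (F ⊗ B)` for `F` finite free. -/
lemma depth_tensor_free_ge (F B : Type u) [AddCommGroup F] [Module R F] [Module.Free R F]
    [Module.Finite R F] [AddCommGroup B] [Module R B] [Module.Finite R B] :
    depth R B ≤ depth R (F ⊗[R] B) := by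
  classical
  have e : F ≃ₗ[R] (Fin (Module.finrank R F) → R) := (Module.finBasis R F).equivFun
  generalize Module.finrank R F = n at e
  have e2 : F ⊗[R] B ≃ₗ[R] (Fin n → B) :=
    (TensorProduct.congr e (LinearEquiv.refl R B)).trans
      ((TensorProduct.comm R _ _).trans (TensorProduct.piScalarRight R R B (Fin n)))
  unfold depth
  rw [idealDepth_congr _ e2]
  rcases n with _ | s
  · rw [idealDepth_eq_top_of_smul_top_eq_top (maximalIdeal R) (Fin 0 → B)
      (eq_top_iff.mpr (fun y _ => by rw [Subsingleton.elim y 0]; exact zero_mem _))]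
    exact le_top
  · rw [Groth.Agent.Lib.Helper77.AuslanderBuchsbaum.idealDepth_pi_fin]

lemma enat_aux (dB dF dZ dM : ℕ∞) (p : ℕ) (h1 : dB ≤ dF) (h2 : dB ≤ dZ + p)
    (h3 : min dF (dZ - 1) ≤ dM) (h4 : 1 ≤ dZ) : dB ≤ dM + ((p + 1 : ℕ) : ℕ∞) := by
  induction dM using ENat.recTopCoe with
  | top => simp
  | coe m =>
    induction dZ using ENat.recTopCoe with
    | top =>
      simp only [ENat.top_sub_one, le_top, inf_of_le_left] at h3
      exact (h1.trans h3).trans (le_add_right le_rfl)
    | coe z =>
      rcases min_le_iff.mp h3 with h5 | h5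
      · exact (h1.trans h5).trans (le_add_right le_rfl)
      · have hz : 1 ≤ z := by exact_mod_cast h4
        have h6 : ((z - 1 : ℕ) : ℕ∞) ≤ (m : ℕ∞) := by
          have : ((z : ℕ∞) - 1) = ((z - 1 : ℕ) : ℕ∞) := by
            push_cast
            rfl
          rw [← this]
          exact h5
        have h7 : z - 1 ≤ m := by exact_mod_cast h6
        refine h2.trans ?_
        have : z + p ≤ m + (p + 1) := by omega
        exact_mod_cast this

lemma one_le_of_le_add (dB dZ : ℕ∞) (p : ℕ) (h1 : ((p + 1 : ℕ) : ℕ∞) ≤ dB) (h2 : dB ≤ dZ + p) :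
    1 ≤ dZ := by
  induction dZ using ENat.recTopCoe with
  | top => simp
  | coe z =>
    have h3 : ((p + 1 : ℕ) : ℕ∞) ≤ ((z + p : ℕ) : ℕ∞) := by
      push_cast
      exact (h1.trans h2)
    have : p + 1 ≤ z + p := by exact_mod_cast h3
    exact_mod_cast (by omega : 1 ≤ z)

variable (B : Type u) [AddCommGroup B] [Module R B] [Module.Finite R B]

theorem tor_vanish (p : ℕ) :
    ∀ (M : Type u) [AddCommGroup M] [Module R M] [Module.Finite R M],
      HasProjectiveDimensionLT (ModuleCat.of R M) (p + 1) → (p : ℕ∞) ≤ depth R B →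
      (∀ i, 1 ≤ i → IsFiniteLength R (L (ModuleCat.of R B) i (ModuleCat.of R M))) →
      (∀ i, 1 ≤ i → Subsingleton (L (ModuleCat.of R B) i (ModuleCat.of R M))) ∧
        depth R B ≤ depth R (M ⊗[R] B) + (p : ℕ∞) := by
  induction p with
  | zero =>
    intro M _ _ _ hpd _ _
    haveI : Projective (ModuleCat.of R M) := inferInstance
    haveI : Module.Projective R M :=
      (IsProjective.iff_projective (R := R) (P := M)).mpr inferInstance
    haveI : Module.Free R M := Module.free_of_flat_of_isLocalRing
    refine ⟨fun i hi => ?_, ?_⟩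
    · obtain ⟨j, rfl⟩ : ∃ j, i = j + 1 := ⟨i - 1, by omega⟩
      exact ModuleCat.subsingleton_of_isZero
        (Functor.isZero_leftDerived_obj_projective_succ _ _ _)
    · simpa using depth_tensor_free_ge M B
  | succ p ih =>
    intro M _ _ _ hpd hdepth hfl
    obtain ⟨n, f, hf⟩ := Module.Finite.exists_fin' R M
    have hS := presSC_shortExact f hf
    haveI hZpd : HasProjectiveDimensionLT (ModuleCat.of R ↥(LinearMap.ker f)) (p + 1) :=
      (hS.hasProjectiveDimensionLT_X₃_iff p inferInstance).mp hpd
    have hshift : ∀ j : ℕ, Nonempty (L (ModuleCat.of R B) (j + 2) (ModuleCat.of R M) ≅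
        L (ModuleCat.of R B) (j + 1) (ModuleCat.of R ↥(LinearMap.ker f))) :=
      fun j => nonempty_L_succ_iso (ModuleCat.of R B) hS j
    have hp' : (p : ℕ∞) ≤ depth R B := le_trans (by exact_mod_cast Nat.le_succ p) hdepth
    have hflZ : ∀ i, 1 ≤ i → IsFiniteLength R
        (L (ModuleCat.of R B) i (ModuleCat.of R ↥(LinearMap.ker f))) := by
      intro i hi
      obtain ⟨j, rfl⟩ : ∃ j, i = j + 1 := ⟨i - 1, by omega⟩
      obtain ⟨e⟩ := hshift j
      exact e.toLinearEquiv.isFiniteLength (hfl (j + 2) (by omega))
    obtain ⟨hZvan, hZdepth⟩ := ih ↥(LinearMap.ker f) hZpd hp' hflZ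
    have hZ1 : 1 ≤ depth R (↥(LinearMap.ker f) ⊗[R] B) :=
      one_le_of_le_add _ _ p hdepth hZdepth
    -- `Tor_1`
    obtain ⟨e1⟩ := nonempty_L_one_iso (ModuleCat.of R B) hS
    let K := kernel ((presSC f).f ▷ ModuleCat.of R B)
    let ι : K ⟶ ModuleCat.of R (↥(LinearMap.ker f) ⊗[R] B) :=
      kernel.ι ((presSC f).f ▷ ModuleCat.of R B)
    have hι : Function.Injective ι.hom := (ModuleCat.mono_iff_injective ι).mp inferInstance
    have hKfl : IsFiniteLength R K := e1.toLinearEquiv.isFiniteLength (hfl 1 le_rfl)
    have hKsub : Subsingleton K :=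
      subsingleton_of_injective_of_depth (↥(LinearMap.ker f) ⊗[R] B) K ι.hom hι hKfl hZ1
    have hvan : ∀ i, 1 ≤ i → Subsingleton (L (ModuleCat.of R B) i (ModuleCat.of R M)) := by
      intro i hi
      rcases Nat.lt_or_ge i 2 with h2 | h2
      · obtain rfl : i = 1 := by omega
        exact e1.toLinearEquiv.toEquiv.subsingleton
      · obtain ⟨j, rfl⟩ : ∃ j, i = j + 2 := ⟨i - 2, by omega⟩
        obtain ⟨e⟩ := hshift j
        haveI := hZvan (j + 1) (by omega)
        exact e.toLinearEquiv.toEquiv.subsingleton
    refine ⟨hvan, ?_⟩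
    -- the tensored sequence is short exact
    have hinj : Function.Injective (LinearMap.rTensor B (LinearMap.ker f).subtype) := by
      have hmono : Mono ((presSC f).f ▷ ModuleCat.of R B) := by
        apply Preadditive.mono_of_kernel_zero
        have : IsZero K := ModuleCat.isZero_of_subsingleton K
        exact this.eq_of_src _ _
      have := (ModuleCat.mono_iff_injective _).mp hmono
      exact this
    have hsurj : Function.Surjective (LinearMap.rTensor B f) := LinearMap.rTensor_surjective B hf
    have hex : Function.Exact (LinearMap.rTensor B (LinearMap.ker f).subtype)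
        (LinearMap.rTensor B f) :=
      rTensor_exact B (LinearMap.exact_subtype_ker_map f) hf
    have h3 := idealDepth_right_ge (maximalIdeal R) (↥(LinearMap.ker f) ⊗[R] B)
      ((Fin n → R) ⊗[R] B) (M ⊗[R] B) _ _ hinj hsurj hex
    have h1 := depth_tensor_free_ge (R := R) (Fin n → R) B
    exact enat_aux _ _ _ _ p h1 hZdepth h3 hZ1

end Groth.Agent.Lib.Helper90.TorVanish
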