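import Mathlib
import Groth.Prelude.Def_IntMult
import Groth.Agent.Lib.Helper90.TorVanish3
import Groth.Agent.Lib.Helper77.RegularAB
import Groth.Agent.Lib.Helper64.DepthQuot

/-!
# Serre's Tor formula for two Cohen–Macaulay quotients of a regular local ring
-/

namespace Groth.Agent.Lib.Helper90.TorVanish

open CategoryTheory CategoryTheory.Limits MonoidalCategory Groth.Agent.Lib.Helper80.TorBalance
open LocCoh IsLocalRing
open scoped TensorProduct

universe u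

lemma depth_quotient_eq_of_CM {O : Type u} [CommRing O] [IsLocalRing O] (P : Ideal O)
    (hCM : LocCoh.IsCohenMacaulayLocalRing (O ⧸ P)) (a : ℕ) (hP : ringKrullDim (O ⧸ P) = a) :
    depth O (O ⧸ P) = (a : ℕ∞) := by
  haveI : IsLocalRing (O ⧸ P) := hCM.toIsLocalRing
  have h1 := hCM.supportDim_eq_depth
  rw [Module.supportDim_self_eq_ringKrullDim, hP,
    Groth.Agent.Lib.Helper64.DepthQuot.depth_quotient O P] at h1
  have h2 : ((a : ℕ∞) : WithBot ℕ∞) = ((depth O (O ⧸ P) : ℕ∞) : WithBot ℕ∞) := by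
    rw [← h1]; rfl
  exact (WithBot.coe_injective h2).symm

lemma kills_quotient {O : Type u} [CommRing O] (P : Ideal O) (a : O) (ha : a ∈ P) (x : O ⧸ P) :
    a • x = 0 := by
  obtain ⟨y, rfl⟩ := Ideal.Quotient.mk_surjective x
  rw [← Ideal.Quotient.mk_eq_mk, ← Submodule.Quotient.mk_smul, Submodule.Quotient.mk_eq_zero,
    smul_eq_mul]
  exact P.mul_mem_right y ha

theorem chi_eq_length_of_CM_pair (O : Type u) [CommRing O] [IsRegularLocalRing O] (N : ℕ)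
    (hN : ringKrullDim O = N) (P Q : Ideal O) (aP aQ : ℕ) (hP : ringKrullDim (O ⧸ P) = aP)
    (hQ : ringKrullDim (O ⧸ Q) = aQ) (hle : N ≤ aP + aQ)
    (hCMP : LocCoh.IsCohenMacaulayLocalRing (O ⧸ P))
    (hCMQ : LocCoh.IsCohenMacaulayLocalRing (O ⧸ Q))
    (hfl : IsFiniteLength O (O ⧸ (P ⊔ Q))) :
    IntMult.chi O (O ⧸ P) (O ⧸ Q) = ((Module.length O (O ⧸ (P ⊔ Q))).toNat : ℤ) := by
  haveI : IsLocalRing (O ⧸ P) := hCMP.toIsLocalRing
  haveI : Nontrivial (O ⧸ P) := inferInstance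
  have hdP := depth_quotient_eq_of_CM P hCMP aP hP
  have hdQ := depth_quotient_eq_of_CM Q hCMQ aQ hQ
  obtain ⟨e, hpd, hdim⟩ := Groth.Agent.Lib.Helper77.RegularAB.exists_pd_add_depth_eq_dim O (O ⧸ P)
  rw [hN, hdP] at hdim
  have he : N = e + aP := by
    have : ((N : ℕ) : WithBot ℕ∞) = ((e + aP : ℕ) : WithBot ℕ∞) := by
      rw [hdim]; push_cast; rfl
    exact_mod_cast this
  have hpdLT : HasProjectiveDimensionLT (ModuleCat.of O (O ⧸ P)) (e + 1) :=
    (projectiveDimension_le_iff _ e).mp (le_of_eq hpd)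
  have hdepth : (e : ℕ∞) ≤ depth O (O ⧸ Q) := by
    rw [hdQ]
    exact_mod_cast (by omega : e ≤ aQ)
  obtain ⟨hvan, -⟩ := tor_vanish (O ⧸ Q) e (O ⧸ P) hpdLT hdepth
    (fun i _ => isFiniteLength_L (O ⧸ P) (O ⧸ Q) P Q (kills_quotient P) (kills_quotient Q) hfl i)
  unfold IntMult.chi
  rw [finsum_eq_single _ 0]
  · obtain ⟨e0⟩ := nonempty_tor_iso_L (ModuleCat.of O (O ⧸ P)) (ModuleCat.of O (O ⧸ Q)) 0
    let e1 : L (ModuleCat.of O (O ⧸ Q)) 0 (ModuleCat.of O (O ⧸ P)) ≅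
        ModuleCat.of O ((O ⧸ P) ⊗[O] (O ⧸ Q)) :=
      (tensorRight (ModuleCat.of O (O ⧸ Q))).leftDerivedZeroIsoSelf.app (ModuleCat.of O (O ⧸ P))
    have hlen : Module.length O (DRing.Tor O 0 (O ⧸ P) (O ⧸ Q)) =
        Module.length O (O ⧸ (P ⊔ Q)) := by
      rw [(e0 ≪≫ e1).toLinearEquiv.length_eq]
      change Module.length O ((O ⧸ P) ⊗[O] (O ⧸ Q)) = _
      rw [(TensorProduct.tensorQuotEquivQuotSMul (O ⧸ P) Q).length_eq, sup_comm,
        FrobPow.length_quot_sup_eq]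
    rw [hlen]
    simp
  · intro i hi
    obtain ⟨e0⟩ := nonempty_tor_iso_L (ModuleCat.of O (O ⧸ P)) (ModuleCat.of O (O ⧸ Q)) i
    haveI := hvan i (Nat.one_le_iff_ne_zero.mpr hi)
    haveI : Subsingleton (DRing.Tor O i (O ⧸ P) (O ⧸ Q)) := e0.toLinearEquiv.toEquiv.subsingleton
    rw [Module.length_eq_zero]
    simp

end Groth.Agent.Lib.Helper90.TorVanish
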