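import Mathlib
import Groth.Prelude.Def_CohB1
import Groth.Prelude.Def_Flat
import Groth.Agent.Lib.Helper16.ProjSpaceSmooth
import Groth.Agent.Lib.Helper22.SmoothDim
import Groth.Agent.Lib.Helper73.DimFormula.FieldExtScheme

/-!
# Fibre dimension of projective space over a scheme (helper90, for helper22's S19040 call, WP3)

All fibre dimensions of `P^n_S ⟶ S` are `n` (`fibreDimAt_toBase`); specialised to `n = 1` in the
requested form `fibreDimAt_projLine_le`.
-/

set_option autoImplicit false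
universe u
open CategoryTheory CategoryTheory.Limits AlgebraicGeometry

namespace Groth.Agent.Lib.Helper90.WidePBWP3

open Groth.Agent.Lib.Helper16.ProjSpaceSmooth Groth.Agent.Lib.Helper60.PicPn
  Groth.Agent.Lib.Helper60.ProjUPLib

/-- Every point of `P^n_R` lies in a standard chart. -/
theorem exists_chart (n : ℕ) (R : Type u) [CommRing R] (q : ↥(CohB1.ProjSpace n R)) :
    ∃ (i : Fin (n + 1)) (θ : ↥(Spec (CommRingCat.of (HomogeneousLocalization.Away
      (CohB1.polyGrading n R) (MvPolynomial.X i : MvPolynomial (Fin (n + 1)) R))))),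
      chart n R i θ = q := by
  let 𝒰 : (Proj (CohB1.polyGrading n R)).AffineOpenCover :=
    Proj.affineOpenCoverOfIrrelevantLESpan (CohB1.polyGrading n R)
      (fun i : Fin (n + 1) => (MvPolynomial.X i : MvPolynomial (Fin (n + 1)) R))
      (m := fun _ => 1) (fun i => hX n R i) (fun _ => one_pos) (by
        refine (Groth.Agent.Lib.Helper93.ProjOverIso.irrelevant_le_span_X n R).trans ?_
        rw [Set.image_univ])
  obtain ⟨i, θ, hθ⟩ := 𝒰.openCover.exists_eq q
  exact ⟨i, θ, hθ⟩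

/-- The fibre dimensions of a chart `Spec A_(X i) ⟶ Spec R` are `n`. -/
theorem fibreDimAt_SpecMap_ρ (n : ℕ) (R : Type u) [CommRing R] (i : Fin (n + 1))
    (θ : ↥(Spec (CommRingCat.of (HomogeneousLocalization.Away
      (CohB1.polyGrading n R) (MvPolynomial.X i : MvPolynomial (Fin (n + 1)) R))))) :
    FlatMor.fibreDimAt (Spec.map (CommRingCat.ofHom (ρ n R i))) θ = (n : WithBot ℕ∞) := by
  let e' : MvPolynomial (Fin n) R ≃ₐ[R] MvPolynomial {j : Fin (n + 1) // j ≠ i} R :=
    MvPolynomial.renameEquiv R (finSuccAboveEquiv i)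
  let ψe : MvPolynomial (Fin n) R ≃+*
      HomogeneousLocalization.Away (CohB1.polyGrading n R)
        (MvPolynomial.X i : MvPolynomial (Fin (n + 1)) R) :=
    e'.toRingEquiv.trans (chartEquiv n R i).symm
  let a : Spec (CommRingCat.of (HomogeneousLocalization.Away (CohB1.polyGrading n R)
      (MvPolynomial.X i : MvPolynomial (Fin (n + 1)) R))) ⟶
      Spec (CommRingCat.of (MvPolynomial (Fin n) R)) :=
    Spec.map (CommRingCat.ofHom ψe.toRingHom)
  haveI : IsIso a := by
    have : IsIso (CommRingCat.ofHom ψe.toRingHom) := (ψe.toCommRingCatIso).isIso_hom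
    infer_instance
  have h1 := Groth.Agent.Lib.Helper36.FibreEtale.fibreDimAt_eq
    (Spec.map (CommRingCat.ofHom (MvPolynomial.C : R →+* MvPolynomial (Fin n) R)))
    (Spec.map (CommRingCat.ofHom (ρ n R i))) a (𝟙 _) (by
      rw [Category.comp_id, ← Spec.map_comp, ← CommRingCat.ofHom_comp]
      congr 2
      rw [ρ_eq]
      ext r
      simp [ψe, e']) θ
  rw [← h1]
  exact Groth.Agent.Lib.Helper22.SmoothDim.fibreDimAt_SpecMap_C n R (a θ)

/-- All fibre dimensions of `P^n_R ⟶ Spec R` are `n`. -/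
theorem fibreDimAt_toSpec (n : ℕ) (R : Type u) [CommRing R] (q : ↥(CohB1.ProjSpace n R)) :
    FlatMor.fibreDimAt (CohB1.ProjSpace.toSpec n R) q = (n : WithBot ℕ∞) := by
  obtain ⟨i, θ, rfl⟩ := exists_chart n R q
  have h1 := Groth.Agent.Lib.Helper36.FibreEtale.fibreDimAt_eq
    (CohB1.ProjSpace.toSpec n R) (Spec.map (CommRingCat.ofHom (ρ n R i))) (chart n R i) (𝟙 _)
    (by rw [Category.comp_id, awayι_toSpec]) θ
  rw [h1]
  exact fibreDimAt_SpecMap_ρ n R i θ

/-- All fibre dimensions of `P^n_S ⟶ S` are `n`. -/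
theorem fibreDimAt_toBase (n : ℕ) (S : Scheme.{u}) (p : ↥(CohB1.ProjSpaceOver n S)) :
    FlatMor.fibreDimAt (CohB1.ProjSpaceOver.toBase n S) p = (n : WithBot ℕ∞) := by
  haveI := smooth_toSpec n (ULift.{u} ℤ)
  have h := Groth.Agent.Lib.Helper73.fibreDimAt_eq_of_isPullback
    (CohB1.ProjSpace.toSpec n (ULift.{u} ℤ)) (specULiftZIsTerminal.from S)
    (pullback.fst _ _) (pullback.snd _ _) (IsPullback.of_hasPullback _ _) p
  change FlatMor.fibreDimAt (pullback.snd _ _) p = _
  rw [h]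
  exact fibreDimAt_toSpec n (ULift.{u} ℤ) _

/-- WP3 of helper22's S19040 call. -/
theorem fibreDimAt_projLine_le (S : Scheme.{u}) (p : ↥(CohB1.ProjSpaceOver 1 S)) :
    FlatMor.fibreDimAt (CohB1.ProjSpaceOver.toBase 1 S) p ≤ ((1 : ℕ) : WithBot ℕ∞) :=
  (fibreDimAt_toBase 1 S p).le

end Groth.Agent.Lib.Helper90.WidePBWP3
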